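import Groth.Agent.LocCohTransform.Basic
import Mathlib.RingTheory.Flat.Basic
import Mathlib.LinearAlgebra.TensorProduct.Pi

set_option autoImplicit false
universe u
open TensorProduct

namespace Groth.LocCohTransform

variable {R : Type u} [CommRing R] [IsNoetherianRing R] {R' : Type u} [CommRing R'] [Algebra R R']
  [Module.Flat R R'] (I : Ideal R) (M : Type u) [AddCommGroup M] [Module R M]

omit [IsNoetherianRing R] in
lemma baseChange_subtype_injective (K : Submodule R M) :
    Function.Injective (K.subtype.baseChange R') :=
  Module.Flat.lTensor_preserves_injective_linearMap (M := R') K.subtype Subtype.val_injective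

theorem range_baseChange_torsionSub :
    LinearMap.range ((DRing.torsionSub I M).subtype.baseChange R') =
      DRing.torsionSub (Ideal.map (algebraMap R R') I) (TensorProduct R R' M) := by
  refine le_antisymm ?_ ?_
  · rintro _ ⟨x, rfl⟩
    induction x using TensorProduct.induction_on with
    | zero => rw [map_zero]; exact zero_mem _
    | tmul r m =>
      obtain ⟨n, hn⟩ := m.2
      refine ⟨n, fun a ha => ?_⟩
      rw [← Ideal.map_pow] at ha
      induction ha using Submodule.span_induction with
      | mem z hz =>
        obtain ⟨c, hc, rfl⟩ := hz
        rw [algebraMap_smul, LinearMap.baseChange_tmul, ← TensorProduct.tmul_smul]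
        show r ⊗ₜ[R] (c • (m : M)) = 0
        rw [hn c hc, TensorProduct.tmul_zero]
      | zero => rw [zero_smul]
      | add p q _ _ hp hq => rw [add_smul, hp, hq, add_zero]
      | smul c p _ hp => rw [smul_eq_mul, mul_smul, hp, smul_zero]
    | add p q hp hq => rw [map_add]; exact add_mem hp hq
  · rintro x ⟨n, hn⟩
    obtain ⟨l, g, hg⟩ := Submodule.fg_iff_exists_fin_generating_family.1
      (IsNoetherian.noetherian (I ^ n : Ideal R))
    let L : M →ₗ[R] (Fin l → M) := LinearMap.pi fun j => g j • LinearMap.id
    have hKT : LinearMap.ker L ≤ DRing.torsionSub I M := fun m hm => by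
      refine ⟨n, fun a ha => ?_⟩
      rw [← hg] at ha
      induction ha using Submodule.span_induction with
      | mem z hz => obtain ⟨j, rfl⟩ := hz; exact congrFun hm j
      | zero => rw [zero_smul]
      | add p q _ _ hp hq => rw [add_smul, hp, hq, add_zero]
      | smul c p _ hp => rw [smul_eq_mul, mul_smul, hp, smul_zero]
    have hx : L.lTensor R' x = 0 := by
      apply (TensorProduct.piRight R R R' fun _ : Fin l => M).injective
      rw [map_zero]
      funext j
      have h1 : ∀ y : R' ⊗[R] M,
          TensorProduct.piRight R R R' (fun _ : Fin l => M) (L.lTensor R' y) j = g j • y := by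
        intro y
        induction y using TensorProduct.induction_on with
        | zero => simp
        | tmul r m => simp [L]
        | add p q hp hq => simp only [map_add, Pi.add_apply, smul_add, hp, hq]
      have hmem : g j ∈ I ^ n := hg.le (Submodule.subset_span ⟨j, rfl⟩)
      rw [h1, ← algebraMap_smul R' (g j) x]
      exact hn _ (by rw [← Ideal.map_pow]; exact Ideal.mem_map_of_mem _ hmem)
    obtain ⟨y, rfl⟩ := (Module.Flat.lTensor_exact R' (LinearMap.exact_subtype_ker_map L) x).1 hx
    refine ⟨(Submodule.inclusion hKT).baseChange R' y, ?_⟩
    rw [← LinearMap.comp_apply, ← LinearMap.baseChange_comp]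
    rfl

end Groth.LocCohTransform
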