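import Groth.Agent.LocCohTransform.Degree0
import Groth.Agent.LocCohTransform.FlatTorsion
import Mathlib.Algebra.Homology.DerivedCategory.Ext.Map
import Mathlib.LinearAlgebra.TensorProduct.Tower

/-!
Flat base change for local cohomology.
-/

set_option autoImplicit false
universe u
open CategoryTheory CategoryTheory.Limits Opposite TensorProduct

namespace Groth.LocCohTransform

open Groth.LocCohBase (HH' ι exists_rep exists_desc ι_naturality ι_trans δ δ_ι quotPow trans exact₁ exact₃)

variable {R : Type u} [CommRing R] (R' : Type u) [CommRing R'] [Algebra R R'] (I : Ideal R)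

/-- Extension of scalars. -/
noncomputable def bcF : ModuleCat.{u} R ⥤ ModuleCat.{u} R' where
  obj M := ModuleCat.of R' (R' ⊗[R] M)
  map f := ModuleCat.ofHom (f.hom.baseChange R')
  map_id M := ModuleCat.hom_ext LinearMap.baseChange_id
  map_comp f g := ModuleCat.hom_ext (LinearMap.baseChange_comp _ _)

instance : (bcF (R := R) R').Additive where
  map_add {_ _ f g} := ModuleCat.hom_ext (LinearMap.baseChange_add f.hom g.hom)

section Flat

variable [Module.Flat R R']

lemma bcF_exact (S : ShortComplex (ModuleCat.{u} R)) (hS : S.Exact) : (S.map (bcF R')).Exact := by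
  rw [ShortComplex.ShortExact.moduleCat_exact_iff_function_exact] at hS ⊢
  exact Module.Flat.lTensor_exact R' hS

lemma bcF_preserves :
    PreservesFiniteLimits (bcF (R := R) R') ∧ PreservesFiniteColimits (bcF (R := R) R') :=
  ((Functor.exact_tfae (bcF (R := R) R')).out 1 3).1 (bcF_exact R')

instance : PreservesFiniteLimits (bcF (R := R) R') := (bcF_preserves R').1

instance : PreservesFiniteColimits (bcF (R := R) R') := (bcF_preserves R').2

end Flat

lemma map_pow_smul_one_tmul_mk (n : ℕ) {a : R'} (ha : a ∈ (I.map (algebraMap R R')) ^ n) :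
    a • ((1 : R') ⊗ₜ[R] (Submodule.Quotient.mk (1 : R) : R ⧸ I ^ n)) = 0 := by
  rw [← Ideal.map_pow] at ha
  induction ha using Submodule.span_induction with
  | mem z hz =>
    obtain ⟨c, hc, rfl⟩ := hz
    rw [algebraMap_smul, ← TensorProduct.tmul_smul, ← Submodule.Quotient.mk_smul,
      (Submodule.Quotient.mk_eq_zero (I ^ n : Ideal R)).2 (by simpa using hc), TensorProduct.tmul_zero]
  | zero => rw [zero_smul]
  | add p q _ _ hp hq => rw [add_smul, hp, hq, add_zero]
  | smul c p _ hp => rw [smul_eq_mul, mul_smul, hp, smul_zero]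

/-- `R'/I'^n → R' ⊗ R/I^n`. -/
noncomputable def quotBC (n : ℕ) :
    quotPow (I.map (algebraMap R R')) n ⟶ (bcF R').obj (quotPow I n) :=
  ModuleCat.ofHom (((I.map (algebraMap R R')) ^ n : Ideal R').liftQ
    (LinearMap.toSpanSingleton R' (R' ⊗[R] (R ⧸ I ^ n)) (1 ⊗ₜ[R] Submodule.Quotient.mk (1 : R)))
    fun _ ha => map_pow_smul_one_tmul_mk R' I n ha)

lemma trans_quotBC {n m : ℕ} (h : n ≤ m) :
    trans (I.map (algebraMap R R')) h ≫ quotBC R' I n =
      quotBC R' I m ≫ (bcF R').map (trans I h) := by
  refine ModuleCat.hom_ext (LinearMap.ext fun x => ?_)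
  obtain ⟨x, rfl⟩ := Ideal.Quotient.mk_surjective x
  show x • ((1 : R') ⊗ₜ[R] (Submodule.Quotient.mk (1 : R) : R ⧸ I ^ n)) =
    ((trans I h).hom.baseChange R') (x • ((1 : R') ⊗ₜ[R] (Submodule.Quotient.mk (1 : R) : R ⧸ I ^ m)))
  rw [map_smul, LinearMap.baseChange_tmul]
  rfl

variable [Module.Flat R R']

/-- The comparison on the level of `Ext`. -/
noncomputable def bcLevel (i n : ℕ) (M : ModuleCat.{u} R) :
    Abelian.Ext (quotPow I n) M i →+ HH' (I.map (algebraMap R R')) i ((bcF R').obj M) :=
  AddMonoidHom.mk' (fun α => ι (I.map (algebraMap R R')) i ((bcF R').obj M) n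
    ((Abelian.Ext.mk₀ (quotBC R' I n)).comp (α.mapExactFunctor (bcF R')) (zero_add i)))
    (fun α β => by rw [Abelian.Ext.mapExactFunctor_add, Abelian.Ext.comp_add, map_add])

lemma bcLevel_trans (i : ℕ) (M : ModuleCat.{u} R) {n m : ℕ} (h : n ≤ m)
    (α : Abelian.Ext (quotPow I n) M i) :
    bcLevel R' I i m M ((Abelian.Ext.mk₀ (trans I h)).comp α (zero_add i)) =
      bcLevel R' I i n M α := by
  show ι _ i _ m _ = ι _ i _ n _
  rw [← ι_trans i ((bcF R').obj M) h, Abelian.Ext.mapExactFunctor_comp,
    Abelian.Ext.mapExactFunctor_mk₀]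
  congr 1
  rw [← Abelian.Ext.comp_assoc _ _ _ (zero_add 0) (zero_add i) (by omega),
    ← Abelian.Ext.comp_assoc _ _ _ (zero_add 0) (zero_add i) (by omega),
    Abelian.Ext.mk₀_comp_mk₀, Abelian.Ext.mk₀_comp_mk₀, trans_quotBC]

lemma bcLevel_smul (i n : ℕ) (M : ModuleCat.{u} R) (r : R) (α : Abelian.Ext (quotPow I n) M i) :
    bcLevel R' I i n M (r • α) = algebraMap R R' r • bcLevel R' I i n M α := by
  show ι _ i _ n _ = algebraMap R R' r • ι _ i _ n _
  rw [← map_smul]
  congr 1
  have h1 : (bcF R').map (r • 𝟙 M) = algebraMap R R' r • 𝟙 ((bcF R').obj M) := by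
    refine ModuleCat.hom_ext ?_
    show (r • (LinearMap.id : M →ₗ[R] M)).baseChange R' = algebraMap R R' r • LinearMap.id
    rw [LinearMap.baseChange_smul, LinearMap.baseChange_id, algebraMap_smul]
  rw [Abelian.Ext.smul_eq_comp_mk₀ α, Abelian.Ext.mapExactFunctor_comp,
    Abelian.Ext.mapExactFunctor_mk₀, h1, Abelian.Ext.smul_eq_comp_mk₀ _ (algebraMap R R' r),
    Abelian.Ext.comp_assoc _ _ _ (zero_add i) (add_zero i) (by omega)]

lemma exists_bcMap (i : ℕ) (M : ModuleCat.{u} R) :
    ∃ Φ : R' ⊗[R] (HH' I i M) →ₗ[R'] HH' (I.map (algebraMap R R')) i ((bcF R').obj M),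
      ∀ n α, Φ (1 ⊗ₜ[R] ι I i M n α) = bcLevel R' I i n M α := by
  let : Module R (HH' (I.map (algebraMap R R')) i ((bcF R').obj M) : Type u) :=
    Module.compHom _ (algebraMap R R')
  have : IsScalarTower R R' (HH' (I.map (algebraMap R R')) i ((bcF R').obj M) : Type u) :=
    IsScalarTower.of_algebraMap_smul fun _ _ => rfl
  obtain ⟨Ψ, hΨ⟩ := exists_desc i M
    (T := (HH' (I.map (algebraMap R R')) i ((bcF R').obj M) : Type u))
    (fun n => { toFun := bcLevel R' I i n M
                map_add' := map_add _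
                map_smul' := fun r α => bcLevel_smul R' I i n M r α })
    (fun {n m} h α => bcLevel_trans R' I i M h α)
  refine ⟨LinearMap.liftBaseChange R' Ψ, fun n α => ?_⟩
  rw [LinearMap.liftBaseChange_tmul, one_smul, hΨ]
  rfl

/-- The base change comparison map. -/
noncomputable def bcMap (i : ℕ) (M : ModuleCat.{u} R) :
    R' ⊗[R] (HH' I i M) →ₗ[R'] HH' (I.map (algebraMap R R')) i ((bcF R').obj M) :=
  (exists_bcMap R' I i M).choose

lemma bcMap_ι (i : ℕ) (M : ModuleCat.{u} R) (a : R') {n : ℕ} (α : Abelian.Ext (quotPow I n) M i) :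
    bcMap R' I i M (a ⊗ₜ[R] ι I i M n α) =
      a • ι (I.map (algebraMap R R')) i ((bcF R').obj M) n
        ((Abelian.Ext.mk₀ (quotBC R' I n)).comp (α.mapExactFunctor (bcF R')) (zero_add i)) := by
  have h : a ⊗ₜ[R] ι I i M n α = a • ((1 : R') ⊗ₜ[R] ι I i M n α) := by
    rw [TensorProduct.smul_tmul', smul_eq_mul, mul_one]
  rw [h, map_smul]
  exact congrArg (a • ·) ((exists_bcMap R' I i M).choose_spec n α)

lemma bcMap_naturality (i : ℕ) {M N : ModuleCat.{u} R} (g : M ⟶ N) (x : R' ⊗[R] (HH' I i M)) :
    bcMap R' I i N (((localCohomology I i).map g).hom.baseChange R' x) =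
      ((localCohomology _ i).map ((bcF R').map g)).hom (bcMap R' I i M x) := by
  induction x using TensorProduct.induction_on with
  | zero => simp only [map_zero]
  | add p q hp hq => simp only [map_add, hp, hq]
  | tmul a x =>
    obtain ⟨n, α, rfl⟩ := exists_rep i M x
    rw [LinearMap.baseChange_tmul]
    refine (congrArg (fun y => bcMap R' I i N (a ⊗ₜ[R] y)) (ι_naturality i g α)).trans ?_
    rw [bcMap_ι, bcMap_ι, map_smul]
    congr 1
    refine Eq.trans ?_ (ι_naturality i ((bcF R').map g) _).symm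
    rw [Abelian.Ext.mapExactFunctor_comp, Abelian.Ext.mapExactFunctor_mk₀,
      Abelian.Ext.comp_assoc _ _ _ (zero_add i) (add_zero i) (by omega)]

lemma bcMap_δ {S : ShortComplex (ModuleCat.{u} R)} (hS : S.ShortExact) (i : ℕ)
    (x : R' ⊗[R] (HH' I i S.X₃)) :
    bcMap R' I (i + 1) S.X₁ ((δ hS i).baseChange R' x) =
      δ (hS.map_of_exact (bcF R')) i (bcMap R' I i S.X₃ x) := by
  induction x using TensorProduct.induction_on with
  | zero => simp only [map_zero]; exact (map_zero _).symm
  | add p q hp hq => simp only [map_add, hp, hq]; exact (map_add _ _ _).symm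
  | tmul a x =>
    obtain ⟨n, α, rfl⟩ := exists_rep i S.X₃ x
    rw [LinearMap.baseChange_tmul, δ_ι, bcMap_ι, bcMap_ι]
    refine Eq.trans ?_ (map_smul _ _ _).symm
    refine congrArg (a • ·) ?_
    refine Eq.trans ?_ (δ_ι (hS.map_of_exact (bcF R')) i _).symm
    rw [Abelian.Ext.mapExactFunctor_comp, Abelian.Ext.mapExactFunctor_extClass]
    exact congrArg _ (Abelian.Ext.comp_assoc (Abelian.Ext.mk₀ (quotBC R' I n))
      (α.mapExactFunctor (bcF R')) _ (zero_add i) rfl (by omega)).symm

variable [IsNoetherianRing R]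

lemma bcMap_zero_bijective (M : ModuleCat.{u} R) : Function.Bijective (bcMap R' I 0 M) := by
  have key : ∀ x, h0Val (I.map (algebraMap R R')) ((bcF R').obj M) (bcMap R' I 0 M x) =
      (h0Val I M).baseChange R' x := by
    intro x
    induction x using TensorProduct.induction_on with
    | zero => simp only [map_zero]; rfl
    | add p q hp hq => simp only [map_add, hp, hq]; rfl
    | tmul a x =>
      obtain ⟨n, α, rfl⟩ := exists_rep 0 M x
      obtain ⟨f, rfl⟩ := (Abelian.Ext.mk₀_bijective _ _).2 α
      rw [bcMap_ι, map_smul, LinearMap.baseChange_tmul, Abelian.Ext.mapExactFunctor_mk₀,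
        Abelian.Ext.mk₀_comp_mk₀, h0Val_ι, h0Val_ι]
      show a • f.hom.baseChange R' ((1 : R') • ((1 : R') ⊗ₜ[R] (Submodule.Quotient.mk (1 : R)))) =
        a ⊗ₜ[R] f.hom (Submodule.Quotient.mk (1 : R))
      rw [one_smul, LinearMap.baseChange_tmul, TensorProduct.smul_tmul', smul_eq_mul, mul_one]
  have hinj : Function.Injective ((h0Val I M).baseChange R') :=
    Module.Flat.lTensor_preserves_injective_linearMap (M := R') _ (h0Val_injective I M)
  have hrange : LinearMap.range ((h0Val I M).baseChange R') =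
      DRing.torsionSub (I.map (algebraMap R R')) (R' ⊗[R] M) := by
    rw [← range_baseChange_torsionSub I M]
    have h : ∀ x, h0Val I M x ∈ DRing.torsionSub I M := fun x => (range_h0Val I M).le ⟨x, rfl⟩
    have hsurj : Function.Surjective
        (((h0Val I M).codRestrict _ h).baseChange R') :=
      LinearMap.lTensor_surjective R' fun y => by
        obtain ⟨x, hx⟩ := (range_h0Val I M).ge y.2
        exact ⟨x, Subtype.ext hx⟩
    conv_lhs => rw [← LinearMap.subtype_comp_codRestrict _ _ h, LinearMap.baseChange_comp]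
    rw [LinearMap.range_comp_of_range_eq_top _ (LinearMap.range_eq_top.2 hsurj)]
  constructor
  · intro x y h
    exact hinj ((key x).symm.trans ((congrArg _ h).trans (key y)))
  · intro y
    obtain ⟨x, hx⟩ := hrange.ge ((range_h0Val _ _).le ⟨y, rfl⟩)
    exact ⟨x, h0Val_injective _ _ ((key x).trans hx)⟩

variable [IsNoetherianRing R']

theorem bcMap_bijective : ∀ (i : ℕ) (M : ModuleCat.{u} R), Function.Bijective (bcMap R' I i M) := by
  intro i
  induction i with
  | zero => exact bcMap_zero_bijective R' I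
  | succ i ih =>
    intro M
    let p := (EnoughInjectives.presentation M).some
    have hS := p.shortExact_shortComplex
    have hS' := hS.map_of_exact (bcF (R := R) R')
    have h1 : Subsingleton (HH' I (i + 1) p.J) :=
      Groth.LocCohBase.subsingleton_succ_of_injective (I := I) i p.J
    have h2 : Subsingleton (HH' (I.map (algebraMap R R')) (i + 1) ((bcF R').obj p.J)) := by
      have : Module.Injective R (p.J : Type u) :=
        @Module.injective_module_of_injective_object R (p.J : Type u) _ _ _ p.injective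
      exact subsingleton_H_baseChange R R' I (p.J : Type u) (Nat.succ_pos i)
    have hsurj : Function.Surjective ((δ (I := I) hS i).baseChange R') :=
      LinearMap.lTensor_surjective R' fun x => (exact₁ hS i x).1 (h1.elim _ _)
    have hex : Function.Exact (((localCohomology I i).map p.shortComplex.g).hom.baseChange R')
        ((δ (I := I) hS i).baseChange R') := Module.Flat.lTensor_exact R' (exact₃ hS i)
    exact bijective_of_rows _ ((δ (I := I) hS i).baseChange R').toAddMonoidHom hsurj hex
      _ (δ hS' i).toAddMonoidHom (fun x => (exact₁ hS' i x).1 (h2.elim _ _)) (exact₃ hS' i)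
      _ (ih p.J).2 (bcMap R' I i _).toAddMonoidHom (ih _) (bcMap R' I (i + 1) M).toAddMonoidHom
      (bcMap_naturality R' I i p.shortComplex.g) (bcMap_δ R' I hS i)

/-- Flat base change. -/
theorem nonempty_baseChange_equiv (M : Type u) [AddCommGroup M] [Module R M] (i : ℕ) :
    Nonempty (TensorProduct R R' (LocCoh.H I i M) ≃ₗ[R']
      LocCoh.H (Ideal.map (algebraMap R R') I) i (TensorProduct R R' M)) :=
  ⟨LinearEquiv.ofBijective (bcMap R' I i (ModuleCat.of R M)) (bcMap_bijective R' I i _)⟩

end Groth.LocCohTransform
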