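import Groth.Agent.LocCohTransform.TorsionRes

set_option autoImplicit false
universe u
open CategoryTheory CategoryTheory.Limits

namespace Groth.LocCohTransform

variable {R : Type u} [CommRing R] [IsNoetherianRing R] (I : Ideal R)

/-- Power-torsion modules are acyclic for local cohomology. -/
theorem subsingleton_localCohomology_of_isPowerTorsion (M : ModuleCat.{u} R)
    (hM : LocCoh.IsPowerTorsion I M) (i : ℕ) :
    Subsingleton ((localCohomology I (i + 1)).obj M) := by
  let J := torsionResolution I M hM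
  refine ModuleCat.subsingleton_of_isZero (IsZero.of_iso ?_
    ((gammaDerivedIso I (i + 1)).app M).symm)
  refine IsZero.of_iso ?_ (J.isoRightDerivedObj (DRing.gammaI I) (i + 1))
  refine (HomologicalComplex.exactAt_iff_isZero_homology _ _).1 ?_
  rw [HomologicalComplex.exactAt_iff' _ i (i + 1) (i + 1 + 1) (by simp) (by simp),
    ShortComplex.moduleCat_exact_iff]
  intro x hx
  have h := torComplex_exactAt_succ I M hM i
  rw [HomologicalComplex.exactAt_iff' _ i (i + 1) (i + 1 + 1) (by simp) (by simp),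
    ShortComplex.moduleCat_exact_iff] at h
  obtain ⟨w, hw⟩ := h x.1 (congrArg Subtype.val hx)
  exact ⟨⟨w, isPowerTorsion_torsionResolution I M hM i w⟩, Subtype.ext hw⟩

theorem subsingleton_H_of_isPowerTorsion (M : Type u) [AddCommGroup M] [Module R M]
    (hM : LocCoh.IsPowerTorsion I M) {i : ℕ} (hi : 0 < i) : Subsingleton (LocCoh.H I i M) := by
  obtain ⟨k, rfl⟩ : ∃ k, i = k + 1 := ⟨i - 1, by omega⟩
  exact subsingleton_localCohomology_of_isPowerTorsion I (ModuleCat.of R M) hM k

/-- Local cohomology in positive degree does not see torsion kernels and cokernels ... -/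
theorem map_bijective_of_injective_of_torsion {M N : ModuleCat.{u} R} (f : M ⟶ N)
    (hf : Function.Injective f.hom) (hc : LocCoh.IsPowerTorsion I (N ⧸ LinearMap.range f.hom))
    {i : ℕ} (hi : 1 < i) : Function.Bijective ((localCohomology I i).map f).hom := by
  obtain ⟨k, rfl⟩ : ∃ k, i = k + 1 + 1 := ⟨i - 2, by omega⟩
  let S := ShortComplex.mk f (ModuleCat.ofHom (LinearMap.range f.hom).mkQ)
    (by ext x; exact (Submodule.Quotient.mk_eq_zero _).2 ⟨x, rfl⟩)
  have hS : S.ShortExact :=
    { exact := (ShortComplex.moduleCat_exact_iff _).2 fun x hx => (Submodule.Quotient.mk_eq_zero _).1 hx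
      mono_f := (ModuleCat.mono_iff_injective _).2 hf
      epi_g := (ModuleCat.epi_iff_surjective _).2 (Submodule.mkQ_surjective _) }
  have h1 := subsingleton_localCohomology_of_isPowerTorsion I S.X₃ hc k
  have h2 := subsingleton_localCohomology_of_isPowerTorsion I S.X₃ hc (k + 1)
  refine ⟨(injective_iff_map_eq_zero _).2 fun x hx => ?_, fun y => ?_⟩
  · obtain ⟨z, rfl⟩ := (Groth.LocCohBase.exact₁ (I := I) hS (k + 1) x).1 hx
    rw [h1.elim z 0, map_zero]
  · exact (Groth.LocCohBase.exact₂ (I := I) hS (k + 1 + 1) y).1 (h2.elim _ _)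

theorem map_mkQ_bijective (N : Type u) [AddCommGroup N] [Module R N] (P : Submodule R N)
    (hP : LocCoh.IsPowerTorsion I P) {i : ℕ} (hi : 0 < i) :
    Function.Bijective ((localCohomology I i).map (ModuleCat.ofHom P.mkQ)).hom := by
  obtain ⟨k, rfl⟩ : ∃ k, i = k + 1 := ⟨i - 1, by omega⟩
  let S := ShortComplex.mk (ModuleCat.ofHom P.subtype) (ModuleCat.ofHom P.mkQ)
    (by ext x; exact (Submodule.Quotient.mk_eq_zero _).2 x.2)
  have hS : S.ShortExact :=
    { exact := (ShortComplex.moduleCat_exact_iff _).2 fun x hx =>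
        ⟨⟨x, (Submodule.Quotient.mk_eq_zero _).1 hx⟩, rfl⟩
      mono_f := (ModuleCat.mono_iff_injective _).2 Subtype.val_injective
      epi_g := (ModuleCat.epi_iff_surjective _).2 (Submodule.mkQ_surjective _) }
  have h1 := subsingleton_localCohomology_of_isPowerTorsion I S.X₁ hP k
  have h2 := subsingleton_localCohomology_of_isPowerTorsion I S.X₁ hP (k + 1)
  refine ⟨(injective_iff_map_eq_zero _).2 fun x hx => ?_, fun y => ?_⟩
  · obtain ⟨z, rfl⟩ := (Groth.LocCohBase.exact₂ (I := I) hS (k + 1) x).1 hx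
    exact (congrArg _ (h1.elim z 0)).trans (map_zero _)
  · exact (Groth.LocCohBase.exact₃ (I := I) hS (k + 1) y).1 (h2.elim _ _)

omit [IsNoetherianRing R] in
theorem isPowerTorsion_torsionSub (N : Type u) [AddCommGroup N] [Module R N] :
    LocCoh.IsPowerTorsion I (DRing.torsionSub I N) := by
  rintro ⟨x, n, hn⟩
  exact ⟨n, fun a ha => Subtype.ext (hn a ha)⟩

theorem map_toDT_bijective_of_one_lt (M : Type u) [AddCommGroup M] [Module R M] {i : ℕ}
    (hi : 1 < i) :
    Function.Bijective ((localCohomology I i).map (ModuleCat.ofHom (LocCoh.toDT I M))).hom := by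
  let P := DRing.torsionSub I M
  let e : (M ⧸ P) →ₗ[R] LocCoh.DT I M := P.liftQ (LocCoh.toDT I M) (ker_toDT I).ge
  have he : Function.Injective e := by
    rw [← LinearMap.ker_eq_bot]
    exact Submodule.ker_liftQ_eq_bot _ _ _ (ker_toDT I).le
  have hc : LocCoh.IsPowerTorsion I (LocCoh.DT I M ⧸ LinearMap.range e) := by
    rw [Submodule.range_liftQ]
    exact isPowerTorsion_coker_toDT I
  have h : ModuleCat.ofHom (LocCoh.toDT I M) = ModuleCat.ofHom P.mkQ ≫ ModuleCat.ofHom e := by
    ext x; rfl
  rw [h, Functor.map_comp, ModuleCat.hom_comp, LinearMap.coe_comp]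
  exact (map_bijective_of_injective_of_torsion I (ModuleCat.ofHom e) he hc hi).comp
    (map_mkQ_bijective I M P (isPowerTorsion_torsionSub I M) (by omega))

end Groth.LocCohTransform
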