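import Groth.Prelude.Def_DualLC
import Groth.Agent.LocCohTransform.Acyclic

/-!
The comparison maps `H^i_{I'} → H^i_I` for `I ≤ I'`.
-/

set_option autoImplicit false
universe u
open CategoryTheory CategoryTheory.Limits Opposite

namespace Groth.LocCohTransform

open Groth.LocCohBase (HH' ι exists_rep ι_eq_zero_iff ι_naturality ι_trans δ δ_ι quotPow trans)

variable {R : Type u} [CommRing R] {I I' : Ideal R}

/-- The surjection `R/I^n → R/I'^n`. -/
noncomputable def quotLE (hle : I ≤ I') (n : ℕ) : quotPow I n ⟶ quotPow I' n :=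
  (Dual2.quotMapOfLE hle).app (op n)

/-- The comparison map, at a module. -/
noncomputable abbrev hmap (hle : I ≤ I') (i : ℕ) (M : ModuleCat.{u} R) :
    HH' I' i M →ₗ[R] HH' I i M :=
  ((Dual2.HmapOfLE hle i).app M).hom

lemma hmap_ι (hle : I ≤ I') (i : ℕ) (M : ModuleCat.{u} R) {n : ℕ}
    (α : Abelian.Ext (quotPow I' n) M i) :
    hmap hle i M (ι I' i M n α) =
      ι I i M n ((Abelian.Ext.mk₀ (quotLE hle n)).comp α (zero_add i)) := by
  have h1 := NatTrans.congr_app (ι_colimMap
    (Functor.whiskerRight (NatTrans.op (Dual2.quotMapOfLE hle)) (Ext R (ModuleCat.{u} R) i))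
    (op (op n))) M
  have h2 := LinearMap.congr_fun (congrArg ModuleCat.Hom.hom h1)
    (Groth.LocCohBase.sysEquiv I' i M n α)
  refine h2.trans ?_
  refine congrArg ((Groth.LocCohBase.sysCocone I i M).ι.app (op (op n))).hom ?_
  have h3 := LinearMap.congr_fun (congrArg ModuleCat.Hom.hom
    (NatTrans.congr_app ((Groth.LocCohBase.extIso (R := R) i).inv.naturality (quotLE hle n).op) M)) α
  exact h3.symm

lemma hmap_naturality (hle : I ≤ I') (i : ℕ) {M N : ModuleCat.{u} R} (g : M ⟶ N) (x : HH' I' i M) :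
    hmap hle i N (((localCohomology I' i).map g).hom x) =
      ((localCohomology I i).map g).hom (hmap hle i M x) :=
  LinearMap.congr_fun (congrArg ModuleCat.Hom.hom ((Dual2.HmapOfLE hle i).naturality g)) x

lemma hmap_δ (hle : I ≤ I') {S : ShortComplex (ModuleCat.{u} R)} (hS : S.ShortExact) (i : ℕ)
    (x : HH' I' i S.X₃) :
    hmap hle (i + 1) S.X₁ (δ hS i x) = δ hS i (hmap hle i S.X₃ x) := by
  obtain ⟨n, α, rfl⟩ := exists_rep i S.X₃ x
  rw [δ_ι, hmap_ι, hmap_ι, δ_ι, Abelian.Ext.comp_assoc _ _ _ (zero_add i) rfl (by omega)]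

lemma map_id' (J : Ideal R) (i : ℕ) (M : ModuleCat.{u} R) (x : HH' J i M) :
    ((localCohomology J i).map (𝟙 M)).hom x = x := by
  rw [CategoryTheory.Functor.map_id]; rfl

lemma map_comp' (J : Ideal R) (i : ℕ) {M N P : ModuleCat.{u} R} (f : M ⟶ N) (g : N ⟶ P)
    (x : HH' J i M) :
    ((localCohomology J i).map (f ≫ g)).hom x =
      ((localCohomology J i).map g).hom (((localCohomology J i).map f).hom x) := by
  rw [Functor.map_comp]; rfl

lemma map_add' (J : Ideal R) (i : ℕ) {M N : ModuleCat.{u} R} (f g : M ⟶ N) (x : HH' J i M) :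
    ((localCohomology J i).map (f + g)).hom x =
      ((localCohomology J i).map f).hom x + ((localCohomology J i).map g).hom x := by
  obtain ⟨n, α, rfl⟩ := exists_rep i M x
  refine (ι_naturality i (f + g) α).trans ?_
  refine Eq.trans ?_ (congrArg₂ (· + ·) (ι_naturality i f α).symm (ι_naturality i g α).symm)
  rw [← map_add, Abelian.Ext.mk₀_add, Abelian.Ext.comp_add]

lemma map_zero' (J : Ideal R) (i : ℕ) {M N : ModuleCat.{u} R} (x : HH' J i M) :
    ((localCohomology J i).map (0 : M ⟶ N)).hom x = 0 := by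
  obtain ⟨n, α, rfl⟩ := exists_rep i M x
  refine (ι_naturality i (0 : M ⟶ N) α).trans ?_
  rw [Abelian.Ext.mk₀_zero, Abelian.Ext.comp_zero, map_zero]

/-- Modules on which an element of the ideal acts bijectively have no local cohomology. -/
lemma eq_zero_of_bijective_smul (J : Ideal R) (i : ℕ) (M : ModuleCat.{u} R) {b : R} (hb : b ∈ J)
    (hM : Function.Bijective fun m : M => b • m) (x : HH' J i M) : x = 0 := by
  obtain ⟨n, hn⟩ := Groth.LocCohBase.exists_pow_smul_eq_zero i M x
  let e : M ≃ₗ[R] M := LinearEquiv.ofBijective (LinearMap.lsmul R M b) hM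
  have hinj : Function.Injective fun y : HH' J i M => b • y := by
    intro y z h
    simp only [Groth.LocCohBase.smul_eq_map] at h
    have he : b • 𝟙 M = e.toModuleIso.hom := by ext m; rfl
    rw [he] at h
    exact ((localCohomology J i).mapIso e.toModuleIso).toLinearEquiv.injective h
  have := hn _ (Ideal.pow_mem_pow hb n)
  clear hn
  induction n with
  | zero => rwa [pow_zero, one_smul] at this
  | succ n ih =>
    apply ih
    apply hinj
    show b • b ^ n • x = b • 0
    rw [← mul_smul, ← pow_succ', this, smul_zero]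

/-- The value at `1` of a class of degree zero. -/
lemma ι_zero_eq_zero_iff (J : Ideal R) (M : ModuleCat.{u} R) {n : ℕ} (f : quotPow J n ⟶ M) :
    ι J 0 M n (Abelian.Ext.mk₀ f) = 0 ↔ f.hom (Submodule.Quotient.mk (1 : R)) = 0 := by
  rw [ι_eq_zero_iff]
  constructor
  · rintro ⟨m, h, e⟩
    rw [Abelian.Ext.mk₀_comp_mk₀, Abelian.Ext.mk₀_eq_zero_iff] at e
    exact LinearMap.congr_fun (congrArg ModuleCat.Hom.hom e) (Submodule.Quotient.mk (1 : R))
  · intro h
    refine ⟨n, le_rfl, ?_⟩
    have : f = 0 := ModuleCat.hom_ext (Submodule.linearMap_qext _ (LinearMap.ext_ring h))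
    rw [this, Abelian.Ext.mk₀_zero, Abelian.Ext.comp_zero]

variable [IsNoetherianRing R]

omit [IsNoetherianRing R] in
lemma hmap_zero_injective (hle : I ≤ I') (M : ModuleCat.{u} R) :
    Function.Injective (hmap hle 0 M) := by
  refine (injective_iff_map_eq_zero _).2 fun x hx => ?_
  obtain ⟨n, α, rfl⟩ := exists_rep 0 M x
  obtain ⟨f, rfl⟩ := (Abelian.Ext.mk₀_bijective _ _).2 α
  rw [hmap_ι, Abelian.Ext.mk₀_comp_mk₀, ι_zero_eq_zero_iff] at hx
  exact (ι_zero_eq_zero_iff I' M f).2 hx

omit [IsNoetherianRing R] in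
lemma sup_pow_le (J K : Ideal R) (n k : ℕ) : (J ⊔ K) ^ (n + k) ≤ J ^ n ⊔ K ^ k := by
  rw [← Ideal.add_eq_sup, ← Ideal.add_eq_sup]
  rw [Ideal.add_eq_sup, Ideal.add_eq_sup]
  exact Ideal.sup_pow_add_le_pow_sup_pow

lemma hmap_zero_surjective (hle : I ≤ I') {J : Ideal R} (hI' : I' ≤ I ⊔ J) (M : ModuleCat.{u} R)
    (hM : LocCoh.IsPowerTorsion J M) : Function.Surjective (hmap hle 0 M) := by
  intro x
  obtain ⟨n, α, rfl⟩ := exists_rep 0 M x
  obtain ⟨f, rfl⟩ := (Abelian.Ext.mk₀_bijective _ _).2 α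
  let g : (R ⧸ I ^ n) →ₗ[R] M := f.hom
  obtain ⟨k, hk⟩ := hM (g (Submodule.Quotient.mk 1))
  have hkill : ∀ a ∈ I' ^ (n + k), a • g (Submodule.Quotient.mk 1) = 0 := by
    intro a ha
    obtain ⟨p, hp, q, hq, rfl⟩ := Submodule.mem_sup.1
      (sup_pow_le I J n k (Ideal.pow_right_mono hI' _ ha))
    rw [add_smul, hk q hq, add_zero, ← map_smul, ← Submodule.Quotient.mk_smul, smul_eq_mul, mul_one,
      (Submodule.Quotient.mk_eq_zero _).2 hp, map_zero]
  let f' : quotPow I' (n + k) ⟶ M := ModuleCat.ofHom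
    ((I' ^ (n + k) : Ideal R).liftQ (LinearMap.toSpanSingleton R M (g (Submodule.Quotient.mk 1))) hkill)
  refine ⟨ι I' 0 M (n + k) (Abelian.Ext.mk₀ f'), ?_⟩
  rw [hmap_ι, ← ι_trans 0 M (Nat.le_add_right n k)]
  refine congrArg (ι I 0 M (n + k)) ?_
  rw [Abelian.Ext.mk₀_comp_mk₀, Abelian.Ext.mk₀_comp_mk₀]
  refine congrArg _ (ModuleCat.hom_ext (Submodule.linearMap_qext _ (LinearMap.ext_ring ?_)))
  exact one_smul R _

/-- For modules torsion with respect to `J`, `H_{I'} = H_I` whenever `I ≤ I' ≤ I ⊔ J`. -/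
theorem hmap_bijective (hle : I ≤ I') {J : Ideal R} (hI' : I' ≤ I ⊔ J) :
    ∀ (i : ℕ) (M : ModuleCat.{u} R), LocCoh.IsPowerTorsion J M →
      Function.Bijective (hmap hle i M) := by
  intro i
  induction i with
  | zero => exact fun M hM => ⟨hmap_zero_injective hle M, hmap_zero_surjective hle hI' M hM⟩
  | succ i ih =>
    intro M hM
    let T := torUnder J M
    let e := torι J M hM
    let S := ShortComplex.mk e (ModuleCat.ofHom (LinearMap.range e.hom).mkQ)
      (by ext x; exact (Submodule.Quotient.mk_eq_zero _).2 ⟨x, rfl⟩)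
    have hS : S.ShortExact :=
      { exact := (ShortComplex.moduleCat_exact_iff _).2 fun x hx => (Submodule.Quotient.mk_eq_zero _).1 hx
        mono_f := (ModuleCat.mono_iff_injective _).2 (torι_injective J M hM)
        epi_g := (ModuleCat.epi_iff_surjective _).2 (Submodule.mkQ_surjective _) }
    have hT := ih S.X₂ (isPowerTorsion_torUnder J M)
    have hC := ih S.X₃ (fun x => by
      obtain ⟨x, rfl⟩ := Submodule.Quotient.mk_surjective _ x
      obtain ⟨n, hn⟩ := isPowerTorsion_torUnder J M x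
      exact ⟨n, fun a ha => by
        rw [← Submodule.Quotient.mk_smul, hn a ha, Submodule.Quotient.mk_zero]⟩)
    have hinjT : Injective S.X₂ := inferInstanceAs (Injective (torUnder J M))
    have surjδ : ∀ (K : Ideal R), Function.Surjective (δ (I := K) hS i) := fun K x =>
      (Groth.LocCohBase.exact₁ (I := K) hS i x).1
        ((Groth.LocCohBase.subsingleton_succ_of_injective (I := K) i S.X₂).elim _ _)
    constructor
    · refine (injective_iff_map_eq_zero _).2 fun x hx => ?_
      obtain ⟨c, rfl⟩ := surjδ I' x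
      have hx' : δ hS i (hmap hle i S.X₃ c) = 0 := (hmap_δ hle hS i c).symm.trans hx
      obtain ⟨t, ht⟩ := (Groth.LocCohBase.exact₃ (I := I) hS i _).1 hx'
      obtain ⟨t', rfl⟩ := hT.2 t
      have h2 : ((localCohomology I' i).map S.g).hom t' = c :=
        hC.1 ((hmap_naturality hle i S.g t').trans ht)
      exact (Groth.LocCohBase.exact₃ (I := I') hS i _).2 ⟨t', h2⟩
    · intro y
      obtain ⟨c, rfl⟩ := surjδ I y
      obtain ⟨c', rfl⟩ := hC.2 c
      exact ⟨δ hS i c', hmap_δ hle hS i c'⟩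

end Groth.LocCohTransform
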