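import Groth.Agent.LocCohTransform.Universal

set_option autoImplicit false
universe u
open CategoryTheory CategoryTheory.Limits Opposite

namespace Groth.LocCohTransform

variable {R : Type u} [CommRing R] [IsNoetherianRing R] {R' : Type u} [CommRing R']
  [IsNoetherianRing R'] [Algebra R R'] (I : Ideal R) {M : Type u} [AddCommGroup M] [Module R' M]
  [Module R M] [IsScalarTower R R' M]

/-- `DT` over `R'` as an `R`-module. -/
noncomputable abbrev restrictModule :
    Module R (LocCoh.DT (I.map (algebraMap R R')) M) := Module.compHom _ (algebraMap R R')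

omit [IsNoetherianRing R] [IsNoetherianRing R'] in
lemma algebraMap_pow_mem {n : ℕ} {a : R} (ha : a ∈ I ^ n) :
    algebraMap R R' a ∈ (I.map (algebraMap R R')) ^ n := by
  rw [← Ideal.map_pow]; exact Ideal.mem_map_of_mem _ ha

omit [IsNoetherianRing R] [IsNoetherianRing R'] in
lemma mem_torsionSub_map_iff {N : Type u} [AddCommGroup N] [Module R' N] {x : N} :
    x ∈ DRing.torsionSub (I.map (algebraMap R R')) N ↔
      ∃ n : ℕ, ∀ a ∈ I ^ n, algebraMap R R' a • x = 0 := by
  constructor
  · rintro ⟨n, hn⟩
    exact ⟨n, fun a ha => hn _ (algebraMap_pow_mem I ha)⟩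
  · rintro ⟨n, hn⟩
    refine ⟨n, fun b hb => ?_⟩
    rw [← Ideal.map_pow] at hb
    induction hb using Submodule.span_induction with
    | mem z hz => obtain ⟨a, ha, rfl⟩ := hz; exact hn a ha
    | zero => rw [zero_smul]
    | add p q _ _ hp hq => rw [add_smul, hp, hq, add_zero]
    | smul c p _ hp => rw [smul_eq_mul, mul_smul, hp, smul_zero]

theorem exists_addEquiv :
    ∃ ε : LocCoh.DT (I.map (algebraMap R R')) M ≃+ LocCoh.DT I M,
      (∀ (r : R) (x : LocCoh.DT (I.map (algebraMap R R')) M), ε (algebraMap R R' r • x) = r • ε x) ∧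
      ∀ m : M, ε (LocCoh.toDT (I.map (algebraMap R R')) M m) = LocCoh.toDT I M m := by
  set J := I.map (algebraMap R R') with hJ
  letI := restrictModule (R' := R') I (M := M)
  have hsm : ∀ (r : R) (x : LocCoh.DT J M), r • x = algebraMap R R' r • x := fun _ _ => rfl
  let η' : M →ₗ[R] LocCoh.DT J M :=
    { toFun := LocCoh.toDT J M
      map_add' := map_add _
      map_smul' := fun r m => by
        rw [RingHom.id_apply, hsm, ← algebraMap_smul R' r m, map_smul] }
  have hker : LinearMap.ker η' ≤ DRing.torsionSub I M := by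
    intro m hm
    obtain ⟨n, hn⟩ := (mem_torsionSub_map_iff I).1 ((toDT_eq_zero_iff J m).1 hm)
    exact ⟨n, fun a ha => by rw [← algebraMap_smul R' a m]; exact hn a ha⟩
  have hcoker : LocCoh.IsPowerTorsion I (LocCoh.DT J M ⧸ LinearMap.range η') := by
    intro x
    obtain ⟨x, rfl⟩ := Submodule.Quotient.mk_surjective _ x
    obtain ⟨n, hn⟩ := exists_pow_smul_mem_range J x
    refine ⟨n, fun a ha => ?_⟩
    rw [← Submodule.Quotient.mk_smul, Submodule.Quotient.mk_eq_zero, hsm]
    obtain ⟨m, hm⟩ := hn _ (algebraMap_pow_mem I ha)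
    exact ⟨m, hm⟩
  obtain ⟨α, hα, -⟩ := existsUnique_factor I M η' hker hcoker LinearMap.id
  have hαη : ∀ m, α (LocCoh.toDT J M m) = LocCoh.toDT I M m := fun m => LinearMap.congr_fun hα m
  -- `a • x` is in the range of `η'` for `a` deep in `I`
  have hinj : Function.Injective α := by
    refine (injective_iff_map_eq_zero _).2 fun x hx => ?_
    obtain ⟨n, hn⟩ := exists_pow_smul_mem_range J x
    have htf := torsionSub_DT (M := M) J
    rw [Submodule.eq_bot_iff] at htf
    refine htf x (mem_torsionSub_of_forall J (k := n) fun b hb => ?_)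
    rw [hJ, ← Ideal.map_pow] at hb
    -- it suffices to treat generators
    have : ∀ b ∈ (I ^ n).map (algebraMap R R'), b • x ∈ DRing.torsionSub J (LocCoh.DT J M) := by
      intro b hb
      induction hb using Submodule.span_induction with
      | mem z hz =>
        obtain ⟨a, ha, rfl⟩ := hz
        obtain ⟨m', hm'⟩ := hn _ (algebraMap_pow_mem I ha)
        rw [← hm']
        have h0 : α (algebraMap R R' a • x) = 0 := by rw [← hsm, map_smul, hx, smul_zero]
        rw [← hm', hαη] at h0
        obtain ⟨l, hl⟩ := (toDT_eq_zero_iff I m').1 h0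
        exact (mem_torsionSub_map_iff I).2 ⟨l, fun c hc => by
          rw [← map_smul, algebraMap_smul, hl c hc, map_zero]⟩
      | zero => rw [zero_smul]; exact zero_mem _
      | add p q _ _ hp hq => rw [add_smul]; exact add_mem hp hq
      | smul c p _ hp => rw [smul_eq_mul, mul_smul]; exact Submodule.smul_mem _ c hp
    exact this b hb
  have hsurj : Function.Surjective α := by
    intro y
    obtain ⟨t, f, rfl⟩ := cls_surjective I y
    obtain ⟨l, p, hp⟩ := Module.Finite.exists_fin' R (I ^ t : Ideal R)
    let q : (Fin l → R) →ₗ[R] R := (I ^ t : Ideal R).subtype ∘ₗ p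
    let g : Fin l → R := fun i => q (Pi.single i 1)
    let P : (Fin l → R') →ₗ[R'] R' := Fintype.linearCombination R' fun i => algebraMap R R' (g i)
    let G : (Fin l → R') →ₗ[R'] M := Fintype.linearCombination R' fun i => f (p (Pi.single i 1))
    have hPd : ∀ d : Fin l → R, P (algebraMap R R' ∘ d) = algebraMap R R' (q d) := by
      intro d
      conv_rhs => rw [← (Pi.basisFun R (Fin l)).sum_repr d, map_sum, map_sum]
      simp [P, g, Fintype.linearCombination_apply, Pi.basisFun_repr, Pi.basisFun_apply, map_smul]
    have hGd : ∀ d : Fin l → R, G (algebraMap R R' ∘ d) = f (p d) := by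
      intro d
      conv_rhs => rw [← (Pi.basisFun R (Fin l)).sum_repr d, map_sum, map_sum]
      simp [G, Fintype.linearCombination_apply, Pi.basisFun_repr, Pi.basisFun_apply, map_smul,
        algebraMap_smul]
    have hqrange : LinearMap.range q = I ^ t := by
      rw [LinearMap.range_comp, LinearMap.range_eq_top.2 hp]; simp
    have hPr : LinearMap.range P = J ^ t := by
      rw [Fintype.range_linearCombination, hJ, ← Ideal.map_pow]
      refine le_antisymm (Submodule.span_le.2 ?_) (Ideal.map_le_iff_le_comap.2 fun a ha => ?_)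
      · rintro _ ⟨i, rfl⟩; exact Ideal.mem_map_of_mem _ (p _).2
      · obtain ⟨d, rfl⟩ := hqrange.ge ha
        rw [← Fintype.range_linearCombination]
        exact ⟨_, hPd d⟩
    have hG : ∀ z ∈ LinearMap.ker P, G z ∈ DRing.torsionSub J M := by
      intro z hz
      refine (mem_torsionSub_map_iff I).2 ⟨t, fun a ha => ?_⟩
      have hz' : ∑ i, z i * algebraMap R R' (g i) = 0 := by
        simpa [P, Fintype.linearCombination_apply] using hz
      calc algebraMap R R' a • G z = ∑ i, z i • (a • f (p (Pi.single i 1))) := by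
            simp only [G, Fintype.linearCombination_apply, Finset.smul_sum]
            refine Finset.sum_congr rfl fun i _ => ?_
            rw [smul_comm, algebraMap_smul]
        _ = ∑ i, (z i * algebraMap R R' (g i)) • f ⟨a, ha⟩ := by
            refine Finset.sum_congr rfl fun i _ => ?_
            rw [mul_smul, algebraMap_smul]
            congr 1
            refine (map_smul f _ _).symm.trans (Eq.trans ?_ (map_smul f _ _))
            congr 1
            ext
            simp [g, q, mul_comm]
        _ = 0 := by rw [← Finset.sum_smul, hz', zero_smul]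
    obtain ⟨s, G', hG'⟩ := exists_descend J (J ^ t) P hPr G hG
    have hle : J ^ (s + t) ≤ J ^ s * J ^ t := (pow_add J s t).le
    refine ⟨cls J (s + t) (G' ∘ₗ Submodule.inclusion hle), ?_⟩
    have key : ∀ (r : R) (hr : r ∈ I ^ (s + t)), G' ⟨algebraMap R R' r, hle (algebraMap_pow_mem I hr)⟩ =
        f ⟨r, pow_le I (Nat.le_add_left t s) hr⟩ := by
      intro r hr
      have hr' : r ∈ Submodule.map q (I ^ s • (⊤ : Submodule R (Fin l → R))) := by
        rw [Submodule.map_smul'', Submodule.map_top, hqrange, smul_eq_mul, ← pow_add]; exact hr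
      obtain ⟨d, hd, rfl⟩ := hr'
      have hmem : algebraMap R R' ∘ d ∈ J ^ s • (⊤ : Submodule R' (Fin l → R')) := by
        clear hr
        induction hd using Submodule.smul_induction_on' with
        | smul c hc w _ =>
          rw [show algebraMap R R' ∘ (c • w) = algebraMap R R' c • (algebraMap R R' ∘ w) by
            ext i; simp]
          exact Submodule.smul_mem_smul (algebraMap_pow_mem I hc) Submodule.mem_top
        | add u _ w _ hu hw =>
          rw [show algebraMap R R' ∘ (u + w) = (algebraMap R R' ∘ u) + (algebraMap R R' ∘ w) by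
            ext i; simp]
          exact add_mem hu hw
      have h1 := hG' _ hmem (by rw [hPd]; exact hle (algebraMap_pow_mem I hr))
      have h2 : f ⟨q d, pow_le I (Nat.le_add_left t s) hr⟩ = f (p d) := rfl
      rw [h2, ← hGd, ← h1]
      congr 1
      exact Subtype.ext (hPd d).symm
    rw [← sub_eq_zero, ← Submodule.mem_bot R, ← torsionSub_DT I (M := M)]
    refine ⟨s + t, fun r hr => ?_⟩
    rw [smul_sub, ← map_smul α, hsm]
    erw [smul_cls J _ ⟨_, algebraMap_pow_mem I hr⟩]
    rw [hαη, smul_cls I f ⟨r, pow_le I (Nat.le_add_left t s) hr⟩]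
    rw [sub_eq_zero]
    exact congrArg _ (key r hr)
  exact ⟨AddEquiv.ofBijective α.toAddMonoidHom ⟨hinj, hsurj⟩,
    fun r x => α.map_smul r x, hαη⟩

end Groth.LocCohTransform
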