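import Groth.Agent.LocCohTransform.Degree0
import Groth.Agent.LocCohTransform.BaseRing
import Mathlib.Algebra.Category.ModuleCat.ChangeOfRings
import Mathlib.Algebra.Homology.DerivedCategory.Ext.Map

/-!
Independence of local cohomology of the base ring.
-/

set_option autoImplicit false
universe u
open CategoryTheory CategoryTheory.Limits Opposite

namespace Groth.LocCohTransform

open Groth.LocCohBase (HH' ι exists_rep exists_desc ι_naturality ι_trans δ δ_ι quotPow trans exact₁ exact₃)

variable {R : Type u} [CommRing R] {R' : Type u} [CommRing R'] [Algebra R R'] (I : Ideal R)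

/-- Restriction of scalars along the structure map. -/
noncomputable abbrev resF : ModuleCat.{u} R' ⥤ ModuleCat.{u} R :=
  ModuleCat.restrictScalars (algebraMap R R')

/-- A morphism into an object of `ModuleCat` given by an additive map. -/
noncomputable def homToObj {X : Type u} [AddCommGroup X] [Module R X] (Y : ModuleCat.{u} R)
    (f : X →+ Y) (h : ∀ (r : R) x, f (r • x) = r • f x) : ModuleCat.of R X ⟶ Y :=
  ModuleCat.ofHom { f with map_smul' := h }

lemma pow_le_comap_map_pow (n : ℕ) :
    I ^ n ≤ Ideal.comap (algebraMap R R') ((I.map (algebraMap R R')) ^ n) := by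
  rw [← Ideal.map_le_iff_le_comap, Ideal.map_pow]

/-- An isomorphism from an object of `ModuleCat` given by an additive equivalence. -/
noncomputable def isoFromObj {X : Type u} [AddCommGroup X] [Module R X] (Y : ModuleCat.{u} R)
    (f : Y ≃+ X) (h : ∀ (r : R) y, f (r • y) = r • f y) : Y ≅ ModuleCat.of R X :=
  LinearEquiv.toModuleIso { f with map_smul' := h }

/-- `R/I^n → R'/I'^n`. -/
noncomputable def quotRes (n : ℕ) :
    quotPow I n ⟶ resF.obj (quotPow (I.map (algebraMap R R')) n) :=
  homToObj _ (Ideal.quotientMap (I := I ^ n) ((I.map (algebraMap R R')) ^ n) (algebraMap R R')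
    (pow_le_comap_map_pow I n)).toAddMonoidHom fun r x => by
    obtain ⟨x, rfl⟩ := Ideal.Quotient.mk_surjective x
    show Ideal.quotientMap (I := I ^ n) ((I.map (algebraMap R R')) ^ n) (algebraMap R R')
        (pow_le_comap_map_pow I n) (Ideal.Quotient.mk _ (r * x)) =
      Ideal.Quotient.mk ((I.map (algebraMap R R')) ^ n) (algebraMap R R' r * algebraMap R R' x)
    rw [Ideal.quotientMap_mk, map_mul]

lemma trans_quotRes {n m : ℕ} (h : n ≤ m) :
    trans I h ≫ quotRes (R' := R') I n =
      quotRes (R' := R') I m ≫ resF.map (trans (I.map (algebraMap R R')) h) := by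
  refine ModuleCat.hom_ext (LinearMap.ext fun x => ?_)
  obtain ⟨x, rfl⟩ := Ideal.Quotient.mk_surjective x
  rfl

/-- The comparison on the level of `Ext`. -/
noncomputable def resLevel (i n : ℕ) (M : ModuleCat.{u} R') :
    Abelian.Ext (quotPow (I.map (algebraMap R R')) n) M i →+ HH' I i (resF.obj M) :=
  AddMonoidHom.mk' (fun α => ι I i (resF.obj M) n
    ((Abelian.Ext.mk₀ (quotRes I n)).comp (α.mapExactFunctor resF) (zero_add i)))
    (fun α β => by rw [Abelian.Ext.mapExactFunctor_add, Abelian.Ext.comp_add, map_add])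

lemma resLevel_trans (i : ℕ) (M : ModuleCat.{u} R') {n m : ℕ} (h : n ≤ m)
    (α : Abelian.Ext (quotPow (I.map (algebraMap R R')) n) M i) :
    resLevel I i m M ((Abelian.Ext.mk₀ (trans (I.map (algebraMap R R')) h)).comp α (zero_add i)) =
      resLevel I i n M α := by
  show ι I i _ m _ = ι I i _ n _
  rw [← ι_trans i (resF.obj M) h, Abelian.Ext.mapExactFunctor_comp,
    Abelian.Ext.mapExactFunctor_mk₀]
  congr 1
  rw [← Abelian.Ext.comp_assoc _ _ _ (zero_add 0) (zero_add i) (by omega),
    ← Abelian.Ext.comp_assoc _ _ _ (zero_add 0) (zero_add i) (by omega),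
    Abelian.Ext.mk₀_comp_mk₀, Abelian.Ext.mk₀_comp_mk₀, trans_quotRes]

lemma exists_resMap (i : ℕ) (M : ModuleCat.{u} R') :
    ∃ Φ : HH' (I.map (algebraMap R R')) i M →+ HH' I i (resF.obj M),
      (∀ n α, Φ (ι (I.map (algebraMap R R')) i M n α) = resLevel I i n M α) ∧
      ∀ (r : R) x, Φ (algebraMap R R' r • x) = r • Φ x := by
  set J := I.map (algebraMap R R')
  have wd : ∀ (n : ℕ) α, ι J i M n α = 0 → resLevel I i n M α = 0 := by
    intro n α h
    obtain ⟨m, hm, e⟩ := (Groth.LocCohBase.ι_eq_zero_iff i M α).1 h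
    rw [← resLevel_trans I i M hm, e, map_zero]
  have wd' : ∀ (n m : ℕ) α β, ι J i M n α = ι J i M m β →
      resLevel I i n M α = resLevel I i m M β := by
    intro n m α β h
    rw [← resLevel_trans I i M (le_max_left n m) α, ← resLevel_trans I i M (le_max_right n m) β,
      ← sub_eq_zero, ← map_sub]
    apply wd
    rw [map_sub, ι_trans, ι_trans, h, sub_self]
  obtain ⟨f, hf⟩ : ∃ f : HH' J i M → HH' I i (resF.obj M),
      ∀ n α, f (ι J i M n α) = resLevel I i n M α :=
    ⟨fun x => resLevel I i (exists_rep i M x).choose M (exists_rep i M x).choose_spec.choose,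
      fun n α => wd' _ _ _ _ (exists_rep i M (ι J i M n α)).choose_spec.choose_spec⟩
  have hadd : ∀ x y, f (x + y) = f x + f y := by
    intro x y
    obtain ⟨n, α, rfl⟩ := exists_rep i M x
    obtain ⟨m, β, rfl⟩ := exists_rep i M y
    rw [← ι_trans i M (le_max_left n m) α, ← ι_trans i M (le_max_right n m) β, ← map_add, hf, hf, hf,
      map_add]
  refine ⟨AddMonoidHom.mk' f hadd, hf, fun r x => ?_⟩
  obtain ⟨n, α, rfl⟩ := exists_rep i M x
  show f (algebraMap R R' r • ι J i M n α) = r • f (ι J i M n α)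
  rw [← map_smul, hf, hf]
  show ι I i _ n _ = r • ι I i _ n _
  rw [← map_smul]
  congr 1
  have h1 : (resF (R := R) (R' := R')).map (algebraMap R R' r • 𝟙 M) = r • 𝟙 (resF.obj M) := by ext x; rfl
  rw [Abelian.Ext.smul_eq_comp_mk₀ α, Abelian.Ext.mapExactFunctor_comp,
    Abelian.Ext.mapExactFunctor_mk₀, h1, Abelian.Ext.smul_eq_comp_mk₀ _ r,
    Abelian.Ext.comp_assoc _ _ _ (zero_add i) (add_zero i) (by omega)]

/-- `H^i_{I R'}(M) → H^i_I(M)`. -/
noncomputable def resMap (i : ℕ) (M : ModuleCat.{u} R') :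
    HH' (I.map (algebraMap R R')) i M →+ HH' I i (resF.obj M) :=
  (exists_resMap I i M).choose

lemma resMap_ι (i : ℕ) (M : ModuleCat.{u} R') {n : ℕ}
    (α : Abelian.Ext (quotPow (I.map (algebraMap R R')) n) M i) :
    resMap I i M (ι (I.map (algebraMap R R')) i M n α) = ι I i (resF.obj M) n
      ((Abelian.Ext.mk₀ (quotRes I n)).comp (α.mapExactFunctor resF) (zero_add i)) :=
  (exists_resMap I i M).choose_spec.1 n α

lemma resMap_smul (i : ℕ) (M : ModuleCat.{u} R') (r : R) (x : HH' (I.map (algebraMap R R')) i M) :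
    resMap I i M (algebraMap R R' r • x) = r • resMap I i M x :=
  (exists_resMap I i M).choose_spec.2 r x

lemma resMap_naturality (i : ℕ) {M N : ModuleCat.{u} R'} (g : M ⟶ N)
    (x : HH' (I.map (algebraMap R R')) i M) :
    resMap I i N (((localCohomology _ i).map g).hom x) =
      ((localCohomology I i).map (resF.map g)).hom (resMap I i M x) := by
  obtain ⟨n, α, rfl⟩ := exists_rep i M x
  refine (congrArg (resMap I i N) (ι_naturality i g α)).trans ?_
  rw [resMap_ι, resMap_ι]
  refine Eq.trans ?_ (ι_naturality i (resF.map g) _).symm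
  rw [Abelian.Ext.mapExactFunctor_comp, Abelian.Ext.mapExactFunctor_mk₀,
    Abelian.Ext.comp_assoc _ _ _ (zero_add i) (add_zero i) (by omega)]

lemma resMap_δ {S : ShortComplex (ModuleCat.{u} R')} (hS : S.ShortExact) (i : ℕ)
    (x : HH' (I.map (algebraMap R R')) i S.X₃) :
    resMap I (i + 1) S.X₁ (δ hS i x) =
      δ (hS.map_of_exact (resF (R := R) (R' := R'))) i (resMap I i S.X₃ x) := by
  obtain ⟨n, α, rfl⟩ := exists_rep i S.X₃ x
  rw [δ_ι, resMap_ι, resMap_ι]
  refine Eq.trans ?_ (δ_ι (hS.map_of_exact (resF (R := R) (R' := R'))) i _).symm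
  rw [Abelian.Ext.mapExactFunctor_comp,
    Abelian.Ext.mapExactFunctor_extClass]
  exact congrArg _ (Abelian.Ext.comp_assoc (Abelian.Ext.mk₀ (quotRes I n))
    (α.mapExactFunctor resF) _ (zero_add i) rfl (by omega)).symm

variable [IsNoetherianRing R] [IsNoetherianRing R']

omit [IsNoetherianRing R] [IsNoetherianRing R'] in
lemma resMap_zero_bijective (M : ModuleCat.{u} R') : Function.Bijective (resMap I 0 M) := by
  have key : ∀ x, h0Val I (resF.obj M) (resMap I 0 M x) =
      (h0Val (I.map (algebraMap R R')) M x : M) := by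
    intro x
    obtain ⟨n, α, rfl⟩ := exists_rep 0 M x
    obtain ⟨f, rfl⟩ := (Abelian.Ext.mk₀_bijective _ _).2 α
    rw [resMap_ι, Abelian.Ext.mapExactFunctor_mk₀, Abelian.Ext.mk₀_comp_mk₀, h0Val_ι, h0Val_ι]
    show f.hom (Ideal.Quotient.mk ((I.map (algebraMap R R')) ^ n) (algebraMap R R' 1)) = _
    rw [map_one (algebraMap R R')]
    rfl
  constructor
  · intro x y h
    exact h0Val_injective _ M ((key x).symm.trans ((congrArg _ h).trans (key y)))
  · intro y
    obtain ⟨n, hn⟩ := (range_h0Val I (resF.obj M)).le ⟨y, rfl⟩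
    obtain ⟨y₀, hy₀⟩ : ∃ y₀ : M, y₀ = h0Val I (resF.obj M) y := ⟨_, rfl⟩
    have hy : y₀ ∈ DRing.torsionSub (I.map (algebraMap R R')) M :=
      (mem_torsionSub_map_iff I).2 ⟨n, fun a ha => by rw [hy₀]; exact hn a ha⟩
    obtain ⟨x, hx⟩ := (range_h0Val _ M).ge hy
    exact ⟨x, h0Val_injective I _ ((key x).trans (hx.trans hy₀))⟩

theorem resMap_bijective : ∀ (i : ℕ) (M : ModuleCat.{u} R'), Function.Bijective (resMap I i M) := by
  intro i
  induction i with
  | zero => exact resMap_zero_bijective I
  | succ i ih =>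
    intro M
    let p := (EnoughInjectives.presentation M).some
    have hS := p.shortExact_shortComplex
    have hS' := hS.map_of_exact (resF (R := R) (R' := R'))
    have h1 := Groth.LocCohBase.subsingleton_succ_of_injective
      (I := I.map (algebraMap R R')) i p.J
    have h2 : Subsingleton (HH' I (i + 1) (resF.obj p.J)) := by
      let : Module R (p.J : Type u) := Module.compHom _ (algebraMap R R')
      have : IsScalarTower R R' (p.J : Type u) := IsScalarTower.of_algebraMap_smul fun _ _ => rfl
      have : Module.Injective R' (p.J : Type u) :=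
        @Module.injective_module_of_injective_object R' (p.J : Type u) _ _ _ p.injective
      exact subsingleton_H_restrictScalars R R' I (p.J : Type u) (Nat.succ_pos i)
    exact bijective_of_rows _ (δ hS i).toAddMonoidHom
      (fun x => (exact₁ hS i x).1 (h1.elim _ _)) (exact₃ hS i)
      _ (δ hS' i).toAddMonoidHom (fun x => (exact₁ hS' i x).1 (h2.elim _ _)) (exact₃ hS' i)
      _ (ih p.J).2 (resMap I i _) (ih _) (resMap I (i + 1) M)
      (resMap_naturality I i p.shortComplex.g) (resMap_δ I hS i)

/-- Independence of the base ring. -/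
theorem exists_restrict_addEquiv (M' : Type u) [AddCommGroup M'] [Module R' M'] [Module R M']
    [IsScalarTower R R' M'] (i : ℕ) :
    ∃ φ : LocCoh.H (Ideal.map (algebraMap R R') I) i M' ≃+ LocCoh.H I i M',
      ∀ (r : R) (x : LocCoh.H (Ideal.map (algebraMap R R') I) i M'),
        φ (algebraMap R R' r • x) = r • φ x := by
  let e : (resF (R := R) (R' := R')).obj (ModuleCat.of R' M') ≅ ModuleCat.of R M' :=
    isoFromObj _ (AddEquiv.refl M') fun r x => algebraMap_smul (M := M') R' r x
  let E := ((localCohomology I i).mapIso e).toLinearEquiv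
  refine ⟨(AddEquiv.ofBijective (resMap I i (ModuleCat.of R' M')) (resMap_bijective I i _)).trans
    E.toAddEquiv, fun r x => ?_⟩
  show E (resMap I i _ (algebraMap R R' r • x)) = r • E (resMap I i _ x)
  rw [resMap_smul, map_smul]

end Groth.LocCohTransform
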