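import Groth.Agent.LocCohBase.CM
import Groth.Agent.LocCohBase.Cd
import Groth.Agent.KoszulCone.Depth
import Mathlib.RingTheory.Ideal.KrullsHeightTheorem

/-!
Depth inequalities over Noetherian local rings: `depth M ≤ depth(I, M) + dim R/I`, the bound
`depth(a, M) ≤` number of generators, and the regular-sequence criterion.
-/

set_option autoImplicit false
universe u
open CategoryTheory IsLocalRing RingTheory.Sequence Pointwise

namespace Groth.LocCohTransform

open Groth.LocCohBase (one_le_idealDepth_iff depth_le_ringKrullDim_quotient exists_regular_of_one_le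
  idealDepth_quotSMulTop_add_one smul_maximalIdeal_ne_top idealDepth_eq_top_of_smul_top_eq_top
  idealDepth_le_depth_localized le_idealDepth_iff_exists le_idealDepth_iff_localCohomology)

variable {R : Type u} [CommRing R] [IsNoetherianRing R] [IsLocalRing R]

/-- If `n + dim R/I < depth M` then `n < depth(I, M)`. -/
theorem lt_idealDepth_of_add_dim_lt_depth {I : Ideal R} (hI : I ≠ ⊤) {r : ℕ}
    (hr : ringKrullDim (R ⧸ I) ≤ r) : ∀ (n : ℕ) (M : Type u) [AddCommGroup M] [Module R M]
      [Module.Finite R M], ((n + r : ℕ) : ℕ∞) < LocCoh.depth R M →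
        (n : ℕ∞) < LocCoh.idealDepth I M := by
  have base : ∀ (M : Type u) [AddCommGroup M] [Module R M] [Module.Finite R M],
      (r : ℕ∞) < LocCoh.depth R M → (1 : ℕ∞) ≤ LocCoh.idealDepth I M := by
    intro M _ _ _ h
    refine (one_le_idealDepth_iff I M).2 fun q hq hle => ?_
    have h1 : ((LocCoh.depth R M : ℕ∞) : WithBot ℕ∞) ≤ ((r : ℕ∞) : WithBot ℕ∞) :=
      (depth_le_ringKrullDim_quotient hq).trans <|
        (ringKrullDim_le_of_surjective (Ideal.Quotient.factor hle)
          (Ideal.Quotient.factor_surjective hle)).trans hr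
    exact not_lt.2 (WithBot.coe_le_coe.1 h1) h
  intro n
  induction n with
  | zero =>
    intro M _ _ _ h
    exact lt_of_lt_of_le zero_lt_one (base M (by simpa using h))
  | succ n ih =>
    intro M _ _ _ h
    by_cases hIM : I • (⊤ : Submodule R M) = ⊤
    · rw [idealDepth_eq_top_of_smul_top_eq_top hIM]; exact ENat.natCast_lt_top _
    obtain ⟨x, hx, hreg⟩ := exists_regular_of_one_le hIM
      (base M (lt_of_le_of_lt (by exact_mod_cast (by omega)) h))
    have hxm : x ∈ maximalIdeal R := le_maximalIdeal hI hx
    have hmM : maximalIdeal R • (⊤ : Submodule R M) ≠ ⊤ := fun e => by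
      rw [LocCoh.depth] at h
      have : Nontrivial M := by
        refine not_subsingleton_iff_nontrivial.1 fun hs => hIM ?_
        exact Subsingleton.elim _ _
      exact smul_maximalIdeal_ne_top M (maximalIdeal.isMaximal R).ne_top e
    rw [LocCoh.depth, ← idealDepth_quotSMulTop_add_one _ M hmM hxm hreg,
      show n + 1 + r = (n + r) + 1 by omega, Nat.cast_succ] at h
    rw [← idealDepth_quotSMulTop_add_one I M hIM hx hreg, Nat.cast_succ]
    exact (ENat.add_lt_add_iff_right ENat.one_ne_top).2
      (ih (QuotSMulTop x M) ((ENat.add_lt_add_iff_right ENat.one_ne_top).1 h))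

/-- Vanishing of `Ext` below `depth M - dim N`. -/
theorem ext_subsingleton_of_add_dim_lt_depth (M N : Type u) [AddCommGroup M] [Module R M]
    [AddCommGroup N] [Module R N] [Module.Finite R M] [Module.Finite R N] [Nontrivial N]
    {r i : ℕ} (hr : Module.supportDim R N ≤ r) (hi : ((i + r : ℕ) : ℕ∞) < LocCoh.depth R M) :
    Subsingleton (Abelian.Ext (ModuleCat.of R N) (ModuleCat.of R M) i) := by
  have hI : Module.annihilator R N ≠ ⊤ := fun h => by
    have : Subsingleton N := Module.annihilator_eq_top_iff.1 h
    exact not_subsingleton N this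
  rw [Module.supportDim_eq_ringKrullDim_quotient_annihilator] at hr
  have h := lt_idealDepth_of_add_dim_lt_depth hI hr i M hi
  refine Groth.LocCohBase.ext_subsingleton_of_le_idealDepth (I := Module.annihilator R N)
    (ModuleCat.of R M) (ModuleCat.of R N) Ideal.le_radical (n := i + 1) ?_ (Nat.lt_succ_self i)
  rw [Nat.cast_succ]
  exact Order.add_one_le_of_lt h

/-- `depth(a, M) ≤` the number of generators of `a` modulo an associated prime of `M`. -/
theorem idealDepth_le_of_mem_associatedPrimes {M : Type u} [AddCommGroup M] [Module R M]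
    [Module.Finite R M] {p : Ideal R} (hp : p ∈ associatedPrimes R M) (s : Finset R)
    (hs : ∀ y ∈ s, y ∈ maximalIdeal R) {a : Ideal R} (ha : a ≤ p ⊔ Ideal.span (s : Set R)) :
    LocCoh.idealDepth a M ≤ s.card := by
  classical
  have hne : p ⊔ Ideal.span (s : Set R) ≠ ⊤ := ne_top_of_le_ne_top
    (maximalIdeal.isMaximal R).ne_top (sup_le (le_maximalIdeal hp.isPrime.ne_top) (Ideal.span_le.2 hs))
  obtain ⟨q, hq⟩ := Ideal.nonempty_minimalPrimes hne
  have : q.IsPrime := hq.1.1
  have hpq : p ≤ q := le_sup_left.trans hq.1.2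
  set f := algebraMap R (Localization.AtPrime q)
  set P := p.map f with hPdef
  have hdisj : Disjoint (q.primeCompl : Set R) (p : Set R) :=
    Set.disjoint_left.2 fun x hx hxp => hx (hpq hxp)
  have hP : P.comap f = p :=
    IsLocalization.comap_map_of_isPrime_disjoint q.primeCompl _ hp.isPrime hdisj
  have hPass : P ∈ associatedPrimes (Localization.AtPrime q) (LocalizedModule q.primeCompl M) := by
    refine Module.associatedPrimes.mem_associatedPrimes_of_comap_mem_associatedPrimes_of_isLocalizedModule
      q.primeCompl (LocalizedModule.mkLinearMap q.primeCompl M) P ?_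
    rwa [hP]
  have : P.IsPrime := hPass.isPrime
  have : IsLocalRing (Localization.AtPrime q ⧸ P) :=
    .of_surjective' (Ideal.Quotient.mk P) Ideal.Quotient.mk_surjective
  have : IsLocalHom (Ideal.Quotient.mk P) :=
    IsLocalHom.of_surjective _ Ideal.Quotient.mk_surjective
  have h1 : ringKrullDim (Localization.AtPrime q ⧸ P) ≤ ((s.card : ℕ∞) : WithBot ℕ∞) := by
    rw [← maximalIdeal_height_eq_ringKrullDim]
    refine WithBot.coe_le_coe.2 (le_trans (Ideal.height_le_card_of_mem_minimalPrimes_span_finset
      (s := s.image fun y => Ideal.Quotient.mk P (f y)) ⟨⟨inferInstance, ?_⟩, ?_⟩)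
      (Nat.cast_le.2 Finset.card_image_le))
    · rw [Ideal.span_le]
      intro z hz
      simp only [Finset.coe_image, Set.mem_image, Finset.mem_coe] at hz
      obtain ⟨y, hy, rfl⟩ := hz
      have hyq : f y ∈ maximalIdeal (Localization.AtPrime q) :=
        (IsLocalization.AtPrime.to_map_mem_maximal_iff _ q y).2
          ((le_sup_right.trans hq.1.2) (Ideal.subset_span hy))
      refine SetLike.mem_coe.2 ?_
      rw [mem_maximalIdeal, mem_nonunits_iff]
      intro hu
      exact hyq (isUnit_of_map_unit (Ideal.Quotient.mk P) _ hu)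
    · rintro Q ⟨hQ, hsQ⟩ -
      have hQ' : (Q.comap (Ideal.Quotient.mk P)).IsPrime := Ideal.IsPrime.comap _
      have h2 : p ⊔ Ideal.span (s : Set R) ≤ (Q.comap (Ideal.Quotient.mk P)).comap f := by
        refine sup_le (fun x hx => ?_) (Ideal.span_le.2 fun y hy => hsQ (Ideal.subset_span ?_))
        · rw [Ideal.mem_comap, Ideal.mem_comap,
            Ideal.Quotient.eq_zero_iff_mem.2 (Ideal.mem_map_of_mem f hx)]
          exact Q.zero_mem
        · exact Finset.mem_coe.2 (Finset.mem_image_of_mem _ hy)
      have h3 : (Q.comap (Ideal.Quotient.mk P)).comap f ≤ q := by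
        have := Ideal.comap_mono (f := f) (le_maximalIdeal hQ'.ne_top)
        rwa [Groth.LocCohBase.comap_maximalIdeal_atPrime] at this
      have h4 : q ≤ (Q.comap (Ideal.Quotient.mk P)).comap f :=
        hq.2 ⟨Ideal.IsPrime.comap _, h2⟩ h3
      have h5 : maximalIdeal (Localization.AtPrime q) ≤ Q.comap (Ideal.Quotient.mk P) := by
        rw [← Localization.AtPrime.map_eq_maximalIdeal]
        exact Ideal.map_le_iff_le_comap.2 h4
      intro z hz
      obtain ⟨z, rfl⟩ := Ideal.Quotient.mk_surjective z
      refine h5 ?_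
      rw [mem_maximalIdeal, mem_nonunits_iff] at hz ⊢
      exact fun hu => hz (hu.map _)
  exact (idealDepth_le_depth_localized a q (ha.trans hq.1.2) M).trans
    (WithBot.coe_le_coe.1 ((depth_le_ringKrullDim_quotient hPass).trans h1))

/-- `depth(a, M) = n` forces a system of `n` generators of `a` to be `M`-regular. -/
theorem isWeaklyRegular_of_length_le_idealDepth : ∀ (xs : List R) (M : Type u) [AddCommGroup M]
    [Module R M] [Module.Finite R M] [Nontrivial M], (∀ x ∈ xs, x ∈ maximalIdeal R) →
      (xs.length : ℕ∞) ≤ LocCoh.idealDepth (Ideal.ofList xs) M → IsWeaklyRegular M xs := by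
  classical
  intro xs
  induction xs with
  | nil => intro M _ _ _ _ _ _; exact .nil R M
  | cons x xs ih =>
    intro M _ _ _ _ hm h
    have hxs : ∀ y ∈ xs, y ∈ maximalIdeal R := fun y hy => hm y (List.mem_cons_of_mem _ hy)
    have hx : x ∈ maximalIdeal R := hm x List.mem_cons_self
    have ha : Ideal.ofList (x :: xs) ≤ maximalIdeal R := Ideal.span_le.2 hm
    have hIM := smul_maximalIdeal_ne_top M
      (ne_top_of_le_ne_top (maximalIdeal.isMaximal R).ne_top ha)
    have hreg : IsSMulRegular M x := by
      by_contra hno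
      have hmem : x ∈ ⋃ p ∈ associatedPrimes R M, (p : Set R) := by
        rw [biUnion_associatedPrimes_eq_compl_regular]; exact hno
      obtain ⟨p, hp, hxp⟩ := Set.mem_iUnion₂.1 hmem
      have h2 := idealDepth_le_of_mem_associatedPrimes hp xs.toFinset
        (fun y hy => hxs y (List.mem_toFinset.1 hy)) (a := Ideal.ofList (x :: xs)) (by
          rw [Ideal.ofList_cons, List.coe_toFinset]
          exact sup_le_sup_right ((Ideal.span_singleton_le_iff_mem _).2 hxp) _)
      have h3 : ((x :: xs).length : ℕ∞) ≤ xs.length :=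
        h.trans (h2.trans (Nat.cast_le.2 (List.toFinset_card_le xs)))
      rw [Nat.cast_le, List.length_cons] at h3
      omega
    refine (isWeaklyRegular_cons_iff M x xs).2 ⟨hreg, ?_⟩
    have : Nontrivial (QuotSMulTop x M) := Submodule.Quotient.nontrivial_iff.2 fun e =>
      Submodule.top_ne_pointwise_smul_of_mem_jacobson_annihilator
        ((maximalIdeal_le_jacobson _) hx) e.symm
    refine ih (QuotSMulTop x M) hxs ?_
    rw [← idealDepth_quotSMulTop_add_one _ M hIM
      (Ideal.subset_span List.mem_cons_self) hreg, List.length_cons, Nat.cast_succ] at h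
    have h' := (ENat.add_le_add_iff_right ENat.one_ne_top).1 h
    rw [le_idealDepth_iff_localCohomology] at h' ⊢
    intro i hi
    have hi' := h' i hi
    rw [Ideal.ofList_cons] at hi'
    refine (Groth.LocCohBase.subsingleton_H_sup_iff_of_isPowerTorsion (Ideal.span {x})
      (Ideal.ofList xs) i (QuotSMulTop x M) fun z => ⟨1, fun b hb => ?_⟩).1 hi'
    rw [pow_one, Ideal.mem_span_singleton'] at hb
    obtain ⟨c, rfl⟩ := hb
    obtain ⟨z, rfl⟩ := Submodule.Quotient.mk_surjective _ z
    rw [mul_smul, ← Submodule.Quotient.mk_smul, (Submodule.Quotient.mk_eq_zero _).2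
      (Submodule.smul_mem_pointwise_smul z x _ Submodule.mem_top), smul_zero]

end Groth.LocCohTransform
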