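import Groth.Agent.LocCohTransform.FlatTorsion
import Mathlib.Algebra.Module.Injective

set_option autoImplicit false
universe u
open TensorProduct

namespace Groth.LocCohTransform

variable {R : Type u} [CommRing R] [IsNoetherianRing R] {R' : Type u} [CommRing R'] [Algebra R R']
  [Module.Flat R R'] (E : Type u) [AddCommGroup E] [Module R E] [Module.Injective R E]

/-- A linear map on an extended ideal into `R' ⊗ E`, `E` injective, is a multiplication. -/
theorem exists_smul_eq_of_hom (I : Ideal R)
    (f : (I.map (algebraMap R R') : Ideal R') →ₗ[R'] (R' ⊗[R] E)) :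
    ∃ t : R' ⊗[R] E, ∀ y : (I.map (algebraMap R R') : Ideal R'), f y = (y : R') • t := by
  obtain ⟨l, g, hg⟩ := Submodule.fg_iff_exists_fin_generating_family.1 (IsNoetherian.noetherian I)
  have hgI : ∀ i, g i ∈ I := fun i => hg.le (Submodule.subset_span ⟨i, rfl⟩)
  let p : (Fin l → R) →ₗ[R] R := Fintype.linearCombination R g
  obtain ⟨k, z, hz⟩ := Submodule.fg_iff_exists_fin_generating_family.1
    (IsNoetherian.noetherian (LinearMap.ker p))
  let A : E →ₗ[R] (Fin l → E) := LinearMap.pi fun i => g i • LinearMap.id
  let B : (Fin l → E) →ₗ[R] (Fin k → E) :=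
    LinearMap.pi fun j => ∑ i, z j i • LinearMap.proj i
  have hB : ∀ v j, B v j = ∑ i, z j i • v i := fun v j => by simp [B]
  have hex : Function.Exact A B := by
    intro v
    constructor
    · intro hv
      let G : (Fin l → R) →ₗ[R] E := Fintype.linearCombination R v
      have hker : LinearMap.ker p ≤ LinearMap.ker G := by
        rw [← hz, Submodule.span_le]
        rintro _ ⟨j, rfl⟩
        simpa [G, Fintype.linearCombination_apply, hB] using congrFun hv j
      let h : LinearMap.range p →ₗ[R] E :=
        (LinearMap.ker p).liftQ G hker ∘ₗ p.quotKerEquivRange.symm.toLinearMap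
      obtain ⟨H, hH⟩ := Module.Injective.out (LinearMap.range p).subtype Subtype.val_injective h
      refine ⟨H 1, funext fun i => ?_⟩
      show g i • H 1 = v i
      have hgi : p (Pi.single i 1) = g i := by simp [p]
      rw [← map_smul, smul_eq_mul, mul_one, ← hgi]
      refine (hH ⟨_, LinearMap.mem_range_self p (Pi.single i 1)⟩).trans ?_
      show (LinearMap.ker p).liftQ G hker (p.quotKerEquivRange.symm ⟨_, _⟩) = v i
      rw [LinearMap.quotKerEquivRange_symm_apply_image, Submodule.mkQ_apply, Submodule.liftQ_apply]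
      simp [G]
    · rintro ⟨e, rfl⟩
      funext j
      have hj : p (z j) = 0 := hz.le (Submodule.subset_span ⟨j, rfl⟩)
      rw [hB]
      show ∑ i, z j i • g i • e = 0
      simp only [← mul_smul, ← Finset.sum_smul]
      rw [show (∑ i, z j i * g i) = p (z j) by simp [p, Fintype.linearCombination_apply], hj, zero_smul]
  let φ := algebraMap R R'
  let v : Fin l → R' ⊗[R] E := fun i => f ⟨φ (g i), Ideal.mem_map_of_mem _ (hgI i)⟩
  let πl := TensorProduct.piRight R R R' fun _ : Fin l => E
  let πk := TensorProduct.piRight R R R' fun _ : Fin k => E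
  have hBπ : ∀ (w : R' ⊗[R] (Fin l → E)) (j : Fin k),
      πk (B.lTensor R' w) j = ∑ i, z j i • πl w i := by
    intro w j
    induction w using TensorProduct.induction_on with
    | zero => simp
    | tmul r e => simp [πl, πk, hB, TensorProduct.tmul_sum, TensorProduct.tmul_smul]
    | add a b ha hb => simp only [map_add, Pi.add_apply, ha, hb, ← Finset.sum_add_distrib, smul_add]
  have hAπ : ∀ (t : R' ⊗[R] E) (i : Fin l), πl (A.lTensor R' t) i = g i • t := by
    intro t i
    induction t using TensorProduct.induction_on with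
    | zero => simp
    | tmul r e => simp [πl, A, TensorProduct.tmul_smul]
    | add a b ha hb => simp only [map_add, Pi.add_apply, ha, hb, smul_add]
  have hw : B.lTensor R' (πl.symm v) = 0 := by
    apply πk.injective
    funext j
    rw [hBπ, LinearEquiv.apply_symm_apply, map_zero, Pi.zero_apply]
    have hj : p (z j) = 0 := hz.le (Submodule.subset_span ⟨j, rfl⟩)
    simp only [v, ← algebraMap_smul R' (z j _) (f _), ← map_smul, ← map_sum]
    rw [← map_zero f]
    congr 1
    apply Subtype.ext
    simp only [Submodule.coe_sum, SetLike.val_smul, smul_eq_mul, ZeroMemClass.coe_zero, φ,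
      ← map_mul, ← map_sum]
    rw [show (∑ i, z j i * g i) = p (z j) by simp [p, Fintype.linearCombination_apply], hj, map_zero]
  obtain ⟨t, ht⟩ := (Module.Flat.lTensor_exact R' hex (πl.symm v)).1 hw
  refine ⟨t, fun ⟨y, hy⟩ => ?_⟩
  have hgen : ∀ i, f ⟨φ (g i), Ideal.mem_map_of_mem _ (hgI i)⟩ = φ (g i) • t := fun i => by
    rw [algebraMap_smul, ← hAπ, ht, LinearEquiv.apply_symm_apply]
  have hmap : I.map φ = Ideal.span (φ '' Set.range g) := by
    rw [← hg]; exact Ideal.map_span _ _
  have key : ∀ y, y ∈ Ideal.span (φ '' Set.range g) → ∀ h : y ∈ I.map φ, f ⟨y, h⟩ = y • t := by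
    intro y hy
    induction hy using Submodule.span_induction with
    | mem y hy => obtain ⟨_, ⟨i, rfl⟩, rfl⟩ := hy; exact fun _ => hgen i
    | zero => intro h; rw [zero_smul]; exact map_zero f
    | add a b ha hb iha ihb =>
      intro h
      have ha' : a ∈ I.map φ := hmap.ge ha
      have hb' : b ∈ I.map φ := hmap.ge hb
      rw [show (⟨a + b, h⟩ : (I.map φ : Ideal R')) = ⟨a, ha'⟩ + ⟨b, hb'⟩ from rfl, map_add,
        iha ha', ihb hb', add_smul]
    | smul c a ha iha =>
      intro h
      rw [show (⟨c • a, h⟩ : (I.map φ : Ideal R')) = c • ⟨a, hmap.ge ha⟩ from rfl, map_smul,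
        iha (hmap.ge ha), smul_eq_mul, mul_smul]
  exact key y (hmap.le hy) hy

end Groth.LocCohTransform
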