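import Groth.Agent.LocCohTransform.Vanish
import Groth.Agent.LocCohTransform.FlatHom
import Groth.Agent.Matlis.Hull

set_option autoImplicit false
universe u
open CategoryTheory TensorProduct

namespace Groth.LocCohTransform

section InjectiveModules

variable {R : Type u} [CommRing R] [IsNoetherianRing R]

lemma exists_pow_smul_sub_mem (E : Type u) [AddCommGroup E] [Module R E] [Module.Injective R E]
    (b : R) (m : E) (n : ℕ) :
    ∃ m', m - b ^ n • m' ∈ DRing.torsionSub (Ideal.span {b}) E := by
  let μ : R →ₗ[R] R := b ^ n • LinearMap.id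
  obtain ⟨k, hk⟩ := monotone_stabilizes_iff_noetherian.2 (inferInstance : IsNoetherianRing R)
    ⟨fun k => LinearMap.ker ((b • LinearMap.id : R →ₗ[R] R) ^ k), fun p q hpq =>
      fun x hx => by
        obtain ⟨c, rfl⟩ := Nat.exists_eq_add_of_le' hpq
        rw [LinearMap.mem_ker, pow_add, Module.End.mul_apply, LinearMap.mem_ker.1 hx, map_zero]⟩
  have hpow : ∀ (j : ℕ) (x : R), ((b • LinearMap.id : R →ₗ[R] R) ^ j) x = b ^ j * x := by
    intro j
    induction j with
    | zero => intro x; simp
    | succ j ih => intro x; rw [pow_succ', Module.End.mul_apply, ih]; simp [pow_succ', mul_assoc]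
  -- the map `r * b ^ (k + n) ↦ r • b ^ k • m` is well defined
  let F : R →ₗ[R] E := LinearMap.toSpanSingleton R E (b ^ k • m)
  let q : R →ₗ[R] R := LinearMap.toSpanSingleton R R (b ^ (k + n))
  have hker : LinearMap.ker q ≤ LinearMap.ker F := by
    intro r hr
    have h1 : r ∈ LinearMap.ker ((b • LinearMap.id : R →ₗ[R] R) ^ k) := by
      rw [show LinearMap.ker ((b • LinearMap.id : R →ₗ[R] R) ^ k) = _ from hk (k + n) (by omega)]
      show ((b • LinearMap.id : R →ₗ[R] R) ^ (k + n)) r = 0
      rw [hpow, mul_comm]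
      exact hr
    rw [LinearMap.mem_ker, hpow] at h1
    show r • b ^ k • m = 0
    rw [← mul_smul, mul_comm, h1, zero_smul]
  let h : LinearMap.range q →ₗ[R] E :=
    (LinearMap.ker q).liftQ F hker ∘ₗ q.quotKerEquivRange.symm.toLinearMap
  obtain ⟨H, hH⟩ := Module.Injective.out (LinearMap.range q).subtype Subtype.val_injective h
  refine ⟨H 1, k, fun a ha => ?_⟩
  rw [Ideal.span_singleton_pow] at ha
  obtain ⟨c, rfl⟩ := Ideal.mem_span_singleton'.1 ha
  have h2 : H (b ^ (k + n)) = b ^ k • m := by
    have h3 : q 1 = b ^ (k + n) := one_smul R _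
    rw [← h3]
    refine (hH ⟨_, LinearMap.mem_range_self q 1⟩).trans ?_
    show (LinearMap.ker q).liftQ F hker (q.quotKerEquivRange.symm ⟨_, _⟩) = _
    rw [LinearMap.quotKerEquivRange_symm_apply_image, Submodule.mkQ_apply, Submodule.liftQ_apply]
    exact one_smul R _
  rw [mul_smul, smul_sub, ← mul_smul (b ^ k), ← pow_add, ← map_smul H, smul_eq_mul, mul_one, h2,
    sub_self, smul_zero]

/-- Quotients of injectives by torsion parts of injectives are injective. -/
lemma injective_quot_torsion (E : Type u) [AddCommGroup E] [Module R E] [Module.Injective R E]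
    (J : Ideal R) : Module.Injective R (E ⧸ DRing.torsionSub J E) := by
  obtain ⟨p, hp⟩ := (injective_torsionSub J E).out (DRing.torsionSub J E).subtype
    Subtype.val_injective LinearMap.id
  have hc : IsCompl (DRing.torsionSub J E) (LinearMap.ker p) := by
    refine IsCompl.of_eq ?_ ?_
    · refine (Submodule.eq_bot_iff _).2 fun x hx => ?_
      have h1 : p x = ⟨x, hx.1⟩ := hp ⟨x, hx.1⟩
      exact congrArg Subtype.val (h1.symm.trans hx.2)
    · refine Submodule.eq_top_iff'.2 fun x => Submodule.mem_sup.2
        ⟨p x, (p x).2, x - p x, ?_, add_sub_cancel _ _⟩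
      rw [LinearMap.mem_ker, map_sub, sub_eq_zero]
      exact (hp (p x)).symm
  exact GrothMatlis.injective_of_equiv (GrothMatlis.injective_of_isCompl inferInstance hc.symm)
    (Submodule.quotientEquivOfIsCompl _ _ hc)

end InjectiveModules

section Classes

variable (R : Type u) [CommRing R] [IsNoetherianRing R] (R' : Type u) [CommRing R']
  [IsNoetherianRing R'] [Algebra R R']

omit [IsNoetherianRing R] [IsNoetherianRing R'] in
lemma torsionSub_congr {M N : Type u} [AddCommGroup M] [Module R M] [AddCommGroup N] [Module R N]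
    (e : M ≃ₗ[R] N) (J : Ideal R) :
    (DRing.torsionSub J M).map e.toLinearMap = DRing.torsionSub J N := by
  refine le_antisymm ?_ fun y hy => ⟨e.symm y, DRing.map_mem_torsionSub J e.symm.toLinearMap hy,
    e.apply_symm_apply y⟩
  rintro _ ⟨x, hx, rfl⟩
  exact DRing.map_mem_torsionSub J e.toLinearMap hx

omit [IsNoetherianRing R] [IsNoetherianRing R'] in
lemma torsionSub_restrict_eq (J : Ideal R) (E : Type u) [AddCommGroup E] [Module R' E] [Module R E]
    [IsScalarTower R R' E] :
    (DRing.torsionSub (J.map (algebraMap R R')) E).restrictScalars R = DRing.torsionSub J E := by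
  ext x
  constructor
  · rintro ⟨n, hn⟩
    refine ⟨n, fun a ha => ?_⟩
    rw [← algebraMap_smul R' a x]
    exact hn _ (by rw [← Ideal.map_pow]; exact Ideal.mem_map_of_mem _ ha)
  · rintro ⟨n, hn⟩
    refine ⟨n, fun a ha => ?_⟩
    rw [← Ideal.map_pow] at ha
    induction ha using Submodule.span_induction with
    | mem z hz => obtain ⟨c, hc, rfl⟩ := hz; rw [algebraMap_smul]; exact hn c hc
    | zero => rw [zero_smul]
    | add p q _ _ hp hq => rw [add_smul, hp, hq, add_zero]
    | smul c p _ hp => rw [smul_eq_mul, mul_smul, hp, smul_zero]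

/-- `R`-modules isomorphic to injective `R'`-modules. -/
def RestrictedInjective (M : Type u) [AddCommGroup M] [Module R M] : Prop :=
  ∃ (E : Type u) (_ : AddCommGroup E) (_ : Module R' E) (_ : Module R E)
    (_ : IsScalarTower R R' E) (_ : Module.Injective R' E), Nonempty (M ≃ₗ[R] E)

theorem subsingleton_H_restrictScalars (I : Ideal R) (E' : Type u) [AddCommGroup E'] [Module R' E']
    [Module R E'] [IsScalarTower R R' E'] [Module.Injective R' E'] {i : ℕ} (hi : 0 < i) :
    Subsingleton (LocCoh.H I i E') := by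
  obtain ⟨k, rfl⟩ : ∃ k, i = k + 1 := ⟨i - 1, by omega⟩
  obtain ⟨s, rfl⟩ := (IsNoetherian.noetherian I : I.FG)
  refine acyclic_of_class Set.univ (fun M _ _ => RestrictedInjective R R' M) ?_ ?_ ?_ s
    (fun x _ => Set.mem_univ x) k E' ⟨E', _, _, _, inferInstance, inferInstance, ⟨LinearEquiv.refl R E'⟩⟩
  all_goals intro b _ M _ _ hM
  all_goals obtain ⟨E, _, _, _, _, _, ⟨e⟩⟩ := hM
  all_goals
    have hmap : (Ideal.span {b}).map (algebraMap R R') = Ideal.span {algebraMap R R' b} := by
      rw [Ideal.map_span, Set.image_singleton]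
    have hres := torsionSub_restrict_eq R R' (Ideal.span {b}) E
  · intro m n
    obtain ⟨e', he'⟩ := exists_pow_smul_sub_mem E (algebraMap R R' b) (e m) n
    rw [← hmap] at he'
    refine ⟨e.symm e', ?_⟩
    have h1 : e m - b ^ n • e' ∈ DRing.torsionSub (Ideal.span {b}) E := by
      rw [← hres, ← algebraMap_smul R' (b ^ n) e', map_pow]; exact he'
    have h2 := DRing.map_mem_torsionSub _ e.symm.toLinearMap h1
    simpa using h2
  · have := injective_torsionSub ((Ideal.span {b}).map (algebraMap R R')) E
    exact ⟨DRing.torsionSub ((Ideal.span {b}).map (algebraMap R R')) E, _, _, inferInstance,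
      inferInstance, this,
      ⟨(e.ofSubmodules _ _ (torsionSub_congr R e _)).trans (LinearEquiv.ofEq _ _ hres.symm)⟩⟩
  · have := injective_quot_torsion E ((Ideal.span {b}).map (algebraMap R R'))
    exact ⟨E ⧸ DRing.torsionSub ((Ideal.span {b}).map (algebraMap R R')) E, _, _, inferInstance,
      inferInstance, this,
      ⟨(Submodule.Quotient.equiv _ _ e ((torsionSub_congr R e _).trans hres.symm)).trans
        (Submodule.Quotient.restrictScalarsEquiv R _)⟩⟩

variable [Module.Flat R R']

/-- `R'`-modules isomorphic to extended injective `R`-modules. -/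
def ExtendedInjective (M : Type u) [AddCommGroup M] [Module R' M] : Prop :=
  ∃ (E : Type u) (_ : AddCommGroup E) (_ : Module R E) (_ : Module.Injective R E),
    Nonempty (M ≃ₗ[R'] R' ⊗[R] E)

theorem subsingleton_H_baseChange (I : Ideal R) (E : Type u) [AddCommGroup E] [Module R E]
    [Module.Injective R E] {i : ℕ} (hi : 0 < i) :
    Subsingleton (LocCoh.H (Ideal.map (algebraMap R R') I) i (R' ⊗[R] E)) := by
  classical
  obtain ⟨k, rfl⟩ : ∃ k, i = k + 1 := ⟨i - 1, by omega⟩
  obtain ⟨s, rfl⟩ := (IsNoetherian.noetherian I : I.FG)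
  rw [Ideal.map_span, ← Finset.coe_image]
  refine acyclic_of_class (Set.range (algebraMap R R')) (fun M _ _ => ExtendedInjective R R' M)
    ?_ ?_ ?_ _ (fun x hx => by obtain ⟨y, -, rfl⟩ := Finset.mem_image.1 hx; exact ⟨y, rfl⟩)
    k (R' ⊗[R] E) ⟨E, _, _, inferInstance, ⟨LinearEquiv.refl R' _⟩⟩
  all_goals rintro _ ⟨b, rfl⟩ M _ _ hM
  all_goals obtain ⟨F, _, _, _, ⟨e⟩⟩ := hM
  all_goals
    have hmap : (Ideal.span {b}).map (algebraMap R R') = Ideal.span {algebraMap R R' b} := by
      rw [Ideal.map_span, Set.image_singleton]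
    have hr := range_baseChange_torsionSub (R' := R') (Ideal.span {b}) F
    rw [hmap] at hr
  · intro m n
    have h : ∀ x : R' ⊗[R] F, ∃ y, x - algebraMap R R' b ^ n • y ∈
        DRing.torsionSub (Ideal.span {algebraMap R R' b}) (R' ⊗[R] F) := by
      intro x
      induction x using TensorProduct.induction_on with
      | zero => exact ⟨0, by simp⟩
      | tmul r x =>
        obtain ⟨y, hy⟩ := exists_pow_smul_sub_mem F b x n
        refine ⟨r ⊗ₜ y, ?_⟩
        rw [← hr, ← map_pow, algebraMap_smul, ← TensorProduct.tmul_smul, ← TensorProduct.tmul_sub]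
        exact ⟨r ⊗ₜ ⟨_, hy⟩, rfl⟩
      | add p q hp hq =>
        obtain ⟨y, hy⟩ := hp
        obtain ⟨z, hz⟩ := hq
        exact ⟨y + z, by rw [smul_add, add_sub_add_comm]; exact add_mem hy hz⟩
    obtain ⟨y, hy⟩ := h (e m)
    exact ⟨e.symm y, by simpa using DRing.map_mem_torsionSub _ e.symm.toLinearMap hy⟩
  · exact ⟨DRing.torsionSub (Ideal.span {b}) F, _, _, injective_torsionSub _ F,
      ⟨(e.ofSubmodules _ _ (torsionSub_congr R' e _)).trans
        ((LinearEquiv.ofEq _ _ hr.symm).trans
          (LinearEquiv.ofInjective _ (baseChange_subtype_injective (R' := R') F _)).symm)⟩⟩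
  · let K := DRing.torsionSub (Ideal.span {b}) F
    have hsurj : Function.Surjective (K.mkQ.baseChange R') :=
      LinearMap.lTensor_surjective R' (Submodule.mkQ_surjective K)
    have hexact : LinearMap.ker (K.mkQ.baseChange R') = LinearMap.range (K.subtype.baseChange R') := by
      ext x
      exact (lTensor_exact R' (LinearMap.exact_subtype_mkQ K) (Submodule.mkQ_surjective K)) x
    exact ⟨F ⧸ K, _, _, injective_quot_torsion F _,
      ⟨(Submodule.Quotient.equiv _ _ e ((torsionSub_congr R' e _).trans (hr.symm.trans hexact.symm))).trans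
        (LinearMap.quotKerEquivOfSurjective _ hsurj)⟩⟩

end Classes

end Groth.LocCohTransform
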