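import Groth.Agent.LocCohTransform.HMap
import Groth.Agent.LocCohTransform.InjectiveClasses

/-!
Degree zero local cohomology as torsion, and a diagram lemma for dimension shifting.
-/

set_option autoImplicit false
universe u v
open CategoryTheory CategoryTheory.Limits Opposite

namespace Groth.LocCohTransform

open Groth.LocCohBase (HH' ι exists_rep exists_desc ι_naturality quotPow trans)

variable {R : Type u} [CommRing R] (J : Ideal R)

/-- The value at `1` of a degree zero class. -/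
noncomputable def evalZero (M : ModuleCat.{u} R) (n : ℕ) : Abelian.Ext (quotPow J n) M 0 →ₗ[R] M where
  toFun α := (Abelian.Ext.linearEquiv₀ (R := R) α).hom (Submodule.Quotient.mk (1 : R))
  map_add' α β := by rw [map_add]; rfl
  map_smul' r α := by rw [map_smul]; rfl

lemma evalZero_mk₀ (M : ModuleCat.{u} R) {n : ℕ} (f : quotPow J n ⟶ M) :
    evalZero J M n (Abelian.Ext.mk₀ f) = f.hom (Submodule.Quotient.mk (1 : R)) := by
  show ((Abelian.Ext.linearEquiv₀ (R := R)) (Abelian.Ext.mk₀ f)).hom _ = _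
  rw [show (Abelian.Ext.linearEquiv₀ (R := R)) (Abelian.Ext.mk₀ f) = f from
    Abelian.Ext.addEquiv₀.right_inv f]

lemma exists_h0Val (M : ModuleCat.{u} R) :
    ∃ Φ : HH' J 0 M →ₗ[R] M, ∀ n α, Φ (ι J 0 M n α) = evalZero J M n α :=
  exists_desc 0 M (evalZero J M) fun {n m} h α => by
    obtain ⟨f, rfl⟩ := (Abelian.Ext.mk₀_bijective _ _).2 α
    rw [Abelian.Ext.mk₀_comp_mk₀, evalZero_mk₀, evalZero_mk₀]
    rfl

/-- The canonical map `H^0_J(M) → M`. -/
noncomputable def h0Val (M : ModuleCat.{u} R) : HH' J 0 M →ₗ[R] M := (exists_h0Val J M).choose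

lemma h0Val_ι (M : ModuleCat.{u} R) {n : ℕ} (f : quotPow J n ⟶ M) :
    h0Val J M (ι J 0 M n (Abelian.Ext.mk₀ f)) = f.hom (Submodule.Quotient.mk (1 : R)) :=
  ((exists_h0Val J M).choose_spec n _).trans (evalZero_mk₀ J M f)

lemma h0Val_injective (M : ModuleCat.{u} R) : Function.Injective (h0Val J M) := by
  refine (injective_iff_map_eq_zero _).2 fun x hx => ?_
  obtain ⟨n, α, rfl⟩ := exists_rep 0 M x
  obtain ⟨f, rfl⟩ := (Abelian.Ext.mk₀_bijective _ _).2 α
  rw [h0Val_ι] at hx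
  exact (ι_zero_eq_zero_iff J M f).2 hx

lemma range_h0Val (M : ModuleCat.{u} R) : LinearMap.range (h0Val J M) = DRing.torsionSub J M := by
  refine le_antisymm ?_ fun x hx => ?_
  · rintro _ ⟨x, rfl⟩
    obtain ⟨n, hn⟩ := Groth.LocCohBase.exists_pow_smul_eq_zero 0 M x
    exact ⟨n, fun a ha => by rw [← map_smul, hn a ha, map_zero]⟩
  · obtain ⟨n, hn⟩ := hx
    refine ⟨ι J 0 M n (Abelian.Ext.mk₀ (ModuleCat.ofHom (X := R ⧸ J ^ n)
      ((J ^ n : Ideal R).liftQ (LinearMap.toSpanSingleton R M x) fun a ha => hn a ha))), ?_⟩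
    rw [h0Val_ι]
    exact one_smul R x

lemma h0Val_naturality {M N : ModuleCat.{u} R} (g : M ⟶ N) (x : HH' J 0 M) :
    h0Val J N (((localCohomology J 0).map g).hom x) = g.hom (h0Val J M x) := by
  obtain ⟨n, α, rfl⟩ := exists_rep 0 M x
  obtain ⟨f, rfl⟩ := (Abelian.Ext.mk₀_bijective _ _).2 α
  refine (congrArg (h0Val J N) (ι_naturality 0 g _)).trans ?_
  rw [Abelian.Ext.mk₀_comp_mk₀, h0Val_ι, h0Val_ι]
  rfl

/-- The step of dimension shifting. -/
theorem bijective_of_rows {A B C A' B' C' : Type*} [AddCommGroup A] [AddCommGroup B] [AddCommGroup C]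
    [AddCommGroup A'] [AddCommGroup B'] [AddCommGroup C']
    (g : A → B) (d : B →+ C) (hd : Function.Surjective d) (hex : Function.Exact g d)
    (g' : A' → B') (d' : B' →+ C') (hd' : Function.Surjective d') (hex' : Function.Exact g' d')
    (α : A → A') (hα : Function.Surjective α) (β : B →+ B') (hβ : Function.Bijective β) (γ : C →+ C')
    (h1 : ∀ x, β (g x) = g' (α x)) (h2 : ∀ x, γ (d x) = d' (β x)) : Function.Bijective γ := by
  constructor
  · refine (injective_iff_map_eq_zero _).2 fun x hx => ?_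
    obtain ⟨y, rfl⟩ := hd x
    obtain ⟨z', hz'⟩ := (hex' (β y)).1 ((h2 y).symm.trans hx)
    obtain ⟨z, rfl⟩ := hα z'
    exact (hex y).2 ⟨z, hβ.1 ((h1 z).trans hz')⟩
  · intro y
    obtain ⟨b', rfl⟩ := hd' y
    obtain ⟨b, rfl⟩ := hβ.2 b'
    exact ⟨d b, h2 b⟩

end Groth.LocCohTransform
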