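import Groth.Agent.LocCohTransform.ArtinianTorsion
import Groth.Agent.LocCohBase.Torsion
import Groth.Agent.LocCohTransform.Degree0
import Mathlib.RingTheory.KrullDimension.Regular
import Mathlib.RingTheory.Ideal.AssociatedPrime.Finiteness

/-!
Artinianness and non-vanishing of local cohomology supported at the maximal ideal.
-/

set_option autoImplicit false
universe u
open CategoryTheory CategoryTheory.Limits Opposite Pointwise

namespace Groth.LocCohTransform

open Groth.LocCohBase (HH' ι exists_rep δ exact₁ exact₂ exact₃)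
open IsLocalRing (maximalIdeal)

variable {R : Type u} [CommRing R]

/-- `0 → M → M → M/xM → 0`. -/
noncomputable def smulSeq (M : Type u) [AddCommGroup M] [Module R M] (x : R) :
    ShortComplex (ModuleCat.{u} R) :=
  ShortComplex.mk (x • 𝟙 (ModuleCat.of R M)) (ModuleCat.ofHom (x • (⊤ : Submodule R M)).mkQ)
    (by
      ext m
      exact (Submodule.Quotient.mk_eq_zero _).2 ⟨m, Submodule.mem_top, rfl⟩)

lemma smulSeq_shortExact {M : Type u} [AddCommGroup M] [Module R M] {x : R}
    (hx : IsSMulRegular M x) : (smulSeq M x).ShortExact where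
  exact := (ShortComplex.moduleCat_exact_iff _).2 fun m hm => by
    obtain ⟨w, _, hw⟩ := (Submodule.Quotient.mk_eq_zero _).1 hm
    exact ⟨w, hw⟩
  mono_f := (ModuleCat.mono_iff_injective _).2 hx
  epi_g := (ModuleCat.epi_iff_surjective _).2 (Submodule.mkQ_surjective _)

lemma smulSeq_map_f (I : Ideal R) {M : Type u} [AddCommGroup M] [Module R M] (x : R) (i : ℕ)
    (h : LocCoh.H I i M) :
    ((localCohomology I i).map (smulSeq M x).f).hom h = x • h :=
  (Groth.LocCohBase.smul_eq_map i (ModuleCat.of R M) x h).symm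

/-- The kernel of `x` on `H^{i+1}(M)` is covered by `H^i(M/xM)`. -/
lemma exists_preimage_of_smul_eq_zero (I : Ideal R) {M : Type u} [AddCommGroup M] [Module R M] {x : R}
    (hx : IsSMulRegular M x) (i : ℕ) (h : LocCoh.H I (i + 1) M) (h0 : x • h = 0) :
    ∃ y : LocCoh.H I i (M ⧸ x • (⊤ : Submodule R M)), δ (smulSeq_shortExact hx) i y = h :=
  (exact₁ (I := I) (smulSeq_shortExact hx) i h).1 ((smulSeq_map_f I x (i + 1) h).trans h0)

variable [IsNoetherianRing R] [IsLocalRing R]

/-- A finite module which is not torsion-free has an element of the maximal ideal regular on it,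
avoiding given non-maximal primes. -/
lemma exists_regular_mem (M : Type u) [AddCommGroup M] [Module R M] [Module.Finite R M]
    (hM : DRing.torsionSub (maximalIdeal R) M = ⊥) (s : Finset (Ideal R))
    (hs : ∀ p ∈ s, p.IsPrime ∧ p ≠ maximalIdeal R) :
    ∃ x ∈ maximalIdeal R, IsSMulRegular M x ∧ ∀ p ∈ s, x ∉ p := by
  classical
  obtain ⟨A, hA⟩ := (associatedPrimes.finite R M).exists_finset_coe
  have hprime : ∀ p ∈ A ∪ s, p.IsPrime ∧ p ≠ maximalIdeal R := by
    intro p hp
    rcases Finset.mem_union.1 hp with hp | hp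
    · have hp' : IsAssociatedPrime p M := by
        rw [← Finset.mem_coe, hA] at hp; exact hp
      refine ⟨hp'.isPrime, fun e => ?_⟩
      obtain ⟨hp1, w, hw⟩ := (isAssociatedPrime_iff_exists_injective_linearMap p M).1 hp'
      have h1 : w (Submodule.Quotient.mk 1) ∈ DRing.torsionSub (maximalIdeal R) M :=
        ⟨1, fun a ha => by
          rw [pow_one, ← e] at ha
          rw [← map_smul, ← Submodule.Quotient.mk_smul, smul_eq_mul, mul_one,
            (Submodule.Quotient.mk_eq_zero _).2 ha, map_zero]⟩
      rw [hM, Submodule.mem_bot, ← map_zero w] at h1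
      exact hp'.isPrime.ne_top
        ((Ideal.eq_top_iff_one _).2 ((Submodule.Quotient.mk_eq_zero _).1 (hw h1)))
    · exact hs p hp
  have : ¬ ((maximalIdeal R : Set R) ⊆ ⋃ p ∈ ((A ∪ s : Finset (Ideal R)) : Set (Ideal R)), (p : Set R)) := by
    rw [Ideal.subset_union_prime ⊥ ⊥ fun p hp _ _ => (hprime p hp).1]
    rintro ⟨p, hp, hle⟩
    exact (hprime p hp).2 ((IsLocalRing.maximalIdeal.isMaximal R).eq_of_le (hprime p hp).1.ne_top hle).symm
  obtain ⟨x, hxm, hx⟩ := Set.not_subset.1 this
  simp only [Set.mem_iUnion, SetLike.mem_coe, not_exists] at hx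
  refine ⟨x, hxm, ?_, fun p hp => hx p (Finset.mem_union_right _ hp)⟩
  by_contra hreg
  have hmem : x ∈ ⋃ p ∈ associatedPrimes R M, (p : Set R) := by
    rw [biUnion_associatedPrimes_eq_compl_regular]; exact hreg
  simp only [Set.mem_iUnion, SetLike.mem_coe] at hmem
  obtain ⟨p, hp, hxp⟩ := hmem
  exact hx p (Finset.mem_union_left _ (by rw [← Finset.mem_coe, hA]; exact hp)) hxp

omit [IsLocalRing R] in
lemma torsionSub_quotient_torsionSub (I : Ideal R) (M : Type u) [AddCommGroup M] [Module R M] :
    DRing.torsionSub I (M ⧸ DRing.torsionSub I M) = ⊥ :=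
  Groth.LocCohBase.torsionSub_quotient_eq_bot (IsNoetherian.noetherian I) M

/-- Local cohomology in positive degree does not see the torsion part. -/
noncomputable def quotTorsionEquiv (I : Ideal R) (M : Type u) [AddCommGroup M] [Module R M] (i : ℕ) :
    LocCoh.H I (i + 1) M ≃ₗ[R] LocCoh.H I (i + 1) (M ⧸ DRing.torsionSub I M) :=
  LinearEquiv.ofBijective
    ((localCohomology I (i + 1)).map (ModuleCat.ofHom (DRing.torsionSub I M).mkQ)).hom
    (map_mkQ_bijective I M _ (isPowerTorsion_torsionSub I M) (Nat.succ_pos i))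

lemma exists_pow_smul_torsionSub (M : Type u) [AddCommGroup M] [Module R M] [Module.Finite R M] :
    ∃ N, ∀ a ∈ maximalIdeal R ^ N, ∀ x ∈ DRing.torsionSub (maximalIdeal R) M, a • x = 0 := by
  classical
  obtain ⟨T, hT⟩ := IsNoetherian.noetherian (DRing.torsionSub (maximalIdeal R) M)
  have : ∀ x ∈ T, ∃ n, ∀ a ∈ maximalIdeal R ^ n, a • x = 0 := fun x hx =>
    hT.le (Submodule.subset_span hx)
  choose! n hn using this
  refine ⟨T.sup n, fun a ha x hx => ?_⟩
  rw [← hT] at hx
  induction hx using Submodule.span_induction with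
  | mem z hz => exact hn z hz a (Ideal.pow_le_pow_right (Finset.le_sup hz) ha)
  | zero => rw [smul_zero]
  | add p q _ _ hp hq => rw [smul_add, hp, hq, add_zero]
  | smul c p _ hp => rw [smul_comm, hp, smul_zero]

omit [IsLocalRing R] [IsNoetherianRing R] in
lemma isArtinian_of_isFiniteLength {M : Type u} [AddCommGroup M] [Module R M]
    (h : IsFiniteLength R M) : IsArtinian R M :=
  (isFiniteLength_iff_isNoetherian_isArtinian.1 h).2

lemma isArtinian_of_killed (M : Type u) [AddCommGroup M] [Module R M] [Module.Finite R M] (N : ℕ)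
    (h : ∀ a ∈ maximalIdeal R ^ N, ∀ x : M, a • x = 0) : IsArtinian R M := by
  obtain ⟨n, π, hπ⟩ := Module.Finite.exists_fin' R M
  have hq : IsArtinianRing (R ⧸ maximalIdeal R ^ N) := by
    rcases Nat.eq_zero_or_pos N with rfl | hN
    · have : Subsingleton (R ⧸ maximalIdeal R ^ 0) := Ideal.Quotient.subsingleton_iff.2 (by simp)
      infer_instance
    · refine isArtinianRing_iff_krullDimLE_zero.2 (Ring.KrullDimLE.mk₀ fun P hP => ?_)
      have hle : maximalIdeal R ≤ Ideal.comap (Ideal.Quotient.mk (maximalIdeal R ^ N)) P :=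
        (Ideal.IsPrime.pow_le_iff hN.ne').1 fun a ha => by
          rw [Ideal.mem_comap, Ideal.Quotient.eq_zero_iff_mem.2 ha]; exact zero_mem _
      have heq := (IsLocalRing.maximalIdeal.isMaximal R).eq_of_le (Ideal.IsPrime.ne_top inferInstance) hle
      have h1 := Ideal.map_comap_of_surjective _ Ideal.Quotient.mk_surjective P
      rw [← heq] at h1
      exact h1 ▸ (Ideal.map_eq_top_or_isMaximal_of_surjective _ Ideal.Quotient.mk_surjective
        (IsLocalRing.maximalIdeal.isMaximal R)).resolve_left fun h' => hP.ne_top (h1.symm.trans h')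
  have ht : Module.IsTorsionBySet R M (maximalIdeal R ^ N : Ideal R) := fun x a => h a a.2 x
  let := ht.module
  have : IsScalarTower R (R ⧸ maximalIdeal R ^ N) M := ht.isScalarTower
  have : Module.Finite (R ⧸ maximalIdeal R ^ N) M := Module.Finite.of_restrictScalars_finite R _ M
  have : IsArtinian (R ⧸ maximalIdeal R ^ N) M := isArtinian_of_fg_of_artinian'
  exact isArtinian_of_surjective_algebraMap (R := R ⧸ maximalIdeal R ^ N)
    (Ideal.Quotient.mk_surjective (I := maximalIdeal R ^ N))

theorem isArtinian_H_maximalIdeal : ∀ (i : ℕ) (M : Type u) [AddCommGroup M] [Module R M]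
    [Module.Finite R M], IsArtinian R (LocCoh.H (maximalIdeal R) i M) := by
  intro i
  induction i with
  | zero =>
    intro M _ _ _
    obtain ⟨N, hN⟩ := exists_pow_smul_torsionSub (R := R) M
    have : IsArtinian R (DRing.torsionSub (maximalIdeal R) M) :=
      isArtinian_of_killed _ N fun a ha x => Subtype.ext (hN a ha x x.2)
    exact isArtinian_of_injective
      ((h0Val (maximalIdeal R) (ModuleCat.of R M)).codRestrict (DRing.torsionSub (maximalIdeal R) M)
        fun x => (range_h0Val _ _).le ⟨x, rfl⟩)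
      fun a b h => h0Val_injective _ _ (congrArg Subtype.val h)
  | succ i ih =>
    intro M _ _ _
    let M' := M ⧸ DRing.torsionSub (maximalIdeal R) M
    suffices IsArtinian R (LocCoh.H (maximalIdeal R) (i + 1) M') from
      isArtinian_of_linearEquiv (quotTorsionEquiv (maximalIdeal R) M i).symm
    obtain ⟨x, hxm, hx, -⟩ := exists_regular_mem M' (torsionSub_quotient_torsionSub _ M) ∅ (by simp)
    refine isArtinian_of_isArtinian_ker_smul x (fun h => ?_) ?_
    · obtain ⟨n, hn⟩ := Groth.LocCohBase.exists_pow_smul_eq_zero (i + 1) (ModuleCat.of R M') h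
      exact ⟨n, hn _ (Ideal.pow_mem_pow hxm n)⟩
    · have := ih (M' ⧸ x • (⊤ : Submodule R M'))
      let f : LocCoh.H (maximalIdeal R) i (M' ⧸ x • (⊤ : Submodule R M')) →ₗ[R]
          LinearMap.ker (LinearMap.lsmul R (LocCoh.H (maximalIdeal R) (i + 1) M') x) :=
        LinearMap.codRestrict _ (δ (I := maximalIdeal R) (smulSeq_shortExact hx) i) fun y => by
          exact (smulSeq_map_f (maximalIdeal R) x (i + 1) _).symm.trans
            ((exact₁ (I := maximalIdeal R) (smulSeq_shortExact hx) i _).2 ⟨y, rfl⟩)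
      exact @isArtinian_of_surjective R _ _ _ _ _ _ _ f (fun ⟨h, h0⟩ => by
        obtain ⟨y, hy⟩ := exists_preimage_of_smul_eq_zero _ hx i h h0
        exact ⟨y, Subtype.ext hy⟩) this

lemma withBot_eq_of_add_one_eq {a : WithBot ℕ∞} {m : ℕ}
    (h : a + 1 = ((m + 1 : ℕ) : WithBot ℕ∞)) : a = (m : WithBot ℕ∞) := by
  refine le_antisymm (ENat.WithBot.add_le_add_one_right_iff.1 ?_) (ENat.WithBot.add_le_add_one_right_iff.1 ?_) <;>
    simp [h]

omit [IsLocalRing R] in
lemma finite_of_exact {A B C : Type u} [AddCommGroup A] [Module R A] [AddCommGroup B] [Module R B]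
    [AddCommGroup C] [Module R C] [Module.Finite R A] [Module.Finite R C] (f : A →ₗ[R] B)
    (g : B →ₗ[R] C) (h : Function.Exact f g) : Module.Finite R B :=
  Module.finite_def.2 (Submodule.fg_of_fg_map_of_fg_inf_ker g (IsNoetherian.noetherian _) (by
    rw [top_inf_eq, h.linearMap_ker_eq]
    exact LinearMap.range_eq_map f ▸ Module.Finite.fg_top.map f))

lemma isPowerTorsion_of_supportDim_le_zero (M : Type u) [AddCommGroup M] [Module R M]
    [Module.Finite R M] (h : Module.supportDim R M ≤ 0) :
    LocCoh.IsPowerTorsion (maximalIdeal R) M := by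
  have hle : maximalIdeal R ≤ (Module.annihilator R M).radical := by
    intro a ha
    rw [Ideal.radical_eq_sInf, Submodule.mem_sInf]
    intro p hp12
    obtain ⟨hp1, hp2⟩ : Module.annihilator R M ≤ p ∧ Ideal.IsPrime p := hp12
    have : Ring.KrullDimLE 0 (R ⧸ Module.annihilator R M) :=
      Ring.krullDimLE_iff.2 ((Module.supportDim_eq_ringKrullDim_quotient_annihilator R M) ▸ h)
    have hq : (Ideal.map (Ideal.Quotient.mk (Module.annihilator R M)) p).IsPrime :=
      Ideal.map_isPrime_of_surjective Ideal.Quotient.mk_surjective (by rwa [Ideal.mk_ker])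
    have hm := hq.isMaximal'
    have hp' : Ideal.IsMaximal p := by
      have := Ideal.comap_isMaximal_of_surjective _ Ideal.Quotient.mk_surjective
        (K := Ideal.map (Ideal.Quotient.mk (Module.annihilator R M)) p)
      rwa [Ideal.comap_map_of_surjective _ Ideal.Quotient.mk_surjective, ← RingHom.ker_eq_comap_bot,
        Ideal.mk_ker, sup_eq_left.2 hp1] at this
    rw [IsLocalRing.eq_maximalIdeal hp']
    exact ha
  obtain ⟨n, hn⟩ := Ideal.exists_pow_le_of_le_radical_of_fg hle (IsNoetherian.noetherian _)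
  exact fun x => ⟨n, fun a ha => Module.mem_annihilator.1 (hn ha) x⟩

lemma supportDim_quotient_torsionSub (M : Type u) [AddCommGroup M] [Module R M] [Module.Finite R M]
    (n : ℕ) (hn : Module.supportDim R M = ((n + 1 : ℕ) : WithBot ℕ∞)) :
    Module.supportDim R (M ⧸ DRing.torsionSub (maximalIdeal R) M) = ((n + 1 : ℕ) : WithBot ℕ∞) := by
  let T := DRing.torsionSub (maximalIdeal R) M
  refine le_antisymm (hn ▸ Module.supportDim_le_of_surjective T.mkQ (Submodule.mkQ_surjective _)) ?_
  by_contra h
  have hlt := not_le.1 h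
  have hsupp : ∀ p ∈ Module.support R M, p ∈ Module.support R (M ⧸ T) ∨
      p.asIdeal = maximalIdeal R := by
    intro p hp
    rw [Module.support_of_exact (LinearMap.exact_subtype_mkQ T) T.injective_subtype
      T.mkQ_surjective] at hp
    refine hp.symm.imp id fun hp' => ?_
    obtain ⟨N, hN⟩ := exists_pow_smul_torsionSub (R := R) M
    have hle : maximalIdeal R ^ N ≤ p.asIdeal := fun a ha =>
      (Module.support_eq_zeroLocus (R := R) (M := T) ▸ hp') (Module.mem_annihilator.2 fun x =>
        Subtype.ext (hN a ha x x.2))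
    exact ((IsLocalRing.maximalIdeal.isMaximal R).eq_of_le p.2.ne_top
      (p.2.le_of_pow_le hle)).symm
  · rw [Module.supportDim] at hlt hn
    obtain ⟨l, hl⟩ : ∃ l : LTSeries (Module.support R M), l.length = n + 1 :=
      Order.le_krullDim_iff.1 hn.ge
    -- the chain below the top lies in the support of the quotient, as does its top or it is maximal
    have hmem : ∀ i : Fin (l.length + 1), i ≠ Fin.last _ → (l i).1 ∈ Module.support R (M ⧸ T) := by
      intro i hi
      refine (hsupp _ (l i).2).resolve_right fun e => ?_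
      have hlt' : (l i).1.asIdeal < (l (Fin.last _)).1.asIdeal :=
        l.strictMono (Fin.lt_last_iff_ne_last.2 hi)
      exact (IsLocalRing.maximalIdeal.isMaximal R).1.2 _ (e ▸ hlt') |>
        (l (Fin.last _)).1.2.ne_top
    have hne : (l 0).1 ∈ Module.support R (M ⧸ T) := hmem 0 (by simp [Fin.ext_iff, hl])
    have htop : (IsLocalRing.closedPoint R) ∈ Module.support R (M ⧸ T) :=
      Module.mem_support_mono (IsLocalRing.le_maximalIdeal (l 0).1.2.ne_top) hne
    refine hlt.not_ge ?_
    let f : Fin (l.length + 1) → Module.support R (M ⧸ T) := fun i =>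
      if h : i = Fin.last _ then ⟨IsLocalRing.closedPoint R, htop⟩ else ⟨(l i).1, hmem i h⟩
    have hf : StrictMono f := by
      intro i j hij
      have hi : i ≠ Fin.last _ := (hij.trans_le (Fin.le_last j)).ne
      show (f i).1 < (f j).1
      simp only [f, dif_neg hi]
      split
      · exact lt_of_lt_of_le (show (l i).1 < (l j).1 from l.strictMono hij)
          (IsLocalRing.le_maximalIdeal (l j).1.2.ne_top)
      · exact l.strictMono hij
    refine le_trans ?_ (Order.LTSeries.length_le_krullDim (LTSeries.mk l.length f hf))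
    exact le_of_eq (by simp [hl])

/-- Grothendieck's non-vanishing theorem, in its non-finiteness form. -/
theorem not_finite_H_maximalIdeal : ∀ (n : ℕ) (M : Type u) [AddCommGroup M] [Module R M]
    [Module.Finite R M], Module.supportDim R M = ((n + 1 : ℕ) : WithBot ℕ∞) →
    ¬ Module.Finite R (LocCoh.H (maximalIdeal R) (n + 1) M) := by
  intro n
  induction n using Nat.strong_induction_on with
  | _ n ih =>
  intro M _ _ _ hdim hfin
  let M' := M ⧸ DRing.torsionSub (maximalIdeal R) M
  have hdim' : Module.supportDim R M' = ((n + 1 : ℕ) : WithBot ℕ∞) :=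
    supportDim_quotient_torsionSub M n hdim
  have hfin' : Module.Finite R (LocCoh.H (maximalIdeal R) (n + 1) M') :=
    Module.Finite.equiv (quotTorsionEquiv (maximalIdeal R) M n)
  have hT' : DRing.torsionSub (maximalIdeal R) M' = ⊥ := torsionSub_quotient_torsionSub _ M
  have := isArtinian_H_maximalIdeal (R := R) (n + 1) M'
  obtain ⟨s, hs, havoid⟩ := @exists_finset_avoid R _ _ _ (LocCoh.H (maximalIdeal R) n M') _ _
    (isArtinian_H_maximalIdeal (R := R) n M')
  cases n with
  | succ n =>
    obtain ⟨x, hxm, hx, hxs⟩ := exists_regular_mem M' hT' s hs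
    have hq := havoid x hxs
    let N := M' ⧸ x • (⊤ : Submodule R M')
    have hdimN : Module.supportDim R N = ((n + 1 : ℕ) : WithBot ℕ∞) := by
      have h := Module.supportDim_quotSMulTop_succ_eq_supportDim hx hxm
      exact withBot_eq_of_add_one_eq (h.trans hdim')
    refine ih n (Nat.lt_succ_self n) N hdimN ?_
    have hS := smulSeq_shortExact hx
    let g : LocCoh.H (maximalIdeal R) (n + 1) M' →ₗ[R] LocCoh.H (maximalIdeal R) (n + 1) N :=
      ((localCohomology (maximalIdeal R) (n + 1)).map (smulSeq M' x).g).hom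
    have hker : x • (⊤ : Submodule R (LocCoh.H (maximalIdeal R) (n + 1) M')) ≤ LinearMap.ker g := by
      rintro _ ⟨y, _, rfl⟩
      refine LinearMap.mem_ker.2 ((exact₂ (I := maximalIdeal R) hS (n + 1) _).2 ⟨y, ?_⟩)
      exact smulSeq_map_f _ x _ y
    have hfinC : Module.Finite R (LocCoh.H (maximalIdeal R) (n + 1 + 1) M') := hfin'
    refine @finite_of_exact R _ _
      (LocCoh.H (maximalIdeal R) (n + 1) M' ⧸ x • (⊤ : Submodule R (LocCoh.H (maximalIdeal R) (n + 1) M')))
      (LocCoh.H (maximalIdeal R) (n + 1) N) (LocCoh.H (maximalIdeal R) (n + 1 + 1) M')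
      _ _ _ _ _ _ hq hfinC ((x • (⊤ : Submodule R _)).liftQ g hker)
      (δ (I := maximalIdeal R) hS (n + 1)) ?_
    intro y
    refine (exact₃ (I := maximalIdeal R) hS (n + 1) y).trans ?_
    constructor
    · rintro ⟨z, rfl⟩; exact ⟨Submodule.Quotient.mk z, rfl⟩
    · rintro ⟨z, rfl⟩
      obtain ⟨z, rfl⟩ := Submodule.Quotient.mk_surjective _ z
      exact ⟨z, rfl⟩
  | zero =>
    -- `H^1` is killed by a power of the maximal ideal
    obtain ⟨T, hT⟩ := (Module.Finite.fg_top : (⊤ : Submodule R
      (LocCoh.H (maximalIdeal R) 1 M')).FG)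
    classical
    have hk : ∀ h ∈ T, ∃ N : ℕ, ∀ a ∈ maximalIdeal R ^ N, a • h = 0 := fun h _ =>
      Groth.LocCohBase.exists_pow_smul_eq_zero 1 (ModuleCat.of R M') h
    choose! N hN using hk
    have hkill : ∀ a ∈ maximalIdeal R ^ (T.sup N + 1), ∀ h : LocCoh.H (maximalIdeal R) 1 M',
        a • h = 0 := by
      intro a ha h
      have hh : h ∈ Submodule.span R (T : Set _) := hT ▸ Submodule.mem_top
      induction hh using Submodule.span_induction with
      | mem z hz =>
        exact hN z hz a (Ideal.pow_le_pow_right ((Finset.le_sup hz).trans (Nat.le_succ _)) ha)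
      | zero => rw [smul_zero]
      | add p q _ _ hp hq => rw [smul_add, hp, hq, add_zero]
      | smul c p _ hp => rw [smul_comm, hp, smul_zero]
    obtain ⟨x₀, hx₀m, hx₀, -⟩ := exists_regular_mem M' hT' ∅ (by simp)
    let x := x₀ ^ (T.sup N + 1)
    have hxm : x ∈ maximalIdeal R := Ideal.pow_mem_of_mem _ hx₀m _ (Nat.succ_pos _)
    have hx : IsSMulRegular M' x := hx₀.pow _
    have hx2 : IsSMulRegular M' (x ^ 2) := hx.pow 2
    have hd : Module.supportDim R (M' ⧸ (x ^ 2) • (⊤ : Submodule R M')) ≤ 0 := by
      have h := Module.supportDim_quotSMulTop_succ_eq_supportDim hx2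
        (Ideal.pow_mem_of_mem _ hxm 2 (by norm_num))
      exact (withBot_eq_of_add_one_eq (h.trans hdim')).le.trans (by simp)
    have htor := isPowerTorsion_of_supportDim_le_zero _ hd
    have hS := smulSeq_shortExact hx2
    have h0 : Subsingleton (LocCoh.H (maximalIdeal R) 0 M') := by
      refine ⟨fun a b => h0Val_injective _ _ ?_⟩
      have ha := (range_h0Val (maximalIdeal R) (ModuleCat.of R M')).le ⟨a, rfl⟩
      have hb := (range_h0Val (maximalIdeal R) (ModuleCat.of R M')).le ⟨b, rfl⟩
      rw [hT', Submodule.mem_bot] at ha hb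
      rw [ha, hb]
    have hinj : Function.Injective (δ (I := maximalIdeal R) hS 0) := by
      refine (injective_iff_map_eq_zero _).2 fun y hy => ?_
      obtain ⟨z, rfl⟩ := (exact₃ (I := maximalIdeal R) hS 0 y).1 hy
      exact (congrArg _ (h0.elim z 0)).trans (map_zero _)
    -- `x` kills `M'/x²M'`
    have hxkill : ∀ m : M', x • m ∈ (x ^ 2) • (⊤ : Submodule R M') := by
      intro m
      rw [← Submodule.Quotient.mk_eq_zero]
      obtain ⟨y, hy⟩ := (range_h0Val (maximalIdeal R) (smulSeq M' (x ^ 2)).X₃).ge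
        (show Submodule.Quotient.mk m ∈ DRing.torsionSub (maximalIdeal R) _ from htor _)
      have : x • y = 0 := hinj (by
        rw [map_smul, map_zero]
        exact hkill _ (Ideal.pow_mem_pow hx₀m _) _)
      rw [Submodule.Quotient.mk_smul]
      exact (congrArg (x • ·) hy).symm.trans (((map_smul _ x y).symm.trans (congrArg _ this)).trans
        (map_zero (h0Val _ _)))
    have htop : (⊤ : Submodule R M') ≤ maximalIdeal R • ⊤ := by
      intro m _
      obtain ⟨w, -, hw⟩ := hxkill m
      have hw' : x ^ 2 • w = x • m := hw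
      rw [pow_two, mul_smul] at hw'
      rw [← hx hw']
      exact Submodule.smul_mem_smul hxm Submodule.mem_top
    have hbot := Submodule.eq_bot_of_le_smul_of_le_jacobson_bot _ _ Module.Finite.fg_top htop
      (IsLocalRing.maximalIdeal_le_jacobson _)
    have hnt : Nontrivial M' := by
      rw [← Module.supportDim_ne_bot_iff_nontrivial R, hdim']
      simp
    exact top_ne_bot hbot

/-- Grothendieck's non-vanishing theorem. -/
theorem nontrivial_H_maximalIdeal (M : Type u) [AddCommGroup M] [Module R M] [Module.Finite R M]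
    [Nontrivial M] (n : ℕ) (hn : Module.supportDim R M = (n : WithBot ℕ∞)) :
    Nontrivial (LocCoh.H (maximalIdeal R) n M) := by
  cases n with
  | zero =>
    have ht := isPowerTorsion_of_supportDim_le_zero M hn.le
    obtain ⟨m, hm⟩ := exists_ne (0 : M)
    obtain ⟨y, hy⟩ := (range_h0Val (maximalIdeal R) (ModuleCat.of R M)).ge
      (show m ∈ DRing.torsionSub (maximalIdeal R) M from ht m)
    exact ⟨y, 0, fun e => hm (by rw [← hy, e, map_zero])⟩
  | succ n =>
    refine not_subsingleton_iff_nontrivial.1 fun h => ?_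
    exact not_finite_H_maximalIdeal n M hn inferInstance

end Groth.LocCohTransform
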