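import Groth.Agent.LocCohTransform.HOne
import Groth.Agent.LocCohTransform.NonVanish
import Groth.Agent.LocCohTransform.BaseChange
import Mathlib.RingTheory.Ideal.Height

/-!
Exactness of the ideal transform.
-/

set_option autoImplicit false
universe u
open CategoryTheory CategoryTheory.Limits Opposite

namespace Groth.LocCohTransform

variable {R : Type u} [CommRing R] (I : Ideal R)

lemma toDT_natural {M N : Type u} [AddCommGroup M] [Module R M] [AddCommGroup N] [Module R N]
    (g : M →ₗ[R] N) (x : M) :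
    ((LocCoh.idealTransform I).map (ModuleCat.ofHom g)).hom (LocCoh.toDT I M x) =
      LocCoh.toDT I N (g x) := by
  rw [toDT_eq_cls, toDT_eq_cls I 0 (g x)]
  refine (map_fι (nIdeal I) (ModuleCat.ofHom g) _).trans (congrArg _ ?_)
  ext a
  exact map_smul g _ x

lemma idealTransform_mono_map {S : ShortComplex (ModuleCat.{u} R)} (hS : S.ShortExact) :
    Function.Injective ((homColim (nIdeal I)).map S.f).hom := by
  have : Mono S.f := hS.mono_f
  refine (injective_iff_map_eq_zero _).2 fun x hx => ?_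
  obtain ⟨n, f, rfl⟩ := fι_surjective (nIdeal I) x
  rw [map_fι] at hx
  obtain ⟨m, h, e⟩ := (fι_eq_zero_iff (nIdeal I) _).1 hx
  rw [← Category.assoc, ← zero_comp (f := S.f)] at e
  exact (fι_eq_zero_iff (nIdeal I) f).2 ⟨m, h, (cancel_mono S.f).1 e⟩

lemma idealTransform_exact_map {S : ShortComplex (ModuleCat.{u} R)} (hS : S.ShortExact) :
    Function.Exact ((homColim (nIdeal I)).map S.f).hom ((homColim (nIdeal I)).map S.g).hom := by
  intro x
  obtain ⟨n, f, rfl⟩ := fι_surjective (nIdeal I) x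
  constructor
  · intro hx
    rw [map_fι] at hx
    obtain ⟨m, h, e⟩ := (fι_eq_zero_iff (nIdeal I) _).1 hx
    rw [← Category.assoc] at e
    obtain ⟨l, hl⟩ := KernelFork.IsLimit.lift' hS.fIsKernel _ e
    refine ⟨fι (nIdeal I) m l, ?_⟩
    rw [map_fι, ← fι_tr (nIdeal I) h f]
    exact congrArg _ hl
  · rintro ⟨y, hy⟩
    obtain ⟨m, g, rfl⟩ := fι_surjective (nIdeal I) y
    rw [← hy, map_fι, map_fι, Category.assoc, S.zero, comp_zero, map_zero]

/-- Lifting along surjections after shrinking. -/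
def LiftsMaps : Prop :=
  ∀ (S : ShortComplex (ModuleCat.{u} R)), S.ShortExact →
    ∀ (n : ℕ) (f : (nIdeal I).obj (op n) ⟶ S.X₃), ∃ (m : ℕ) (h : n ≤ m)
      (l : (nIdeal I).obj (op m) ⟶ S.X₂), l ≫ S.g = tr (nIdeal I) h ≫ f

lemma exact_of_liftsMaps (h : LiftsMaps I) :
    PreservesFiniteLimits (LocCoh.idealTransform I) ∧
      PreservesFiniteColimits (LocCoh.idealTransform I) := by
  have hA : ((homColim (nIdeal I))).Additive := inferInstance
  refine ((Functor.exact_tfae (homColim (nIdeal I))).out 0 3).1 fun S hS => ?_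
  exact
    { exact := (ShortComplex.moduleCat_exact_iff _).2 fun x hx =>
        (idealTransform_exact_map I hS x).1 hx
      mono_f := (ModuleCat.mono_iff_injective _).2 (idealTransform_mono_map I hS)
      epi_g := (ModuleCat.epi_iff_surjective _).2 fun y => by
        obtain ⟨n, f, rfl⟩ := fι_surjective (nIdeal I) y
        obtain ⟨m, hm, l, hl⟩ := h S hS n f
        refine ⟨fι (nIdeal I) m l, ?_⟩
        show ((homColim (nIdeal I)).map S.g).hom (fι (nIdeal I) m l) = _
        rw [map_fι, hl, fι_tr] }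

lemma surjective_of_exact (hex : PreservesFiniteLimits (LocCoh.idealTransform I) ∧
      PreservesFiniteColimits (LocCoh.idealTransform I))
    {S : ShortComplex (ModuleCat.{u} R)} (hS : S.ShortExact) :
    Function.Surjective ((homColim (nIdeal I)).map S.g).hom := by
  have : PreservesFiniteLimits (homColim (nIdeal I)) := hex.1
  have : PreservesFiniteColimits (homColim (nIdeal I)) := hex.2
  exact (ModuleCat.epi_iff_surjective _).1 (hS.map_of_exact (homColim (nIdeal I))).epi_g

lemma liftsMaps_of_cdLE (hcd : LocCoh.CdLE R I 1) : LiftsMaps I := by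
  intro S hS n f
  let α := (Abelian.Ext.mk₀ f).comp hS.extClass (zero_add 1)
  have := hcd S.X₁ 2 (by norm_num)
  have h0 : eι (nQuot I) 2 n (connMap I (show 1 + 1 = 2 from rfl) n S.X₁ α) = 0 := by
    have hs : Subsingleton ((extColim (nQuot I) 2).obj S.X₁) :=
      ((lcIso I 2).app S.X₁).symm.toLinearEquiv.toEquiv.subsingleton
    exact hs.elim _ _
  obtain ⟨m, h, e⟩ := (eι_eq_zero_iff (nQuot I) _).1 h0
  have e' : (Abelian.Ext.mk₀ (tr (nIdeal I) h)).comp α (zero_add 1) = 0 :=
    (connMap_bijective I le_rfl (show 1 + 1 = 2 from rfl) m S.X₁).1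
      (((connMap_natural I (show 1 + 1 = 2 from rfl) h S.X₁ α).trans e).trans (map_zero _).symm)
  rw [← Abelian.Ext.comp_assoc _ _ _ (zero_add 0) (zero_add 1) (by omega),
    Abelian.Ext.mk₀_comp_mk₀] at e'
  obtain ⟨l, hl⟩ := Abelian.Ext.covariant_sequence_exact₃ _ hS _ (zero_add 1) e'
  obtain ⟨l, rfl⟩ := (Abelian.Ext.mk₀_bijective _ _).2 l
  rw [Abelian.Ext.mk₀_comp_mk₀] at hl
  exact ⟨m, h, l, (Abelian.Ext.mk₀_bijective _ _).1 hl⟩

lemma cdLE_of_exact [IsNoetherianRing R] (hex : PreservesFiniteLimits (LocCoh.idealTransform I) ∧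
      PreservesFiniteColimits (LocCoh.idealTransform I)) : LocCoh.CdLE R I 1 := by
  suffices ∀ (i : ℕ) (M : ModuleCat.{u} R), Subsingleton ((localCohomology I (i + 2)).obj M) from
    fun M _ _ i hi => by
      obtain ⟨k, rfl⟩ : ∃ k, i = k + 2 := ⟨i - 2, by omega⟩
      exact this k (ModuleCat.of R M)
  intro i
  induction i with
  | zero =>
    intro M
    let p := (EnoughInjectives.presentation M).some
    have hS := p.shortExact_shortComplex
    have hE := Groth.LocCohBase.subsingleton_succ_of_injective (I := I) 0 p.J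
    let S := p.shortComplex
    have hsurjE : Function.Surjective (LocCoh.toDT I (p.J : Type u)) := by
      obtain ⟨e⟩ := exists_coker_equiv I (p.J : Type u)
      have : Subsingleton (LocCoh.H I 1 (p.J : Type u)) := hE
      have := e.toEquiv.subsingleton
      rwa [Submodule.Quotient.subsingleton_iff, LinearMap.range_eq_top] at this
    have hsurjN : Function.Surjective (LocCoh.toDT I (S.X₃ : Type u)) := by
      intro y
      obtain ⟨e, rfl⟩ := surjective_of_exact I hex hS y
      obtain ⟨e', rfl⟩ := hsurjE e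
      exact ⟨S.g.hom e', (toDT_natural I S.g.hom e').symm⟩
    have hN : Subsingleton (LocCoh.H I 1 (S.X₃ : Type u)) := by
      obtain ⟨e⟩ := exists_coker_equiv I (S.X₃ : Type u)
      have : Subsingleton (LocCoh.DT I (S.X₃ : Type u) ⧸
          LinearMap.range (LocCoh.toDT I (S.X₃ : Type u))) := by
        rw [Submodule.Quotient.subsingleton_iff, LinearMap.range_eq_top]; exact hsurjN
      exact e.symm.toEquiv.subsingleton
    refine subsingleton_of_forall_eq 0 fun x => ?_
    obtain ⟨y, rfl⟩ := (Groth.LocCohBase.exact₁ (I := I) hS 1 x).1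
      ((Groth.LocCohBase.subsingleton_succ_of_injective (I := I) 1 p.J).elim _ _)
    exact (congrArg _ (hN.elim y 0)).trans (map_zero _)
  | succ i ih =>
    intro M
    let p := (EnoughInjectives.presentation M).some
    have hS := p.shortExact_shortComplex
    refine subsingleton_of_forall_eq 0 fun x => ?_
    obtain ⟨y, rfl⟩ := (Groth.LocCohBase.exact₁ (I := I) hS (i + 2) x).1
      ((Groth.LocCohBase.subsingleton_succ_of_injective (I := I) (i + 2) p.J).elim _ _)
    exact (congrArg _ ((ih _).elim y 0)).trans (map_zero _)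

theorem exact_iff_cdLE_one [IsNoetherianRing R] :
    (PreservesFiniteLimits (LocCoh.idealTransform I) ∧
      PreservesFiniteColimits (LocCoh.idealTransform I)) ↔ LocCoh.CdLE R I 1 :=
  ⟨cdLE_of_exact I, fun h => exact_of_liftsMaps I (liftsMaps_of_cdLE I h)⟩

lemma smul_top_DT_of_exact [IsNoetherianRing R]
    (hex : PreservesFiniteLimits (LocCoh.idealTransform I) ∧
      PreservesFiniteColimits (LocCoh.idealTransform I)) :
    I • (⊤ : Submodule R (LocCoh.DT I R)) = ⊤ := by
  obtain ⟨l, g, hg⟩ := Submodule.fg_iff_exists_fin_generating_family.1 (IsNoetherian.noetherian I)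
  let P : (Fin l → R) →ₗ[R] R := Fintype.linearCombination R g
  have hP : LinearMap.range P = I := by rw [← hg]; exact Fintype.range_linearCombination _ _
  let Q : (Fin l → R) →ₗ[R] I := P.codRestrict I fun x => hP.le ⟨x, rfl⟩
  have hQ : Function.Surjective Q := fun ⟨a, ha⟩ => by
    obtain ⟨x, hx⟩ := hP.ge ha
    exact ⟨x, Subtype.ext hx⟩
  let S₁ := ShortComplex.mk (ModuleCat.ofHom I.subtype) (ModuleCat.ofHom I.mkQ)
    (by ext x; exact (Submodule.Quotient.mk_eq_zero _).2 x.2)
  have hS₁ : S₁.ShortExact :=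
    { exact := (ShortComplex.moduleCat_exact_iff _).2 fun x hx =>
        ⟨⟨x, (Submodule.Quotient.mk_eq_zero _).1 hx⟩, rfl⟩
      mono_f := (ModuleCat.mono_iff_injective _).2 Subtype.val_injective
      epi_g := (ModuleCat.epi_iff_surjective _).2 (Submodule.mkQ_surjective _) }
  refine eq_top_iff.2 fun y _ => ?_
  have h0 : ((homColim (nIdeal I)).map S₁.g).hom y = 0 := by
    obtain ⟨n, f, rfl⟩ := fι_surjective (nIdeal I) y
    rw [map_fι]
    refine (fι_eq_zero_iff (nIdeal I) _).2 ⟨n + 1, Nat.le_succ n, ?_⟩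
    ext ⟨a, ha⟩
    show I.mkQ (f.hom ⟨a, _⟩) = 0
    rw [Submodule.mkQ_apply, Submodule.Quotient.mk_eq_zero]
    have ha' : a ∈ I * I ^ n := by rwa [← pow_succ']
    let f₀ : (I ^ n : Ideal R) →ₗ[R] R := f.hom
    suffices ∃ h : a ∈ I ^ n, f₀ ⟨a, h⟩ ∈ I from this.2
    refine Submodule.mul_induction_on ha' (fun b hb c hc => ?_) fun b c hb hc => ?_
    · refine ⟨(I ^ n).mul_mem_left b hc, ?_⟩
      show f₀ (b • (⟨c, hc⟩ : (I ^ n : Ideal R))) ∈ I
      rw [map_smul]
      exact I.mul_mem_right _ hb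
    · obtain ⟨hb, hb'⟩ := hb
      obtain ⟨hc, hc'⟩ := hc
      refine ⟨add_mem hb hc, ?_⟩
      show f₀ ((⟨b, hb⟩ : (I ^ n : Ideal R)) + ⟨c, hc⟩) ∈ I
      rw [map_add]
      exact add_mem hb' hc'
  obtain ⟨z, hz⟩ := (idealTransform_exact_map I hS₁ y).1 h0
  let S₂ := ShortComplex.mk (ModuleCat.ofHom (LinearMap.ker Q).subtype) (ModuleCat.ofHom Q)
    (by ext x; exact congrArg Subtype.val (LinearMap.mem_ker.1 x.2))
  have hS₂ : S₂.ShortExact :=
    { exact := (ShortComplex.moduleCat_exact_iff _).2 fun x hx => ⟨⟨x, hx⟩, rfl⟩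
      mono_f := (ModuleCat.mono_iff_injective _).2 Subtype.val_injective
      epi_g := (ModuleCat.epi_iff_surjective _).2 hQ }
  obtain ⟨w, rfl⟩ := surjective_of_exact I hex hS₂ z
  obtain ⟨n, f, rfl⟩ := fι_surjective (nIdeal I) w
  rw [map_fι, map_fι] at hz
  rw [← hz]
  have hsum : (f ≫ S₂.g) ≫ S₁.f =
      ∑ j, g j • (f ≫ ModuleCat.ofHom (LinearMap.proj j : (Fin l → R) →ₗ[R] R)) := by
    ext a
    rw [ModuleCat.hom_sum, LinearMap.sum_apply]
    show (P (f.hom a)) = _
    rw [Fintype.linearCombination_apply]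
    refine Finset.sum_congr rfl fun j _ => ?_
    show f.hom a j * g j = g j * f.hom a j
    rw [mul_comm]
  rw [hsum, map_sum]
  refine Submodule.sum_mem _ fun j _ => ?_
  rw [map_smul]
  exact Submodule.smul_mem_smul (hg.le (Submodule.subset_span ⟨j, rfl⟩)) Submodule.mem_top

lemma pow_smul_top_eq_top {N : Type u} [AddCommGroup N] [Module R N]
    (h : I • (⊤ : Submodule R N) = ⊤) : ∀ n : ℕ, I ^ n • (⊤ : Submodule R N) = ⊤ := by
  intro n
  induction n with
  | zero => rw [pow_zero, Ideal.one_eq_top, Submodule.top_smul]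
  | succ n ih => rw [pow_succ, Submodule.mul_smul, h, ih]

lemma liftsMaps_of_smul_top (h : I • (⊤ : Submodule R (LocCoh.DT I R)) = ⊤) : LiftsMaps I := by
  intro S hS n f
  have hsurj : Function.Surjective S.g.hom := (ModuleCat.epi_iff_surjective _).1 hS.epi_g
  let f' : (I ^ n : Ideal R) →ₗ[R] S.X₃ := f.hom
  let Good : LocCoh.DT I R → Prop := fun z => ∃ (m : ℕ) (_ : n ≤ m)
    (φ : (I ^ m : Ideal R) →ₗ[R] R) (hφ : ∀ a, φ a ∈ I ^ n) (l : (I ^ m : Ideal R) →ₗ[R] S.X₂),
      fι (nIdeal I) m (ModuleCat.ofHom φ) = z ∧ ∀ a, S.g.hom (l a) = f' ⟨φ a, hφ a⟩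
  have key : Good (LocCoh.toDT I R 1) := by
    refine Submodule.smul_induction_on (p := Good)
      ((pow_smul_top_eq_top I h n).ge (Submodule.mem_top : LocCoh.toDT I R 1 ∈ _))
      (fun c hc y _ => ?_) (fun y z hy hz => ?_)
    · obtain ⟨m, ψ, rfl⟩ := fι_surjective (nIdeal I) y
      rw [← fι_tr (nIdeal I) (le_max_right n m) ψ]
      let ψ' : (I ^ max n m : Ideal R) →ₗ[R] R := (tr (nIdeal I) (le_max_right n m) ≫ ψ).hom
      obtain ⟨e, he⟩ := hsurj (f' ⟨c, hc⟩)
      refine ⟨max n m, le_max_left _ _, c • ψ', fun a => (I ^ n).mul_mem_right _ hc,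
        ψ'.smulRight e, map_smul (fι (nIdeal I) (max n m)) c (tr (nIdeal I) (le_max_right n m) ≫ ψ),
        fun a => ?_⟩
      show S.g.hom (ψ' a • e) = _
      rw [map_smul, he, ← map_smul]
      exact congrArg f' (Subtype.ext (mul_comm _ _))
    · obtain ⟨m₁, h₁, φ₁, hφ₁, l₁, rfl, hl₁⟩ := hy
      obtain ⟨m₂, h₂, φ₂, hφ₂, l₂, rfl, hl₂⟩ := hz
      let t₁ : (I ^ max m₁ m₂ : Ideal R) →ₗ[R] (I ^ m₁ : Ideal R) :=
        (tr (nIdeal I) (le_max_left m₁ m₂)).hom
      let t₂ : (I ^ max m₁ m₂ : Ideal R) →ₗ[R] (I ^ m₂ : Ideal R) :=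
        (tr (nIdeal I) (le_max_right m₁ m₂)).hom
      refine ⟨max m₁ m₂, h₁.trans (le_max_left _ _), φ₁ ∘ₗ t₁ + φ₂ ∘ₗ t₂,
        fun a => add_mem (hφ₁ _) (hφ₂ _), l₁ ∘ₗ t₁ + l₂ ∘ₗ t₂, ?_, fun a => ?_⟩
      · rw [← fι_tr (nIdeal I) (le_max_left m₁ m₂) (ModuleCat.ofHom φ₁),
          ← fι_tr (nIdeal I) (le_max_right m₁ m₂) (ModuleCat.ofHom φ₂)]
        exact map_add (fι (nIdeal I) (max m₁ m₂)) (tr (nIdeal I) (le_max_left m₁ m₂) ≫ ModuleCat.ofHom φ₁)
          (tr (nIdeal I) (le_max_right m₁ m₂) ≫ ModuleCat.ofHom φ₂)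
      · show S.g.hom (l₁ (t₁ a) + l₂ (t₂ a)) = _
        rw [map_add, hl₁, hl₂, ← map_add]
        rfl
  obtain ⟨m, hm, φ, hφ, l, he, hl⟩ := key
  rw [toDT_eq_cls I m (1 : R)] at he
  have he' := sub_eq_zero.2 he
  erw [← map_sub] at he'
  obtain ⟨k, hk, e⟩ := (fι_eq_zero_iff (nIdeal I) _).1 he'
  refine ⟨k, hm.trans hk, tr (nIdeal I) hk ≫ ModuleCat.ofHom l, ModuleCat.hom_ext (LinearMap.ext ?_)⟩
  rintro ⟨a, ha⟩
  have ha' : a ∈ I ^ m := Ideal.pow_le_pow_right hk ha
  have h1 := LinearMap.congr_fun (congrArg ModuleCat.Hom.hom e) ⟨a, ha⟩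
  have h2 : φ ⟨a, ha'⟩ = a * 1 := sub_eq_zero.1 h1
  show S.g.hom (l ⟨a, ha'⟩) = f' ⟨a, Ideal.pow_le_pow_right hm ha'⟩
  rw [hl]
  exact congrArg f' (Subtype.ext (h2.trans (mul_one a)))

theorem exact_iff_smul_top [IsNoetherianRing R] :
    (PreservesFiniteLimits (LocCoh.idealTransform I) ∧
      PreservesFiniteColimits (LocCoh.idealTransform I)) ↔
        I • (⊤ : Submodule R (LocCoh.DT I R)) = ⊤ :=
  ⟨smul_top_DT_of_exact I, fun h => exact_of_liftsMaps I (liftsMaps_of_smul_top I h)⟩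

/-- Non-vanishing at a minimal prime. -/
theorem nontrivial_H_height [IsNoetherianRing R] {p : Ideal R} (hpI : p ∈ I.minimalPrimes) (h : ℕ)
    (hph : p.height = h) : Nontrivial (LocCoh.H I h R) := by
  have : p.IsPrime := hpI.1.1
  let A := Localization.AtPrime p
  have : IsNoetherianRing A := IsLocalization.isNoetherianRing p.primeCompl A inferInstance
  have : Module.Flat R A := IsLocalization.flat A p.primeCompl
  have hdim : Module.supportDim A A = (h : WithBot ℕ∞) := by
    rw [Module.supportDim_self_eq_ringKrullDim, IsLocalization.AtPrime.ringKrullDim_eq_height p A, hph]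
    rfl
  have hnt := nontrivial_H_maximalIdeal (R := A) A h hdim
  have hrad : (I.map (algebraMap R A)).radical = (IsLocalRing.maximalIdeal A).radical := by
    rw [IsLocalization.AtPrime.radical_map_of_mem_minimalPrimes A p I hpI,
      IsLocalization.AtPrime.map_eq_maximalIdeal p A,
      (IsLocalRing.maximalIdeal.isMaximal A).isPrime.radical]
  obtain ⟨e⟩ := nonempty_baseChange_equiv A I R h
  let e' := ((localCohomology (I.map (algebraMap R A)) h).mapIso
    (LinearEquiv.toModuleIso (TensorProduct.AlgebraTensorModule.rid R A A))).toLinearEquiv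
  let e'' := ((localCohomology.isoOfSameRadical hrad h).app (ModuleCat.of A A)).toLinearEquiv
  have hn : Nontrivial (TensorProduct R A (LocCoh.H I h R)) := (e.trans (e'.trans e'')).toEquiv.nontrivial
  by_contra hs
  rw [not_nontrivial_iff_subsingleton] at hs
  exact not_nontrivial_iff_subsingleton.2 inferInstance hn

theorem height_le_one_of_exact [IsNoetherianRing R]
    (hex : PreservesFiniteLimits (LocCoh.idealTransform I) ∧
      PreservesFiniteColimits (LocCoh.idealTransform I))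
    {p : Ideal R} (hp : p ∈ I.minimalPrimes) : p.height ≤ 1 := by
  have : p.IsPrime := hp.1.1
  obtain ⟨h, hh⟩ : ∃ h : ℕ, (h : ℕ∞) = p.height :=
    ENat.ne_top_iff_exists.1 (Ideal.height_ne_top (Ideal.IsPrime.ne_top ‹_›))
  by_contra hc
  rw [← hh, not_le] at hc
  have h1 : 1 < h := Nat.one_lt_cast.1 hc
  exact not_nontrivial_iff_subsingleton.2 (cdLE_of_exact I hex R h h1)
    (nontrivial_H_height I hp h hh.symm)

end Groth.LocCohTransform
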