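import Groth.Agent.LocCohTransform.ExtCechMap
import Groth.Agent.LocCohTransform.Degree0

/-!
The extended Čech complex: degree zero, bijective elements, injective modules.
-/

set_option autoImplicit false
universe u
open CategoryTheory CategoryTheory.Limits HomologicalComplex

namespace Groth.LocCohTransform

variable {R : Type u} [CommRing R]

/-- `M[0]`. -/
noncomputable abbrev single0 (M : ModuleCat.{u} R) : DRing.Cx R :=
  (HomologicalComplex.single (ModuleCat.{u} R) (ComplexShape.up ℤ) 0).obj M

/-- `H^0(extCech M fs) → M`. -/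
noncomputable def cechH0 (M : ModuleCat.{u} R) (fs : List R) :
    (DerCA.extCech M fs).homology 0 →ₗ[R] M :=
  (homologyMap (cechε M fs) 0 ≫ (singleObjHomologySelfIso (ComplexShape.up ℤ) 0 M).hom).hom

lemma cechH0_cons (M : ModuleCat.{u} R) (f : R) (fs : List R) :
    cechH0 M (f :: fs) = cechH0 M fs ∘ₗ cπ (DerCA.extCech M fs) f 0 := by
  show ((homologyMap (CochainComplex.mappingCocone.fst
      (DerCA.locCxUnit (Submonoid.powers f) (DerCA.extCech M fs)) ≫ cechε M fs) 0 ≫ _).hom : _) = _
  rw [homologyMap_comp, Category.assoc]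
  rfl

lemma cπ_zero_injective (M : ModuleCat.{u} R) (f : R) (fs : List R) :
    Function.Injective (cπ (DerCA.extCech M fs) f 0) := by
  refine (injective_iff_map_eq_zero _).2 fun x hx => ?_
  obtain ⟨z, rfl⟩ := (cδ_cπ_exact (DerCA.extCech M fs) f (-1) 0 (by omega) x).1 hx
  rw [(subsingleton_loc_homology f (-1)
    (subsingleton_extCech_homology M fs (-1) (Or.inl (by omega)))).elim z 0, map_zero]

lemma cechH0_injective (M : ModuleCat.{u} R) : ∀ fs : List R, Function.Injective (cechH0 M fs)
  | [] => by
    have h : cechH0 M [] = (singleObjHomologySelfIso (ComplexShape.up ℤ) 0 M).hom.hom := by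
      show ((homologyMap (𝟙 (single0 M)) 0 ≫ _).hom : _) = _
      rw [homologyMap_id, Category.id_comp]
    rw [h]
    exact (singleObjHomologySelfIso (ComplexShape.up ℤ) 0 M).toLinearEquiv.injective
  | f :: fs => by
    rw [cechH0_cons]
    exact (cechH0_injective M fs).comp (cπ_zero_injective M f fs)

lemma mem_range_cechH0_iff (M : ModuleCat.{u} R) : ∀ (fs : List R) (m : M),
    m ∈ LinearMap.range (cechH0 M fs) ↔ ∀ g ∈ fs, ∃ k : ℕ, g ^ k • m = 0
  | [], m => by
    have h : cechH0 M [] = (singleObjHomologySelfIso (ComplexShape.up ℤ) 0 M).hom.hom := by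
      show ((homologyMap (𝟙 (single0 M)) 0 ≫ _).hom : _) = _
      rw [homologyMap_id, Category.id_comp]
    rw [h]
    exact ⟨fun _ => by simp, fun _ => LinearMap.mem_range.2
      ((singleObjHomologySelfIso (ComplexShape.up ℤ) 0 M).toLinearEquiv.surjective m)⟩
  | f :: fs, m => by
    rw [cechH0_cons]
    constructor
    · rintro ⟨x, rfl⟩ g hg
      rcases List.mem_cons.1 hg with rfl | hg
      · obtain ⟨k, hk⟩ := (cloc_eq_zero_iff g 0 _).1 ((cπ_cloc_exact (DerCA.extCech M fs) g 0 _).2 ⟨x, rfl⟩)
        refine ⟨k, ?_⟩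
        show g ^ k • cechH0 M fs (cπ (DerCA.extCech M fs) g 0 x) = 0
        rw [← map_smul, hk, map_zero]
      · exact (mem_range_cechH0_iff M fs _).1 ⟨_, rfl⟩ g hg
    · intro h
      obtain ⟨y, rfl⟩ := (mem_range_cechH0_iff M fs m).2 fun g hg => h g (List.mem_cons_of_mem _ hg)
      obtain ⟨k, hk⟩ := h f (List.mem_cons_self ..)
      have hy : f ^ k • y = 0 := cechH0_injective M fs (by rw [map_smul, hk, map_zero])
      obtain ⟨x, hx⟩ := (cπ_cloc_exact (DerCA.extCech M fs) f 0 y).1
        ((cloc_eq_zero_iff f 0 y).2 ⟨k, hy⟩)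
      exact ⟨x, congrArg (cechH0 M fs) hx⟩

lemma fg_span_list (fs : List R) : (Ideal.span {x | x ∈ fs}).FG :=
  Submodule.fg_span (List.finite_toSet fs)

theorem range_cechH0 (M : ModuleCat.{u} R) (fs : List R) :
    LinearMap.range (cechH0 M fs) = DRing.torsionSub (Ideal.span {x | x ∈ fs}) M := by
  ext m
  rw [mem_range_cechH0_iff]
  constructor
  · intro h
    have hle : Ideal.span {x | x ∈ fs} ≤ Ideal.radical (LinearMap.ker (LinearMap.toSpanSingleton R M m) : Ideal R) :=
      Ideal.span_le.2 fun g hg => h g hg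
    obtain ⟨n, hn⟩ := Ideal.exists_pow_le_of_le_radical_of_fg hle (fg_span_list fs)
    exact ⟨n, fun a ha => hn ha⟩
  · rintro ⟨n, hn⟩ g hg
    exact ⟨n, hn (g ^ n) (Ideal.pow_mem_pow (Ideal.subset_span (show g ∈ {x | x ∈ fs} from hg)) n)⟩

theorem cechH0_natural {M N : ModuleCat.{u} R} (g : M ⟶ N) (fs : List R)
    (x : (DerCA.extCech M fs).homology 0) :
    cechH0 N fs ((homologyMap (cechMap fs g) 0).hom x) = g.hom (cechH0 M fs x) := by
  refine LinearMap.congr_fun (congrArg ModuleCat.Hom.hom
    (show homologyMap (cechMap fs g) 0 ≫ homologyMap (cechε N fs) 0 ≫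
        (singleObjHomologySelfIso (ComplexShape.up ℤ) 0 N).hom =
      (homologyMap (cechε M fs) 0 ≫ (singleObjHomologySelfIso (ComplexShape.up ℤ) 0 M).hom) ≫ g from
      ?_)) x
  rw [← Category.assoc, ← homologyMap_comp, cechε_natural, homologyMap_comp, Category.assoc,
    Category.assoc, singleObjHomologySelfIso_hom_naturality]

lemma homologyMap_smul_id (K : DRing.Cx R) (r : R) (q : ℤ) :
    homologyMap (r • 𝟙 K) q = r • 𝟙 (K.homology q) := by
  have hc : cyclesMap (r • 𝟙 K) q = r • 𝟙 (K.cycles q) := by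
    rw [← cancel_mono (K.iCycles q), cyclesMap_i]
    simp
  rw [← cancel_epi (K.homologyπ q), homologyπ_naturality, hc]
  simp

/-- An element acting bijectively on the module kills all the Čech cohomology it lies in. -/
theorem subsingleton_cech_of_bijective (M : ModuleCat.{u} R) (fs : List R) (f : R)
    (hf : f ∈ Ideal.span {a : R | a ∈ fs}) (hbij : Function.Bijective (fun m : M => f • m)) (q : ℤ) :
    Subsingleton ((DerCA.extCech M fs).homology q) := by
  let e : M ≅ M := (LinearEquiv.ofBijective (LinearMap.lsmul R M f) hbij).toModuleIso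
  have he : e.hom = f • 𝟙 M := by ext m; rfl
  let E : (DerCA.extCech M fs).homology q ≅ (DerCA.extCech M fs).homology q :=
    { hom := homologyMap (cechMap fs e.hom) q
      inv := homologyMap (cechMap fs e.inv) q
      hom_inv_id := by rw [← homologyMap_comp, ← cechMap_comp, e.hom_inv_id, cechMap_id, homologyMap_id]
      inv_hom_id := by rw [← homologyMap_comp, ← cechMap_comp, e.inv_hom_id, cechMap_id, homologyMap_id] }
  have hE : ∀ x, E.toLinearEquiv x = f • x := by
    intro x
    show (homologyMap (cechMap fs e.hom) q).hom x = f • x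
    rw [he, cechMap_smul, homologyMap_smul_id]
    rfl
  refine subsingleton_of_forall_eq 0 fun x => ?_
  obtain ⟨k, hk⟩ := extCech_isPowerTorsion M fs f hf q x
  induction k with
  | zero => rwa [pow_zero, one_smul] at hk
  | succ k ih =>
    apply ih
    apply E.toLinearEquiv.injective
    rw [hE, hE, ← mul_smul, ← pow_succ', hk, smul_zero]

variable [IsNoetherianRing R]

/-- Injective modules are acyclic for the extended Čech complex. -/
theorem subsingleton_cech_of_injective (E : ModuleCat.{u} R) [Module.Injective R E] :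
    ∀ (fs : List R) (q : ℤ), 1 ≤ q → Subsingleton ((DerCA.extCech E fs).homology q)
  | [], q, hq => subsingleton_extCech_homology E [] q (Or.inr (by simp; omega))
  | f :: fs, q, hq => by
    let K := DerCA.extCech E fs
    have ih := subsingleton_cech_of_injective E fs
    rcases lt_or_eq_of_le hq with h | rfl
    · exact subsingleton_cone_homology f q (ih q hq) (ih (q - 1) (by omega))
    refine subsingleton_of_forall_eq 0 fun x => ?_
    obtain ⟨z, rfl⟩ := (cδ_cπ_exact K f 0 1 (by omega) x).1 ((ih 1 le_rfl).elim _ _)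
    have hl := isLocalizedModule_homologyMap (Submonoid.powers f) K 0
    obtain ⟨k, w, hw⟩ := exists_pow_smul_eq_cloc f 0 z
    let T := DRing.torsionSub (Ideal.span {x | x ∈ fs}) E
    have : Module.Injective R T := injective_torsionSub _ E
    let wT : T := ⟨cechH0 E fs w, (range_cechH0 E fs).le ⟨w, rfl⟩⟩
    obtain ⟨m', n, hn⟩ := exists_pow_smul_sub_mem T f wT k
    obtain ⟨w', hw'⟩ := (range_cechH0 E fs).ge m'.2
    have hkill : f ^ n • (w - f ^ k • w') = 0 := by
      apply cechH0_injective E fs
      rw [map_smul, map_sub, map_smul, hw', map_zero]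
      exact congrArg Subtype.val (hn _ (by
        rw [Ideal.span_singleton_pow]; exact Ideal.mem_span_singleton_self _))
    refine (cloc_cδ_exact K f 0 1 (by omega) z).2 ⟨w', ?_⟩
    have h1 : cloc K f 0 (w - f ^ k • w') = 0 := (cloc_eq_zero_iff f 0 _).2 ⟨n, hkill⟩
    rw [map_sub, map_smul, sub_eq_zero] at h1
    refine IsLocalizedModule.smul_injective (cloc K f 0)
      (⟨f ^ k, k, rfl⟩ : Submonoid.powers f) ?_
    show f ^ k • cloc K f 0 w' = f ^ k • z
    rw [hw, h1]

end Groth.LocCohTransform
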