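import Groth.Agent.LocCohTransform.RgammaCompute
import Groth.Agent.FlatCxBase.BoundedFlat
import Groth.Prelude.Def_Wider

/-!
The derived torsion functor over Noetherian rings: idempotence and universal property.
-/

set_option autoImplicit false
set_option linter.style.haveILetI false
set_option linter.unusedSectionVars false

universe u

open CategoryTheory CategoryTheory.Limits

attribute [local instance] HasDerivedCategory.standard

namespace Groth.LocCohTransform.RgammaTorsion

open RgammaCompute

variable {A : Type u} [CommRing A] (I : Ideal A)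

theorem isPowerTorsion_of_linearEquiv {M N : Type*} [AddCommGroup M] [Module A M] [AddCommGroup N] [Module A N]
    (e : M ≃ₗ[A] N) (h : LocCoh.IsPowerTorsion I M) : LocCoh.IsPowerTorsion I N := fun y => by
  obtain ⟨k, hk⟩ := h (e.symm y)
  exact ⟨k, fun a ha => e.symm.injective (by rw [map_smul, map_zero]; exact hk a ha)⟩

/-- The cohomology of a complex, in the derived category. -/
noncomputable def hdEquiv (J : CochainComplex (ModuleCat.{u} A) ℤ) (i : ℤ) :
    Dual.HD A (DerivedCategory.Q.obj J) i ≃ₗ[A] J.homology i :=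
  ((DerivedCategory.homologyFunctorFactors (ModuleCat.{u} A) i).app J).toLinearEquiv

theorem isPowerTorsion_homology_of_iso {J : CochainComplex (ModuleCat.{u} A) ℤ} {K : Dual.D A}
    (e : DerivedCategory.Q.obj J ≅ K) (h : ∀ i, LocCoh.IsPowerTorsion I (Dual.HD A K i)) (i : ℤ) :
    LocCoh.IsPowerTorsion I (J.homology i) :=
  isPowerTorsion_of_linearEquiv I
    ((((DerivedCategory.homologyFunctor (ModuleCat.{u} A) i).mapIso e).toLinearEquiv).symm.trans (hdEquiv J i)) (h i)

variable [DRing.HasRgammaI I]

/-- `RΓ_I` has torsion cohomology. -/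
theorem isPowerTorsion_rgamma (K : Dual.D A) (i : ℤ) :
    LocCoh.IsPowerTorsion I (Dual.HD A ((DRing.RgammaI I).obj K) i) := by
  obtain ⟨J, hJ, -, ⟨e⟩⟩ := exists_iso K
  haveI := hJ
  exact isPowerTorsion_of_linearEquiv I
    ((((DerivedCategory.homologyFunctor (ModuleCat.{u} A) i).mapIso
      ((rgammaIso I J).symm ≪≫ (DRing.RgammaI I).mapIso e)).toLinearEquiv).symm.trans
        (hdEquiv ((gam I).obj J) i)).symm (isPowerTorsion_homology I J i)

section Noetherian

variable [IsNoetherianRing A]

omit [DRing.HasRgammaI I] in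
theorem moduleInjective_X (C : CochainComplex (ModuleCat.{u} A) ℤ) (h : ∀ n, Injective (C.X n)) (n : ℤ) :
    Module.Injective A (C.X n) :=
  haveI := h n
  Module.injective_module_of_injective_object A (C.X n)

theorem isIso_ε (K : Dual.D A) (hK : ∀ i, LocCoh.IsPowerTorsion I (Dual.HD A K i)) :
    IsIso ((DRing.RgammaIε I).app K) := by
  obtain ⟨J, hJ, hinj, ⟨e⟩⟩ := exists_iso K
  haveI := hJ
  haveI := quasiIso_incl I J (moduleInjective_X J hinj) (isPowerTorsion_homology_of_iso I e hK)
  haveI := (DerivedCategory.isIso_Q_map_iff_quasiIso (C := ModuleCat.{u} A) (incl I J)).2 inferInstance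
  haveI : IsIso ((DRing.RgammaIε I).app (DerivedCategory.Q.obj J)) := by
    rw [rgammaε_app]; infer_instance
  exact (NatTrans.isIso_app_iff_of_iso (DRing.RgammaIε I) e).1 inferInstance

omit [DRing.HasRgammaI I] in
theorem injective_gam (C : CochainComplex (ModuleCat.{u} A) ℤ) (h : ∀ n, Injective (C.X n)) (n : ℤ) :
    Injective (((gam I).obj C).X n) := by
  haveI := moduleInjective_X C h n
  haveI : Module.Injective A (DRing.torsionSub I (C.X n)) := Groth.LocCohBase.injective_torsionSub I (C.X n)
  exact Module.injective_object_of_injective_module A (DRing.torsionSub I (C.X n))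

omit [DRing.HasRgammaI I] in
/-- `Γ_I` preserves quasi-isomorphisms between complexes of injectives. -/
theorem quasiIso_gam_map {C L : CochainComplex (ModuleCat.{u} A) ℤ} (φ : C ⟶ L) [QuasiIso φ]
    (hC : ∀ n, Injective (C.X n)) (hL : ∀ n, Injective (L.X n)) : QuasiIso ((gam I).map φ) := by
  have hac := (Groth.FlatCxBase.quasiIso_iff_cone_acyclic φ).1 inferInstance
  rw [Groth.FlatCxBase.quasiIso_iff_cone_acyclic]
  set T := CochainComplex.mappingCone φ
  have hT : ∀ n, Injective (T.X n) := fun n => by
    haveI := hC (n + 1)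
    haveI := hL n
    exact Injective.of_iso (HomologicalComplex.homotopyCofiber.XIsoBiprod φ n (n + 1) rfl).symm inferInstance
  have ht : ∀ i, LocCoh.IsPowerTorsion I (T.homology i) := fun i x => ⟨0, fun a _ => by
    haveI := ModuleCat.subsingleton_of_isZero ((T.exactAt_iff_isZero_homology i).1 (hac i))
    exact Subsingleton.elim _ _⟩
  haveI := quasiIso_incl I T (moduleInjective_X T hT) ht
  intro i
  refine HomologicalComplex.ExactAt.of_iso ?_ (CochainComplex.mappingCone.mapHomologicalComplexIso φ (DRing.gammaI I))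
  rw [HomologicalComplex.exactAt_iff_isZero_homology]
  exact ((T.exactAt_iff_isZero_homology i).1 (hac i)).of_iso
    (asIso (HomologicalComplex.homologyMap (incl I T) i))

/-- `RΓ_I` of any complex of injectives. -/
theorem nonempty_rgammaIso (C : CochainComplex (ModuleCat.{u} A) ℤ) (hC : ∀ n, Injective (C.X n)) :
    Nonempty ((DRing.RgammaI I).obj (DerivedCategory.Q.obj C) ≅ DerivedCategory.Q.obj ((gam I).obj C)) := by
  obtain ⟨L, i, hi, hL, hinj⟩ := exists_resolution C
  haveI := hL
  haveI := hi
  haveI := quasiIso_gam_map I i hC hinj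
  haveI := (DerivedCategory.isIso_Q_map_iff_quasiIso (C := ModuleCat.{u} A) i).2 hi
  haveI := (DerivedCategory.isIso_Q_map_iff_quasiIso (C := ModuleCat.{u} A) ((gam I).map i)).2 inferInstance
  exact ⟨(DRing.RgammaI I).mapIso (asIso (DerivedCategory.Q.map i)) ≪≫ rgammaIso I L ≪≫
    (asIso (DerivedCategory.Q.map ((gam I).map i))).symm⟩

theorem isIso_map_ε (K : Dual.D A) : IsIso ((DRing.RgammaI I).map ((DRing.RgammaIε I).app K)) := by
  haveI := isIso_ε I _ (isPowerTorsion_rgamma I K)
  obtain ⟨J, hJ, hinj, ⟨e⟩⟩ := exists_iso K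
  haveI := hJ
  suffices IsIso ((DRing.RgammaI I).map ((DRing.RgammaIε I).app (DerivedCategory.Q.obj J))) by
    exact (NatTrans.isIso_app_iff_of_iso (Functor.whiskerRight (DRing.RgammaIε I) (DRing.RgammaI I)) e).1 this
  rw [rgammaε_app, Functor.map_comp]
  suffices IsIso ((DRing.RgammaI I).map (DerivedCategory.Q.map (incl I J))) by infer_instance
  obtain ⟨L, i, hi, hL, hLinj⟩ := exists_resolution ((gam I).obj J)
  haveI := hL
  haveI := hi
  haveI := (DerivedCategory.isIso_Q_map_iff_quasiIso (C := ModuleCat.{u} A) i).2 hi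
  haveI := quasiIso_incl I L (moduleInjective_X L hLinj)
    (isPowerTorsion_homology_of_iso I (asIso (DerivedCategory.Q.map i)).symm
      (fun n => isPowerTorsion_of_linearEquiv I (hdEquiv ((gam I).obj J) n).symm (isPowerTorsion_homology I J n)))
  obtain ⟨g, hg⟩ := (CochainComplex.IsKInjective.Qh_map_bijective
    ((HomotopyCategory.quotient (ModuleCat.{u} A) (ComplexShape.up ℤ)).obj L) J).2
      ((DerivedCategory.quotientCompQhIso (ModuleCat.{u} A)).hom.app L ≫
        inv (DerivedCategory.Q.map i) ≫ DerivedCategory.Q.map (incl I J) ≫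
        (DerivedCategory.quotientCompQhIso (ModuleCat.{u} A)).inv.app J)
  obtain ⟨g, rfl⟩ := (HomotopyCategory.quotient (ModuleCat.{u} A) (ComplexShape.up ℤ)).map_surjective g
  have hg' : DerivedCategory.Q.map i ≫ DerivedCategory.Q.map g = DerivedCategory.Q.map (incl I J) := by
    have h := congrArg (fun t => (DerivedCategory.quotientCompQhIso (ModuleCat.{u} A)).inv.app L ≫ t ≫
      (DerivedCategory.quotientCompQhIso (ModuleCat.{u} A)).hom.app J) hg
    simp only [Category.assoc, Iso.inv_hom_id_app_assoc, Iso.inv_hom_id_app, Category.comp_id] at h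
    rw [DerivedCategory.quotientCompQhIso_hom_naturality, Iso.inv_hom_id_app_assoc] at h
    rw [h, IsIso.hom_inv_id_assoc]
  have hh : DerivedCategory.Qh.map ((HomotopyCategory.quotient _ _).map (i ≫ g)) =
      DerivedCategory.Qh.map ((HomotopyCategory.quotient _ _).map (incl I J)) := by
    rw [← cancel_mono ((DerivedCategory.quotientCompQhIso (ModuleCat.{u} A)).hom.app J)]
    erw [DerivedCategory.quotientCompQhIso_hom_naturality]
    rw [Functor.map_comp DerivedCategory.Q, hg']
    exact (DerivedCategory.quotientCompQhIso_hom_naturality (incl I J)).symm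
  have hhom := HomotopyCategory.homotopyOfEq _ _ ((CochainComplex.IsKInjective.Qh_map_bijective
    ((HomotopyCategory.quotient (ModuleCat.{u} A) (ComplexShape.up ℤ)).obj ((gam I).obj J)) J).1 hh)
  haveI : IsIso ((gam I).map (incl I J)) := by
    haveI : ∀ n, IsIso (((gam I).map (incl I J)).f n) := fun n => by
      refine (ConcreteCategory.isIso_iff_bijective _).2 ⟨fun x y h => by
          apply Subtype.ext
          apply Subtype.ext
          exact congrArg (fun t : DRing.torsionSub I (J.X n) => (t.1 : J.X n)) h,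
        fun x => ?_⟩
      obtain ⟨k, hk⟩ := x.2
      exact ⟨⟨x, k, fun a ha => Subtype.ext (hk a ha)⟩, rfl⟩
    exact HomologicalComplex.Hom.isIso_of_components _
  haveI : QuasiIso ((gam I).map (i ≫ g)) := ⟨fun n => by
    rw [quasiIsoAt_iff_isIso_homologyMap, ((DRing.gammaI I).mapHomotopy hhom).homologyMap_eq n]
    infer_instance⟩
  haveI : QuasiIso ((gam I).map i) := quasiIso_gam_map I i (injective_gam I J hinj) hLinj
  haveI : QuasiIso ((gam I).map g) := by
    refine (quasiIso_iff_comp_left ((gam I).map i) _).1 ?_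
    rw [← Functor.map_comp]; infer_instance
  haveI := (DerivedCategory.isIso_Q_map_iff_quasiIso (C := ModuleCat.{u} A) ((gam I).map g)).2 inferInstance
  rw [← hg', Functor.map_comp]
  haveI : IsIso ((DRing.RgammaI I).map (DerivedCategory.Q.map g)) := by
    have h1 : IsIso ((DRing.RgammaI I).map (DerivedCategory.Qh.map ((HomotopyCategory.quotient _ _).map g))) := by
      haveI := isIso_unit I L
      haveI := isIso_unit I J
      set η := ((DRing.gammaIKh I).totalRightDerivedUnit DerivedCategory.Qh
        (HomotopyCategory.quasiIso (ModuleCat.{u} A) (ComplexShape.up ℤ)))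
      have hn : (DRing.gammaIKh I).map ((HomotopyCategory.quotient _ _).map g) ≫
          η.app ((HomotopyCategory.quotient _ _).obj J) =
          η.app ((HomotopyCategory.quotient _ _).obj L) ≫
            (DRing.RgammaI I).map (DerivedCategory.Qh.map ((HomotopyCategory.quotient _ _).map g)) :=
        η.naturality _
      rw [← (IsIso.inv_comp_eq _).2 hn]
      haveI : IsIso ((DRing.gammaIKh I).map ((HomotopyCategory.quotient _ _).map g)) :=
        (NatIso.isIso_map_iff (Functor.isoWhiskerRight ((DRing.gammaI I).mapHomotopyCategoryFactors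
          (ComplexShape.up ℤ)) DerivedCategory.Qh ≪≫ Functor.associator _ _ _ ≪≫
          Functor.isoWhiskerLeft _ (DerivedCategory.quotientCompQhIso (ModuleCat.{u} A))) g).2
            (show IsIso (DerivedCategory.Q.map ((gam I).map g)) from inferInstance)
      infer_instance
    exact (NatIso.isIso_map_iff (Functor.isoWhiskerRight (DerivedCategory.quotientCompQhIso (ModuleCat.{u} A))
      (DRing.RgammaI I)) g).1 h1
  infer_instance

/-- Morphisms from a torsion object factor uniquely through `RΓ_I`. -/
theorem comp_ε_bijective (L K : Dual.D A) (hL : ∀ i, LocCoh.IsPowerTorsion I (Dual.HD A L i)) :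
    Function.Bijective fun g : L ⟶ (DRing.RgammaI I).obj K => g ≫ (DRing.RgammaIε I).app K := by
  haveI := isIso_ε I L hL
  haveI := isIso_map_ε I K
  haveI := isIso_ε I _ (isPowerTorsion_rgamma I K)
  constructor
  · intro g g' h
    have h1 := congrArg (DRing.RgammaI I).map h
    simp only [Functor.map_comp, cancel_mono] at h1
    have n1 := (DRing.RgammaIε I).naturality g
    have n2 := (DRing.RgammaIε I).naturality g'
    rw [h1, n2] at n1
    simp only [Functor.id_map] at n1
    exact ((cancel_epi _).1 n1).symm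
  · intro h
    refine ⟨inv ((DRing.RgammaIε I).app L) ≫ (DRing.RgammaI I).map h, ?_⟩
    show (inv ((DRing.RgammaIε I).app L) ≫ (DRing.RgammaI I).map h) ≫ (DRing.RgammaIε I).app K = h
    rw [Category.assoc, IsIso.inv_comp_eq]
    exact (DRing.RgammaIε I).naturality h

omit [DRing.HasRgammaI I] in
/-- Iterated torsion. -/
noncomputable def gamGamIso (J : Ideal A) (C : CochainComplex (ModuleCat.{u} A) ℤ) :
    (gam J).obj ((gam I).obj C) ≅ (gam (I ⊔ J)).obj C :=
  HomologicalComplex.Hom.isoOfComponents (fun n => LinearEquiv.toModuleIso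
    { toFun := fun x => ⟨x.1.1, by
        obtain ⟨k, hk⟩ := x.1.2
        obtain ⟨l, hl⟩ := x.2
        refine ⟨k + l, fun a ha => ?_⟩
        obtain ⟨b, hb, c, hc, rfl⟩ := Submodule.mem_sup.1
          ((Ideal.sup_pow_add_le_pow_sup_pow : (I ⊔ J) ^ (k + l) ≤ I ^ k ⊔ J ^ l) ha)
        rw [add_smul, hk b hb, show c • x.1.1 = 0 from congrArg Subtype.val (hl c hc), add_zero]⟩
      invFun := fun x => ⟨⟨x.1, by
        obtain ⟨k, hk⟩ := x.2
        exact ⟨k, fun a ha => hk a (Ideal.pow_right_mono le_sup_left k ha)⟩⟩, by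
        obtain ⟨k, hk⟩ := x.2
        exact ⟨k, fun a ha => Subtype.ext (hk a (Ideal.pow_right_mono le_sup_right k ha))⟩⟩
      map_add' := fun _ _ => rfl
      map_smul' := fun _ _ => rfl
      left_inv := fun _ => rfl
      right_inv := fun _ => rfl })
    (fun _ _ _ => rfl)

theorem nonempty_comp_iso (J : Ideal A) [DRing.HasRgammaI J] [DRing.HasRgammaI (I ⊔ J)] (K : Dual.D A) :
    Nonempty ((DRing.RgammaI J).obj ((DRing.RgammaI I).obj K) ≅ (DRing.RgammaI (I ⊔ J)).obj K) := by
  obtain ⟨C, hC, hinj, ⟨e⟩⟩ := exists_iso K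
  haveI := hC
  obtain ⟨e'⟩ := nonempty_rgammaIso J ((gam I).obj C) (injective_gam I C hinj)
  exact ⟨(DRing.RgammaI J).mapIso ((DRing.RgammaI I).mapIso e.symm ≪≫ rgammaIso I C) ≪≫ e' ≪≫
    DerivedCategory.Q.mapIso (gamGamIso I J C) ≪≫ (rgammaIso (I ⊔ J) C).symm ≪≫
    (DRing.RgammaI (I ⊔ J)).mapIso e⟩

end Noetherian

end Groth.LocCohTransform.RgammaTorsion
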