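import Groth.Agent.LocCohTransform.CompletionFunctor
import Groth.Agent.LocCohTransform.RgammaTorsion
import Groth.Agent.LocCohTransform.ExtCech
import Groth.Agent.LocCohBase.Comparison
import Mathlib.Algebra.Homology.DerivedCategory.Linear
import Mathlib.Algebra.Homology.DerivedCategory.ShortExact

/-!
Greenlees–May over a Noetherian ring.
-/

set_option autoImplicit false
set_option linter.style.haveILetI false
set_option linter.unusedSectionVars false

universe u

open CategoryTheory CategoryTheory.Limits CategoryTheory.Pretriangulated HomologicalComplex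

attribute [local instance] HasDerivedCategory.standard

namespace Groth.LocCohTransform.GreenleesMay

open RgammaCompute RgammaTorsion CompletionFunctor

variable {A : Type u} [CommRing A] [IsNoetherianRing A] (I : Ideal A) [DRing.HasDerivedCompletion I]

theorem torsion_span_le {f : A} {M : Type u} [AddCommGroup M] [Module A M] {x : M} {k : ℕ}
    (h : f ^ k • x = 0) : x ∈ DRing.torsionSub (Ideal.span {f}) M :=
  ⟨k, fun a ha => by
    rw [Ideal.span_singleton_pow, Ideal.mem_span_singleton'] at ha
    obtain ⟨c, rfl⟩ := ha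
    rw [mul_smul, h, smul_zero]⟩

/-- Removing `f`-torsion does not change the completion, `f ∈ I`. -/
theorem isIso_incl_singleton {f : A} (hf : f ∈ I) (C : DRing.Cx A) (hC : ∀ n, Injective (C.X n)) :
    IsIso ((comp I).map (DerivedCategory.Q.map (incl (Ideal.span {f}) C))) := by
  let L := (DerCA.locCx (Submonoid.powers f)).obj C
  have hzero : ∀ n, (incl (Ideal.span {f}) C).f n ≫ (DerCA.locCxUnit (Submonoid.powers f) C).f n = 0 := fun n => by
        ext ⟨x, k, hk⟩
        show LocalizedModule.mkLinearMap (Submonoid.powers f) (C.X n) x = 0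
        exact (IsLocalizedModule.eq_zero_iff (Submonoid.powers f)
          (LocalizedModule.mkLinearMap (Submonoid.powers f) (C.X n))).2
          ⟨⟨f ^ k, k, rfl⟩, hk _ (Ideal.pow_mem_pow (Ideal.mem_span_singleton_self f) k)⟩
  have hS : ∀ n, (ShortComplex.mk ((incl (Ideal.span {f}) C).f n) ((DerCA.locCxUnit (Submonoid.powers f) C).f n)
      (hzero n)).ShortExact := by
    intro n
    have := hC n
    have : Module.Injective A (C.X n) := Module.injective_module_of_injective_object A (C.X n)
    exact
      { exact := (ShortComplex.moduleCat_exact_iff _).2 fun x hx => by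
          obtain ⟨⟨_, k, rfl⟩, hk⟩ := (IsLocalizedModule.eq_zero_iff (Submonoid.powers f)
            (LocalizedModule.mkLinearMap (Submonoid.powers f) (C.X n))).1 hx
          exact ⟨(⟨x, torsion_span_le hk⟩ : DRing.torsionSub (Ideal.span {f}) (C.X n)), rfl⟩
        mono_f := (ModuleCat.mono_iff_injective _).2 fun a b h => Subtype.ext h
        epi_g := (ModuleCat.epi_iff_surjective _).2 fun z => by
          obtain ⟨e, -, he⟩ := Groth.LocCohBase.exists_torsion_lift (C.X n) (Submonoid.powers f) (⊥ : Ideal A) z
            (fun a ha => by rw [(Submodule.mem_bot A).1 ha, zero_smul])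
          exact ⟨e, he⟩ }
  let T : ShortComplex (DRing.Cx A) := ShortComplex.mk (incl (Ideal.span {f}) C) (DerCA.locCxUnit (Submonoid.powers f) C)
    (HomologicalComplex.hom_ext _ _ hzero)
  have hT : T.ShortExact := HomologicalComplex.shortExact_of_degreewise_shortExact T hS
  have hd := (comp I).map_distinguished _ (DerivedCategory.triangleOfSES_distinguished hT)
  have h3 : IsZero ((comp I).obj (DRing.toD L)) := isZero_of_bijective_smul I hf fun i =>
    (Module.End.isUnit_iff _).1 (IsLocalizedModule.map_units (S := Submonoid.powers f)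
      (LocalizedModule.mkLinearMap (Submonoid.powers f) (C.X i)) ⟨f, Submonoid.mem_powers f⟩)
  exact (Triangle.isZero₃_iff_isIso₁ _ hd).1 h3

omit [IsNoetherianRing A] [DRing.HasDerivedCompletion I] in
theorem gamGamIso_comp_incl (I₁ J : Ideal A) (C : DRing.Cx A) :
    (gamGamIso I₁ J C).hom ≫ incl (I₁ ⊔ J) C = incl J ((gam I₁).obj C) ≫ incl I₁ C :=
  HomologicalComplex.hom_ext _ _ fun n => ModuleCat.hom_ext (LinearMap.ext fun x => rfl)

/-- `RΓ_I → id` becomes invertible after completion: complexes of injectives. -/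
theorem isIso_incl (fs : List A) : (∀ g ∈ fs, g ∈ I) → ∀ (C : DRing.Cx A), (∀ n, Injective (C.X n)) →
    IsIso ((comp I).map (DerivedCategory.Q.map (incl (Ideal.span {x | x ∈ fs}) C))) := by
  induction fs with
  | nil =>
    intro _ C _
    have : ∀ n, IsIso ((incl (Ideal.span {x | x ∈ ([] : List A)}) C).f n) := fun n => by
      refine (ConcreteCategory.isIso_iff_bijective _).2 ⟨fun a b h => Subtype.ext h, fun x => ?_⟩
      refine ⟨(⟨x, 1, fun a ha => ?_⟩ : DRing.torsionSub _ (C.X n)), rfl⟩
      have h0 : a = 0 := by simpa using ha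
      rw [h0, zero_smul]
    have := HomologicalComplex.Hom.isIso_of_components (incl (Ideal.span {x | x ∈ ([] : List A)}) C)
    infer_instance
  | cons f fs ih =>
    intro hfs C hC
    let I₁ := Ideal.span {x | x ∈ fs}
    have hsup : Ideal.span {x | x ∈ f :: fs} = I₁ ⊔ Ideal.span {f} := by
      rw [← Ideal.span_union]; congr 1; ext x; simp [or_comm]
    rw [hsup]
    have h1 : IsIso ((comp I).map (DerivedCategory.Q.map (incl I₁ C))) :=
      ih (fun g hg => hfs g (List.mem_cons_of_mem _ hg)) C hC
    have h2 : IsIso ((comp I).map (DerivedCategory.Q.map (incl (Ideal.span {f}) ((gam I₁).obj C)))) :=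
      isIso_incl_singleton I (hfs f (List.mem_cons_self ..)) _ (injective_gam I₁ C hC)
    have e : incl (I₁ ⊔ Ideal.span {f}) C =
        (gamGamIso I₁ (Ideal.span {f}) C).inv ≫ incl (Ideal.span {f}) ((gam I₁).obj C) ≫ incl I₁ C := by
      rw [← gamGamIso_comp_incl, Iso.inv_hom_id_assoc]
    rw [e, Functor.map_comp, Functor.map_comp, Functor.map_comp, Functor.map_comp]
    infer_instance

variable [DRing.HasRgammaI I]

theorem isIso_map_ε (K : Dual.D A) : IsIso ((comp I).map ((DRing.RgammaIε I).app K)) := by
  obtain ⟨J, hJ, hinj, ⟨e⟩⟩ := exists_iso K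
  haveI := hJ
  obtain ⟨s, hs⟩ := (IsNoetherian.noetherian I : I.FG)
  have hI : Ideal.span {x | x ∈ s.toList} = I := by
    conv_rhs => rw [← hs]
    simp only [Finset.mem_toList]; rfl
  have h := isIso_incl I s.toList (fun g hg => hI ▸ Ideal.subset_span hg) J hinj
  rw [hI] at h
  suffices IsIso ((comp I).map ((DRing.RgammaIε I).app (DerivedCategory.Q.obj J))) from
    (NatTrans.isIso_app_iff_of_iso (Functor.whiskerRight (DRing.RgammaIε I) (comp I)) e).1 this
  rw [rgammaε_app, Functor.map_comp]
  infer_instance

omit [DRing.HasRgammaI I] in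
theorem killed_cone {X C : Dual.D A} {a : X ⟶ X} {b : X ⟶ C} {c : C ⟶ X⟦(1 : ℤ)⟧}
    (h : Triangle.mk a b c ∈ distTriang (Dual.D A)) {g : A} {k : ℕ}
    (hX : ∀ (n : ℤ) (x : Dual.HD A X n), g ^ k • x = 0) (n : ℤ) (y : Dual.HD A C n) :
    g ^ (k + k) • y = 0 := by
  have h3 := DerivedCategory.HomologySequence.exact₃ _ h n (n + 1) rfl
  rw [ShortComplex.ShortExact.moduleCat_exact_iff_function_exact] at h3
  obtain ⟨x, hx⟩ := (h3 (g ^ k • y)).1 ((map_smul _ _ _).trans (hX (n + 1) _))
  rw [pow_add, mul_smul]
  refine (congrArg (g ^ k • ·) hx.symm).trans ?_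
  exact (map_smul _ _ _).symm.trans ((congrArg _ (hX n x)).trans (map_zero _))

omit [DRing.HasRgammaI I] in
theorem complete_of_killed {X : Dual.D A} {N : ℕ}
    (hX : ∀ (n : ℤ) (x : Dual.HD A X n), ∀ a ∈ I ^ N, a • x = 0) : DRing.IsDerivedComplete I X := by
  rw [Groth.DerComplete.isDerivedComplete_iff]
  intro f hf n
  refine Groth.DerComplete.DC.of_pow (k := N) ?_
  have : Groth.DerComplete.sigma (f ^ N) (Dual.HD A X n) = LinearMap.id := by
    refine LinearMap.ext fun x => funext fun i => ?_
    rw [Groth.DerComplete.sigma_apply, hX n _ _ (Ideal.pow_mem_pow hf N), sub_zero]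
    rfl
  show Function.Bijective _
  rw [this]
  exact Function.bijective_id

omit [DRing.HasRgammaI I] in
/-- An object with torsion cohomology and zero completion is zero. -/
theorem isZero_of_torsion {X : Dual.D A} (hX : ∀ n, LocCoh.IsPowerTorsion I (Dual.HD A X n))
    (hL : IsZero ((comp I).obj X)) : IsZero X := by
  classical
  obtain ⟨gens, hgens⟩ := (IsNoetherian.noetherian I : I.FG)
  suffices H : ∀ t : Finset A, t ⊆ gens → ∀ X : Dual.D A, IsZero ((comp I).obj X) →
      (∀ g ∈ gens, ∀ (n : ℤ) (x : Dual.HD A X n), ∃ k : ℕ, g ^ k • x = 0) →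
      (∀ g ∈ gens, g ∉ t → ∃ k : ℕ, ∀ (n : ℤ) (x : Dual.HD A X n), g ^ k • x = 0) → IsZero X from
    H gens subset_rfl X hL (fun g hg n x => by
      obtain ⟨k, hk⟩ := hX n x
      exact ⟨k, hk _ (Ideal.pow_mem_pow (hgens ▸ Ideal.subset_span hg) k)⟩) fun g hg h => absurd hg h
  clear hX hL X
  intro t
  induction t using Finset.induction with
  | empty =>
    intro _ X hL _ hk
    choose k hk using fun g : gens => hk g g.2 (Finset.notMem_empty _)
    have hle : I ≤ (Ideal.span (Set.range fun g : gens => g.1 ^ k g)).radical := by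
      conv_lhs => rw [← hgens]
      exact Ideal.span_le.2 fun g hg => ⟨k ⟨g, hg⟩, Ideal.subset_span ⟨⟨g, hg⟩, rfl⟩⟩
    obtain ⟨N, hN⟩ := Ideal.exists_pow_le_of_le_radical_of_fg hle (IsNoetherian.noetherian I)
    have hc := complete_of_killed I (X := X) (N := N) fun n x a ha => by
      refine Submodule.span_induction (p := fun a _ => a • x = 0) ?_ ?_ ?_ ?_ (hN ha)
      · rintro _ ⟨g, rfl⟩; exact hk g n x
      · exact zero_smul _ _
      · intro p q _ _ hp hq; rw [add_smul, hp, hq, add_zero]
      · intro r p _ hp; rw [smul_eq_mul, mul_smul, hp, smul_zero]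
    have := isIso_η_of_complete I hc
    exact hL.of_iso (asIso ((η I).app X))
  | @insert f t hft ih =>
    intro hsub X hL htor hunif
    have hf : f ∈ gens := hsub (Finset.mem_insert_self f t)
    let L := DerivedCategory.Q.objPreimage X
    let e : DerivedCategory.Q.obj L ≅ X := DerivedCategory.Q.objObjPreimageIso X
    obtain ⟨C, b, c, hT⟩ := distinguished_cocone_triangle (DerivedCategory.Q.map (f • 𝟙 L))
    have hL' : IsZero ((comp I).obj (DerivedCategory.Q.obj L)) := hL.of_iso ((comp I).mapIso e)
    have hLC : IsZero ((comp I).obj C) :=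
      Triangle.isZero₃_of_isZero₁₂ _ ((comp I).map_distinguished _ hT) hL' hL'
    let eh : ∀ n, Dual.HD A (DerivedCategory.Q.obj L) n ≃ₗ[A] Dual.HD A X n := fun n =>
      ((DerivedCategory.homologyFunctor (ModuleCat.{u} A) n).mapIso e).toLinearEquiv
    have hsmul : ∀ (n : ℤ) (x : Dual.HD A (DerivedCategory.Q.obj L) n),
        ((DerivedCategory.homologyFunctor (ModuleCat.{u} A) n).map (DerivedCategory.Q.map (f • 𝟙 L))).hom x = f • x := by
      intro n x
      let E := (DerivedCategory.homologyFunctorFactors (ModuleCat.{u} A) n).app L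
      apply E.toLinearEquiv.injective
      have h := congr(($((DerivedCategory.homologyFunctorFactors (ModuleCat.{u} A) n).hom.naturality (f • 𝟙 L))).hom x)
      refine h.trans ?_
      show (homologyMap (f • 𝟙 L) n).hom (E.hom.hom x) = _
      rw [homologyMap_smul_id]
      exact (map_smul E.toLinearEquiv f x).symm
    have hC : IsZero C := by
      refine ih (fun x hx => hsub (Finset.mem_insert_of_mem hx)) C hLC ?_ ?_
      · intro g hg n y
        have h3 := DerivedCategory.HomologySequence.exact₃ _ hT n (n + 1) rfl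
        rw [ShortComplex.ShortExact.moduleCat_exact_iff_function_exact] at h3
        obtain ⟨k, hk⟩ := htor g hg (n + 1) (eh (n + 1) (((DerivedCategory.homologyFunctor _ 0).shiftMap c n (n + 1) (by omega)).hom y))
        obtain ⟨x, hx⟩ := (h3 (g ^ k • y)).1 ((map_smul _ _ _).trans
          ((eh (n + 1)).injective ((map_smul (eh (n + 1)) _ _).trans (hk.trans (map_zero _).symm))))
        obtain ⟨l, hl⟩ := htor g hg n (eh n x)
        refine ⟨l + k, ?_⟩
        rw [pow_add, mul_smul]
        refine (congrArg (g ^ l • ·) hx.symm).trans ?_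
        exact (map_smul _ _ _).symm.trans ((congrArg _ ((eh n).injective
          ((map_smul (eh n) _ _).trans (hl.trans (map_zero _).symm)) : g ^ l • x = 0)).trans (map_zero _))
      · intro g hg hgt
        by_cases h : g = f
        · subst h
          refine ⟨2, fun n y => ?_⟩
          have h3 := DerivedCategory.HomologySequence.exact₃ _ hT n (n + 1) rfl
          have h2 := DerivedCategory.HomologySequence.exact₂ _ hT n
          have h1 := DerivedCategory.HomologySequence.δ_comp _ hT n (n + 1) rfl
          rw [ShortComplex.ShortExact.moduleCat_exact_iff_function_exact] at h3 h2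
          obtain ⟨x, hx⟩ := (h3 (g • y)).1 ((map_smul _ _ _).trans ((hsmul (n + 1) _).symm.trans
            (LinearMap.congr_fun (congrArg ModuleCat.Hom.hom h1) y)))
          rw [pow_two, mul_smul]
          refine (congrArg (g • ·) hx.symm).trans ((map_smul _ _ _).symm.trans ?_)
          exact (h2 _).2 ⟨x, hsmul n x⟩
        · obtain ⟨k, hk⟩ := hunif g hg fun h' => (Finset.mem_insert.1 h').elim h hgt
          exact ⟨k + k, killed_cone hT fun n x => (eh n).injective ((map_smul (eh n) _ _).trans ((hk n _).trans (map_zero _).symm))⟩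
    have hiso : IsIso (DerivedCategory.Q.map (f • 𝟙 L)) := (Triangle.isZero₃_iff_isIso₁ _ hT).1 hC
    have hz : ∀ n, IsZero (L.homology n) := fun n => by
      have hbij : Function.Bijective fun x : Dual.HD A (DerivedCategory.Q.obj L) n => f • x := by
        have h := ((asIso ((DerivedCategory.homologyFunctor (ModuleCat.{u} A) n).map
          (DerivedCategory.Q.map (f • 𝟙 L)))).toLinearEquiv).bijective
        exact (funext (hsmul n)) ▸ h
      have hs : Subsingleton (Dual.HD A (DerivedCategory.Q.obj L) n) := subsingleton_of_forall_eq 0 fun x => by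
        obtain ⟨k, hk⟩ := htor f hf n (eh n x)
        have hk' : f ^ k • x = 0 := (eh n).injective ((map_smul (eh n) _ _).trans (hk.trans (map_zero _).symm))
        clear hk
        induction k with
        | zero => rwa [pow_zero, one_smul] at hk'
        | succ k ih' =>
          refine ih' (hbij.1 ?_)
          show f • f ^ k • x = f • 0
          rw [← mul_smul, ← pow_succ', hk', smul_zero]
      have := (hdEquiv L n).symm.toEquiv.subsingleton
      exact ModuleCat.isZero_of_subsingleton _
    exact (RgammaCompute.isZero_Q L hz).of_iso e.symm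

theorem hom_eq_zero {T D : Dual.D A} (hT : ∀ n, LocCoh.IsPowerTorsion I (Dual.HD A T n))
    (hD : IsZero ((comp I).obj D)) (φ : T ⟶ D) : φ = 0 := by
  haveI := isIso_map_ε I D
  have h : IsZero ((DRing.RgammaI I).obj D) := isZero_of_torsion I (isPowerTorsion_rgamma I D)
    (hD.of_iso (asIso ((comp I).map ((DRing.RgammaIε I).app D))))
  obtain ⟨g, rfl⟩ := (comp_ε_bijective I T D hT).2 φ
  show g ≫ _ = 0
  rw [h.eq_of_tgt g 0, zero_comp]

/-- Torsion objects do not see completion. -/
theorem comp_η_bijective {T : Dual.D A} (hT : ∀ n, LocCoh.IsPowerTorsion I (Dual.HD A T n)) (K : Dual.D A) :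
    Function.Bijective fun φ : T ⟶ K => φ ≫ (η I).app K := by
  obtain ⟨D, b, c, hd⟩ := distinguished_cocone_triangle ((η I).app K)
  have hη : IsIso ((comp I).map ((η I).app K)) := by
    have hc := isIso_η_of_complete I (complete_comp I K)
    have e : (comp I).map ((η I).app K) = (η I).app ((comp I).obj K) := by
      refine (precomp_bijective I K (complete_comp I _)).1 ?_
      exact ((η I).naturality ((η I).app K)).symm
    rw [e]; infer_instance
  have hD : IsZero ((comp I).obj D) :=
    (Triangle.isZero₃_iff_isIso₁ _ ((comp I).map_distinguished _ hd)).2 hη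
  constructor
  · intro φ ψ h
    have h0 : (φ - ψ) ≫ (η I).app K = 0 := by rw [Preadditive.sub_comp, sub_eq_zero]; exact h
    obtain ⟨w, hw⟩ := (Triangle.invRotate _).coyoneda_exact₂ (inv_rot_of_distTriang _ hd) (φ - ψ) h0
    have hw0 : w = 0 := hom_eq_zero I hT
      ((IsZero.of_iso ((shiftFunctor (Dual.D A) (-1 : ℤ)).map_isZero hD)
        (((comp I).commShiftIso (-1 : ℤ)).app D))) w
    rw [← sub_eq_zero, hw]
    exact (congrArg (· ≫ _) hw0).trans zero_comp
  · intro ψ
    obtain ⟨φ, hφ⟩ := (Triangle.mk _ b c).coyoneda_exact₂ hd ψ (hom_eq_zero I hT hD _)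
    exact ⟨φ, hφ.symm⟩

theorem main (K : Dual.D A) :
    Nonempty ((DRing.RgammaI I).obj ((comp I).obj K) ≅ (DRing.RgammaI I).obj K) ∧
      Nonempty ((DRing.derivedCompletion I).obj ((DRing.RgammaI I).obj K) ≅ (DRing.derivedCompletion I).obj K) := by
  constructor
  · have hK := isPowerTorsion_rgamma I K
    have hL := isPowerTorsion_rgamma I ((comp I).obj K)
    obtain ⟨v, hv⟩ := (comp_ε_bijective I _ ((comp I).obj K) hK).2 ((DRing.RgammaIε I).app K ≫ (η I).app K)
    have hb : ∀ {T : Dual.D A}, (∀ n, LocCoh.IsPowerTorsion I (Dual.HD A T n)) →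
        Function.Bijective fun φ : T ⟶ (DRing.RgammaI I).obj K => φ ≫ v := by
      intro T hT
      have h := (comp_η_bijective I hT K).comp (comp_ε_bijective I T K hT)
      refine (Function.Bijective.of_comp_iff' (comp_ε_bijective I T ((comp I).obj K) hT) _).1 ?_
      convert h using 1
      funext φ
      exact (Category.assoc _ _ _).trans ((congrArg (φ ≫ ·) hv).trans (Category.assoc _ _ _).symm)
    obtain ⟨w, hw⟩ := (hb hL).2 (𝟙 _)
    exact ⟨⟨w, v, hw, (hb hK).1 (by
      show (v ≫ w) ≫ v = 𝟙 _ ≫ v
      rw [Category.assoc, show w ≫ v = 𝟙 _ from hw, Category.comp_id, Category.id_comp])⟩⟩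
  · have : IsIso ((ObjectProperty.ι (DRing.IsDerivedComplete I)).map
        ((DRing.derivedCompletion I).map ((DRing.RgammaIε I).app K))) := isIso_map_ε I K
    have := isIso_of_reflects_iso ((DRing.derivedCompletion I).map ((DRing.RgammaIε I).app K))
      (ObjectProperty.ι (DRing.IsDerivedComplete I))
    exact ⟨asIso ((DRing.derivedCompletion I).map ((DRing.RgammaIε I).app K))⟩

end Groth.LocCohTransform.GreenleesMay
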