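import Groth.Agent.LocCohTransform.RgammaDualizing
import Groth.Agent.LocCohTransform.GreenleesMay
import Groth.Agent.DAlg.DCompletionRHom
import Groth.Agent.FlatCxBase.Core

/-!
Quasi-isomorphisms between Hom complexes into K-injective complexes, and `RHom` against torsion and completion.
-/

set_option autoImplicit false
set_option linter.style.haveILetI false
set_option linter.unusedSectionVars false

universe u

open CategoryTheory CategoryTheory.Limits CategoryTheory.Pretriangulated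
open CochainComplex CochainComplex.HomComplex
open Groth.DerivedCoh

attribute [local instance] HasDerivedCategory.standard

namespace Groth.LocCohTransform.RHomDual

open CompletionFunctor

variable {A : Type u} [CommRing A]

section Classes

variable {K L : DRing.Cx A} [L.IsKInjective] {n : ℤ}

/-- The morphism in `D(A)` of a cocycle. -/
noncomputable def θ : Cocycle K L n →+ (DerivedCategory.Q.obj K ⟶ DerivedCategory.Q.obj (L⟦n⟧)) :=
  (Functor.mapAddHom _).comp (Cocycle.equivHomShift (K := K) (L := L) (n := n)).symm.toAddMonoidHom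

theorem θ_surjective : Function.Surjective (θ (K := K) (L := L) (n := n)) := fun φ => by
  obtain ⟨f, hf⟩ := KInjRes.Q_map_surjective K (L⟦n⟧) φ
  refine ⟨Cocycle.equivHomShift f, ?_⟩
  show DerivedCategory.Q.map (Cocycle.equivHomShift.symm (Cocycle.equivHomShift f)) = φ
  rw [AddEquiv.symm_apply_apply]
  exact hf

theorem θ_eq_zero_iff (m : ℤ) (hm : m + 1 = n) (z : Cocycle K L n) :
    θ z = 0 ↔ ∃ β : Cochain K L m, δ m n β = (z : Cochain K L n) := by
  rw [← mem_coboundaries_iff z m hm, ← CohomologyClass.toHom_mk_eq_zero_iff, CohomologyClass.toHom_mk,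
    HomotopyCategory.quotient_map_eq_zero_iff, ← KInjRes.Q_map_eq_iff K (L⟦n⟧) _ 0, Functor.map_zero]
  rfl

end Classes

/-- A map of Hom complexes inducing bijections on morphisms in `D(A)` is a quasi-isomorphism. -/
theorem quasiIso_of_bijective {K L K' L' : DRing.Cx A} [L.IsKInjective] [L'.IsKInjective]
    (Φ : DRing.homCx K L ⟶ DRing.homCx K' L')
    (T : ∀ n : ℤ, (DerivedCategory.Q.obj K ⟶ DerivedCategory.Q.obj (L⟦n⟧)) →
      (DerivedCategory.Q.obj K' ⟶ DerivedCategory.Q.obj (L'⟦n⟧)))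
    (h0 : ∀ n, T n 0 = 0) (hT : ∀ n, Function.Bijective (T n))
    (hc : ∀ (n : ℤ) (z : Cocycle K L n),
      ∃ z' : Cocycle K' L' n, (z' : Cochain K' L' n) = (Φ.f n).hom (z : Cochain K L n) ∧ θ z' = T n (θ z)) :
    IsIso (DerivedCategory.Q.map Φ) := by
  rw [DerivedCategory.isIso_Q_map_iff_quasiIso]
  refine ⟨fun j => ?_⟩
  rw [quasiIsoAt_iff_isIso_homologyMap, ConcreteCategory.isIso_iff_bijective]
  refine ⟨(FlatCxBase.homologyMap_injective_iff Φ (i := j - 1) (k := j + 1) (by simp) (by simp)).2 ?_,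
    (FlatCxBase.homologyMap_surjective_iff Φ (i := j - 1) (k := j + 1) (by simp) (by simp)).2 ?_⟩
  · intro (x : Cochain K L j) (hx : δ j (j + 1) x = 0)
    rintro ⟨(y : Cochain K' L' (j - 1)), hy⟩
    let z : Cocycle K L j := Cocycle.mk x (j + 1) rfl hx
    obtain ⟨z', hz', hθ⟩ := hc j z
    have h : θ z' = 0 := (θ_eq_zero_iff (j - 1) (by omega) z').2 ⟨y, hy.trans hz'.symm⟩
    have h2 : θ z = 0 := (hT j).1 (hθ.symm.trans (h.trans (h0 j).symm))
    exact (θ_eq_zero_iff (j - 1) (by omega) z).1 h2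
  · intro (y : Cochain K' L' j) (hy : δ j (j + 1) y = 0)
    let y' : Cocycle K' L' j := Cocycle.mk y (j + 1) rfl hy
    obtain ⟨φ, hφ⟩ := (hT j).2 (θ y')
    obtain ⟨z, rfl⟩ := θ_surjective φ
    obtain ⟨z', hz', hθ⟩ := hc j z
    have h : θ (y' - z') = 0 := by rw [map_sub, hθ, hφ, sub_self]
    obtain ⟨w, hw⟩ := (θ_eq_zero_iff (j - 1) (by omega) _).1 h
    refine ⟨(z : Cochain K L j), w, Cocycle.δ_eq_zero z (j + 1), ?_⟩
    show @HAdd.hAdd (Cochain K' L' j) (Cochain K' L' j) _ _ ((Φ.f j).hom (z : Cochain K L j)) (δ (j - 1) j w) = y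
    rw [hw, ← hz']
    exact add_sub_cancel (z' : Cochain K' L' j) y

/-- Precomposition on Hom complexes. -/
noncomputable def pre {K K' : DRing.Cx A} (g : K' ⟶ K) (L : DRing.Cx A) : DRing.homCx K L ⟶ DRing.homCx K' L where
  f i := ModuleCat.ofHom
    { toFun := fun z : Cochain K L i => (Cochain.ofHom g).comp z (zero_add i)
      map_add' := fun z z' => Cochain.comp_add _ z z' _
      map_smul' := fun a z => Cochain.comp_smul _ a z _ }
  comm' i j _ := by
    ext (z : Cochain K L i)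
    change δ i j ((Cochain.ofHom g).comp z (zero_add i)) = (Cochain.ofHom g).comp (δ i j z) (zero_add j)
    exact δ_ofHom_comp g z j

theorem isIso_pre {K K' : DRing.Cx A} (g : K' ⟶ K) (L : DRing.Cx A) [L.IsKInjective]
    (h : ∀ n : ℤ, Function.Bijective
      fun φ : DerivedCategory.Q.obj K ⟶ DerivedCategory.Q.obj (L⟦n⟧) => DerivedCategory.Q.map g ≫ φ) :
    IsIso (DerivedCategory.Q.map (pre g L)) :=
  quasiIso_of_bijective _ (fun _ φ => DerivedCategory.Q.map g ≫ φ) (fun _ => comp_zero) h fun n z =>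
    ⟨z.precomp g, rfl, by
      show DerivedCategory.Q.map (Cocycle.equivHomShift.symm (z.precomp g)) = _
      rw [Cocycle.equivHomShift_symm_precomp, Functor.map_comp]
      rfl⟩

theorem isIso_post (G : DRing.Cx A) {L L' : DRing.Cx A} [L.IsKInjective] [L'.IsKInjective] (g : L ⟶ L')
    (h : ∀ n : ℤ, Function.Bijective
      fun φ : DerivedCategory.Q.obj G ⟶ DerivedCategory.Q.obj (L⟦n⟧) => φ ≫ DerivedCategory.Q.map (g⟦n⟧')) :
    IsIso (DerivedCategory.Q.map (DRing.homCxMap G g)) :=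
  quasiIso_of_bijective _ (fun n φ => φ ≫ DerivedCategory.Q.map (g⟦n⟧')) (fun _ => zero_comp) h fun n z =>
    ⟨z.postcomp g, rfl, by
      show DerivedCategory.Q.map (Cocycle.equivHomShift.symm (z.postcomp g)) = _
      rw [Cocycle.equivHomShift_symm_postcomp, Functor.map_comp]
      rfl⟩

variable {K K' : DRing.Cx A}

/-- A map which induces bijections into the shifts of `X` gives the same `RHom` into `X`. -/
theorem nonempty_rhom_iso [DRing.HasRHomCx K] [DRing.HasRHomCx K'] (g : K' ⟶ K) (X : Dual.D A)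
    (h : ∀ n : ℤ, Function.Bijective fun φ : DRing.toD K ⟶ X⟦n⟧ => DerivedCategory.Q.map g ≫ φ) :
    Nonempty ((DRing.RHomCx K).obj X ≅ (DRing.RHomCx K').obj X) := by
  obtain ⟨L, hL, ⟨e⟩⟩ := KInjRes.exists_kInjective_iso X
  haveI := hL
  have hb : ∀ n : ℤ, Function.Bijective
      fun φ : DerivedCategory.Q.obj K ⟶ DerivedCategory.Q.obj (L⟦n⟧) => DerivedCategory.Q.map g ≫ φ := fun n => by
    let s := ((DerivedCategory.Q (C := ModuleCat.{u} A)).commShiftIso n).app L ≪≫ (CategoryTheory.shiftFunctor _ n).mapIso e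
    refine (Function.Bijective.of_comp_iff' ((Iso.refl (DerivedCategory.Q.obj K')).homCongr s).bijective _).1 ?_
    convert (h n).comp ((Iso.refl (DerivedCategory.Q.obj K)).homCongr s).bijective using 1
    funext φ
    simp [Iso.homCongr]
  haveI := isIso_pre g L hb
  exact ⟨(DRing.RHomCx K).mapIso e.symm ≪≫ (DAlg.RHomCx.objIso K L).symm ≪≫ asIso (DerivedCategory.Q.map (pre g L)) ≪≫
    DAlg.RHomCx.objIso K' L ≪≫ (DRing.RHomCx K').mapIso e⟩

theorem precomp_iso_bijective {W Y : Dual.D A} (φ : W ⟶ Y) [IsIso φ] (Z : Dual.D A) :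
    Function.Bijective fun ψ : Y ⟶ Z => φ ≫ ψ :=
  ⟨fun _ _ h => (cancel_epi φ).1 h, fun ψ => ⟨inv φ ≫ ψ, IsIso.hom_inv_id_assoc φ ψ⟩⟩

/-- `RHom` only depends on the first argument in `D(A)`. -/
theorem nonempty_rhom_congr [DRing.HasRHomCx K] [DRing.HasRHomCx K'] (e : DRing.toD K ≅ DRing.toD K') (X : Dual.D A) :
    Nonempty ((DRing.RHomCx K).obj X ≅ (DRing.RHomCx K').obj X) := by
  obtain ⟨R, r, -, hr, hR, -⟩ := KInjRes.exists_resolution K
  haveI := hR
  haveI : IsIso (DerivedCategory.Q.map r) := (DerivedCategory.isIso_Q_map_iff_quasiIso _ r).2 hr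
  obtain ⟨s, hs⟩ := KInjRes.Q_map_surjective K' R (e.inv ≫ DerivedCategory.Q.map r)
  haveI : IsIso (DerivedCategory.Q.map s) := by rw [hs]; infer_instance
  haveI := Groth.DAlg.RHomCx.hasRHomCx R
  obtain ⟨e₁⟩ := nonempty_rhom_iso r X fun n => precomp_iso_bijective (DerivedCategory.Q.map r) _
  obtain ⟨e₂⟩ := nonempty_rhom_iso s X fun n => precomp_iso_bijective (DerivedCategory.Q.map s) _
  exact ⟨e₁.symm ≪≫ e₂⟩

/-- A map inducing bijections from the shifts of `G` is an isomorphism on `RHom(G, -)`. -/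
theorem isIso_rhom_map (G : DRing.Cx A) [DRing.HasRHomCx G] {X Y : Dual.D A} (ν : X ⟶ Y)
    (h : ∀ n : ℤ, Function.Bijective fun φ : DRing.toD G ⟶ X⟦n⟧ => φ ≫ ν⟦n⟧') :
    IsIso ((DRing.RHomCx G).map ν) := by
  obtain ⟨L, hL, ⟨e⟩⟩ := KInjRes.exists_kInjective_iso X
  obtain ⟨L', hL', ⟨e'⟩⟩ := KInjRes.exists_kInjective_iso Y
  haveI := hL
  haveI := hL'
  obtain ⟨g, hg⟩ := KInjRes.Q_map_surjective L L' (e.hom ≫ ν ≫ e'.inv)
  have hb : ∀ n : ℤ, Function.Bijective
      fun φ : DerivedCategory.Q.obj G ⟶ DerivedCategory.Q.obj (L⟦n⟧) => φ ≫ DerivedCategory.Q.map (g⟦n⟧') := fun n => by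
    let s := ((DerivedCategory.Q (C := ModuleCat.{u} A)).commShiftIso n).app L ≪≫ (CategoryTheory.shiftFunctor _ n).mapIso e
    let s' := ((DerivedCategory.Q (C := ModuleCat.{u} A)).commShiftIso n).app L' ≪≫ (CategoryTheory.shiftFunctor _ n).mapIso e'
    have hsq : DerivedCategory.Q.map (g⟦n⟧') ≫ s'.hom = s.hom ≫ ν⟦n⟧' := by
      have hn : DerivedCategory.Q.map (g⟦n⟧') ≫ ((DerivedCategory.Q (C := ModuleCat.{u} A)).commShiftIso n).hom.app L' =
          ((DerivedCategory.Q (C := ModuleCat.{u} A)).commShiftIso n).hom.app L ≫ (DerivedCategory.Q.map g)⟦n⟧' :=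
        ((DerivedCategory.Q (C := ModuleCat.{u} A)).commShiftIso n).hom.naturality g
      simp only [s, s', Iso.trans_hom, Iso.app_hom, Functor.mapIso_hom]
      rw [reassoc_of% hn, hg]
      simp [← Functor.map_comp]
    refine (Function.Bijective.of_comp_iff' ((Iso.refl (DerivedCategory.Q.obj G)).homCongr s').bijective _).1 ?_
    convert (h n).comp ((Iso.refl (DerivedCategory.Q.obj G)).homCongr s).bijective using 1
    funext φ
    simp [Iso.homCongr, hsq]
  haveI := isIso_post G g hb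
  haveI : IsIso ((DRing.RHomCx G).map (DerivedCategory.Q.map g)) := by
    have h1 := DAlg.RHomCx.objIso_naturality G g
    have h2 : (DRing.RHomCx G).map (DerivedCategory.Q.map g) = (DAlg.RHomCx.objIso G L).inv ≫
        DerivedCategory.Q.map ((DRing.homCxFunctor G).map g) ≫ (DAlg.RHomCx.objIso G L').hom := by
      exact (Iso.eq_inv_comp _).2 h1.symm
    rw [h2]
    exact ((DAlg.RHomCx.objIso G L).symm ≪≫ asIso (DerivedCategory.Q.map (DRing.homCxMap G g)) ≪≫
      DAlg.RHomCx.objIso G L').isIso_hom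
  have e2 : ν = e.inv ≫ DerivedCategory.Q.map g ≫ e'.hom := by simp [hg]
  rw [e2, Functor.map_comp, Functor.map_comp]
  infer_instance

section Completion

variable (I : Ideal A) [DRing.HasDerivedCompletion I]

theorem precomp_bijective_of_isIso {X Y : Dual.D A} (φ : X ⟶ Y) [IsIso ((comp I).map φ)] {Z : Dual.D A}
    (hZ : DRing.IsDerivedComplete I Z) : Function.Bijective fun ψ : Y ⟶ Z => φ ≫ ψ := by
  refine (Function.Bijective.of_comp_iff _ (precomp_bijective I Y hZ)).1 ?_
  convert (precomp_bijective I X hZ).comp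
    ((asIso ((comp I).map φ)).symm.homCongr (Iso.refl Z)).bijective using 1
  funext a
  show φ ≫ (η I).app Y ≫ a = (η I).app X ≫ ((comp I).map φ ≫ a ≫ 𝟙 Z)
  rw [Category.comp_id]
  exact (Category.assoc _ _ _).symm.trans ((congrArg (· ≫ a) ((η I).naturality φ)).trans (Category.assoc _ _ _))

theorem nonempty_completion_rhom (hI : I.FG) (K : DRing.Cx A) [DRing.HasRHomCx K] (X : Dual.D A) :
    Nonempty ((comp I).obj ((DRing.RHomCx K).obj X) ≅ (DRing.RHomCx K).obj ((comp I).obj X)) := by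
  obtain ⟨hc, hb⟩ := DAlg.DCompletionRHom.rhom_completion K I hI X
  obtain ⟨a, ha⟩ := (precomp_bijective I ((DRing.RHomCx K).obj X) hc).2 ((DRing.RHomCx K).map ((η I).app X))
  obtain ⟨b, hb'⟩ := (hb _ (complete_comp I _)).2 ((η I).app ((DRing.RHomCx K).obj X))
  change (η I).app _ ≫ a = (DRing.RHomCx K).map ((η I).app X) at ha
  change (DRing.RHomCx K).map ((η I).app X) ≫ b = (η I).app _ at hb'
  refine ⟨⟨a, b, (precomp_bijective I _ (complete_comp I _)).1 ?_, (hb _ hc).1 ?_⟩⟩
  · show (η I).app _ ≫ a ≫ b = (η I).app _ ≫ 𝟙 _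
    rw [Category.comp_id]
    exact (Category.assoc _ _ _).symm.trans ((congrArg (· ≫ b) ha).trans hb')
  · show (DRing.RHomCx K).map ((η I).app X) ≫ b ≫ a = (DRing.RHomCx K).map ((η I).app X) ≫ 𝟙 _
    rw [Category.comp_id]
    exact (Category.assoc _ _ _).symm.trans ((congrArg (· ≫ a) hb').trans ha)

variable [IsNoetherianRing A] [DRing.HasRgammaI I]

/-- `RHom(RΓ K, X) = RHom(K, X)` for complete `X`. -/
theorem nonempty_rhom_rgamma [DRing.HasRHomCx K] {G : DRing.Cx A} [DRing.HasRHomCx G]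
    (eG : DRing.toD G ≅ (DRing.RgammaI I).obj (DRing.toD K)) {X : Dual.D A} (hX : DRing.IsDerivedComplete I X) :
    Nonempty ((DRing.RHomCx K).obj X ≅ (DRing.RHomCx G).obj X) := by
  obtain ⟨J, j, hj, hJ, -⟩ := RgammaCompute.exists_resolution K
  haveI := hJ
  haveI : IsIso (DerivedCategory.Q.map j) := (DerivedCategory.isIso_Q_map_iff_quasiIso _ j).2 hj
  haveI := Groth.DAlg.RHomCx.hasRHomCx J
  haveI := Groth.DAlg.RHomCx.hasRHomCx ((RgammaCompute.gam I).obj J)
  obtain ⟨e₁⟩ := nonempty_rhom_congr (K := K) (K' := J) (asIso (DerivedCategory.Q.map j)) X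
  haveI : IsIso ((comp I).map (DerivedCategory.Q.map (RgammaCompute.incl I J))) := by
    have h := GreenleesMay.isIso_map_ε I (DerivedCategory.Q.obj J)
    rw [RgammaCompute.rgammaε_app, Functor.map_comp] at h
    exact IsIso.of_isIso_comp_left ((comp I).map (RgammaCompute.rgammaIso I J).hom) _
  obtain ⟨e₂⟩ := nonempty_rhom_iso (RgammaCompute.incl I J) X fun n =>
    precomp_bijective_of_isIso I (DerivedCategory.Q.map (RgammaCompute.incl I J))
      ((DRing.IsDerivedComplete I).le_shift n _ hX)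
  obtain ⟨e₃⟩ := nonempty_rhom_congr (K := (RgammaCompute.gam I).obj J) (K' := G)
    ((RgammaCompute.rgammaIso I J).symm ≪≫ (DRing.RgammaI I).mapIso (asIso (DerivedCategory.Q.map j)).symm ≪≫ eG.symm) X
  exact ⟨e₁ ≪≫ e₂ ≪≫ e₃⟩

/-- `RHom(T, RΓ X) = RHom(T, X^)` for torsion `T`. -/
theorem nonempty_rhom_torsion (G : DRing.Cx A) [DRing.HasRHomCx G]
    (hG : ∀ i, LocCoh.IsPowerTorsion I (Dual.HD A (DRing.toD G) i)) (X : Dual.D A) :
    Nonempty ((DRing.RHomCx G).obj ((DRing.RgammaI I).obj X) ≅ (DRing.RHomCx G).obj ((comp I).obj X)) := by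
  let ν : (DRing.RgammaI I).obj X ⟶ (comp I).obj X := (DRing.RgammaIε I).app X ≫ (η I).app X
  haveI := isIso_rhom_map G ν fun n => ?_
  · exact ⟨asIso ((DRing.RHomCx G).map ν)⟩
  have hT := RgammaDualizing.isPowerTorsion_shift I _ hG (-n)
  have h1 : Function.Bijective fun φ : (DRing.toD G)⟦-n⟧ ⟶ (DRing.RgammaI I).obj X => φ ≫ ν := by
    convert (GreenleesMay.comp_η_bijective I hT X).comp (RgammaTorsion.comp_ε_bijective I _ X hT) using 1
    funext φ
    exact (Category.assoc _ _ _).symm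
  let adj := (shiftEquiv' (Dual.D A) (-n) n (neg_add_cancel n)).toAdjunction
  refine (Function.Bijective.of_comp_iff _ (adj.homEquiv _ _).bijective).1 ?_
  exact Eq.mp (congrArg Function.Bijective (funext fun φ => adj.homEquiv_naturality_right φ ν))
    (((adj.homEquiv (DRing.toD G) ((comp I).obj X)).bijective).comp h1)

end Completion

end Groth.LocCohTransform.RHomDual
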