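import Groth.Agent.LocCohTransform.TorAnnihilation
import Groth.Prelude.Def_BlowUp2
import Mathlib.RingTheory.Polynomial.Basic
import Mathlib.RingTheory.Localization.Away.Basic
import Mathlib.Algebra.MvPolynomial.Equiv
import Mathlib.RingTheory.Flat.Basic

/-!
`Tor` of the affine blow-up algebra is annihilated by a power of the ideal above the number of generators.
-/

set_option autoImplicit false
set_option linter.unusedSectionVars false

universe u

open MvPolynomial

namespace Groth.LocCohTransform.BlowupTor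

open TorAnn

variable {A : Type u} [CommRing A] {t : ℕ} (a : Fin (t + 1) → A)

/-- The relation `a₀ X - aₗ`. -/
noncomputable def rel (l : Fin t) : MvPolynomial (Fin t) A := C (a 0) * X l - C (a l.succ)

/-- The ideal of the relations indexed by `S`. -/
noncomputable abbrev J (S : Finset (Fin t)) : Ideal (MvPolynomial (Fin t) A) :=
  Ideal.span (rel a '' (S : Set (Fin t)))

/-- Substitution of the fractions. -/
noncomputable def ψ (S : Finset (Fin t)) :
    MvPolynomial (Fin t) A →ₐ[A] MvPolynomial (Fin t) (Localization.Away (a 0)) :=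
  aeval fun l => if l ∈ S then
    C (IsLocalization.mk' (Localization.Away (a 0)) (a l.succ) ⟨a 0, Submonoid.mem_powers _⟩) else X l

theorem spec (x : A) :
    algebraMap A (Localization.Away (a 0)) (a 0) *
      IsLocalization.mk' (Localization.Away (a 0)) x ⟨a 0, Submonoid.mem_powers _⟩ =
        algebraMap A (Localization.Away (a 0)) x :=
  IsLocalization.mk'_spec' (Localization.Away (a 0)) x ⟨a 0, Submonoid.mem_powers _⟩

theorem ψ_C (S : Finset (Fin t)) (r : A) :
    ψ a S (C r) = C (algebraMap A (Localization.Away (a 0)) r) := by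
  rw [ψ, aeval_C, IsScalarTower.algebraMap_apply A (Localization.Away (a 0))
    (MvPolynomial (Fin t) (Localization.Away (a 0))), MvPolynomial.algebraMap_eq]

theorem ψ_rel_mem {S : Finset (Fin t)} {l : Fin t} (hl : l ∈ S) : ψ a S (rel a l) = 0 := by
  rw [rel, map_sub, map_mul, ψ_C, ψ_C, ψ, aeval_X, if_pos hl, ← C_mul]
  rw [spec]
  exact sub_self _

theorem ψ_eq_zero_of_mem {S : Finset (Fin t)} {x : MvPolynomial (Fin t) A} (hx : x ∈ J a S) :
    ψ a S x = 0 := by
  refine Submodule.span_induction (p := fun x _ => ψ a S x = 0) ?_ (map_zero _) ?_ ?_ hx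
  · rintro _ ⟨l, hl, rfl⟩; exact ψ_rel_mem a hl
  · intro x y _ _ hx hy; rw [map_add, hx, hy, add_zero]
  · intro r x _ hx; rw [smul_eq_mul, map_mul, hx, mul_zero]

theorem exists_pow_mul_mem {S : Finset (Fin t)} {x : MvPolynomial (Fin t) A} (hx : ψ a S x = 0) :
    ∃ N : ℕ, C (a 0) ^ N * x ∈ J a S := by
  let Q := MvPolynomial (Fin t) A ⧸ J a S
  let b : Q := algebraMap A Q (a 0)
  let κ : Q →ₐ[A] Localization.Away b := IsScalarTower.toAlgHom A Q (Localization.Away b)
  have hu : IsUnit (algebraMap A (Localization.Away b) (a 0)) := by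
    rw [IsScalarTower.algebraMap_apply A Q (Localization.Away b)]
    exact IsLocalization.Away.algebraMap_isUnit b
  let η : Localization.Away (a 0) →ₐ[A] Localization.Away b :=
    IsLocalization.liftAlgHom (M := Submonoid.powers (a 0)) (f := Algebra.ofId A (Localization.Away b))
      (by rintro ⟨_, n, rfl⟩; simpa using hu.pow n)
  let ρ : MvPolynomial (Fin t) (Localization.Away (a 0)) →ₐ[A] Localization.Away b :=
    { eval₂Hom η.toRingHom (fun l => κ (Ideal.Quotient.mk _ (X l))) with
      commutes' := fun r => by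
        show eval₂ η.toRingHom _ _ = _
        rw [IsScalarTower.algebraMap_apply A (Localization.Away (a 0)) (MvPolynomial (Fin t) _),
          MvPolynomial.algebraMap_eq, eval₂_C]
        exact η.commutes r }
  have hρ : ρ.comp (ψ a S) = κ.comp (Ideal.Quotient.mkₐ A (J a S)) := by
    refine MvPolynomial.algHom_ext fun l => ?_
    simp only [AlgHom.comp_apply, ψ, aeval_X]
    split_ifs with hl
    · show eval₂ η.toRingHom _ (C _) = _
      rw [eval₂_C]
      refine hu.mul_left_cancel ?_
      have h1 : algebraMap A (Localization.Away b) (a 0) *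
          η (IsLocalization.mk' (Localization.Away (a 0)) (a l.succ) ⟨a 0, Submonoid.mem_powers _⟩) =
            algebraMap A (Localization.Away b) (a l.succ) := by
        rw [← η.commutes, ← map_mul]
        rw [spec]
        exact η.commutes _
      refine h1.trans ?_
      have h2 : Ideal.Quotient.mk (J a S) (rel a l) = 0 :=
        Ideal.Quotient.eq_zero_iff_mem.2 (Ideal.subset_span ⟨l, hl, rfl⟩)
      rw [rel, map_sub, map_mul, sub_eq_zero] at h2
      have h3 := congrArg κ h2
      rw [map_mul] at h3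
      exact (κ.commutes (a l.succ)).symm.trans (h3.symm.trans (congrArg (· * _) (κ.commutes (a 0))))
    · show eval₂ η.toRingHom _ (X l) = _
      rw [eval₂_X]
      rfl
  have h := AlgHom.congr_fun hρ x
  rw [AlgHom.comp_apply, hx, map_zero] at h
  obtain ⟨⟨_, N, rfl⟩, hN⟩ := (IsLocalization.map_eq_zero_iff (Submonoid.powers b) (Localization.Away b)
    (Ideal.Quotient.mk (J a S) x)).1 h.symm
  refine ⟨N, Ideal.Quotient.eq_zero_iff_mem.1 ?_⟩
  rw [map_mul, map_pow]
  exact hN

theorem rel_regular {S : Finset (Fin t)} {l : Fin t} (hl : l ∉ S)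
    {p : MvPolynomial (Fin t) (Localization.Away (a 0))} (hp : ψ a S (rel a l) * p = 0) : p = 0 := by
  have hu : IsUnit (algebraMap A (Localization.Away (a 0)) (a 0)) :=
    IsLocalization.Away.algebraMap_isUnit _
  set L := Localization.Away (a 0)
  set c : L := IsLocalization.mk' L (a l.succ) ⟨a 0, Submonoid.mem_powers _⟩
  have hrel : ψ a S (rel a l) = C (algebraMap A L (a 0)) * (X l - C c) := by
    rw [rel, map_sub, map_mul, ψ_C, ψ_C, ψ, aeval_X, if_neg hl, mul_sub, ← C_mul]
    rw [show algebraMap A L (a 0) * c = algebraMap A L (a l.succ) from spec a _]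
  rw [hrel, mul_assoc] at hp
  have h0 : (X l - C c) * p = 0 := (hu.map C).mul_right_eq_zero.1 hp
  let σ : MvPolynomial (Fin t) L →ₐ[L] MvPolynomial (Fin t) L :=
    aeval fun k => if k = l then X k + C c else X k
  let σ' : MvPolynomial (Fin t) L →ₐ[L] MvPolynomial (Fin t) L :=
    aeval fun k => if k = l then X k - C c else X k
  have hσ : σ'.comp σ = AlgHom.id L _ := by
    refine MvPolynomial.algHom_ext fun k => ?_
    by_cases hk : k = l <;> simp [σ, σ', hk]
  have h1 := congrArg σ h0
  rw [map_mul, map_zero, map_sub] at h1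
  have hX : σ (X l) - σ (C c) = X l := by simp [σ]
  rw [hX] at h1
  have h2 : σ p = 0 := by
    refine MvPolynomial.X_mul_cancel_left_iff.1 (h1.trans (mul_zero _).symm)
  exact (AlgHom.congr_fun hσ p).symm.trans ((congrArg σ' h2).trans (map_zero σ'))

/-- The conditions under which inverting `a_j` makes the next relation regular. -/
def Good (j : Fin (t + 1)) (S : Finset (Fin t)) : Prop := j = 0 ∨ ∃ l ∈ S, j = l.succ

theorem pow_mem_of_good {j : Fin (t + 1)} {S : Finset (Fin t)} (hj : Good j S)
    {x : MvPolynomial (Fin t) A} {N : ℕ} (hN : C (a 0) ^ N * x ∈ J a S) : C (a j) ^ N * x ∈ J a S := by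
  rcases hj with rfl | ⟨l, hl, rfl⟩
  · exact hN
  · have hsub : C (a l.succ) ^ N - (C (a 0) * X l) ^ N ∈ J a S :=
      Ideal.mem_of_dvd _ (sub_dvd_pow_sub_pow _ _ N) (by
        rw [← neg_sub]; exact (J a S).neg_mem (Ideal.subset_span ⟨l, hl, rfl⟩))
    have : C (a l.succ) ^ N * x = (C (a l.succ) ^ N - (C (a 0) * X l) ^ N) * x + X l ^ N * (C (a 0) ^ N * x) := by
      ring
    rw [this]
    exact (J a S).add_mem (Ideal.mul_mem_right _ _ hsub) (Ideal.mul_mem_left _ _ hN)

theorem pow_mul_eq_zero_of_rel {l : Fin t} {x : MvPolynomial (Fin t) A} (hx : rel a l * x = 0) :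
    C (a l.succ) ^ (x.totalDegree + 1) * x = 0 := by
  classical
  have key : ∀ (k : ℕ) (m : Fin t →₀ ℕ), m l = k → a l.succ ^ (k + 1) * x.coeff m = 0 := by
    intro k
    induction k with
    | zero =>
      intro m hm
      have h := congrArg (coeff m) hx
      rw [rel, sub_mul, coeff_sub, coeff_zero, mul_assoc, coeff_C_mul, coeff_C_mul, coeff_X_mul',
        if_neg (by rwa [Finsupp.mem_support_iff, not_not]), mul_zero, zero_sub, neg_eq_zero] at h
      rw [zero_add, pow_one, h]
    | succ k ih =>
      intro m hm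
      have h := congrArg (coeff m) hx
      rw [rel, sub_mul, coeff_sub, coeff_zero, mul_assoc, coeff_C_mul, coeff_C_mul, coeff_X_mul',
        if_pos (by rw [Finsupp.mem_support_iff, hm]; exact Nat.succ_ne_zero k), sub_eq_zero] at h
      rw [pow_succ, mul_assoc, ← h, mul_left_comm, ih _ (by simp [hm]), mul_zero]
  ext m
  rw [← C_pow, coeff_C_mul, coeff_zero]
  by_cases hm : m ∈ x.support
  · have hle : m l ≤ x.totalDegree := by
      refine le_trans ?_ (le_totalDegree hm)
      by_cases h : l ∈ m.support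
      · exact Finset.single_le_sum (fun _ _ => Nat.zero_le _) h
      · rw [Finsupp.notMem_support_iff.1 h]; exact Nat.zero_le _
    obtain ⟨d, hd⟩ := Nat.exists_eq_add_of_le (Nat.succ_le_succ hle)
    rw [show x.totalDegree + 1 = d + (m l + 1) by omega, pow_add, mul_assoc, key _ m rfl, mul_zero]
  · rw [notMem_support_iff.1 hm, mul_zero]

variable [IsNoetherianRing A]

/-- A uniform exponent for an ideal of elements killed by powers. -/
theorem exists_uniform (b : MvPolynomial (Fin t) A) (J' K : Ideal (MvPolynomial (Fin t) A))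
    (h : ∀ x ∈ K, ∃ N : ℕ, b ^ N * x ∈ J') : ∃ N : ℕ, ∀ x ∈ K, b ^ N * x ∈ J' := by
  classical
  obtain ⟨s, hs⟩ := IsNoetherian.noetherian K
  choose N hN using fun y : s => h y.1 (hs ▸ Submodule.subset_span y.2)
  refine ⟨Finset.univ.sup N, fun x hx => ?_⟩
  rw [← hs] at hx
  refine Submodule.span_induction (p := fun x _ => b ^ Finset.univ.sup N * x ∈ J') ?_ ?_ ?_ ?_ hx
  · intro y hy
    obtain ⟨d, hd⟩ := Nat.exists_eq_add_of_le (Finset.le_sup (f := N) (Finset.mem_univ (⟨y, hy⟩ : s)))
    rw [hd, add_comm, pow_add, mul_assoc]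
    exact Ideal.mul_mem_left _ _ (hN ⟨y, hy⟩)
  · rw [mul_zero]; exact J'.zero_mem
  · intro x y _ _ hx hy; rw [mul_add]; exact J'.add_mem hx hy
  · intro r x _ hx; rw [smul_eq_mul, mul_left_comm]; exact Ideal.mul_mem_left _ _ hx

theorem exists_kernel_bound (j : Fin (t + 1)) (S : Finset (Fin t)) {l : Fin t} (hl : l ∉ S)
    (hj : Good j S ∨ (S = ∅ ∧ j = l.succ)) :
    ∃ N : ℕ, ∀ x : MvPolynomial (Fin t) A, rel a l * x ∈ J a S → C (a j) ^ N * x ∈ J a S := by
  obtain ⟨N, hN⟩ := exists_uniform (C (a j)) (J a S)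
    (Submodule.comap (LinearMap.mulLeft (MvPolynomial (Fin t) A) (rel a l)) (J a S)) (fun x hx => by
      have hx' : rel a l * x ∈ J a S := hx
      rcases hj with hj | ⟨rfl, rfl⟩
      · have h0 := ψ_eq_zero_of_mem a hx'
        rw [map_mul] at h0
        obtain ⟨N, hN⟩ := exists_pow_mul_mem a (rel_regular a hl h0)
        exact ⟨N, pow_mem_of_good a hj hN⟩
      · have hJ : J a (∅ : Finset (Fin t)) = ⊥ := by simp [J]
        rw [hJ, Ideal.mem_bot] at hx'
        simp only [hJ, Ideal.mem_bot]
        exact ⟨_, pow_mul_eq_zero_of_rel a hx'⟩)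
  exact ⟨N, fun x hx => hN x hx⟩

theorem algebraMap_quot (J' : Ideal (MvPolynomial (Fin t) A)) (r : A) (x : MvPolynomial (Fin t) A) :
    r • Ideal.Quotient.mk J' x = Ideal.Quotient.mk J' (C r * x) := by
  show Ideal.Quotient.mk J' (r • x) = _
  rw [MvPolynomial.smul_eq_C_mul]

theorem exists_killed (j : Fin (t + 1)) : ∀ (S : Finset (Fin t)), (S.Nonempty → Good j S) →
    ∃ N : ℕ, ∀ i, S.card < i → Killed (a j ^ N) i (MvPolynomial (Fin t) A ⧸ J a S) := by
  classical
  intro S
  induction S using Finset.strongInduction with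
  | H S ih =>
    intro hS
    rcases S.eq_empty_or_nonempty with rfl | hne
    · refine ⟨0, fun i hi => ?_⟩
      have hJ : J a (∅ : Finset (Fin t)) = ⊥ := by simp [J]
      let e : MvPolynomial (Fin t) A ≃ₗ[A] MvPolynomial (Fin t) A ⧸ J a (∅ : Finset (Fin t)) :=
        (LinearEquiv.ofBijective (Ideal.Quotient.mkₐ A _).toLinearMap
          ⟨(injective_iff_map_eq_zero _).2 fun x hx => by
            have : x ∈ J a (∅ : Finset (Fin t)) := Ideal.Quotient.eq_zero_iff_mem.1 hx
            rwa [hJ, Ideal.mem_bot] at this, Ideal.Quotient.mk_surjective⟩)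
      have : Module.Flat A (MvPolynomial (Fin t) A ⧸ J a (∅ : Finset (Fin t))) :=
        Module.Flat.of_linearEquiv e.symm
      exact killed_of_flat _ _ (by simpa using hi)
    · -- choose the last relation
      obtain ⟨l, hl, hl'⟩ : ∃ l ∈ S, Good j (S.erase l) ∨ (S.erase l = ∅ ∧ j = l.succ) := by
        rcases hS hne with rfl | ⟨l₀, hl₀, rfl⟩
        · obtain ⟨l, hl⟩ := hne
          exact ⟨l, hl, Or.inl (Or.inl rfl)⟩
        · rcases (S.erase l₀).eq_empty_or_nonempty with h | ⟨l, hl⟩
          · exact ⟨l₀, hl₀, Or.inr ⟨h, rfl⟩⟩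
          · refine ⟨l, Finset.mem_of_mem_erase hl, Or.inl (Or.inr ⟨l₀, ?_, rfl⟩)⟩
            exact Finset.mem_erase.2 ⟨fun h => Finset.ne_of_mem_erase hl h.symm, hl₀⟩
      set S' := S.erase l with hS'
      obtain ⟨N, hN⟩ := ih S' (Finset.erase_ssubset hl) (fun hne' => hl'.resolve_right fun h =>
        hne'.ne_empty h.1)
      obtain ⟨c, hc⟩ := exists_kernel_bound a j S' (Finset.notMem_erase l S) hl'
      refine ⟨N + (N + c), fun i hi => ?_⟩
      have hcard : S'.card + 1 = S.card := Finset.card_erase_add_one hl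
      obtain ⟨k, rfl⟩ : ∃ k, i = k + 2 := ⟨i - 2, by omega⟩
      have hle : J a S' ≤ J a S := Ideal.span_mono (Set.image_mono (Finset.erase_subset l S))
      let φ : (MvPolynomial (Fin t) A ⧸ J a S') →ₗ[A] (MvPolynomial (Fin t) A ⧸ J a S') :=
        LinearMap.mulLeft A (Ideal.Quotient.mk _ (rel a l))
      let π : (MvPolynomial (Fin t) A ⧸ J a S') →ₗ[A] (MvPolynomial (Fin t) A ⧸ J a S) :=
        (Ideal.Quotient.factorₐ A hle).toLinearMap
      rw [show a j ^ (N + (N + c)) = a j ^ N * (a j ^ N * a j ^ c) by rw [pow_add, pow_add]]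
      refine killed_coker φ π ?_ ?_ ?_ (hN (k + 1) (by omega)) (hN (k + 2) (by omega))
      · intro y
        obtain ⟨x, rfl⟩ := Ideal.Quotient.mk_surjective y
        show Ideal.Quotient.mk (J a S) x = 0 ↔ _
        rw [Ideal.Quotient.eq_zero_iff_mem]
        constructor
        · intro hx
          have : J a S = Ideal.span {rel a l} ⊔ J a S' := by
            rw [← Ideal.span_union, Set.singleton_union, ← Set.image_insert_eq, ← Finset.coe_insert,
              Finset.insert_erase hl]
          rw [this] at hx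
          obtain ⟨p, hp, q, hq, rfl⟩ := Submodule.mem_sup.1 hx
          obtain ⟨r, rfl⟩ := Ideal.mem_span_singleton'.1 hp
          refine ⟨Ideal.Quotient.mk _ r, ?_⟩
          show Ideal.Quotient.mk (J a S') (rel a l) * Ideal.Quotient.mk (J a S') r = _
          rw [← map_mul, Ideal.Quotient.eq, mul_comm, sub_add_cancel_left]
          exact (J a S').neg_mem hq
        · rintro ⟨z, hz⟩
          obtain ⟨r, rfl⟩ := Ideal.Quotient.mk_surjective z
          have h1 : rel a l * r - x ∈ J a S' := by
            rw [← Ideal.Quotient.eq, map_mul]; exact hz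
          have h2 : rel a l * r ∈ J a S := Ideal.mul_mem_right _ _ (Ideal.subset_span ⟨l, hl, rfl⟩)
          exact (Submodule.sub_mem_iff_right _ h2).1 (hle h1)
      · exact Ideal.Quotient.factor_surjective hle
      · intro y hy
        obtain ⟨x, rfl⟩ := Ideal.Quotient.mk_surjective y
        rw [algebraMap_quot, C_pow, Ideal.Quotient.eq_zero_iff_mem]
        refine hc x (Ideal.Quotient.eq_zero_iff_mem.1 ?_)
        rw [map_mul]; exact hy

/-- The blow-up algebra. -/
noncomputable abbrev B : Subalgebra A (Localization.Away (a 0)) :=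
  BlowUp.affineAlgebra A (Ideal.span (Set.range a)) (a 0)

/-- The presentation. -/
noncomputable def pres : MvPolynomial (Fin t) A →ₐ[A] B a :=
  aeval fun l => ⟨IsLocalization.mk' (Localization.Away (a 0)) (a l.succ) ⟨a 0, Submonoid.mem_powers _⟩,
    Algebra.subset_adjoin ⟨a l.succ, Ideal.subset_span ⟨l.succ, rfl⟩, rfl⟩⟩

theorem C_pres (x : MvPolynomial (Fin t) A) :
    C ((pres a x : Localization.Away (a 0))) = ψ a Finset.univ x := by
  have h : ((IsScalarTower.toAlgHom A (Localization.Away (a 0)) (MvPolynomial (Fin t) _)).comp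
      ((B a).val.comp (pres a))) = ψ a Finset.univ := by
    refine MvPolynomial.algHom_ext fun l => ?_
    simp [pres, ψ]
  exact AlgHom.congr_fun h x

theorem pres_surjective : Function.Surjective (pres a) := by
  rw [← AlgHom.range_eq_top, eq_top_iff]
  rintro ⟨y, hy⟩ -
  have key : y ∈ ((B a).val.comp (pres a)).range := by
    refine Algebra.adjoin_le ?_ hy
    rintro _ ⟨x, hx, rfl⟩
    rw [SetLike.mem_coe]
    induction hx using Submodule.span_induction with
    | mem z hz =>
      obtain ⟨k, rfl⟩ := hz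
      induction k using Fin.cases with
      | zero =>
        refine ⟨1, ?_⟩
        rw [map_one, IsLocalization.eq_mk'_iff_mul_eq, one_mul]
      | succ l => exact ⟨X l, by simp [pres]⟩
    | zero => rw [IsLocalization.mk'_zero]; exact zero_mem _
    | add p q _ _ hp hq =>
      rw [show IsLocalization.mk' (Localization.Away (a 0)) (p + q) ⟨a 0, Submonoid.mem_powers _⟩ =
        IsLocalization.mk' _ p ⟨a 0, Submonoid.mem_powers _⟩ + IsLocalization.mk' _ q ⟨a 0, Submonoid.mem_powers _⟩ from
          (IsLocalization.eq_mk'_iff_mul_eq.2 (by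
            rw [map_add, add_mul, IsLocalization.mk'_spec, IsLocalization.mk'_spec])).symm]
      exact add_mem hp hq
    | smul r p _ hp =>
      rw [smul_eq_mul, ← IsLocalization.mul_mk'_eq_mk'_of_mul]
      exact mul_mem (Subalgebra.algebraMap_mem _ r) hp
  obtain ⟨x, hx⟩ := key
  exact ⟨x, Subtype.ext hx⟩

theorem exists_pow_killed (j : Fin (t + 1)) :
    ∃ N : ℕ, ∀ i, t < i → Killed (a j ^ N) i (B a) := by
  have hgood : Good j (Finset.univ : Finset (Fin t)) := by
    induction j using Fin.cases with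
    | zero => exact Or.inl rfl
    | succ l => exact Or.inr ⟨l, Finset.mem_univ _, rfl⟩
  obtain ⟨N, hN⟩ := exists_killed a j Finset.univ fun _ => hgood
  have hz : ∀ x ∈ J a Finset.univ, pres a x = 0 := fun x hx => by
    apply Subtype.ext
    apply C_injective (Fin t) (Localization.Away (a 0))
    rw [C_pres, ψ_eq_zero_of_mem a hx]
    exact (map_zero C).symm
  let π : (MvPolynomial (Fin t) A ⧸ J a Finset.univ) →ₐ[A] B a := Ideal.Quotient.liftₐ _ (pres a) hz
  obtain ⟨c, hc⟩ := exists_uniform (C (a j)) (J a Finset.univ) (RingHom.ker (pres a)) (fun x hx => by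
    have h0 : ψ a Finset.univ x = 0 := by
      rw [← C_pres, RingHom.mem_ker.1 hx]
      exact map_zero C
    obtain ⟨M, hM⟩ := exists_pow_mul_mem a h0
    exact ⟨M, pow_mem_of_good a hgood hM⟩)
  refine ⟨N + c, fun i hi => ?_⟩
  obtain ⟨k, rfl⟩ : ∃ k, i = k + 1 := ⟨i - 1, by omega⟩
  rw [pow_add]
  refine killed_right (LinearMap.ker π.toLinearMap).subtype π.toLinearMap
    (LinearMap.exact_subtype_ker_map _) Subtype.val_injective ?_ ?_ (hN (k + 1) (by simpa using hi))
  · intro y
    obtain ⟨x, rfl⟩ := pres_surjective a y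
    exact ⟨Ideal.Quotient.mk _ x, rfl⟩
  · refine killed_of_smul_eq_zero (fun m => Subtype.ext ?_) k
    obtain ⟨m, hm⟩ := m
    obtain ⟨x, rfl⟩ := Ideal.Quotient.mk_surjective m
    show a j ^ c • Ideal.Quotient.mk (J a Finset.univ) x = 0
    rw [algebraMap_quot, C_pow, Ideal.Quotient.eq_zero_iff_mem]
    exact hc x hm

theorem main : ∃ c : ℕ, ∀ (M : Type u) [AddCommGroup M] [Module A M] (i : ℕ), t + 1 ≤ i →
    ∀ x ∈ Ideal.span (Set.range a) ^ c, ∀ y : DRing.Tor A i (B a) M, x • y = 0 := by
  choose N hN using exists_pow_killed a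
  have hrad : Ideal.span (Set.range a) ≤ (Ideal.span (Set.range fun j => a j ^ N j)).radical :=
    Ideal.span_le.2 (by rintro _ ⟨j, rfl⟩; exact ⟨N j, Ideal.subset_span ⟨j, rfl⟩⟩)
  obtain ⟨c, hc⟩ := Ideal.exists_pow_le_of_le_radical_of_fg hrad (IsNoetherian.noetherian _)
  refine ⟨c, fun M _ _ i hi x hx y => ?_⟩
  have h := hc hx
  clear hx
  induction h using Submodule.span_induction with
  | mem z hz =>
    obtain ⟨j, rfl⟩ := hz
    exact killed_tor (hN j i (by omega)) M y
  | zero => exact zero_smul _ _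
  | add p q _ _ hp hq => rw [add_smul, hp, hq, add_zero]
  | smul r p _ hp => rw [smul_eq_mul, mul_smul, hp, smul_zero]

end Groth.LocCohTransform.BlowupTor
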