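import Groth.Agent.LocCohTransform.DimCd
import Groth.Agent.LocCohTransform.BaseChange
import Groth.Agent.Calg1.CompletionLocal
import Mathlib.RingTheory.AdicCompletion.LocalRing
import Mathlib.RingTheory.Ideal.AssociatedPrime.Finiteness
import Mathlib.LinearAlgebra.TensorProduct.Tower

/-!
Hartshorne–Lichtenbaum for complete local rings and for arbitrary local rings via completion.
-/

set_option autoImplicit false
universe u

open CategoryTheory IsLocalRing Groth.LocCohBase TensorProduct

namespace Groth.LocCohTransform.HLVT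

variable {B : Type u} [CommRing B] [IsLocalRing B] [IsNoetherianRing B]

omit [IsNoetherianRing B] in
theorem quotient_quotient_dim (I Q : Ideal B) :
    ringKrullDim ((B ⧸ Q) ⧸ I.map (Ideal.Quotient.mk Q)) = ringKrullDim (B ⧸ (I ⊔ Q)) := by
  rw [ringKrullDim_eq_of_ringEquiv (DoubleQuot.quotQuotEquivQuotSup Q I),
    ringKrullDim_eq_of_ringEquiv (Ideal.quotEquivOfEq (sup_comm Q I))]

/-- A prime of maximal coheight is minimal. -/
theorem mem_minimalPrimes_of_dim_eq {d : ℕ} (hd : ringKrullDim B = d) (Q : Ideal B) [Q.IsPrime]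
    (hQ : ringKrullDim (B ⧸ Q) = d) : Q ∈ minimalPrimes B := by
  refine ⟨⟨inferInstance, bot_le⟩, fun P hP hPQ => ?_⟩
  by_contra hne
  haveI := hP.1
  obtain ⟨y, hyQ, hyP⟩ := SetLike.not_le_iff_exists.1 hne
  have h1 := ringKrullDim_quotient_succ_le_of_nonZeroDivisor
    (mem_nonZeroDivisors_of_ne_zero (M₀ := B ⧸ P) (x := Ideal.Quotient.mk P y)
      fun h => hyP (Ideal.Quotient.eq_zero_iff_mem.1 h))
  rw [← Set.image_singleton, ← Ideal.map_span, quotient_quotient_dim] at h1
  have h2 : ringKrullDim (B ⧸ Q) ≤ ringKrullDim (B ⧸ (Ideal.span {y} ⊔ P)) :=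
    ringKrullDim_le_of_surjective
      (Ideal.Quotient.factor (sup_le ((Ideal.span_singleton_le_iff_mem _).2 hyQ) hPQ))
      (Ideal.Quotient.factor_surjective _)
  have h3 := ((add_le_add h2 le_rfl).trans h1).trans (ringKrullDim_quotient_le P)
  rw [hQ, hd] at h3
  have h4 : d + 1 ≤ d := by exact_mod_cast h3
  omega

/-- Hartshorne–Lichtenbaum for complete local rings. -/
theorem subsingleton_H_complete [IsAdicComplete (maximalIdeal B) B] {d : ℕ}
    (hd : ringKrullDim B = d) (I : Ideal B)
    (h : ∀ Q : Ideal B, Q.IsPrime → ringKrullDim (B ⧸ Q) = d → 1 ≤ ringKrullDim (B ⧸ (I ⊔ Q))) :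
    Subsingleton (LocCoh.H I d B) := by
  refine IsNoetherianRing.induction_on_isQuotientEquivQuotientPrime (A := B) (M := B) inferInstance
    (motive := fun N _ _ _ => Subsingleton (LocCoh.H I d N)) (fun N _ _ _ _ => ?_)
    (fun N _ _ _ p e => ?_) (fun N₁ _ _ _ N₂ _ _ _ N₃ _ _ _ f g hf hg hex h1 h3 => ?_)
  · have := (tensorToH_bijective I d (cdLE_of_dim_le_local I d hd.le) N).2
    exact this.subsingleton
  · refine (subsingleton_H_congr I d e).2 ?_
    haveI : IsLocalRing (B ⧸ p.1) := .of_surjective' (Ideal.Quotient.mk p.1) Ideal.Quotient.mk_surjective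
    obtain ⟨n, hn⟩ := DimCd.exists_nat_dim (A := B) p.2.ne_top
    have hle : n ≤ d := by
      have := ringKrullDim_quotient_le p.1
      rw [hn, hd] at this
      exact_mod_cast this
    rcases lt_or_eq_of_le hle with hlt | rfl
    · refine subsingleton_H_of_supportDim_lt I _ ?_
      rw [Module.supportDim_quotient_eq_ringKrullDim, hn]
      exact Nat.cast_lt.2 hlt
    · haveI := Groth.FrobLCI.CE.isAdicComplete_quotient p.1
      have hpos := lt_of_lt_of_le zero_lt_one (h p.1 p.2 hn)
      rw [← quotient_quotient_dim] at hpos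
      have hdom := subsingleton_H_domain (B ⧸ p.1) hn _ hpos
      obtain ⟨ψ, -⟩ := exists_restrict_addEquiv (R := B) (R' := B ⧸ p.1) I (B ⧸ p.1) n
      exact ψ.symm.toEquiv.subsingleton
  · exact subsingleton_X₂ (I := I) (GrothGoren.seqCx_shortExact f g hex hf hg) d h1 h3

/-- The converse: a component of maximal dimension cut down to the closed point obstructs vanishing. -/
theorem one_le_dim_of_quotient {d : ℕ} (hd : ringKrullDim B = d) (I : Ideal B) (hI : I ≠ ⊤)
    (Q : Ideal B) [Q.IsPrime] (hQ : ringKrullDim (B ⧸ Q) = d)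
    (h1 : Subsingleton (LocCoh.H I d (B ⧸ Q))) : 1 ≤ ringKrullDim (B ⧸ (I ⊔ Q)) := by
  haveI : IsLocalRing (B ⧸ Q) := .of_surjective' (Ideal.Quotient.mk Q) Ideal.Quotient.mk_surjective
  by_contra hlt
  have hle : ringKrullDim (B ⧸ (I ⊔ Q)) ≤ 0 := by
    obtain ⟨n, hn⟩ := DimCd.exists_nat_dim (A := B) (J := I ⊔ Q) (ne_top_of_le_ne_top
      (maximalIdeal.isMaximal B).ne_top (sup_le (le_maximalIdeal hI) (le_maximalIdeal Ideal.IsPrime.ne_top')))
    rw [hn] at hlt ⊢
    have : n < 1 := by
      by_contra hc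
      exact hlt (by exact_mod_cast (show 1 ≤ n by omega))
    exact_mod_cast (show n ≤ 0 by omega)
  obtain ⟨ψ, -⟩ := exists_restrict_addEquiv (R := B) (R' := B ⧸ Q) I (B ⧸ Q) d
  have h2 : Subsingleton (LocCoh.H (I.map (Ideal.Quotient.mk Q)) d (B ⧸ Q)) := ψ.toEquiv.subsingleton
  have hne : I.map (Ideal.Quotient.mk Q) ≠ ⊤ := fun htop => by
    have hle' : I.map (Ideal.Quotient.mk Q) ≤ maximalIdeal (B ⧸ Q) := by
      rw [← IsLocalRing.map_maximalIdeal_of_surjective (Ideal.Quotient.mk Q) Ideal.Quotient.mk_surjective]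
      exact Ideal.map_mono (le_maximalIdeal hI)
    exact (maximalIdeal.isMaximal _).ne_top (top_le_iff.1 (htop ▸ hle'))
  have h3 := subsingleton_H_of_radical_eq
    (DimCd.radical_eq_maximalIdeal hne (by rw [quotient_quotient_dim]; exact hle)).symm d (B ⧸ Q) h2
  exact not_nontrivial_iff_subsingleton.2 h3 (nontrivial_H_supportDim (B ⧸ Q) d
    (by rw [Module.supportDim_self_eq_ringKrullDim, hQ]))

/-- Vanishing at the ring obstructs closed points. -/
theorem one_le_dim_of_subsingleton_H {d : ℕ} (hd : ringKrullDim B = d) (I : Ideal B) (hI : I ≠ ⊤)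
    (h : Subsingleton (LocCoh.H I d B)) (Q : Ideal B) [Q.IsPrime]
    (hQ : ringKrullDim (B ⧸ Q) = d) : 1 ≤ ringKrullDim (B ⧸ (I ⊔ Q)) :=
  one_le_dim_of_quotient hd I hI Q hQ
    (subsingleton_H_of_ring (cdLE_of_dim_le_local I d hd.le) h (B ⧸ Q))

section Completion

variable (R : Type u) [CommRing R] [IsLocalRing R] [IsNoetherianRing R] (I : Ideal R) (d : ℕ)

local notation "C" => AdicCompletion (maximalIdeal R) R

theorem isNoetherianRing_completion : IsNoetherianRing C :=
  Groth.Calg1.isNoetherianRing_adicCompletion _ (IsNoetherian.noetherian _)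

theorem subsingleton_H_iff_completion :
    Subsingleton (LocCoh.H I d R) ↔ Subsingleton (LocCoh.H (I.map (algebraMap R C)) d C) := by
  haveI := isNoetherianRing_completion R
  haveI : Module.Flat R C := AdicCompletion.flat_of_isNoetherian (maximalIdeal R)
  haveI : Module.FaithfullyFlat R C := Module.FaithfullyFlat.of_flat_of_isLocalHom
  obtain ⟨e⟩ := nonempty_baseChange_equiv C I R d
  have e' := (subsingleton_H_congr (I.map (algebraMap R C)) d
    (AlgebraTensorModule.rid R C C))
  constructor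
  · intro h
    refine e'.1 ?_
    exact e.symm.toEquiv.subsingleton
  · intro h
    have := e'.2 h
    have h2 : Subsingleton (C ⊗[R] LocCoh.H I d R) := e.toEquiv.subsingleton
    by_contra hne
    rw [not_subsingleton_iff_nontrivial] at hne
    exact not_subsingleton (C ⊗[R] LocCoh.H I d R) h2

/-- Hartshorne–Lichtenbaum through the completion. -/
theorem subsingleton_H_of_completion (hd : ringKrullDim R = d)
    (h : ∀ p ∈ minimalPrimes C, ringKrullDim (C ⧸ p) = d →
      1 ≤ ringKrullDim (C ⧸ (I.map (algebraMap R C) ⊔ p))) :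
    Subsingleton (LocCoh.H I d R) := by
  haveI := isNoetherianRing_completion R
  have hdC : ringKrullDim C = d := by rw [Groth.Calg1.ringKrullDim_adicCompletion, hd]
  haveI : IsAdicComplete (maximalIdeal C) C := inferInstance
  exact (subsingleton_H_iff_completion R I d).2 (subsingleton_H_complete hdC _ fun Q hQ hQd =>
    h Q (mem_minimalPrimes_of_dim_eq hdC Q hQd) hQd)

theorem one_le_dim_completion (hd : ringKrullDim R = d) (hI : I ≠ ⊤)
    (h : Subsingleton (LocCoh.H I d R)) (P : Ideal C) [P.IsPrime]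
    (hP : ringKrullDim (C ⧸ P) = d) : 1 ≤ ringKrullDim (C ⧸ (I.map (algebraMap R C) ⊔ P)) := by
  haveI := isNoetherianRing_completion R
  have hdC : ringKrullDim C = d := by rw [Groth.Calg1.ringKrullDim_adicCompletion, hd]
  refine one_le_dim_of_subsingleton_H hdC _ ?_ ((subsingleton_H_iff_completion R I d).1 h) P hP
  refine ne_top_of_le_ne_top (maximalIdeal.isMaximal C).ne_top ?_
  refine (Ideal.map_mono (le_maximalIdeal hI)).trans ?_
  rw [← AdicCompletion.maximalIdeal_eq_map]

end Completion

end Groth.LocCohTransform.HLVT
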