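import Mathlib.RingTheory.Filtration
import Mathlib.Algebra.Homology.LocalCohomology
import Groth.Prelude.Def_W4bk5brsh16IT

/-!
The diagram `n ↦ I^n ⊓ J^n` computes local cohomology with support in `I ⊓ J`.
-/

set_option autoImplicit false
universe u
open CategoryTheory CategoryTheory.Limits Opposite

namespace Groth.LocCohTransform

variable {R : Type u} [CommRing R]

lemma exists_inf_pow_le [IsNoetherianRing R] (I J : Ideal R) (m : ℕ) :
    ∃ k, I ^ k ⊓ J ^ k ≤ (I ⊓ J) ^ m := by
  obtain ⟨c, hc⟩ := Ideal.exists_pow_inf_eq_pow_smul I (J ^ m : Ideal R)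
  refine ⟨c + m, ?_⟩
  have h := hc (c + m) (Nat.le_add_right _ _)
  rw [Ideal.smul_top_eq_map, Ideal.smul_top_eq_map, Algebra.algebraMap_self, Ideal.map_id,
    Ideal.map_id, Submodule.restrictScalars_self, Submodule.restrictScalars_self] at h
  calc I ^ (c + m) ⊓ J ^ (c + m) ≤ I ^ (c + m) ⊓ J ^ m :=
        inf_le_inf le_rfl (Ideal.pow_le_pow_right (Nat.le_add_left _ _))
    _ = I ^ (c + m - c) • (I ^ c ⊓ J ^ m) := h
    _ ≤ I ^ m * J ^ m := by
        rw [Nat.add_sub_cancel_left, smul_eq_mul]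
        exact Ideal.mul_mono le_rfl inf_le_right
    _ ≤ (I ⊓ J) ^ m := by
        rw [← mul_pow]
        exact Ideal.pow_right_mono Ideal.mul_le_inf m

/-- `n ↦ I^n ⊓ J^n` as ideals with radical containing `I ⊓ J`. -/
def infPowersToSelfLERadical (I J : Ideal R) : ℕᵒᵖ ⥤ localCohomology.SelfLERadical (I ⊓ J) :=
  ObjectProperty.lift _ (LocCoh.infPowersDiagram I J) fun k => by
    change I ⊓ J ≤ (I ^ unop k ⊓ J ^ unop k).radical
    intro x hx
    exact ⟨unop k, Ideal.pow_mem_pow hx.1 _, Ideal.pow_mem_pow hx.2 _⟩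

instance infPowers_initial [IsNoetherianRing R] (I J : Ideal R) :
    Functor.Initial (infPowersToSelfLERadical I J) where
  out J' := by
    apply +allowSynthFailures zigzag_isConnected
    · obtain ⟨m, hm⟩ := Ideal.exists_pow_le_of_le_radical_of_fg J'.2 (IsNoetherian.noetherian _)
      obtain ⟨k, hk⟩ := exists_inf_pow_le I J m
      exact ⟨CostructuredArrow.mk
        (⟨⟨⟨hk.trans hm⟩⟩⟩ : (infPowersToSelfLERadical I J).obj (op k) ⟶ J')⟩
    · intro j1 j2
      apply Relation.ReflTransGen.single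
      rcases le_total (unop j1.left) (unop j2.left) with h | h
      · right; exact ⟨CostructuredArrow.homMk (homOfLE h).op rfl⟩
      · left; exact ⟨CostructuredArrow.homMk (homOfLE h).op rfl⟩

/-- `colim Ext^i(R/(I^n ⊓ J^n), -) ≅ H^i_{I ⊓ J}`. -/
noncomputable def infPowersIso [IsNoetherianRing R] (I J : Ideal R) (i : ℕ) :
    localCohomology.ofDiagram (LocCoh.infPowersDiagram I J) i ≅ localCohomology (I ⊓ J) i :=
  HasColimit.isoOfNatIso.{0, 0, u + 1, u + 1} (Iso.refl.{u + 1, u + 1} _) ≪≫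
    localCohomology.isoOfFinal.{u, u, 0} (infPowersToSelfLERadical I J)
      (localCohomology.selfLERadicalDiagram (I ⊓ J)) i ≪≫
    localCohomology.isoSelfLERadical (I ⊓ J) i

end Groth.LocCohTransform
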