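import Groth.Agent.LocCohTransform.Degree0
import Groth.Agent.LocCohTransform.InfPowers

/-!
The Mayer–Vietoris sequence of local cohomology.
-/

set_option autoImplicit false
universe u
open CategoryTheory CategoryTheory.Limits Opposite

namespace Groth.LocCohTransform

open Groth.LocCohBase (HH' ι exists_rep exists_desc ι_naturality δ δ_ι quotPow exact₁ exact₂ exact₃)

variable {R : Type u} [CommRing R] (I J : Ideal R)

lemma h0Val_hmap {K K' : Ideal R} (hle : K ≤ K') (M : ModuleCat.{u} R) (x : HH' K' 0 M) :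
    h0Val K M (hmap hle 0 M x) = h0Val K' M x := by
  obtain ⟨n, α, rfl⟩ := exists_rep 0 M x
  obtain ⟨f, rfl⟩ := (Abelian.Ext.mk₀_bijective _ _).2 α
  rw [hmap_ι, Abelian.Ext.mk₀_comp_mk₀, h0Val_ι, h0Val_ι]
  rfl

/-- The first map of the sequence. -/
noncomputable def mvPhi (i : ℕ) (M : ModuleCat.{u} R) :
    HH' (I ⊔ J) i M →ₗ[R] (HH' I i M) × (HH' J i M) :=
  LinearMap.prod (hmap le_sup_left i M) (hmap le_sup_right i M)

/-- The second map of the sequence. -/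
noncomputable def mvPsi (i : ℕ) (M : ModuleCat.{u} R) :
    (HH' I i M) × (HH' J i M) →ₗ[R] HH' (I ⊓ J) i M :=
  hmap (inf_le_left : I ⊓ J ≤ I) i M ∘ₗ LinearMap.fst R (HH' I i M) (HH' J i M) -
    hmap (inf_le_right : I ⊓ J ≤ J) i M ∘ₗ LinearMap.snd R (HH' I i M) (HH' J i M)

/-- Functoriality on the middle term. -/
noncomputable def mvMap (i : ℕ) {M N : ModuleCat.{u} R} (g : M ⟶ N) :
    (HH' I i M) × (HH' J i M) →ₗ[R] (HH' I i N) × (HH' J i N) :=
  LinearMap.prodMap ((localCohomology I i).map g).hom ((localCohomology J i).map g).hom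

/-- The connecting map on the middle term. -/
noncomputable def mvD {S : ShortComplex (ModuleCat.{u} R)} (hS : S.ShortExact) (i : ℕ) :
    (HH' I i S.X₃) × (HH' J i S.X₃) →ₗ[R] (HH' I (i + 1) S.X₁) × (HH' J (i + 1) S.X₁) :=
  LinearMap.prodMap (δ (I := I) hS i) (δ (I := J) hS i)

variable {I J}

lemma mvPhi_natural (i : ℕ) {M N : ModuleCat.{u} R} (g : M ⟶ N) (x : HH' (I ⊔ J) i M) :
    mvPhi I J i N (((localCohomology (I ⊔ J) i).map g).hom x) =
      mvMap I J i g (mvPhi I J i M x) :=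
  Prod.ext (hmap_naturality _ i g x) (hmap_naturality _ i g x)

lemma mvPsi_natural (i : ℕ) {M N : ModuleCat.{u} R} (g : M ⟶ N)
    (p : (HH' I i M) × (HH' J i M)) :
    mvPsi I J i N (mvMap I J i g p) =
      ((localCohomology (I ⊓ J) i).map g).hom (mvPsi I J i M p) := by
  refine Eq.trans ?_ (map_sub _ _ _).symm
  exact congrArg₂ (· - ·) (hmap_naturality _ i g p.1) (hmap_naturality _ i g p.2)

lemma mvPhi_δ {S : ShortComplex (ModuleCat.{u} R)} (hS : S.ShortExact) (i : ℕ)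
    (x : HH' (I ⊔ J) i S.X₃) :
    mvPhi I J (i + 1) S.X₁ (δ hS i x) = mvD I J hS i (mvPhi I J i S.X₃ x) :=
  Prod.ext (hmap_δ _ hS i x) (hmap_δ _ hS i x)

lemma mvPsi_δ {S : ShortComplex (ModuleCat.{u} R)} (hS : S.ShortExact) (i : ℕ)
    (p : (HH' I i S.X₃) × (HH' J i S.X₃)) :
    mvPsi I J (i + 1) S.X₁ (mvD I J hS i p) = δ hS i (mvPsi I J i S.X₃ p) := by
  refine Eq.trans ?_ (map_sub _ _ _).symm
  exact congrArg₂ (· - ·) (hmap_δ _ hS i p.1) (hmap_δ _ hS i p.2)

lemma mvD_exact {S : ShortComplex (ModuleCat.{u} R)} (hS : S.ShortExact) (i : ℕ) :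
    Function.Exact (mvMap I J i S.g) (mvD I J hS i) := by
  intro p
  constructor
  · intro h
    obtain ⟨a, ha⟩ := (exact₃ (I := I) hS i p.1).1 (congrArg Prod.fst h)
    obtain ⟨b, hb⟩ := (exact₃ (I := J) hS i p.2).1 (congrArg Prod.snd h)
    exact ⟨(a, b), Prod.ext ha hb⟩
  · rintro ⟨q, rfl⟩
    exact Prod.ext ((exact₃ (I := I) hS i _).2 ⟨q.1, rfl⟩) ((exact₃ (I := J) hS i _).2 ⟨q.2, rfl⟩)

lemma mvMap_exact {S : ShortComplex (ModuleCat.{u} R)} (hS : S.ShortExact) (i : ℕ) :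
    Function.Exact (mvMap I J i S.f) (mvMap I J i S.g) := by
  intro p
  constructor
  · intro h
    obtain ⟨a, ha⟩ := (exact₂ (I := I) hS i p.1).1 (congrArg Prod.fst h)
    obtain ⟨b, hb⟩ := (exact₂ (I := J) hS i p.2).1 (congrArg Prod.snd h)
    exact ⟨(a, b), Prod.ext ha hb⟩
  · rintro ⟨q, rfl⟩
    exact Prod.ext ((exact₂ (I := I) hS i _).2 ⟨q.1, rfl⟩) ((exact₂ (I := J) hS i _).2 ⟨q.2, rfl⟩)

lemma mvD_surjective {S : ShortComplex (ModuleCat.{u} R)} (hS : S.ShortExact) [Injective S.X₂]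
    (i : ℕ) : Function.Surjective (mvD I J hS i) := by
  intro p
  obtain ⟨a, ha⟩ := (exact₁ (I := I) hS i p.1).1
    ((Groth.LocCohBase.subsingleton_succ_of_injective (I := I) i S.X₂).elim _ _)
  obtain ⟨b, hb⟩ := (exact₁ (I := J) hS i p.2).1
    ((Groth.LocCohBase.subsingleton_succ_of_injective (I := J) i S.X₂).elim _ _)
  exact ⟨(a, b), Prod.ext ha hb⟩

lemma mvPsi_phi (i : ℕ) : ∀ (M : ModuleCat.{u} R) (z : HH' (I ⊔ J) i M),
    mvPsi I J i M (mvPhi I J i M z) = 0 := by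
  induction i with
  | zero =>
    intro M z
    refine sub_eq_zero.2 (h0Val_injective _ M ?_)
    show h0Val _ M (hmap _ 0 M (hmap _ 0 M z)) = h0Val _ M (hmap _ 0 M (hmap _ 0 M z))
    rw [h0Val_hmap, h0Val_hmap, h0Val_hmap, h0Val_hmap]
  | succ i ih =>
    intro M z
    let p := (EnoughInjectives.presentation M).some
    have hS := p.shortExact_shortComplex
    obtain ⟨y, rfl⟩ := (exact₁ (I := I ⊔ J) hS i z).1
      ((Groth.LocCohBase.subsingleton_succ_of_injective (I := I ⊔ J) i p.J).elim _ _)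
    refine (congrArg (mvPsi I J (i + 1) M) (mvPhi_δ hS i y)).trans ((mvPsi_δ hS i _).trans ?_)
    rw [ih, map_zero]

variable [IsNoetherianRing R]

/-- The middle sequence is surjective for injective modules. -/
lemma mvPsi_surjective_of_injective (i : ℕ) (E : ModuleCat.{u} R) [Injective E] :
    Function.Surjective (mvPsi I J i E) := by
  cases i with
  | succ i =>
    exact fun x => ⟨0, (Groth.LocCohBase.subsingleton_succ_of_injective (I := I ⊓ J) i E).elim _ _⟩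
  | zero =>
    intro x
    obtain ⟨n, hn⟩ := (range_h0Val (I ⊓ J) E).le ⟨x, rfl⟩
    obtain ⟨k, hk⟩ := exists_inf_pow_le I J n
    let e : R →ₗ[R] (R ⧸ I ^ k) × (R ⧸ J ^ k) :=
      LinearMap.prod (I ^ k : Ideal R).mkQ (J ^ k : Ideal R).mkQ
    have hker : LinearMap.ker e ≤ LinearMap.ker (LinearMap.toSpanSingleton R E (h0Val _ E x)) :=
      fun r hr => hn r (hk ⟨(Submodule.Quotient.mk_eq_zero _).1 (congrArg Prod.fst hr),
        (Submodule.Quotient.mk_eq_zero _).1 (congrArg Prod.snd hr)⟩)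
    have : Module.Injective R (E : Type u) :=
      @Module.injective_module_of_injective_object R (E : Type u) _ _ _ ‹Injective E›
    obtain ⟨H, hH⟩ := Module.Injective.out (LinearMap.range e).subtype Subtype.val_injective
      ((LinearMap.ker e).liftQ _ hker ∘ₗ e.quotKerEquivRange.symm.toLinearMap)
    let a : HH' I 0 E :=
      ι I 0 E k (Abelian.Ext.mk₀ (ModuleCat.ofHom (X := R ⧸ I ^ k) (H ∘ₗ LinearMap.inl R _ _)))
    let b : HH' J 0 E :=
      ι J 0 E k (Abelian.Ext.mk₀ (ModuleCat.ofHom (X := R ⧸ J ^ k) (H ∘ₗ LinearMap.inr R _ _)))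
    refine ⟨(a, -b), h0Val_injective _ E ?_⟩
    show h0Val _ E (hmap _ 0 E a - hmap _ 0 E (-b)) = _
    rw [map_sub, map_neg, map_neg, sub_neg_eq_add, h0Val_hmap, h0Val_hmap, h0Val_ι, h0Val_ι]
    show H (Submodule.Quotient.mk 1, 0) + H (0, Submodule.Quotient.mk 1) = h0Val _ E x
    rw [← map_add, Prod.mk_add_mk, add_zero, zero_add]
    refine (hH ⟨e 1, LinearMap.mem_range_self e 1⟩).trans ?_
    show (LinearMap.ker e).liftQ _ hker (e.quotKerEquivRange.symm ⟨_, _⟩) = _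
    rw [LinearMap.quotKerEquivRange_symm_apply_image, Submodule.mkQ_apply, Submodule.liftQ_apply]
    exact one_smul R _

theorem mvPsi_exact (i : ℕ) : ∀ (M : ModuleCat.{u} R),
    LinearMap.ker (mvPsi I J i M) = LinearMap.range (mvPhi I J i M) := by
  induction i with
  | zero =>
    intro M
    refine le_antisymm (fun p hp => ?_) (by rintro _ ⟨z, rfl⟩; exact mvPsi_phi 0 M z)
    have h : h0Val I M p.1 = h0Val J M p.2 := by
      rw [← h0Val_hmap (inf_le_left : I ⊓ J ≤ I), ← h0Val_hmap (inf_le_right : I ⊓ J ≤ J)]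
      exact congrArg _ (sub_eq_zero.1 hp)
    obtain ⟨n, hn⟩ := (range_h0Val I M).le ⟨p.1, rfl⟩
    obtain ⟨m, hm⟩ := (range_h0Val J M).le ⟨p.2, rfl⟩
    have : h0Val I M p.1 ∈ DRing.torsionSub (I ⊔ J) M := ⟨n + m, fun a ha => by
      obtain ⟨q, hq, r, hr, rfl⟩ := Submodule.mem_sup.1 (sup_pow_le I J n m ha)
      rw [add_smul, hn q hq, zero_add, h, hm r hr]⟩
    obtain ⟨z, hz⟩ := (range_h0Val _ M).ge this
    exact ⟨z, Prod.ext (h0Val_injective _ M ((h0Val_hmap _ M z).trans hz))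
      (h0Val_injective _ M ((h0Val_hmap _ M z).trans (hz.trans h)))⟩
  | succ i ih =>
    intro M
    refine le_antisymm (fun x hx => ?_) (by rintro _ ⟨z, rfl⟩; exact mvPsi_phi (i + 1) M z)
    let p := (EnoughInjectives.presentation M).some
    have hS := p.shortExact_shortComplex
    have : Injective p.shortComplex.X₂ := p.injective
    obtain ⟨y, rfl⟩ := mvD_surjective (I := I) (J := J) hS i x
    obtain ⟨e, he⟩ := (exact₃ (I := I ⊓ J) hS i _).1 ((mvPsi_δ hS i y).symm.trans hx)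
    obtain ⟨e', rfl⟩ := mvPsi_surjective_of_injective (I := I) (J := J) i p.shortComplex.X₂ e
    have h0 : y - mvMap I J i p.shortComplex.g e' ∈ LinearMap.ker (mvPsi I J i _) := by
      rw [LinearMap.mem_ker, map_sub, sub_eq_zero, mvPsi_natural]
      exact he.symm
    obtain ⟨z, hz⟩ := (ih _).le h0
    refine ⟨δ hS i z, (mvPhi_δ hS i z).trans ?_⟩
    rw [hz, map_sub, (mvD_exact hS i _).2 ⟨e', rfl⟩, sub_zero]

omit [IsNoetherianRing R] in
lemma mvPhi_zero_injective (M : ModuleCat.{u} R) : Function.Injective (mvPhi I J 0 M) :=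
  fun _ _ h => hmap_zero_injective le_sup_left M (congrArg Prod.fst h)

theorem exists_mvDelta (i : ℕ) : ∀ (M : ModuleCat.{u} R),
    ∃ d : HH' (I ⊓ J) i M →ₗ[R] HH' (I ⊔ J) (i + 1) M,
      LinearMap.ker d = LinearMap.range (mvPsi I J i M) ∧
      LinearMap.range d = LinearMap.ker (mvPhi I J (i + 1) M) := by
  induction i with
  | zero =>
    intro M
    let p := (EnoughInjectives.presentation M).some
    have hS := p.shortExact_shortComplex
    have : Injective p.shortComplex.X₂ := p.injective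
    let S := p.shortComplex
    let P : Submodule R ((HH' (I ⊓ J) 0 S.X₁) ×
        (((HH' I 0 S.X₂) × (HH' J 0 S.X₂)) × (HH' (I ⊔ J) 0 S.X₃))) :=
      LinearMap.ker (LinearMap.prod
        (mvPsi I J 0 S.X₂ ∘ₗ LinearMap.fst R _ _ ∘ₗ LinearMap.snd R _ _ -
          ((localCohomology (I ⊓ J) 0).map S.f).hom ∘ₗ LinearMap.fst R _ _)
        (mvMap I J 0 S.g ∘ₗ LinearMap.fst R _ _ ∘ₗ LinearMap.snd R _ _ -
          mvPhi I J 0 S.X₃ ∘ₗ LinearMap.snd R _ _ ∘ₗ LinearMap.snd R _ _))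
    have memP : ∀ x u z, (x, u, z) ∈ P ↔
        mvPsi I J 0 S.X₂ u = ((localCohomology (I ⊓ J) 0).map S.f).hom x ∧
          mvMap I J 0 S.g u = mvPhi I J 0 S.X₃ z := by
      intro x u z
      simp only [P, LinearMap.mem_ker, LinearMap.prod_apply, Function.prod_apply, Prod.mk_eq_zero,
        LinearMap.sub_apply, LinearMap.comp_apply, LinearMap.fst_apply, LinearMap.snd_apply,
        sub_eq_zero]
    let pr : P →ₗ[R] HH' (I ⊓ J) 0 S.X₁ := LinearMap.fst R _ _ ∘ₗ P.subtype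
    let q : P →ₗ[R] HH' (I ⊔ J) (0 + 1) S.X₁ :=
      δ (I := I ⊔ J) hS 0 ∘ₗ LinearMap.snd R _ _ ∘ₗ LinearMap.snd R _ _ ∘ₗ P.subtype
    have hsurj : Function.Surjective pr := by
      intro x
      obtain ⟨u, hu⟩ := mvPsi_surjective_of_injective (I := I) (J := J) 0 S.X₂
        (((localCohomology (I ⊓ J) 0).map S.f).hom x)
      have h0 : mvMap I J 0 S.g u ∈ LinearMap.ker (mvPsi I J 0 S.X₃) := by
        rw [LinearMap.mem_ker, mvPsi_natural, hu]
        exact (exact₂ (I := I ⊓ J) hS 0 _).2 ⟨x, rfl⟩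
      obtain ⟨z, hz⟩ := (mvPsi_exact 0 _).le h0
      exact ⟨⟨(x, u, z), (memP x u z).2 ⟨hu, hz.symm⟩⟩, rfl⟩
    have hker : LinearMap.ker pr ≤ LinearMap.ker q := by
      rintro ⟨⟨x, u, z⟩, hP⟩ (hx : x = 0)
      obtain ⟨h1, h2⟩ := (memP x u z).1 hP
      rw [hx, map_zero] at h1
      obtain ⟨w, rfl⟩ := (mvPsi_exact 0 _).le (LinearMap.mem_ker.2 h1)
      have : ((localCohomology (I ⊔ J) 0).map S.g).hom w = z :=
        mvPhi_zero_injective _ ((mvPhi_natural 0 S.g w).trans h2)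
      exact (exact₃ (I := I ⊔ J) hS 0 z).2 ⟨w, this⟩
    let d : HH' (I ⊓ J) 0 S.X₁ →ₗ[R] HH' (I ⊔ J) (0 + 1) S.X₁ :=
      (LinearMap.ker pr).liftQ q hker ∘ₗ (pr.quotKerEquivOfSurjective hsurj).symm.toLinearMap
    have hd : ∀ w : P, d (pr w) = q w := by
      intro w
      show (LinearMap.ker pr).liftQ q hker ((pr.quotKerEquivOfSurjective hsurj).symm (pr w)) = q w
      rw [show (pr.quotKerEquivOfSurjective hsurj).symm (pr w) = Submodule.Quotient.mk w from
        (LinearEquiv.symm_apply_eq _).2 rfl, Submodule.liftQ_apply]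
    refine ⟨d, le_antisymm ?_ ?_, le_antisymm ?_ ?_⟩
    · intro x hx
      obtain ⟨⟨⟨x, u, z⟩, hP⟩, rfl⟩ := hsurj x
      obtain ⟨h1, h2⟩ := (memP x u z).1 hP
      obtain ⟨v, rfl⟩ := (exact₃ (I := I ⊔ J) hS 0 z).1 ((hd _).symm.trans hx)
      have h3 : mvMap I J 0 S.g (u - mvPhi I J 0 S.X₂ v) = 0 := by
        rw [map_sub, h2, sub_eq_zero]
        exact mvPhi_natural 0 S.g v
      obtain ⟨w, hw⟩ := (mvMap_exact hS 0 _).1 h3
      refine ⟨w, Groth.LocCohBase.map_f_injective_zero (I := I ⊓ J) hS ?_⟩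
      refine (mvPsi_natural 0 S.f w).symm.trans ?_
      rw [hw, map_sub, mvPsi_phi, sub_zero]
      exact h1
    · rintro _ ⟨w, rfl⟩
      have hP : (mvPsi I J 0 S.X₁ w, mvMap I J 0 S.f w, (0 : HH' (I ⊔ J) 0 S.X₃)) ∈ P :=
        (memP _ _ _).2 ⟨mvPsi_natural 0 S.f w, by
          rw [map_zero]; exact (mvMap_exact hS 0 _).2 ⟨w, rfl⟩⟩
      exact (hd ⟨_, hP⟩).trans (map_zero (δ (I := I ⊔ J) hS 0))
    · rintro _ ⟨x, rfl⟩
      obtain ⟨⟨⟨x, u, z⟩, hP⟩, rfl⟩ := hsurj x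
      obtain ⟨h1, h2⟩ := (memP x u z).1 hP
      rw [LinearMap.mem_ker, hd]
      refine (mvPhi_δ hS 0 z).trans ((mvD_exact hS 0 _).2 ⟨u, h2⟩)
    · intro y hy
      obtain ⟨z, rfl⟩ := (exact₁ (I := I ⊔ J) hS 0 y).1
        ((Groth.LocCohBase.subsingleton_succ_of_injective (I := I ⊔ J) 0 S.X₂).elim _ _)
      obtain ⟨u, hu⟩ := (mvD_exact hS 0 _).1 ((mvPhi_δ hS 0 z).symm.trans hy)
      have h1 : ((localCohomology (I ⊓ J) 0).map S.g).hom (mvPsi I J 0 S.X₂ u) = 0 := by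
        rw [← mvPsi_natural, hu, mvPsi_phi]
      obtain ⟨x, hx⟩ := (exact₂ (I := I ⊓ J) hS 0 _).1 h1
      exact ⟨x, hd ⟨(x, u, z), (memP x u z).2 ⟨hx.symm, hu⟩⟩⟩
  | succ i ih =>
    intro M
    let p := (EnoughInjectives.presentation M).some
    have hS := p.shortExact_shortComplex
    have : Injective p.shortComplex.X₂ := p.injective
    let S := p.shortComplex
    obtain ⟨d₀, hd₀ker, hd₀range⟩ := ih S.X₃
    have sub := fun K : Ideal R => fun j : ℕ =>
      Groth.LocCohBase.subsingleton_succ_of_injective (I := K) j S.X₂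
    have surj : ∀ (K : Ideal R) (j : ℕ), Function.Surjective (δ (I := K) hS j) := fun K j y =>
      (exact₁ (I := K) hS j y).1 ((sub K j).elim _ _)
    have inj : ∀ (K : Ideal R), Function.Injective (δ (I := K) hS (i + 1)) := by
      intro K
      refine (injective_iff_map_eq_zero _).2 fun y hy => ?_
      obtain ⟨e, rfl⟩ := (exact₃ (I := K) hS (i + 1) y).1 hy
      rw [(sub K i).elim e 0, map_zero]
    let T := δ (I := I ⊔ J) hS (i + 1) ∘ₗ d₀
    have hker : LinearMap.ker (δ (I := I ⊓ J) hS i) ≤ LinearMap.ker T := by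
      intro y hy
      obtain ⟨e, rfl⟩ := (exact₃ (I := I ⊓ J) hS i y).1 hy
      obtain ⟨e', rfl⟩ := mvPsi_surjective_of_injective (I := I) (J := J) i S.X₂ e
      show δ hS (i + 1) (d₀ _) = 0
      rw [← mvPsi_natural, LinearMap.mem_ker.1 (hd₀ker.ge ⟨_, rfl⟩), map_zero]
    let d : HH' (I ⊓ J) (i + 1) S.X₁ →ₗ[R] HH' (I ⊔ J) (i + 1 + 1) S.X₁ :=
      (LinearMap.ker (δ (I := I ⊓ J) hS i)).liftQ T hker ∘ₗ
        ((δ (I := I ⊓ J) hS i).quotKerEquivOfSurjective (surj _ i)).symm.toLinearMap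
    have hd : ∀ y, d (δ hS i y) = δ hS (i + 1) (d₀ y) := by
      intro y
      show (LinearMap.ker (δ (I := I ⊓ J) hS i)).liftQ T hker
        (((δ (I := I ⊓ J) hS i).quotKerEquivOfSurjective (surj _ i)).symm (δ hS i y)) = _
      rw [show ((δ (I := I ⊓ J) hS i).quotKerEquivOfSurjective (surj _ i)).symm (δ hS i y) =
        Submodule.Quotient.mk y from (LinearEquiv.symm_apply_eq _).2 rfl, Submodule.liftQ_apply]
      rfl
    refine ⟨d, le_antisymm ?_ ?_, le_antisymm ?_ ?_⟩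
    · intro x hx
      obtain ⟨y, rfl⟩ := surj _ i x
      rw [LinearMap.mem_ker, hd] at hx
      obtain ⟨z, rfl⟩ := hd₀ker.le (LinearMap.mem_ker.2 (inj _ (hx.trans (map_zero _).symm)))
      exact ⟨mvD I J hS i z, mvPsi_δ hS i z⟩
    · rintro _ ⟨w, rfl⟩
      obtain ⟨z, rfl⟩ := mvD_surjective (I := I) (J := J) hS i w
      refine LinearMap.mem_ker.2 ((congrArg d (mvPsi_δ hS i z)).trans ?_)
      rw [hd, LinearMap.mem_ker.1 (hd₀ker.ge ⟨z, rfl⟩), map_zero]
    · rintro _ ⟨x, rfl⟩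
      obtain ⟨y, rfl⟩ := surj _ i x
      rw [LinearMap.mem_ker, hd]
      refine (mvPhi_δ hS (i + 1) _).trans ?_
      rw [LinearMap.mem_ker.1 (hd₀range.le ⟨y, rfl⟩), map_zero]
    · intro w hw
      obtain ⟨z, rfl⟩ := surj _ (i + 1) w
      have h1 : mvD I J hS (i + 1) (mvPhi I J (i + 1) S.X₃ z) = 0 := (mvPhi_δ hS (i + 1) z).symm.trans hw
      have h2 : mvPhi I J (i + 1) S.X₃ z = 0 := by
        refine Prod.ext (inj I ?_) (inj J ?_)
        · exact (congrArg Prod.fst h1).trans (map_zero _).symm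
        · exact (congrArg Prod.snd h1).trans (map_zero _).symm
      obtain ⟨y, rfl⟩ := hd₀range.ge (LinearMap.mem_ker.2 h2)
      exact ⟨δ hS i y, hd y⟩

/-- Mayer–Vietoris. -/
theorem mayer_vietoris (M : ModuleCat.{u} R) :
    ∃ d : ∀ i : ℕ, HH' (I ⊓ J) i M →ₗ[R] HH' (I ⊔ J) (i + 1) M,
      Function.Injective (mvPhi I J 0 M) ∧
      (∀ i, LinearMap.ker (mvPhi I J (i + 1) M) = LinearMap.range (d i)) ∧
      (∀ i, LinearMap.ker (mvPsi I J i M) = LinearMap.range (mvPhi I J i M)) ∧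
      ∀ i, LinearMap.ker (d i) = LinearMap.range (mvPsi I J i M) :=
  ⟨fun i => (exists_mvDelta i M).choose, mvPhi_zero_injective M,
    fun i => ((exists_mvDelta i M).choose_spec.2).symm, fun i => mvPsi_exact i M,
    fun i => (exists_mvDelta i M).choose_spec.1⟩

end Groth.LocCohTransform
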