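import Groth.Agent.LocCohTransform.HLVT
import Groth.Agent.LocCohTransform.MayerVietoris
import Groth.Agent.LocCohBase.Nonvanishing
import Groth.Agent.FrobLCI.CE.Reduce
import Mathlib.RingTheory.Ideal.KrullsHeightTheorem
import Mathlib.RingTheory.KrullDimension.NonZeroDivisors

/-!
Dimension is bounded by cohomological dimension plus the dimension of the quotient, and the lower
bound for the cohomological dimension of an intersection of two ideals.
-/

set_option autoImplicit false
universe u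

open CategoryTheory IsLocalRing Groth.LocCohBase

namespace Groth.LocCohTransform.DimCd

variable {A : Type u} [CommRing A] [IsLocalRing A] [IsNoetherianRing A]

theorem exists_nat_dim {J : Ideal A} (hJ : J ≠ ⊤) : ∃ n : ℕ, ringKrullDim (A ⧸ J) = n := by
  haveI : Nontrivial (A ⧸ J) := Ideal.Quotient.nontrivial_iff.2 hJ
  haveI : IsLocalRing (A ⧸ J) := .of_surjective' (Ideal.Quotient.mk J) Ideal.Quotient.mk_surjective
  have h1 : ringKrullDim (A ⧸ J) < ⊤ := ringKrullDim_lt_top
  have h2 : ringKrullDim (A ⧸ J) ≠ ⊥ := fun h => by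
    have := ringKrullDim_nonneg_of_nontrivial (R := A ⧸ J)
    rw [h] at this
    exact absurd this (not_le.2 (WithBot.bot_lt_coe 0))
  obtain ⟨a, ha⟩ := WithBot.ne_bot_iff_exists.1 h2
  cases a with
  | top => exact absurd ha.symm h1.ne
  | coe n => exact ⟨n, ha.symm⟩

theorem exists_nat_ringKrullDim : ∃ n : ℕ, ringKrullDim A = n := by
  obtain ⟨n, hn⟩ := exists_nat_dim (A := A) (J := ⊥) bot_ne_top
  exact ⟨n, by rwa [ringKrullDim_eq_of_ringEquiv (RingEquiv.quotientBot A)] at hn⟩

omit [IsNoetherianRing A] in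
/-- Dimension zero quotients are primary to the maximal ideal. -/
theorem radical_eq_maximalIdeal {J : Ideal A} (hJ : J ≠ ⊤) (h : ringKrullDim (A ⧸ J) ≤ 0) :
    J.radical = (maximalIdeal A).radical := by
  rw [Ideal.IsPrime.radical (maximalIdeal.isMaximal A).isPrime]
  refine le_antisymm (fun x hx => ?_) ?_
  · obtain ⟨n, hn⟩ := hx
    exact (maximalIdeal.isMaximal A).isPrime.mem_of_pow_mem n (le_maximalIdeal hJ hn)
  rw [Ideal.radical_eq_sInf]
  refine le_sInf fun Q ⟨hJQ, hQ⟩ => ?_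
  by_contra hne
  exact not_lt_of_ge h ((ringKrullDim_quotient_pos_iff J).2
    ⟨Q, hQ, hJQ, fun e => hne (e ▸ le_rfl)⟩)

/-- A parameter modulo `J`. -/
theorem exists_param (J : Ideal A) (hJ : J ≠ ⊤) {d : ℕ}
    (hd : ringKrullDim (A ⧸ J) = (d + 1 : ℕ)) :
    ∃ y ∈ maximalIdeal A, ringKrullDim (A ⧸ (J ⊔ Ideal.span {y})) ≤ (d : ℕ) := by
  classical
  have hfin := J.finite_minimalPrimes_of_isNoetherianRing A
  obtain ⟨y, hy, hyn⟩ : ∃ y ∈ maximalIdeal A, ∀ P ∈ J.minimalPrimes, y ∉ P := by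
    by_contra hcon
    push Not at hcon
    have hsub : (maximalIdeal A : Set A) ⊆ ⋃ P ∈ hfin.toFinset, ((id P : Ideal A) : Set A) := by
      intro x hx
      obtain ⟨P, hP, hxP⟩ := hcon x hx
      simp only [Set.mem_iUnion]
      exact ⟨P, by simpa using hP, hxP⟩
    obtain ⟨P, hP, hle⟩ := (Ideal.subset_union_prime ⊥ ⊥ fun P hP _ _ =>
      (hfin.mem_toFinset.1 hP).1.1).1 hsub
    have hPm := hfin.mem_toFinset.1 hP
    have hPeq : P = maximalIdeal A := le_antisymm (le_maximalIdeal hPm.1.1.ne_top) hle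
    obtain ⟨Q, hQ, hJQ, hne⟩ := (ringKrullDim_quotient_pos_iff J).1
      (by rw [hd]; exact_mod_cast Nat.succ_pos d)
    exact hne (le_antisymm (le_maximalIdeal hQ.ne_top) (hPeq ▸ hPm.2 ⟨hQ, hJQ⟩ (by
      rw [hPeq]; exact le_maximalIdeal hQ.ne_top)))
  refine ⟨y, hy, ?_⟩
  rw [ringKrullDim_quotient]
  refine iSup_le fun l => ?_
  obtain ⟨P, hP, hPle⟩ := Ideal.exists_minimalPrimes_le
    (le_sup_left.trans (l.head.2 : _ ≤ l.head.1.asIdeal) : J ≤ l.head.1.asIdeal)
  have hlt : P < l.head.1.asIdeal := lt_of_le_of_ne hPle fun h => hyn P hP (h ▸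
    (l.head.2 : _ ≤ l.head.1.asIdeal) (Submodule.mem_sup_right (Ideal.mem_span_singleton_self y)))
  let l' : LTSeries (PrimeSpectrum.zeroLocus (R := A) (J : Set A)) :=
    (l.map (fun x => (⟨x.1, (le_sup_left : J ≤ J ⊔ Ideal.span {y}).trans x.2⟩ :
      PrimeSpectrum.zeroLocus (R := A) (J : Set A))) (fun a b hab => hab)).cons ⟨⟨P, hP.1.1⟩, hP.1.2⟩ hlt
  have h1 : ((l'.length : ℕ) : WithBot ℕ∞) ≤ ((d + 1 : ℕ) : WithBot ℕ∞) := by
    rw [← hd, ringKrullDim_quotient]
    exact Order.LTSeries.length_le_krullDim l'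
  have h2 : l'.length ≤ d + 1 := by exact_mod_cast h1
  have h3 : l'.length = l.length + 1 := by simp [l']
  exact_mod_cast (show l.length ≤ d by omega)

/-- Cutting by one element drops the dimension by at most one. -/
theorem dim_le_add_one (J : Ideal A) (hJ : J ≠ ⊤) {y : A} (hy : y ∈ maximalIdeal A) :
    ringKrullDim (A ⧸ J) ≤ ringKrullDim (A ⧸ (J ⊔ Ideal.span {y})) + 1 := by
  haveI : Nontrivial (A ⧸ J) := Ideal.Quotient.nontrivial_iff.2 hJ
  haveI : IsLocalRing (A ⧸ J) := .of_surjective' (Ideal.Quotient.mk J) Ideal.Quotient.mk_surjective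
  classical
  refine (ringKrullDim_le_ringKrullDim_quotient_add_card ({Ideal.Quotient.mk J y} : Finset (A ⧸ J))
    ?_).trans (le_of_eq ?_)
  · rw [IsLocalRing.ringJacobson_eq_maximalIdeal]
    simp only [Finset.coe_singleton, Set.singleton_subset_iff, SetLike.mem_coe, mem_maximalIdeal]
    haveI := IsLocalHom.of_surjective (Ideal.Quotient.mk J) Ideal.Quotient.mk_surjective
    exact fun hu => (mem_maximalIdeal y).1 hy ((isUnit_map_iff _ y).1 hu)
  · simp only [Finset.card_singleton, Nat.cast_one]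
    congr 1
    refine ringKrullDim_eq_of_ringEquiv ((Ideal.quotEquivOfEq ?_).trans
      (DoubleQuot.quotQuotEquivQuotSup J (Ideal.span {y})))
    rw [Ideal.map_span, Set.image_singleton, Finset.coe_singleton]

theorem radical_inf_sup (a b c : Ideal A) : ((a ⊔ c) ⊓ (b ⊔ c)).radical = ((a ⊓ b) ⊔ c).radical := by
  refine le_antisymm ?_ (Ideal.radical_mono (sup_le (inf_le_inf le_sup_left le_sup_left)
    (le_inf le_sup_right le_sup_right)))
  conv_rhs => rw [Ideal.radical_eq_sInf]
  refine le_sInf fun Q ⟨hle, hQ⟩ => ?_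
  refine hQ.radical_le_iff.2 ?_
  rcases (hQ.inf_le).1 (le_sup_left.trans hle) with h | h
  · exact inf_le_left.trans (sup_le h (le_sup_right.trans hle))
  · exact inf_le_right.trans (sup_le h (le_sup_right.trans hle))

omit [IsLocalRing A] in
theorem cdLE_congr_radical {I J : Ideal A} (h : I.radical = J.radical) {k : ℕ}
    (hI : LocCoh.CdLE A I k) : LocCoh.CdLE A J k := fun M _ _ i hi => by
  have := hI M i hi
  exact ((localCohomology.isoOfSameRadical h.symm i).app (ModuleCat.of A M)).toLinearEquiv.toEquiv.subsingleton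

/-- `dim A ≤ cd(J) + dim A/J`. -/
theorem dim_le_cd_add_dim : ∀ (d k : ℕ) (J : Ideal A), J ≠ ⊤ →
    ringKrullDim (A ⧸ J) ≤ (d : ℕ) → LocCoh.CdLE A J k →
      ringKrullDim A ≤ ((k + d : ℕ) : WithBot ℕ∞) := by
  intro d
  induction d with
  | zero =>
    intro k J hJ hd hk
    obtain ⟨n, hn⟩ := exists_nat_ringKrullDim (A := A)
    rw [hn]
    refine Nat.cast_le.2 ?_
    by_contra hlt
    have h1 : Subsingleton (LocCoh.H J n A) := hk A n (by omega)
    have h2 := subsingleton_H_of_radical_eq (radical_eq_maximalIdeal hJ (by simpa using hd)).symm n A h1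
    exact not_nontrivial_iff_subsingleton.2 h2 (nontrivial_H_supportDim A n
      (by rw [Module.supportDim_self_eq_ringKrullDim, hn]))
  | succ d ih =>
    intro k J hJ hd hk
    obtain ⟨n, hn⟩ := exists_nat_dim hJ
    rcases Nat.lt_or_ge n (d + 1) with hlt | hge
    · refine (ih k J hJ ?_ hk).trans (Nat.cast_le.2 (by omega))
      rw [hn]; exact Nat.cast_le.2 (by omega)
    · have hnd : n = d + 1 := le_antisymm (by rw [hn] at hd; exact_mod_cast hd) hge
      subst hnd
      obtain ⟨y, hy, hyd⟩ := exists_param J hJ hn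
      refine (ih (k + 1) (J ⊔ Ideal.span {y}) ?_ hyd (cdLE_sup _ _ hk (cdLE_span_singleton y))).trans
        (Nat.cast_le.2 (by omega))
      exact ne_top_of_le_ne_top (maximalIdeal.isMaximal A).ne_top
        (sup_le (le_maximalIdeal hJ) ((Ideal.span_singleton_le_iff_mem _).2 hy))

/-- The lower bound for the cohomological dimension of an intersection in a complete domain. -/
theorem dim_le_cd_inf_add_dim_sup [IsDomain A] [IsAdicComplete (maximalIdeal A) A] :
    ∀ (d k : ℕ) (a b : Ideal A), a ≠ ⊤ → b ≠ ⊤ → ringKrullDim (A ⧸ (a ⊔ b)) ≤ (d : ℕ) →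
      ((d : ℕ) : WithBot ℕ∞) < ringKrullDim (A ⧸ a) →
      ((d : ℕ) : WithBot ℕ∞) < ringKrullDim (A ⧸ b) → LocCoh.CdLE A (a ⊓ b) k →
      ringKrullDim A ≤ ((k + d + 1 : ℕ) : WithBot ℕ∞) := by
  intro d
  induction d with
  | zero =>
    intro k a b ha hb hd hda hdb hk
    obtain ⟨n, hn⟩ := exists_nat_ringKrullDim (A := A)
    rw [hn]
    refine Nat.cast_le.2 ?_
    by_contra hlt
    obtain ⟨i, rfl⟩ : ∃ i, n = i + 1 := ⟨n - 1, by omega⟩
    obtain ⟨δ, hker, hrange⟩ := exists_mvDelta (I := a) (J := b) i (ModuleCat.of A A)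
    have hza := HLVT.subsingleton_H_domain A hn a (by simpa using hda)
    have hzb := HLVT.subsingleton_H_domain A hn b (by simpa using hdb)
    have hzi : Subsingleton (LocCoh.H (a ⊓ b) i A) := hk A i (by omega)
    have hsub : Subsingleton (LocCoh.H (a ⊔ b) (i + 1) A) := by
      refine subsingleton_of_forall_eq 0 fun x => ?_
      have hx : x ∈ LinearMap.ker (mvPhi a b (i + 1) (ModuleCat.of A A)) :=
        Prod.ext (hza.elim _ _) (hzb.elim _ _)
      rw [← hrange] at hx
      obtain ⟨z, hz⟩ := hx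
      rw [← hz, hzi.elim z 0, map_zero]
    have hne : a ⊔ b ≠ ⊤ := ne_top_of_le_ne_top (maximalIdeal.isMaximal A).ne_top
      (sup_le (le_maximalIdeal ha) (le_maximalIdeal hb))
    have h2 := subsingleton_H_of_radical_eq (radical_eq_maximalIdeal hne (by simpa using hd)).symm
      (i + 1) A hsub
    exact not_nontrivial_iff_subsingleton.2 h2 (nontrivial_H_supportDim A (i + 1)
      (by rw [Module.supportDim_self_eq_ringKrullDim, hn]))
  | succ d ih =>
    intro k a b ha hb hd hda hdb hk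
    have hne : a ⊔ b ≠ ⊤ := ne_top_of_le_ne_top (maximalIdeal.isMaximal A).ne_top
      (sup_le (le_maximalIdeal ha) (le_maximalIdeal hb))
    obtain ⟨n, hn⟩ := exists_nat_dim hne
    rcases Nat.lt_or_ge n (d + 1) with hlt | hge
    · refine (ih k a b ha hb (by rw [hn]; exact Nat.cast_le.2 (by omega))
        (lt_trans (Nat.cast_lt.2 (Nat.lt_succ_self d)) hda)
        (lt_trans (Nat.cast_lt.2 (Nat.lt_succ_self d)) hdb) hk).trans (Nat.cast_le.2 (by omega))
    · have hnd : n = d + 1 := le_antisymm (by rw [hn] at hd; exact_mod_cast hd) hge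
      subst hnd
      obtain ⟨y, hy, hyd⟩ := exists_param (a ⊔ b) hne hn
      have hspan : Ideal.span {y} ≤ maximalIdeal A := (Ideal.span_singleton_le_iff_mem _).2 hy
      have hdrop : ∀ c : Ideal A, c ≠ ⊤ → (((d + 1 : ℕ)) : WithBot ℕ∞) < ringKrullDim (A ⧸ c) →
          c ⊔ Ideal.span {y} ≠ ⊤ ∧ ((d : ℕ) : WithBot ℕ∞) < ringKrullDim (A ⧸ (c ⊔ Ideal.span {y})) := by
        intro c hc hlt
        have hc' : c ⊔ Ideal.span {y} ≠ ⊤ := ne_top_of_le_ne_top (maximalIdeal.isMaximal A).ne_top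
          (sup_le (le_maximalIdeal hc) hspan)
        obtain ⟨m, hm⟩ := exists_nat_dim hc'
        have h1 := lt_of_lt_of_le hlt (dim_le_add_one c hc hy)
        rw [hm] at h1 ⊢
        have h2 : d + 1 < m + 1 := by exact_mod_cast h1
        exact ⟨hc', Nat.cast_lt.2 (by omega)⟩
      obtain ⟨ha', hda'⟩ := hdrop a ha hda
      obtain ⟨hb', hdb'⟩ := hdrop b hb hdb
      refine (ih (k + 1) _ _ ha' hb' ?_ hda' hdb' (cdLE_congr_radical (radical_inf_sup a b _).symm
        (cdLE_sup _ _ hk (cdLE_span_singleton y)))).trans (Nat.cast_le.2 (by omega))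
      refine le_trans (le_of_eq ?_) hyd
      exact ringKrullDim_eq_of_ringEquiv (Ideal.quotEquivOfEq (sup_sup_distrib_right a b _).symm)

end Groth.LocCohTransform.DimCd
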