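import Groth.Agent.CohC3.FFConsequences

/-!
`H^i(X, F) → lim H^i(X, F/t^k F)` for an `F`-regular element `t` of a `t`-adically complete ring:
injective when `H^i` is finite, bijective when moreover `H^(i+1)` is finite.
-/

set_option autoImplicit false
set_option linter.style.haveILetI false
universe u

open CategoryTheory CategoryTheory.Limits AlgebraicGeometry Opposite TopologicalSpace
open Groth.CohC3

namespace Groth.LocCohTransform.FormalCompare

variable {A : Type u} [CommRing A] {X : Scheme.{u}} [X.Over (Spec (CommRingCat.of A))]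
  (t : A) (F : X.Modules)

theorem mono_pow (h : Mono (Formal.smulMod A F t)) (k : ℕ) : Mono (Formal.smulMod A F (t ^ k)) := by
  induction k with
  | zero => rw [pow_zero, smulMod_one]; infer_instance
  | succ k ih => rw [pow_succ, smulMod_mul]; exact mono_comp _ _

theorem seq_zero (k : ℕ) :
    Formal.smulMod A F (t ^ k) ≫ Formal.modPowπ (Ideal.span {t}) k F = 0 :=
  (mem_annHom _ _).1
    ((isQuot_modPowπ _ k F).le_ann (Ideal.pow_mem_pow (Ideal.mem_span_singleton_self t) _))

/-- `0 → F → F → F/t^k F → 0`. -/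
noncomputable abbrev powSeq (k : ℕ) : ShortComplex X.Modules :=
  ShortComplex.mk (Formal.smulMod A F (t ^ k)) (Formal.modPowπ (Ideal.span {t}) k F) (seq_zero t F k)

theorem shortExact_powSeq (h : Mono (Formal.smulMod A F t)) (k : ℕ) :
    (powSeq t F k).ShortExact where
  exact := ShortComplex.exact_of_g_is_cokernel _ (CokernelCofork.IsColimit.ofπ' _ _ fun {W} φ hφ => by
    have hann : Ideal.span {t} ^ k ≤ annHom φ := by
      rw [Ideal.span_singleton_pow, Ideal.span_le, Set.singleton_subset_iff, SetLike.mem_coe, mem_annHom]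
      exact hφ
    exact ⟨modPowDesc _ _ φ hann, modPowπ_desc _ _ _ _⟩)
  mono_f := mono_pow t F h k
  epi_g := inferInstanceAs (Epi (Formal.modPowπ (Ideal.span {t}) k F))

/-- The morphism between two of the sequences. -/
noncomputable def powSeqHom {k l : ℕ} (hkl : k ≤ l) : powSeq t F l ⟶ powSeq t F k where
  τ₁ := Formal.smulMod A F (t ^ (l - k))
  τ₂ := 𝟙 F
  τ₃ := qTr F (Ideal.pow_le_pow_right hkl)
  comm₁₂ := by
    change Formal.smulMod A F (t ^ (l - k)) ≫ Formal.smulMod A F (t ^ k) =
      Formal.smulMod A F (t ^ l) ≫ 𝟙 F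
    rw [Category.comp_id, ← smulMod_mul, ← pow_add, Nat.add_sub_cancel' hkl]
  comm₂₃ := (Category.id_comp _).trans (modPowπ_qTr F _).symm

theorem proBij_ker (h : Mono (Formal.smulMod A F t)) (i n : ℕ) (x : Coh.HH X F i)
    (hx : hmap A (Formal.modPowπ (Ideal.span {t}) n F) i x = 0) :
    x ∈ Ideal.span {t} ^ n • (⊤ : Submodule A (Coh.HH X F i)) := by
  obtain ⟨y, hy⟩ := exists_of_hmap_g_eq_zero (A := A) (shortExact_powSeq t F h n) x hx
  change hmap A (Formal.smulMod A F (t ^ n)) i y = x at hy
  rw [hmap_smulMod] at hy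
  exact hy ▸ Submodule.smul_mem_smul (Ideal.pow_mem_pow (Ideal.mem_span_singleton_self t) n) trivial

theorem exists_torsion_stable (Z : Type u) [AddCommGroup Z] [Module A Z] [IsNoetherianRing A]
    [Module.Finite A Z] : ∃ c, ∀ (m : ℕ) (z : Z), t ^ m • z = 0 → t ^ c • z = 0 := by
  let K : ℕ →o Submodule A Z :=
    { toFun := fun k => LinearMap.ker (LinearMap.lsmul A Z (t ^ k))
      monotone' := fun i i' hii q hq => by
        obtain ⟨d, rfl⟩ := Nat.exists_eq_add_of_le hii
        simp only [LinearMap.mem_ker, LinearMap.lsmul_apply] at hq ⊢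
        rw [pow_add, mul_comm, mul_smul, hq, smul_zero] }
  obtain ⟨c, hc⟩ := monotone_stabilizes_iff_noetherian.2 inferInstance K
  refine ⟨c, fun m z hz => ?_⟩
  have hzm : z ∈ K m := hz
  rcases le_total c m with hcm | hmc
  · have : z ∈ K c := by rw [hc m hcm]; exact hzm
    exact this
  · exact K.monotone hmc hzm

theorem proBij [IsNoetherianRing A] (h : Mono (Formal.smulMod A F t)) (i : ℕ)
    (hfin : Module.Finite A (Coh.HH X F (i + 1))) : ProBij (Ideal.span {t}) F i where
  ker n := ⟨n, le_rfl, fun x hx => proBij_ker t F h i n x hx⟩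
  coker n := by
    obtain ⟨c, hc⟩ := exists_torsion_stable t (Coh.HH X F (i + 1))
    refine ⟨n + c, Nat.le_add_right n c, fun y => ?_⟩
    refine exists_of_hdelta_eq_zero (A := A) (shortExact_powSeq t F h n) _ ?_
    have hnat := hdelta_naturality (A := A) (shortExact_powSeq t F h (n + c)) (shortExact_powSeq t F h n)
      (powSeqHom t F (Nat.le_add_right n c)) y
    refine hnat.symm.trans ?_
    have h1 : t ^ (n + c) • hdelta (shortExact_powSeq t F h (n + c)) i y = 0 := by
      rw [← hmap_smulMod]
      exact hmap_f_hdelta (A := A) (shortExact_powSeq t F h (n + c)) y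
    change hmap A (Formal.smulMod A F (t ^ (n + c - n))) (i + 1) _ = 0
    rw [Nat.add_sub_cancel_left, hmap_smulMod]
    exact hc _ _ h1

theorem bijective [IsNoetherianRing A] [IsAdicComplete (Ideal.span {t}) A]
    (h : Mono (Formal.smulMod A F t)) (i : ℕ) (hi : Module.Finite A (Coh.HH X F i))
    (hi' : Module.Finite A (Coh.HH X F (i + 1))) :
    Function.Bijective (Formal.toHHlim (Ideal.span {t}) F i) :=
  (proBij t F h i hi').toHHlim_bijective hi

theorem injective [IsNoetherianRing A] [IsAdicComplete (Ideal.span {t}) A]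
    (h : Mono (Formal.smulMod A F t)) (i : ℕ) (hi : Module.Finite A (Coh.HH X F i)) :
    Function.Injective (Formal.toHHlim (Ideal.span {t}) F i) := by
  have := hi
  have : IsAdicComplete (Ideal.span {t}) (Coh.HH X F i) := Groth.AdicLinTop.Adic.isAdicComplete_of_finite
  refine (injective_iff_map_eq_zero _).2 fun x hx =>
    IsHausdorff.haus (I := Ideal.span {t}) inferInstance x fun n => ?_
  rw [SModEq.zero]
  cases n with
  | zero => rw [pow_zero, Ideal.one_eq_top, Submodule.top_smul]; trivial
  | succ n =>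
    exact proBij_ker t F h i (n + 1) x
      (congrArg (fun w : Formal.HHlim (Ideal.span {t}) F i => (w : ∀ n, Formal.HHmodPow (Ideal.span {t}) F i n) n) hx)

end Groth.LocCohTransform.FormalCompare
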