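import Groth.Agent.LocCohTransform.SectionsFinite
import Groth.Agent.LocCohZBase.RestrExt
import Groth.Agent.CohBase.MayerVietoris
import Groth.Agent.SiteCohomology.Free
import Groth.Prelude.Def_Formal2

/-!
The comparison `H^i(W, F) = H^i(W, F|_W)`, natural in `F`, and its form for tilde modules on a
punctured spectrum.
-/

set_option autoImplicit false
universe u

open CategoryTheory CategoryTheory.Limits AlgebraicGeometry Opposite TopologicalSpace
open CategoryTheory.Abelian (Ext)

namespace Groth.LocCohTransform.HVBridge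

variable {X : TopCat.{u}} (W : Opens X)

theorem isIso_zqπ_bot {Y : TopCat.{u}} {W' V : Opens Y} (h : W' ≤ V) (hW : W' = ⊥) :
    IsIso (cokernel.π (CohCx.freeSheafMap (Opens.grothendieckTopology Y) (homOfLE h))) := by
  subst hW
  have : IsZero (CohCx.freeSheaf (Opens.grothendieckTopology Y) (⊥ : Opens Y)) :=
    Groth.CohBase.isZero_freeOpen_bot
  exact ⟨cokernel.desc _ (𝟙 _) (this.eq_of_src _ _), cokernel.π_desc _ _ _,
    coequalizer.hom_ext (by rw [cokernel.π_desc_assoc, Category.id_comp, Category.comp_id])⟩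

theorem traceW_bot : LocCohZBase.traceW (⊥ : Opens X) W = ⊥ := by
  ext x
  exact ⟨fun hx => hx.elim, fun hx => hx.elim⟩

/-- The free sheaf on `W` as `ℤ_{W∖∅}`. -/
noncomputable def freeIso : CohCx.freeSheaf (Opens.grothendieckTopology X) W ≅
    LocCohZ.zq (bot_le : (⊥ : Opens X) ≤ W) :=
  @asIso _ _ _ _ _ (isIso_zqπ_bot bot_le rfl)

/-- The constant sheaf as `ℤ_{W∖∅}` on `W`. -/
noncomputable def constIso :
    (constantSheaf (Opens.grothendieckTopology (TopCat.of W)) AddCommGrpCat.{u}).obj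
      (AddCommGrpCat.of (ULift.{u} ℤ)) ≅
    LocCohZ.zq (le_top : LocCohZBase.traceW (⊥ : Opens X) W ≤ ⊤) :=
  haveI := Groth.SiteCohomology.isIso_constToFree (J := Opens.grothendieckTopology (TopCat.of W))
    (Preorder.isTerminalTop (Opens (TopCat.of W)))
  asIso (Groth.SiteCohomology.constToFree (Opens.grothendieckTopology (TopCat.of W))
    (Preorder.isTerminalTop (Opens (TopCat.of W)))) ≪≫
    @asIso _ _ _ _ _ (isIso_zqπ_bot le_top (traceW_bot W))

/-- `H^i(W, F) = H^i(W, F|_W)`. -/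
noncomputable def equiv (F : CohTop.Ab X) (i : ℕ) :
    CohTop.HU F i W ≃+ Sheaf.H.{u} (CohTop.restr F W) i :=
  (Groth.SiteCohomology.extIsoLeft (freeIso W).symm F i).trans
    ((AddEquiv.ofBijective _ (LocCohZBase.bijective_restrExt (bot_le : (⊥ : Opens X) ≤ W) i F)).trans
      (Groth.SiteCohomology.extIsoLeft (constIso W) (CohTop.restr F W) i))

theorem equiv_natural {F G : CohTop.Ab X} (φ : F ⟶ G) (i : ℕ) (x : CohTop.HU F i W) :
    equiv W G i (CohTop.HUmap φ i W x) =
      Sheaf.H.map ((CohTop.restrFunctor W).map φ) i (equiv W F i x) := by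
  change (Ext.mk₀ (constIso W).hom).comp (LocCohZBase.restrExt (bot_le : (⊥ : Opens X) ≤ W) G i
      ((Ext.mk₀ (freeIso W).inv).comp (x.comp (Ext.mk₀ φ) (add_zero i)) (zero_add i))) (zero_add i) =
    ((Ext.mk₀ (constIso W).hom).comp (LocCohZBase.restrExt (bot_le : (⊥ : Opens X) ≤ W) F i
      ((Ext.mk₀ (freeIso W).inv).comp x (zero_add i))) (zero_add i)).comp
        (Ext.mk₀ ((CohTop.restrFunctor W).map φ)) (add_zero i)
  rw [← Ext.comp_assoc (Ext.mk₀ (freeIso W).inv) x (Ext.mk₀ φ) (zero_add i) (add_zero i) (by omega),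
    LocCohZBase.restrExt_comp, Ext.mapExactFunctor_mk₀,
    Ext.comp_assoc _ _ _ (zero_add i) (add_zero i) (by omega)]

/-- `H^i(W, M) = H^i(W, M|_W)` for a module on a scheme. -/
noncomputable def schEquiv {Y : Scheme.{u}} (W : Y.Opens) (M : Y.Modules) (i : ℕ) :
    CohTop.HU (X := Y.toTopCat) (Coh.toAb M) i W ≃+
      Coh.HH (↑W) ((Scheme.Modules.restrictFunctor W.ι).obj M) i :=
  equiv (X := Y.toTopCat) W (Coh.toAb M) i

theorem schEquiv_natural {Y : Scheme.{u}} (W : Y.Opens) {M N : Y.Modules} (φ : M ⟶ N) (i : ℕ)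
    (x : CohTop.HU (X := Y.toTopCat) (Coh.toAb M) i W) :
    schEquiv W N i (CohTop.HUmap (X := Y.toTopCat) ((SheafOfModules.toSheaf _).map φ) i W x) =
      Sheaf.H.map (Groth.EulerDeg.abMap ((Scheme.Modules.restrictFunctor W.ι).map φ)) i
        (schEquiv W M i x) :=
  equiv_natural (X := Y.toTopCat) W _ i x

end Groth.LocCohTransform.HVBridge

namespace Groth.LocCohTransform.Punct

variable {A : Type u} [CommRing A] (I : Ideal A)

/-- `H^i(U, N~) = H^i(U, N~|_U)` for the punctured open `U`. -/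
noncomputable def hvEquiv (N : Type u) [AddCommGroup N] [Module A N] (i : ℕ) :
    Formal2.HV A N i (LocCoh.puncturedOpen A I) ≃+ Coh.HH (UU I) ((Φ I).obj (ModuleCat.of A N)) i :=
  HVBridge.schEquiv (LocCoh.puncturedOpen A I) (Formal2.tmod A N) i

theorem hvEquiv_map {M N : Type u} [AddCommGroup M] [Module A M] [AddCommGroup N] [Module A N]
    (φ : M →ₗ[A] N) (i : ℕ) (x : Formal2.HV A M i (LocCoh.puncturedOpen A I)) :
    hvEquiv I N i (Formal2.HVmap A φ i (LocCoh.puncturedOpen A I) x) =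
      Groth.EulerDeg.hMap A ((Φ I).map (ModuleCat.ofHom φ)) i (hvEquiv I M i x) :=
  HVBridge.schEquiv_natural (LocCoh.puncturedOpen A I) (Formal2.tmodMap A φ) i x

end Groth.LocCohTransform.Punct
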