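import Groth.Agent.LocCohTransform.SectionsFinite
import Groth.Agent.LocCohTransform.HVBridge
import Groth.Agent.LocCohTransform.FormalCompare
import Groth.Agent.MiscGeom.AlgzSheaf
import Groth.Agent.CohFin.Proper

/-!
Comparison with formal cohomology along `t` when the torsion of the cohomology is bounded.
-/

set_option autoImplicit false
set_option linter.style.haveILetI false
universe u

open CategoryTheory CategoryTheory.Limits AlgebraicGeometry Opposite TopologicalSpace
open Groth.CohC3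

namespace Groth.LocCohTransform.FormalTorsion

section General

variable {A : Type u} [CommRing A]

/-- A module with a complete submodule containing `t^d H` is complete. -/
theorem isAdicComplete_of_smul_mem [IsNoetherianRing A] (t : A) [IsAdicComplete (Ideal.span {t}) A]
    (H : Type u) [AddCommGroup H] [Module A H] (N : Submodule A H) [Module.Finite A N] (d : ℕ)
    (hd : ∀ h : H, t ^ d • h ∈ N) : IsAdicComplete (Ideal.span {t}) H := by
  have hN : IsAdicComplete (Ideal.span {t}) N := Groth.AdicLinTop.Adic.isAdicComplete_of_finite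
  have mem_pow : ∀ (K : Type u) [AddCommGroup K] [Module A K] (n : ℕ) (x : K),
      x ∈ (Ideal.span {t} ^ n • ⊤ : Submodule A K) ↔ ∃ z, t ^ n • z = x := fun K _ _ n x => by
    rw [Ideal.span_singleton_pow, Submodule.ideal_span_singleton_smul]
    exact ⟨fun ⟨z, _, hz⟩ => ⟨z, hz⟩, fun ⟨z, hz⟩ => ⟨z, trivial, hz⟩⟩
  have hdrop : ∀ (n : ℕ) (x : H) (hx : x ∈ N), x ∈ (Ideal.span {t} ^ (n + d) • ⊤ : Submodule A H) →
      (⟨x, hx⟩ : N) ∈ (Ideal.span {t} ^ n • ⊤ : Submodule A N) := fun n x hx h => by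
    obtain ⟨z, hz⟩ := (mem_pow H (n + d) x).1 h
    exact (mem_pow N n _).2 ⟨⟨t ^ d • z, hd z⟩, Subtype.ext (by
      change t ^ n • t ^ d • z = x
      rw [← mul_smul, ← pow_add, hz])⟩
  refine { haus' := fun x hx => ?_, prec' := fun f hf => ?_ }
  · have hx' : ∀ n, x ∈ (Ideal.span {t} ^ n • ⊤ : Submodule A H) := fun n => SModEq.zero.1 (hx n)
    obtain ⟨z, hz⟩ := (mem_pow H d x).1 (hx' d)
    have hxN : x ∈ N := hz ▸ hd z
    exact congrArg Subtype.val (IsHausdorff.haus (I := Ideal.span {t}) inferInstance (⟨x, hxN⟩ : N)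
      fun n => SModEq.zero.2 (hdrop n x hxN (hx' _)))
  · have hcau : ∀ {m n : ℕ}, m ≤ n → f m - f n ∈ (Ideal.span {t} ^ m • ⊤ : Submodule A H) :=
      fun h => SModEq.sub_mem.1 (hf h)
    have hmem : ∀ n, f (n + d) - f d ∈ N := fun n => by
      obtain ⟨z, hz⟩ := (mem_pow H d _).1 (hcau (Nat.le_add_left d n))
      rw [← neg_sub, ← hz]
      exact N.neg_mem (hd z)
    obtain ⟨L, hL⟩ := IsPrecomplete.prec (I := Ideal.span {t}) (M := N) inferInstance
      (f := fun n => (⟨f (n + d) - f d, hmem n⟩ : N)) (fun {m n} hmn => by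
        refine SModEq.sub_mem.2 ?_
        have h1 := hdrop m (f (m + d) - f (n + d))
          (by rw [show f (m + d) - f (n + d) = (f (m + d) - f d) - (f (n + d) - f d) by abel]
              exact N.sub_mem (hmem m) (hmem n)) (hcau (Nat.add_le_add_right hmn d))
        convert h1 using 1
        exact Subtype.ext (show (f (m + d) - f d) - (f (n + d) - f d) = f (m + d) - f (n + d) by abel))
    refine ⟨f d + L, fun n => SModEq.sub_mem.2 ?_⟩
    obtain ⟨z, hz⟩ := (mem_pow N n _).1 (SModEq.sub_mem.1 (hL n))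
    have h2 : f (n + d) - f d - (L : H) ∈ (Ideal.span {t} ^ n • ⊤ : Submodule A H) :=
      (mem_pow H n _).2 ⟨z, congrArg Subtype.val hz⟩
    rw [show f n - (f d + L) = (f n - f (n + d)) + (f (n + d) - f d - L) by abel]
    exact add_mem (hcau (Nat.le_add_right n d)) h2

end General

variable {A : Type u} [CommRing A] {X : Scheme.{u}} [X.Over (Spec (CommRingCat.of A))]
  [IsNoetherian X] (t : A) (F : X.Modules)

/-- The pro-isomorphism when the torsion of `H^(i+1)` is bounded. -/
theorem proBij (hF : Coh.IsCoh F) (i d : ℕ)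
    (hd : ∀ (m : ℕ) (x : Coh.HH X F (i + 1)), t ^ m • x = 0 → t ^ d • x = 0) :
    ProBij (Ideal.span {t}) F i := by
  obtain ⟨c, hc⟩ := exists_tBound t hF
  have hS := fun j => shortExact_tSeq t F c j (tStable_of_tBound t hF hc)
  let ι' := Abelian.image.ι (Formal.smulMod A F (t ^ c))
  refine ⟨fun n => ⟨c + n, Nat.le_add_left n c, fun x hx => ?_⟩, fun n => ?_⟩
  · obtain ⟨y, hy⟩ := exists_of_hmap_g_eq_zero (A := A) (hS n) x hx
    change hmap A (ι' ≫ Formal.smulMod A F (t ^ n)) i y = x at hy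
    rw [← hmap_comp, hmap_smulMod] at hy
    exact hy ▸ Submodule.smul_mem_smul (Ideal.pow_mem_pow (Ideal.mem_span_singleton_self t) n) trivial
  · let e := c + d
    refine ⟨c + (n + e), by omega, fun y => ?_⟩
    let G := Abelian.image (Formal.smulMod A F (t ^ c))
    have key : t ^ e • hdelta (hS (n + e)) i y = 0 := by
      set z := hdelta (hS (n + e)) i y
      have h0 : t ^ (n + e) • hmap A ι' (i + 1) z = 0 := by
        rw [← hmap_smulMod, hmap_comp]
        exact hmap_f_hdelta (A := A) (hS (n + e)) y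
      have h1 := hd _ _ h0
      have hp : ι' ≫ Abelian.factorThruImage (Formal.smulMod A F (t ^ c)) = Formal.smulMod A G (t ^ c) := by
        rw [← cancel_mono ι', Category.assoc, Abelian.image.fac, ← smulMod_naturality]
      have h2 : t ^ c • z =
          hmap A (Abelian.factorThruImage (Formal.smulMod A F (t ^ c))) (i + 1) (hmap A ι' (i + 1) z) := by
        rw [hmap_comp, hp, hmap_smulMod]
      rw [pow_add, mul_comm, mul_smul, h2, ← map_smul, h1, map_zero]
    obtain ⟨x, hx⟩ := exists_of_hdelta_eq_zero (A := A) (hS n)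
      (hmap A (quotMap t c (𝟙 F) (Nat.le_add_right n e)) i y) (by
        refine (hdelta_naturality (A := A) (hS (n + e)) (hS n)
          (tSeqHom t c (𝟙 F) (Nat.le_add_right n e)) y).symm.trans ?_
        change hmap A (imgMap t c (𝟙 F) ≫ Formal.smulMod A _ (t ^ (n + e - n))) (i + 1) _ = 0
        rw [Nat.add_sub_cancel_left, ← hmap_comp, hmap_smulMod, ← map_smul, key, map_zero])
    refine ⟨x, ?_⟩
    have hn : n ≤ c + n := Nat.le_add_left n c
    rw [← modPowπ_qTr F (Ideal.pow_le_pow_right hn : Ideal.span {t} ^ (c + n) ≤ Ideal.span {t} ^ n),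
      ← hmap_comp]
    change hmap A _ i (hmap A (Formal.modPowπ (Ideal.span {t}) (c + n) F) i x) = _
    erw [hx]
    rw [hmap_comp]
    refine congrArg (fun φ => hmap A φ i y) ((isQuot_modPowπ _ _ F).hom_ext ?_)
    change _ ≫ modPowDesc _ _ _ _ ≫ _ = _
    rw [modPowπ_qTr, ← Category.assoc, modPowπ_desc, Category.id_comp, modPowπ_qTr]

/-- The comparison map is bijective. -/
theorem bijective [IsNoetherianRing A] [IsAdicComplete (Ideal.span {t}) A] (hF : Coh.IsCoh F) (i : ℕ)
    (N : Submodule A (Coh.HH X F i)) [Module.Finite A N] (d₀ : ℕ) (hN : ∀ x, t ^ d₀ • x ∈ N) (d : ℕ)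
    (hd : ∀ x : Coh.HH X F (i + 1), t ^ d • x = 0) :
    Function.Bijective (Formal.toHHlim (Ideal.span {t}) F i) := by
  have := isAdicComplete_of_smul_mem t (Coh.HH X F i) N d₀ hN
  have e : ⇑(Formal.toHHlim (Ideal.span {t}) F i) =
      completionToLim (Ideal.span {t}) F i ∘ AdicCompletion.of (Ideal.span {t}) _ :=
    funext fun x => (completionToLim_of _ F i x).symm
  rw [e]
  exact (proBij t F hF i d fun _ x _ => hd x).completionToLim_bijective.comp
    (AdicCompletion.of_bijective_iff.2 this)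

end Groth.LocCohTransform.FormalTorsion

namespace Groth.LocCohTransform.Punct

variable {A : Type u} [CommRing A] (I : Ideal A)

theorem map_mulHom (M : ModuleCat.{u} A) (a : A) :
    (Φ I).map (mulHom M a) = Formal.smulMod A ((Φ I).obj M) a :=
  (SheafOfModules.toSheaf _).map_injective (abMap_mulHom I M a)

/-- `(M/JM)~|_U = M~|_U / J`. -/
theorem isQuot_Φ_mkQ [IsNoetherianRing A] (J : Ideal A) (M : ModuleCat.{u} A) :
    IsQuot J ((Φ I).map (ModuleCat.ofHom (J • (⊤ : Submodule A M)).mkQ)) := by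
  classical
  obtain ⟨s, hs⟩ := IsNoetherian.noetherian J
  let f : ModuleCat.of A (s → M) ⟶ M :=
    ∑ a : s, ModuleCat.ofHom (LinearMap.proj a) ≫ mulHom M (a : A)
  have hfx : ∀ x : s → M, f x = ∑ a : s, (a : A) • x a := fun x => by
    simp only [f, ModuleCat.hom_sum, LinearMap.coe_sum, Finset.sum_apply]
    rfl
  have hrange : LinearMap.range f.hom = J • (⊤ : Submodule A M) := by
    refine le_antisymm ?_ ?_
    · rintro _ ⟨x, rfl⟩
      erw [hfx]
      exact Submodule.sum_mem _ fun a _ =>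
        Submodule.smul_mem_smul (hs ▸ Submodule.subset_span a.2) trivial
    · refine Submodule.smul_le.2 fun r hr m _ => ?_
      rw [← hs] at hr
      induction hr using Submodule.span_induction with
      | mem a ha =>
        refine ⟨fun b => if b = ⟨a, ha⟩ then m else 0, (hfx _).trans ?_⟩
        simp
      | zero => rw [zero_smul]; exact zero_mem _
      | add a b _ _ ha hb => rw [add_smul]; exact add_mem ha hb
      | smul c a _ ha => rw [smul_eq_mul, mul_smul]; exact Submodule.smul_mem _ c ha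
  let S : ShortComplex (ModuleCat.{u} A) :=
    ShortComplex.mk f (ModuleCat.ofHom (J • (⊤ : Submodule A M)).mkQ) (by
      ext x
      exact (Submodule.Quotient.mk_eq_zero _).2 (hrange ▸ ⟨_, rfl⟩))
  have hex : S.Exact := (ShortComplex.moduleCat_exact_iff _).2 fun y hy =>
    hrange.ge ((Submodule.Quotient.mk_eq_zero _).1 hy)
  haveI hepi : Epi S.g := (ModuleCat.epi_iff_surjective _).2 (Submodule.mkQ_surjective _)
  refine ⟨fun a ha => ?_, inferInstanceAs (Epi ((Φ I).map S.g)), fun {N} φ hφ => ?_⟩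
  · rw [mem_annHom, ← map_mulHom, ← Functor.map_comp,
      show mulHom M a ≫ ModuleCat.ofHom (J • (⊤ : Submodule A M)).mkQ = 0 from by
        ext1
        refine LinearMap.ext fun y => ?_
        exact (Submodule.Quotient.mk_eq_zero _).2 (Submodule.smul_mem_smul ha trivial),
      Functor.map_zero]
  · have hexF : (S.map (Φ I)).Exact := hex.map_of_epi_of_preservesCokernel (Φ I) hepi inferInstance
    haveI : Epi (S.map (Φ I)).g := inferInstanceAs (Epi ((Φ I).map S.g))
    refine ⟨hexF.desc φ ?_, hexF.g_desc φ _⟩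
    change (Φ I).map f ≫ φ = 0
    rw [Functor.map_sum, Preadditive.sum_comp]
    refine Finset.sum_eq_zero fun a _ => ?_
    rw [Functor.map_comp, map_mulHom, Category.assoc,
      (mem_annHom φ _).1 (hφ (hs ▸ Submodule.subset_span a.2)), comp_zero]

variable [IsNoetherianRing A]

theorem isCoh_Φ (M : ModuleCat.{u} A) [Module.Finite A M] : Coh.IsCoh ((Φ I).obj M) := by
  haveI : IsNoetherianRing (CommRingCat.of A) := ‹IsNoetherianRing A›
  exact Groth.CohFin.isCoh_restrict (Groth.MiscGeom.AlgzSheaf.isCoh_tilde M) (LocCoh.puncturedOpen A I)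

instance isNoetherian_UU : IsNoetherian (UU I) := by
  haveI : IsNoetherianRing (CommRingCat.of A) := ‹IsNoetherianRing A›
  haveI : IsLocallyNoetherian (UU I) :=
    isLocallyNoetherian_of_isOpenImmersion (LocCoh.puncturedOpen A I).ι
  haveI : CompactSpace (UU I) := isCompact_iff_compactSpace.mp
    (PrimeSpectrum.isCompact_isOpen_iff_ideal.2 ⟨I, IsNoetherian.noetherian I, rfl⟩).1
  exact ⟨⟩

theorem killed_coker_γ (M : ModuleCat.{u} A) (x : A)
    (h : ∀ z : LocCohBase.HH' I 1 M, x • z = 0) (s : Coh.HH (UU I) ((Φ I).obj M) 0) :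
    x • s ∈ LinearMap.range (γ I M) := by
  obtain ⟨N, f, hf⟩ := exists_surjective_coker_γ I (embSeq_shortExact M)
  obtain ⟨z, hz⟩ := hf (Submodule.Quotient.mk s)
  refine (Submodule.Quotient.mk_eq_zero (LinearMap.range (γ I M))).1 ?_
  refine (Submodule.Quotient.mk_smul (LinearMap.range (γ I M)) x s).trans ?_
  rw [← hz, ← map_smul, show x • z = 0 from Subtype.ext (h _), map_zero]

theorem killed_H_X₃ {S : ShortComplex (ModuleCat.{u} A)} (hS : S.ShortExact)
    [Injective S.X₂] (i : ℕ) (x : A) (h : ∀ z : LocCohBase.HH' I (i + 2) S.X₁, x • z = 0)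
    (z : LocCohBase.HH' I (i + 1) S.X₃) : x • z = 0 := by
  have h0 : LocCohBase.δ (I := I) hS (i + 1) (x • z) = 0 := by rw [map_smul]; exact h _
  obtain ⟨y, hy⟩ := (LocCohBase.exact₃ (I := I) hS (i + 1) _).1 h0
  haveI := LocCohBase.subsingleton_succ_of_injective (I := I) i S.X₂
  rw [← hy, Subsingleton.elim y 0, map_zero]

theorem killed_HH_Φ_succ (x : A) : ∀ (p : ℕ) (M : ModuleCat.{u} A),
    (∀ z : LocCohBase.HH' I (p + 2) M, x • z = 0) →
      ∀ s : Coh.HH (UU I) ((Φ I).obj M) (p + 1), x • s = 0 := by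
  intro p
  induction p with
  | zero =>
    intro M h s
    have hS := embSeq_shortExact M
    obtain ⟨δ, hr, hl⟩ := exists_deltaΦ I hS 0
    obtain ⟨y, rfl⟩ := (hl s).1 (Subsingleton.elim (h := subsingleton_HH_Φ_injective I _ 0) _ _)
    obtain ⟨q, hq⟩ := killed_coker_γ I _ x (killed_H_X₃ I hS 0 x h) y
    obtain ⟨e, rfl⟩ := Submodule.mkQ_surjective _ q
    rw [← map_smul, ← hq]
    exact (congrArg δ (γ_map I (embSeq M).g e)).trans ((hr _).2 ⟨_, rfl⟩)
  | succ p ih =>
    intro M h s
    have hS := embSeq_shortExact M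
    obtain ⟨δ, hr, hl⟩ := exists_deltaΦ I hS (p + 1)
    obtain ⟨y, rfl⟩ := (hl s).1 (Subsingleton.elim (h := subsingleton_HH_Φ_injective I _ (p + 1)) _ _)
    rw [← map_smul, ih _ (killed_H_X₃ I hS (p + 1) x h) y, map_zero]

omit [IsNoetherianRing A] in
theorem HV_bijective_of_iso_aux {J : Ideal A} {F : (UU I).Modules} {i : ℕ}
    (P : ℕ → (UU I).Modules) (v : ∀ n, Formal.modPow J (n + 1) F ⟶ P n) [∀ n, IsIso (v n)]
    (τ : ∀ n, P (n + 1) ⟶ P n)
    (hτ : ∀ n, v (n + 1) ≫ τ n = Formal.modPowTrans J (n + 1) F ≫ v n)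
    (h : Function.Bijective (Formal.toHHlim J F i)) :
    (∀ x x' : Coh.HH (UU I) F i, (∀ n, hmap A (Formal.modPowπ J (n + 1) F ≫ v n) i x =
        hmap A (Formal.modPowπ J (n + 1) F ≫ v n) i x') → x = x') ∧
      ∀ y : ∀ n, Coh.HH (UU I) (P n) i, (∀ n, hmap A (τ n) i (y (n + 1)) = y n) →
        ∃ x, ∀ n, hmap A (Formal.modPowπ J (n + 1) F ≫ v n) i x = y n := by
  have hval : ∀ n x, hmap A (Formal.modPowπ J (n + 1) F ≫ v n) i x =
      hmap A (v n) i (Formal.toHHmodPow J F i n x) := fun n x => by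
    rw [← hmap_comp]; rfl
  refine ⟨fun x x' hxx => h.1 (Subtype.ext (funext fun n =>
    (hmap_bijective_of_isIso (A := A) (v n) i).1 ?_)), fun y hy => ?_⟩
  · exact (hval n x).symm.trans ((hxx n).trans (hval n x'))
  · choose z hz using fun n => (hmap_bijective_of_isIso (A := A) (v n) i).2 (y n)
    obtain ⟨x, hx⟩ := h.2 ⟨z, fun n => (hmap_bijective_of_isIso (A := A) (v n) i).1 (by
      change hmap A (v n) i (hmap A (Formal.modPowTrans J (n + 1) F) i (z (n + 1))) = hmap A (v n) i (z n)
      rw [hmap_comp, ← hτ, ← hmap_comp, hz, hy, hz])⟩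
    refine ⟨x, fun n => (hval n x).trans ?_⟩
    rw [← hz]
    exact congrArg (hmap A (v n) i) (congrFun (congrArg Subtype.val hx) n)

/-- Translation to the elementwise predicate. -/
theorem formalCohBijective_of_bijective (J : Ideal A) (M : Type u) [AddCommGroup M] [Module A M] (i : ℕ)
    (h : Function.Bijective (Formal.toHHlim J ((Φ I).obj (ModuleCat.of A M)) i)) :
    Formal2.FormalCohBijective A J M i (LocCoh.puncturedOpen A I) := by
  let π := fun n => (Φ I).map (ModuleCat.ofHom (Formal2.quotPowπ A J M n))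
  have hπ : ∀ n, IsQuot (J ^ (n + 1)) (π n) := fun n => isQuot_Φ_mkQ I (J ^ (n + 1)) (ModuleCat.of A M)
  choose v hv using fun n => (isQuot_modPowπ J (n + 1) _).desc (π n) (hπ n).le_ann
  choose w hw using fun n => (hπ n).desc (Formal.modPowπ J (n + 1) _) (isQuot_modPowπ J (n + 1) _).le_ann
  haveI : ∀ n, IsIso (v n) := fun n => ⟨w n,
    (isQuot_modPowπ J (n + 1) _).hom_ext (by rw [← Category.assoc, hv, hw, Category.comp_id]),
    (hπ n).hom_ext (by rw [← Category.assoc, hw, hv, Category.comp_id])⟩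
  have := HV_bijective_of_iso_aux I (fun n => (Φ I).obj (ModuleCat.of A (Formal2.quotPow A J M n))) v
    (fun n => (Φ I).map (ModuleCat.ofHom (Formal2.quotPowTrans A J M n)))
    (fun n => (isQuot_modPowπ J (n + 1 + 1) _).hom_ext (by
      rw [← Category.assoc, hv, ← Category.assoc, Formal.modPowπ_trans, hv, ← Functor.map_comp]
      rfl)) h
  simp only [hv] at this
  obtain ⟨h1, h2⟩ := this
  have key : ∀ n x, hvEquiv I _ i (Formal2.HVmap A (Formal2.quotPowπ A J M n) i (LocCoh.puncturedOpen A I) x) =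
      hmap A (π n) i (hvEquiv I M i x) := fun n x => hvEquiv_map I _ i x
  refine ⟨fun x x' hxx => (hvEquiv I M i).injective (h1 _ _ fun n => ?_), fun y hy => ?_⟩
  · exact (key n x).symm.trans ((congrArg (hvEquiv I _ i) (hxx n)).trans (key n x'))
  · obtain ⟨x, hx⟩ := h2 (fun n => hvEquiv I _ i (y n)) fun n =>
      (hvEquiv_map I _ i _).symm.trans (congrArg (hvEquiv I _ i) (hy n))
    refine ⟨(hvEquiv I M i).symm x, fun n => (hvEquiv I _ i).injective ?_⟩
    rw [key, AddEquiv.apply_symm_apply]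
    exact hx n

/-- The comparison theorem. -/
theorem formalCohBijective_of_killed (t : A) [IsAdicComplete (Ideal.span {t}) A]
    (M : Type u) [AddCommGroup M] [Module A M] [Module.Finite A M] (i : ℕ) (d₁ d₂ : ℕ)
    (h₁ : ∀ z : LocCohBase.HH' I (i + 1) (ModuleCat.of A M), t ^ d₁ • z = 0)
    (h₂ : ∀ z : LocCohBase.HH' I (i + 2) (ModuleCat.of A M), t ^ d₂ • z = 0) :
    Formal2.FormalCohBijective A (Ideal.span {t}) M i (LocCoh.puncturedOpen A I) := by
  refine formalCohBijective_of_bijective I _ M i ?_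
  have hd := killed_HH_Φ_succ I (t ^ d₂) i (ModuleCat.of A M) h₂
  cases i with
  | zero =>
    haveI : Module.Finite A (LinearMap.range (γ I (ModuleCat.of A M))) := Module.Finite.range _
    exact FormalTorsion.bijective t _ (isCoh_Φ I _) 0 (LinearMap.range (γ I (ModuleCat.of A M))) d₁
      (killed_coker_γ I _ _ h₁) d₂ hd
  | succ p =>
    exact FormalTorsion.bijective t _ (isCoh_Φ I _) (p + 1) ⊥ d₁
      (fun s => (Submodule.mem_bot A).2 (killed_HH_Φ_succ I _ p _ h₁ s)) d₂ hd

end Groth.LocCohTransform.Punct
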