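import Groth.Agent.LocCohTransform.PuncturedArtinian
import Groth.Agent.S9831
import Groth.Agent.QCohMod.FiniteType

/-!
Cohomology of coherent modules on the punctured spectrum of a Noetherian local ring.
-/

set_option autoImplicit false
universe u

open CategoryTheory AlgebraicGeometry
open IsLocalRing (maximalIdeal)

namespace Groth.LocCohTransform.Punct

variable {A : Type u} [CommRing A] [IsNoetherianRing A]

/-- A coherent module on a punctured open comes from a finite module. -/
theorem exists_finite_iso_Φ (I : Ideal A) (F : (UU I).Modules) (hF : Coh.IsCoh F) :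
    ∃ M : ModuleCat.{u} A, Module.Finite A M ∧ Nonempty ((Φ I).obj M ≅ F) := by
  have : F.IsQuasicoherent := hF.1
  obtain ⟨G, hGq, hG, ⟨e⟩⟩ := Groth.Agent.S9831.result (X := Spec (CommRingCat.of A))
    (LocCoh.puncturedOpen A I)
    (PrimeSpectrum.isCompact_isOpen_iff_ideal.2 ⟨I, IsNoetherian.noetherian I, rfl⟩).1 F hF.2
  have : G.IsQuasicoherent := hGq
  let N : ModuleCat.{u} A := (moduleSpecΓFunctor (R := CommRingCat.of A)).obj G
  obtain ⟨t, ht⟩ := (Groth.QCohMod.finite_sections G hG (isAffineOpen_top _)).fg_top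
  have hN : Module.Finite A N := by
    classical
    refine ⟨⟨(t.image fun y => (show N from y)), Submodule.eq_top_iff'.2 fun y => ?_⟩⟩
    have hy : (show Γ(G, (⊤ : (Spec (CommRingCat.of A)).Opens)) from y) ∈
        Submodule.span Γ(Spec (CommRingCat.of A), ⊤)
          (t : Set Γ(G, (⊤ : (Spec (CommRingCat.of A)).Opens))) := ht.ge Submodule.mem_top
    suffices key : ∀ z : Γ(G, (⊤ : (Spec (CommRingCat.of A)).Opens)),
        z ∈ Submodule.span Γ(Spec (CommRingCat.of A), ⊤)
          (t : Set Γ(G, (⊤ : (Spec (CommRingCat.of A)).Opens))) →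
        (show N from z) ∈ Submodule.span A
          ((t.image fun y => (show N from y) : Finset N) : Set N) from key y hy
    intro z hz
    induction hz using Submodule.span_induction with
    | mem z hz => exact Submodule.subset_span (Finset.mem_coe.2 (Finset.mem_image_of_mem _ hz))
    | zero => exact zero_mem _
    | add z w _ _ hz hw => exact add_mem hz hw
    | smul c z _ hz =>
      obtain ⟨a, rfl⟩ :=
        (ConcreteCategory.bijective_of_isIso (Scheme.ΓSpecIso (CommRingCat.of A)).inv).2 c
      have e : a • (show N from z) =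
          (show N from ((Scheme.ΓSpecIso (CommRingCat.of A)).inv a) • z) := by
        refine (Scheme.Modules.smul_Spec_def (M := G) a z).trans ?_
        congr 1
      exact e ▸ Submodule.smul_mem _ a hz
  refine ⟨N, hN, ⟨?_ ≪≫ e⟩⟩
  have : IsIso (Scheme.Modules.fromTildeΓ (R := CommRingCat.of A) G) :=
    (isQuasicoherent_iff_isIso_fromTildeΓ (R := CommRingCat.of A) G).1 hGq
  exact (Scheme.Modules.restrictFunctor _).mapIso
    (@asIso _ _ _ _ (Scheme.Modules.fromTildeΓ (R := CommRingCat.of A) G) this)

variable [IsLocalRing A]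

/-- Cohomology in positive degree of a coherent module on the punctured spectrum is Artinian. -/
theorem isArtinian_HH_of_isCoh (F : (UU (maximalIdeal A)).Modules) (hF : Coh.IsCoh F) (i : ℕ)
    (hi : 0 < i) : IsArtinian A (Coh.HH (UU (maximalIdeal A)) F i) := by
  obtain ⟨i, rfl⟩ : ∃ j, i = j + 1 := ⟨i - 1, by omega⟩
  obtain ⟨M, hM, ⟨e⟩⟩ := exists_finite_iso_Φ (maximalIdeal A) F hF
  have := isArtinian_HH_Φ i M hM
  exact isArtinian_of_linearEquiv (Groth.EulerDeg.hEquiv A e (i + 1))

end Groth.LocCohTransform.Punct
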