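import Groth.Agent.LocCohTransform.PuncturedFunctor
import Groth.Agent.LocCohZBase.AffineDepth
import Groth.Agent.SchemeMorphisms.AssRestrict

/-! Depths of the stalks of `M~|_U`. -/

set_option autoImplicit false
set_option linter.style.haveILetI false
universe u

open CategoryTheory CategoryTheory.Limits AlgebraicGeometry Opposite TopologicalSpace

namespace Groth.LocCohTransform.Punct

/-- `R → O_{Spec R, x}`. -/
@[reducible]
noncomputable def specStalkAlg {R : CommRingCat.{u}} (x : Spec R) :
    Algebra R ((Spec R).presheaf.stalk x) :=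
  inferInstanceAs (Algebra R ((Spec.structureSheaf R).presheaf.stalk x))

theorem smul_tilde_stalk {R : CommRingCat.{u}} (M : ModuleCat.{u} R) (x : Spec R) (a : R)
    (z : (tilde M).presheaf.stalk x) :
    letI := specStalkAlg x
    a • z = (algebraMap R ((Spec R).presheaf.stalk x)) a • z := by
  obtain ⟨W, hx, s, rfl⟩ := TopCat.Presheaf.exists_germ_eq (tilde M).presheaf z
  rfl

set_option backward.isDefEq.respectTransparency.types false in
theorem depth_stalk_tilde {R : CommRingCat.{u}} (M : ModuleCat.{u} R) (y : PrimeSpectrum R) :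
    LocCoh.depth ((Spec R).presheaf.stalk (show (Spec R) from y))
        ((tilde M).presheaf.stalk (show (Spec R) from y)) =
      LocCoh.depth (Localization.AtPrime y.asIdeal) (LocalizedModule y.asIdeal.primeCompl M) := by
  let S := y.asIdeal.primeCompl
  letI := specStalkAlg (show (Spec R) from y)
  haveI hloc : IsLocalization S ((Spec R).presheaf.stalk (show (Spec R) from y)) :=
    inferInstanceAs (IsLocalization.AtPrime ((Spec.structureSheaf R).presheaf.stalk y) y.asIdeal)
  let f := IsLocalizedModule.iso S (tilde.toStalk M y).hom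
  let η := IsLocalization.algEquiv S (Localization S) ((Spec R).presheaf.stalk (show (Spec R) from y))
  have tower := fun (a : R) (w : (tilde M).presheaf.stalk (show (Spec R) from y)) => smul_tilde_stalk M _ a w
  refine (Groth.LocCohZBase.depth_eq_of_semilinear η.toRingEquiv f.toAddEquiv fun r m => ?_).symm
  obtain ⟨a, s, rfl⟩ := IsLocalization.exists_mk'_eq S r
  change f (IsLocalization.mk' (Localization S) a s • m) =
    η (IsLocalization.mk' (Localization S) a s) • f m
  refine (IsLocalization.map_units ((Spec R).presheaf.stalk (show (Spec R) from y)) s).smul_left_cancel.1 ?_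
  rw [← tower, ← map_smul, ← algebraMap_smul (Localization S) (s : R), ← mul_smul,
    IsLocalization.mk'_spec', algebraMap_smul, map_smul, tower, ← mul_smul]
  congr 1
  rw [← η.commutes (s : R), ← map_mul, IsLocalization.mk'_spec', η.commutes]

variable {A : Type u} [CommRing A] (I : Ideal A)

theorem depth_stalk_Φ (M : ModuleCat.{u} A) {F : (UU I).Modules} (e : (Φ I).obj M ≅ F) (x : UU I) :
    LocCoh.depth ((UU I).presheaf.stalk x) (F.presheaf.stalk x) =
      LocCoh.depth (Localization.AtPrime ((LocCoh.puncturedOpen A I).ι.base x).asIdeal)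
        (LocalizedModule ((LocCoh.puncturedOpen A I).ι.base x).asIdeal.primeCompl M) := by
  let ι := (LocCoh.puncturedOpen A I).ι
  let G := tilde (R := CommRingCat.of A) M
  let φ : F.presheaf.stalk x ≃+ ((Φ I).obj M).presheaf.stalk x :=
    ((Groth.QCohMod.stalk x).mapIso e.symm).addCommGroupIsoToAddEquiv
  refine (Groth.LocCohZBase.depth_eq_of_semilinear (asIso (ι.stalkMap x)).commRingCatIsoToRingEquiv.symm
    (φ.trans (Groth.SchemeMorphisms.restrictStalkEquiv ι G x)) fun a z => ?_).trans ?_
  · exact (congrArg (Groth.SchemeMorphisms.restrictStalkEquiv ι G x)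
      (Groth.SchemeMorphisms.stalkMap_smul e.inv a z)).trans
        (Groth.SchemeMorphisms.restrictStalkEquiv_smul ι G x a _)
  exact depth_stalk_tilde (R := CommRingCat.of A) M (ι x)

end Groth.LocCohTransform.Punct
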