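import Groth.Agent.LocCohTransform.SectionsFinite
import Groth.Agent.LocCohTransform.FormalCompare
import Groth.Agent.LocCohTransform.PuncturedStalk
import Groth.Agent.LocCohTransform.PuncturedCoherent
import Groth.Agent.LocFinite.Finiteness
import Groth.Prelude.Def_SGA2

/-!
Comparison of `H^i(U, F)` with the formal cohomology along `t`, from depths at the points of
relative codimension one.
-/

set_option autoImplicit false
set_option linter.style.haveILetI false
universe u

open CategoryTheory CategoryTheory.Limits AlgebraicGeometry Opposite TopologicalSpace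

namespace Groth.LocCohTransform.Punct

theorem finite_HH_of_depth {R : Type u} [CommRing R] [IsRegularRing R] {A : Type u} [CommRing A]
    [IsNoetherianRing A] (π : R →+* A) (hπ : Function.Surjective π) (I : Ideal A)
    (F : (UU I).Modules) (hF : Coh.IsCoh F) (n : ℕ)
    (hdepth : ∀ x : UU I, SGA2.relCodim I ((LocCoh.puncturedOpen A I).ι.base x) = 1 →
      ((n + 1 : ℕ) : ℕ∞) ≤ LocCoh.depth ((UU I).presheaf.stalk x) (F.presheaf.stalk x))
    (i : ℕ) (hi : i ≤ n) : Module.Finite A (Coh.HH (UU I) F i) := by
  obtain ⟨M, hM, ⟨e⟩⟩ := exists_finite_iso_Φ I F hF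
  haveI := hM
  letI := π.toAlgebra
  have hH : Module.Finite A (LocCoh.H I (i + 1) M) := by
    refine Groth.LocFinite.finite_H_of_covBy hπ I M (i + 1) fun p hp hc j hj => ?_
    have hp' : p ∈ LocCoh.puncturedOpen A I := hp
    have hd := hdepth ⟨p, hp'⟩ hc
    rw [depth_stalk_Φ I M e] at hd
    have hd' : ((n + 1 : ℕ) : ℕ∞) ≤ LocCoh.depth (Localization.AtPrime p.asIdeal)
        (LocalizedModule p.asIdeal.primeCompl M) := hd
    haveI : Module.Finite (Localization.AtPrime p.asIdeal) (LocalizedModule p.asIdeal.primeCompl M) :=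
      Module.Finite.of_isLocalizedModule p.asIdeal.primeCompl
        (LocalizedModule.mkLinearMap p.asIdeal.primeCompl M)
    exact (Groth.LocCohBase.le_idealDepth_iff_localCohomology
      (IsLocalRing.maximalIdeal (Localization.AtPrime p.asIdeal)) (n + 1) _).1 hd' j (by omega)
  haveI := finite_HH_Φ I M i hH
  exact Module.Finite.equiv (Groth.EulerDeg.hEquiv A e i)

theorem toHHlim_of_depth {R : Type u} [CommRing R] [IsRegularRing R] {A : Type u} [CommRing A]
    [IsNoetherianRing A] (π : R →+* A) (hπ : Function.Surjective π) (t : A)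
    [IsAdicComplete (Ideal.span {t}) A] (I : Ideal A)
    (W : (Spec (CommRingCat.of A)).Opens) (hW : W = LocCoh.puncturedOpen A I)
    (F : (W : Scheme.{u}).Modules) (hF : Coh.IsCoh F) (hreg : Mono (Formal.smulMod A F t)) (n : ℕ)
    (hdepth : ∀ x : (W : Scheme.{u}), SGA2.relCodim I (W.ι.base x) = 1 →
      ((n + 1 : ℕ) : ℕ∞) ≤ LocCoh.depth ((W : Scheme.{u}).presheaf.stalk x) (F.presheaf.stalk x))
    (i : ℕ) : (i < n → Function.Bijective (Formal.toHHlim (Ideal.span {t}) F i)) ∧
      (i = n → Function.Injective (Formal.toHHlim (Ideal.span {t}) F i)) := by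
  subst hW
  exact ⟨fun hi => FormalCompare.bijective t F hreg i
      (finite_HH_of_depth π hπ I F hF n hdepth i hi.le)
      (finite_HH_of_depth π hπ I F hF n hdepth (i + 1) hi),
    fun hi => FormalCompare.injective t F hreg i (finite_HH_of_depth π hπ I F hF n hdepth i hi.le)⟩

end Groth.LocCohTransform.Punct
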