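import Mathlib.RingTheory.Filtration
import Mathlib.Algebra.Module.Torsion.Basic
import Mathlib.RingTheory.MvPolynomial.Homogeneous
import Mathlib.LinearAlgebra.TensorProduct.Basis
import Mathlib.RingTheory.Polynomial.Basic

/-!
The graded map `⊕ I^{nc} → A[T]` attached to `A`-linear maps `φ_j : I^c → A` with
`x = ∑ f_j φ_j(x)`, and its extension to modules.
-/

set_option autoImplicit false
universe u

open scoped BigOperators TensorProduct

namespace Groth.LocCohTransform.GradedMap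

variable {A : Type u} [CommRing A] {r : ℕ} {I : Ideal A} {c : ℕ}
  (φ : Fin r → (↥(I ^ c) →ₗ[A] A))

theorem pow_succ_mul_eq (n : ℕ) : I ^ ((n + 1) * c) = I ^ (n * c) * I ^ c := by
  rw [add_mul, one_mul, pow_add]

theorem phi_mem (j : Fin r) {m : ℕ} {g : A} (hg : g ∈ I ^ m * I ^ c) :
    φ j ⟨g, Ideal.mul_le_right hg⟩ ∈ I ^ m := by
  have key : ∀ (x : A), x ∈ I ^ m * I ^ c → ∃ hx : x ∈ I ^ c, φ j ⟨x, hx⟩ ∈ I ^ m := by
    intro x hxm
    refine Submodule.mul_induction_on hxm (fun a ha b hb => ⟨Ideal.mul_mem_left _ a hb, ?_⟩) ?_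
    · have : (⟨a * b, Ideal.mul_mem_left _ a hb⟩ : ↥(I ^ c)) = a • (⟨b, hb⟩ : ↥(I ^ c)) := rfl
      rw [this, map_smul, smul_eq_mul]
      exact Ideal.mul_mem_right _ _ ha
    · rintro a b ⟨ha, iha⟩ ⟨hb, ihb⟩
      refine ⟨add_mem ha hb, ?_⟩
      have : (⟨a + b, add_mem ha hb⟩ : ↥(I ^ c)) = ⟨a, ha⟩ + ⟨b, hb⟩ := rfl
      rw [this, map_add]
      exact add_mem iha ihb
  exact (key g hg).choose_spec

/-- `φ_j` restricted to `I^{(n+1)c} → I^{nc}`. -/
def phiRes (j : Fin r) (n : ℕ) : ↥(I ^ ((n + 1) * c)) →ₗ[A] ↥(I ^ (n * c)) :=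
  ((φ j).comp (Submodule.inclusion ((pow_succ_mul_eq (I := I) (c := c) n).le.trans Ideal.mul_le_right))
    ).codRestrict _ fun g => phi_mem φ j ((pow_succ_mul_eq (I := I) (c := c) n).le g.2)

/-- The homogeneous degree `n` component of the graded map. -/
noncomputable def psi : (n : ℕ) → (↥(I ^ (n * c)) →ₗ[A] MvPolynomial (Fin r) A)
  | 0 => (Algebra.linearMap A (MvPolynomial (Fin r) A)).comp (Submodule.subtype _)
  | n + 1 => ∑ j, (LinearMap.mulLeft A (MvPolynomial.X j)).comp ((psi n).comp (phiRes φ j n))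

theorem psi_zero (g : ↥(I ^ (0 * c))) : psi φ 0 g = MvPolynomial.C (g : A) := rfl

theorem psi_succ (n : ℕ) (g : ↥(I ^ ((n + 1) * c))) :
    psi φ (n + 1) g = ∑ j, MvPolynomial.X j * psi φ n (phiRes φ j n g) := by
  simp [psi, LinearMap.sum_apply]

open scoped Classical in
/-- The graded map as a family of functions. -/
noncomputable def Phi (n : ℕ) (g : A) : MvPolynomial (Fin r) A :=
  if h : g ∈ I ^ (n * c) then psi φ n ⟨g, h⟩ else 0

theorem Phi_of_mem {n : ℕ} {g : A} (h : g ∈ I ^ (n * c)) : Phi φ n g = psi φ n ⟨g, h⟩ := dif_pos h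

theorem Phi_add (n : ℕ) (g : A) (hg : g ∈ I ^ (n * c)) (h : A) (hh : h ∈ I ^ (n * c)) :
    Phi φ n (g + h) = Phi φ n g + Phi φ n h := by
  rw [Phi_of_mem φ hg, Phi_of_mem φ hh, Phi_of_mem φ (add_mem hg hh), ← map_add]
  rfl

theorem Phi_smul (n : ℕ) (a g : A) (hg : g ∈ I ^ (n * c)) :
    Phi φ n (a * g) = a • Phi φ n g := by
  rw [Phi_of_mem φ hg, Phi_of_mem φ (Ideal.mul_mem_left _ a hg), ← map_smul]
  rfl

theorem Phi_zero_deg (a : A) : Phi φ 0 a = MvPolynomial.C a := by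
  have h : a ∈ I ^ (0 * c) := by simp
  rw [Phi_of_mem φ h, psi_zero]

theorem Phi_succ {n : ℕ} {g : A} (h : g ∈ I ^ ((n + 1) * c)) :
    Phi φ (n + 1) g = ∑ j, MvPolynomial.X j * Phi φ n (phiRes φ j n ⟨g, h⟩ : A) := by
  rw [Phi_of_mem φ h, psi_succ]
  exact Finset.sum_congr rfl fun j _ => by rw [Phi_of_mem φ (phiRes φ j n ⟨g, h⟩).2]

theorem Phi_one {g : A} (hg : g ∈ I ^ c) :
    Phi φ 1 g = ∑ j, MvPolynomial.C (φ j ⟨g, hg⟩) * MvPolynomial.X j := by
  have h : g ∈ I ^ ((0 + 1) * c) := by simpa using hg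
  refine (Phi_succ φ h).trans (Finset.sum_congr rfl fun j _ => ?_)
  rw [Phi_zero_deg, mul_comm]
  rfl

theorem Phi_homogeneous : ∀ (n : ℕ) (g : A), g ∈ I ^ (n * c) → (Phi φ n g).IsHomogeneous n
  | 0, g, _ => by rw [Phi_zero_deg]; exact MvPolynomial.isHomogeneous_C _ _
  | n + 1, g, hg => by
    rw [Phi_succ φ hg]
    refine MvPolynomial.IsHomogeneous.sum _ _ _ fun j _ => ?_
    have := (MvPolynomial.isHomogeneous_X A j).mul
      (Phi_homogeneous n _ (phiRes φ j n ⟨g, hg⟩).2)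
    rwa [add_comm 1 n] at this

theorem Phi_mul : ∀ (n m : ℕ) (g : A), g ∈ I ^ (n * c) → ∀ h ∈ I ^ (m * c),
    Phi φ (n + m) (g * h) = Phi φ n g * Phi φ m h
  | n, 0, g, hg, h, hh => by
    rw [Phi_zero_deg, Nat.add_zero, mul_comm g h, Phi_smul φ n h g hg, MvPolynomial.smul_eq_C_mul,
      mul_comm]
  | n, m + 1, g, hg, h, hh => by
    have hgh : g * h ∈ I ^ ((n + m + 1) * c) := by
      rw [show (n + m + 1) * c = n * c + (m + 1) * c by ring, pow_add]
      exact Ideal.mul_mem_mul hg hh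
    change Phi φ (n + m + 1) (g * h) = _
    rw [Phi_succ φ hgh, Phi_succ φ hh, Finset.mul_sum]
    refine Finset.sum_congr rfl fun j _ => ?_
    have e : (phiRes φ j (n + m) ⟨g * h, hgh⟩ : A) = g * (phiRes φ j m ⟨h, hh⟩ : A) := by
      change φ j ⟨g * h, _⟩ = g * φ j ⟨h, _⟩
      rw [← smul_eq_mul g (φ j _), ← map_smul]
      rfl
    rw [e, Phi_mul n m g hg _ (phiRes φ j m ⟨h, hh⟩).2]
    ring

variable {φ}

/-! ### Consequences of the defining properties -/

section Props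

variable {c' : ℕ} {Φ : ℕ → A → MvPolynomial (Fin r) A} {ψ : Fin r → (↥(I ^ c') →ₗ[A] A)}
  (hadd : ∀ n : ℕ, ∀ g ∈ I ^ (n * c'), ∀ h ∈ I ^ (n * c'), Φ n (g + h) = Φ n g + Φ n h)
  (hmul : ∀ n m : ℕ, ∀ g ∈ I ^ (n * c'), ∀ h ∈ I ^ (m * c'), Φ (n + m) (g * h) = Φ n g * Φ m h)
  (hzero : ∀ a : A, Φ 0 a = MvPolynomial.C a)
  (hone : ∀ (g : A) (hg : g ∈ I ^ c'),
    Φ 1 g = ∑ j, MvPolynomial.C (ψ j ⟨g, hg⟩) * MvPolynomial.X j)

include hadd hmul hzero in
/-- A property closed under the operations holds for all degrees once it holds in degree `0` and is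
preserved by multiplying with degree one elements. -/
theorem induction_deg (P : ℕ → A → MvPolynomial (Fin r) A → Prop)
    (h0 : ∀ a, P 0 a (MvPolynomial.C a))
    (hs : ∀ n g h, g ∈ I ^ (n * c') → h ∈ I ^ c' → P n g (Φ n g) → P (n + 1) (g * h) (Φ n g * Φ 1 h))
    (ha : ∀ n g h, P n g (Φ n g) → P n h (Φ n h) → P n (g + h) (Φ n g + Φ n h)) :
    ∀ n, ∀ g ∈ I ^ (n * c'), P n g (Φ n g) := by
  intro n
  induction n with
  | zero => intro g _; rw [hzero]; exact h0 g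
  | succ n ih =>
    intro g hg
    rw [pow_succ_mul_eq] at hg
    have key : g ∈ I ^ ((n + 1) * c') ∧ P (n + 1) g (Φ (n + 1) g) := by
      refine Submodule.mul_induction_on hg (fun a ha' b hb => ?_) ?_
      · refine ⟨by rw [pow_succ_mul_eq]; exact Ideal.mul_mem_mul ha' hb, ?_⟩
        rw [hmul n 1 a ha' b (by rwa [one_mul])]
        exact hs n a b ha' hb (ih a ha')
      · rintro a b ⟨iha, iha'⟩ ⟨ihb, ihb'⟩
        refine ⟨add_mem iha ihb, ?_⟩
        rw [hadd _ a iha b ihb]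
        exact ha _ a b iha' ihb'
    exact key.2

include hadd hmul hzero hone in
theorem aeval_eq {f : Fin r → A} (hψ : ∀ x : ↥(I ^ c'), (x : A) = ∑ j, f j * ψ j x) :
    ∀ n, ∀ g ∈ I ^ (n * c'), MvPolynomial.aeval f (Φ n g) = g := by
  refine induction_deg hadd hmul hzero (fun _ g p => MvPolynomial.aeval f p = g) (fun a => by simp)
    (fun n g h hg hh e => ?_) (fun n g h e1 e2 => by rw [map_add, e1, e2])
  rw [map_mul, e]
  congr 1
  rw [hone h hh, map_sum]
  conv_rhs => rw [show h = ((⟨h, hh⟩ : ↥(I ^ c')) : A) from rfl, hψ ⟨h, hh⟩]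
  refine Finset.sum_congr rfl fun j _ => ?_
  simp [mul_comm]

include hadd hmul hzero hone in
theorem coeff_mem {a : ℕ} (hψ : ∀ j x, ψ j x ∈ I ^ a) :
    ∀ n, ∀ g ∈ I ^ ((n + 1) * c'), ∀ d, (Φ (n + 1) g).coeff d ∈ I ^ a := by
  have key := induction_deg hadd hmul hzero
    (fun n _ p => 0 < n → p ∈ Ideal.map MvPolynomial.C (I ^ a)) (fun _ h => absurd h (lt_irrefl 0))
    (fun n g h hg hh _ _ => by
      refine Ideal.mul_mem_left _ _ ?_
      rw [hone h hh]
      exact Ideal.sum_mem _ fun j _ => Ideal.mul_mem_right _ _ (Ideal.mem_map_of_mem _ (hψ j _)))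
    (fun n g h e1 e2 hn => add_mem (e1 hn) (e2 hn))
  intro n g hg
  exact MvPolynomial.mem_map_C_iff.1 (key (n + 1) g hg (Nat.succ_pos n))

end Props

/-! ### A power of `I` meeting no torsion -/

section Torsion

variable {B : Type u} [CommRing B] [IsNoetherianRing B] (N : Type u) [AddCommGroup N] [Module B N]
  [Module.Finite B N] (K : Ideal B)

theorem exists_pow_inf_torsion :
    ∃ a : ℕ, ∀ (m : ℕ) (y : N), y ∈ (K ^ a • ⊤ : Submodule B N) →
      (∀ b ∈ K ^ m, b • y = 0) → y = 0 := by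
  let T : ℕ →o Submodule B N :=
    ⟨fun m => Submodule.torsionBySet B N (K ^ m : Ideal B), fun m m' h y hy => by
      rw [Submodule.mem_torsionBySet_iff] at hy ⊢
      exact fun b => hy ⟨b, Ideal.pow_le_pow_right h b.2⟩⟩
  obtain ⟨e, he⟩ := monotone_stabilizes_iff_noetherian.2 (inferInstance : IsNoetherian B N) T
  obtain ⟨k, hk⟩ := Ideal.exists_pow_inf_eq_pow_smul K (T e)
  refine ⟨k + e, fun m y hy hm => ?_⟩
  have hT : y ∈ T e := by
    have h1 : y ∈ T (max m e) := by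
      refine T.mono (le_max_left m e) ((Submodule.mem_torsionBySet_iff _ _).2 fun b => hm b b.2)
    rwa [← he _ (le_max_right m e)] at h1
  have h2 : y ∈ (K ^ (k + e) • ⊤ : Submodule B N) ⊓ T e := ⟨hy, hT⟩
  rw [hk (k + e) (Nat.le_add_right k e), Nat.add_sub_cancel_left] at h2
  have h3 : (K ^ e • (K ^ k • ⊤ ⊓ T e) : Submodule B N) ≤ ⊥ := by
    rw [Submodule.smul_le]
    intro b hb z hz
    exact (Submodule.mem_bot B).2 ((Submodule.mem_torsionBySet_iff _ _).1 hz.2 ⟨b, hb⟩)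
  exact (Submodule.mem_bot B).1 (h3 h2)

end Torsion

end Groth.LocCohTransform.GradedMap
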