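import Groth.Prelude.Def_DRing3
import Groth.Agent.DerComplete.ChangeRing
import Mathlib.CategoryTheory.Triangulated.Adjunction
import Mathlib.CategoryTheory.Triangulated.Subcategory
import Mathlib.CategoryTheory.Adjunction.FullyFaithful

/-!
Derived completion as a triangulated endofunctor of `D(A)`.
-/

set_option autoImplicit false
set_option linter.style.haveILetI false
set_option linter.unusedSectionVars false

universe u

open CategoryTheory CategoryTheory.Limits CategoryTheory.Pretriangulated

attribute [local instance] HasDerivedCategory.standard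

namespace Groth.LocCohTransform.CompletionFunctor

variable {A : Type u} [CommRing A] (I : Ideal A)

instance : (DRing.IsDerivedComplete I).IsClosedUnderIsomorphisms where
  of_iso {X Y} e h := fun f hf n => by
    have := h f hf n
    exact ⟨fun a b => (cancel_mono ((shiftFunctor _ n).map e.inv)).1 (Subsingleton.elim _ _)⟩

instance : (DRing.IsDerivedComplete I).IsTriangulated where
  exists_zero := ⟨_, (DerivedCategory.singleFunctor (ModuleCat.{u} A) 0).map_isZero
      (ModuleCat.isZero_of_subsingleton (ModuleCat.of A PUnit.{u + 1})), fun f _ n =>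
    ⟨fun a b => ((shiftFunctor (Dual.D A) n).map_isZero
      ((DerivedCategory.singleFunctor (ModuleCat.{u} A) 0).map_isZero
        (ModuleCat.isZero_of_subsingleton (ModuleCat.of A PUnit.{u + 1})))).eq_of_tgt a b⟩⟩
  isStableUnderShiftBy m :=
    { le_shift := fun X h f hf n => by
        have := h f hf (m + n)
        exact ⟨fun a b => (cancel_mono ((shiftFunctorAdd (Dual.D A) m n).app X).inv).1 (Subsingleton.elim _ _)⟩ }
  toIsTriangulatedClosed₂ := ObjectProperty.IsTriangulatedClosed₂.mk' fun T hT h₁ h₃ f hf n => by
    have := h₁ f hf n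
    have := h₃ f hf n
    refine subsingleton_of_forall_eq 0 fun φ => ?_
    obtain ⟨g, hg⟩ := ((Triangle.shiftFunctor (Dual.D A) n).obj T).coyoneda_exact₂
      (Triangle.shift_distinguished T hT n) φ (Subsingleton.elim (α := _ ⟶ T.obj₃⟦n⟧) _ _)
    exact hg.trans ((congrArg (· ≫ _) (Subsingleton.elim (α := _ ⟶ T.obj₁⟦n⟧) g 0)).trans zero_comp)

variable [DRing.HasDerivedCompletion I]

noncomputable instance : (DRing.derivedCompletion I).CommShift ℤ :=
  (DRing.derivedCompletionAdj I).leftAdjointCommShift ℤ

instance : (DRing.derivedCompletionAdj I).CommShift ℤ :=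
  (DRing.derivedCompletionAdj I).commShift_of_rightAdjoint ℤ

instance : (DRing.derivedCompletion I).IsTriangulated :=
  (DRing.derivedCompletionAdj I).isTriangulated_leftAdjoint

/-- Derived completion as an endofunctor. -/
noncomputable abbrev comp : Dual.D A ⥤ Dual.D A :=
  DRing.derivedCompletion I ⋙ ObjectProperty.ι (DRing.IsDerivedComplete I)

/-- The unit. -/
noncomputable abbrev η : 𝟭 (Dual.D A) ⟶ comp I := (DRing.derivedCompletionAdj I).unit

theorem complete_comp (K : Dual.D A) : DRing.IsDerivedComplete I ((comp I).obj K) :=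
  ((DRing.derivedCompletion I).obj K).property

/-- Maps to a derived complete object factor uniquely through the completion. -/
theorem precomp_bijective (X : Dual.D A) {K : Dual.D A} (hK : DRing.IsDerivedComplete I K) :
    Function.Bijective fun φ : (comp I).obj X ⟶ K => (η I).app X ≫ φ := by
  have h : (fun φ : (comp I).obj X ⟶ K => (η I).app X ≫ φ) =
      ((DRing.derivedCompletionAdj I).homEquiv X ⟨K, hK⟩) ∘
        (fun φ : (comp I).obj X ⟶ K => ObjectProperty.homMk φ) := by
    funext φ
    exact ((DRing.derivedCompletionAdj I).homEquiv_unit _ ⟨K, hK⟩ (ObjectProperty.homMk φ)).symm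
  rw [h]
  exact ((DRing.derivedCompletionAdj I).homEquiv X ⟨K, hK⟩).bijective.comp
    ⟨fun a b e => congrArg InducedCategory.Hom.hom e, fun g => ⟨g.hom, rfl⟩⟩

theorem isIso_η_of_complete {K : Dual.D A} (hK : DRing.IsDerivedComplete I K) : IsIso ((η I).app K) := by
  obtain ⟨g, hg⟩ := (precomp_bijective I K hK).2 (𝟙 K)
  refine ⟨g, hg, (precomp_bijective I K (complete_comp I K)).1 ?_⟩
  show (η I).app K ≫ g ≫ (η I).app K = (η I).app K ≫ 𝟙 _
  rw [reassoc_of% hg, Category.comp_id]

theorem isZero_iff (X : Dual.D A) :
    IsZero ((comp I).obj X) ↔ ∀ K, DRing.IsDerivedComplete I K → ∀ φ : X ⟶ K, φ = 0 := by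
  constructor
  · intro h K hK φ
    obtain ⟨g, rfl⟩ := (precomp_bijective I X hK).2 φ
    show (η I).app X ≫ g = 0
    rw [h.eq_of_src g 0, comp_zero]
  · intro h
    rw [IsZero.iff_id_eq_zero]
    refine (precomp_bijective I X (complete_comp I X)).1 ?_
    show (η I).app X ≫ 𝟙 _ = (η I).app X ≫ 0
    rw [comp_zero, Category.comp_id]
    exact h _ (complete_comp I X) _

theorem isZero_of_bijective_smul {E : DRing.Cx A} {f : A} (hf : f ∈ I)
    (hE : ∀ i, Function.Bijective fun x : E.X i => f • x) : IsZero ((comp I).obj (DRing.toD E)) :=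
  (isZero_iff I _).2 fun K hK φ =>
    @Subsingleton.elim _ (Groth.DerComplete.subsingleton_hom_of_bijective hE
      ((Groth.DerComplete.isDerivedComplete_iff I K).1 hK f hf)) φ 0

/-- A module with an invertible element of the ideal completes to zero. -/
theorem isZero_inD_of_bijective {M : Type u} [AddCommGroup M] [Module A M] {f : A} (hf : f ∈ I)
    (hM : Function.Bijective fun x : M => f • x) : IsZero ((comp I).obj (Dual.inD A M)) := by
  refine ((comp I).mapIso ((DerivedCategory.singleFunctorIsoCompQ (ModuleCat.{u} A) 0).app (ModuleCat.of A M))).isZero_iff.2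
    (isZero_of_bijective_smul I hf fun i => ?_)
  by_cases hi : i = 0
  · subst hi
    let e := (HomologicalComplex.singleObjXSelf (ComplexShape.up ℤ) 0 (ModuleCat.of A M)).toLinearEquiv
    have h : (fun x : ((HomologicalComplex.single (ModuleCat.{u} A) (ComplexShape.up ℤ) 0).obj (ModuleCat.of A M)).X 0 =>
        f • x) = e.symm ∘ (fun x : M => f • x) ∘ e := by
      funext x
      exact (e.injective ((e.apply_symm_apply _).trans (map_smul e f x).symm)).symm
    exact h ▸ e.symm.bijective.comp (hM.comp e.bijective)
  · have := ModuleCat.subsingleton_of_isZero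
      (HomologicalComplex.isZero_single_obj_X (ComplexShape.up ℤ) 0 (ModuleCat.of A M) i hi)
    exact ⟨fun a b _ => @Subsingleton.elim _ this a b, fun b => ⟨b, @Subsingleton.elim _ this _ _⟩⟩

end Groth.LocCohTransform.CompletionFunctor
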