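import Groth.Prelude.Def_DerCA
import Mathlib.Algebra.Module.LocalizedModule.Exact
import Mathlib.Algebra.Homology.ShortComplex.ExactFunctor
import Mathlib.Algebra.Homology.ShortComplex.ModuleCat
import Mathlib.Algebra.Homology.DerivedCategory.HomologySequence

/-!
The extended Čech complex: long exact sequence of a step, and functoriality in the module.
-/

set_option autoImplicit false
universe u
open CategoryTheory CategoryTheory.Limits HomologicalComplex Pretriangulated

namespace Groth.LocCohTransform

variable {R : Type u} [CommRing R] (S : Submonoid R)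

lemma locFunctor_exact (T : ShortComplex (ModuleCat.{u} R)) (hT : T.Exact) :
    (T.map (DerCA.locFunctor S)).Exact := by
  rw [ShortComplex.ShortExact.moduleCat_exact_iff_function_exact] at hT ⊢
  exact IsLocalizedModule.map_exact S (LocalizedModule.mkLinearMap S T.X₁)
    (LocalizedModule.mkLinearMap S T.X₂) (LocalizedModule.mkLinearMap S T.X₃) T.f.hom T.g.hom hT

instance locFunctor_preservesHomology : (DerCA.locFunctor (R := R) S).PreservesHomology :=
  ((Functor.exact_tfae (DerCA.locFunctor (R := R) S)).out 1 2).1 (locFunctor_exact S)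

lemma locFunctor_preserves : PreservesFiniteLimits (DerCA.locFunctor (R := R) S) ∧
    PreservesFiniteColimits (DerCA.locFunctor (R := R) S) :=
  ((Functor.exact_tfae (DerCA.locFunctor (R := R) S)).out 1 3).1 (locFunctor_exact S)

instance locFunctor_preservesFiniteLimits :
    PreservesFiniteLimits (DerCA.locFunctor (R := R) S) := (locFunctor_preserves S).1

instance locFunctor_preservesFiniteColimits :
    PreservesFiniteColimits (DerCA.locFunctor (R := R) S) := (locFunctor_preserves S).2

variable (K : DRing.Cx R)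

/-- Homology commutes with termwise localization. -/
theorem isLocalizedModule_homologyMap (n : ℤ) :
    IsLocalizedModule S (homologyMap (DerCA.locCxUnit S K) n).hom := by
  have h := NatTrans.app_homology (DerCA.locUnit S) (K.sc n)
  let e₁ := ((K.sc n).mapHomologyIso (𝟭 (ModuleCat.{u} R))).toLinearEquiv
  let e₂ := ((K.sc n).mapHomologyIso (DerCA.locFunctor S)).toLinearEquiv
  have key : (homologyMap (DerCA.locCxUnit S K) n).hom =
      e₂.symm.toLinearMap ∘ₗ (LocalizedModule.mkLinearMap S (K.homology n) ∘ₗ e₁.toLinearMap) := by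
    have h2 : ((K.sc n).mapHomologyIso (𝟭 (ModuleCat.{u} R))).hom ≫
        (DerCA.locUnit S).app (K.sc n).homology ≫
          ((K.sc n).mapHomologyIso (DerCA.locFunctor S)).inv =
        ShortComplex.homologyMap ((K.sc n).mapNatTrans (DerCA.locUnit S)) := by
      rw [h]; simp
    exact (congrArg ModuleCat.Hom.hom h2).symm
  rw [key]
  have h0 := localizedModuleIsLocalizedModule (M := (K.sc n).homology) S
  have h1 := @IsLocalizedModule.of_linearEquiv_right R _ S _ _ _ _ _ _ _ _ _
    (LocalizedModule.mkLinearMap S (K.sc n).homology) e₁ h0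
  exact @IsLocalizedModule.of_linearEquiv R _ S _ _ _ _ _ _ _ _ _ _ e₂.symm h1

variable (f : R)

/-- One step of the extended Čech complex. -/
noncomputable abbrev cone (K : DRing.Cx R) (f : R) : DRing.Cx R :=
  CochainComplex.mappingCocone (DerCA.locCxUnit (Submonoid.powers f) K)

/-- `H^n(cone) → H^n(K)`. -/
noncomputable abbrev cπ (n : ℤ) : (cone K f).homology n →ₗ[R] K.homology n :=
  (homologyMap (CochainComplex.mappingCocone.fst (DerCA.locCxUnit (Submonoid.powers f) K)) n).hom

/-- The localization map in homology. -/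
noncomputable abbrev cloc (n : ℤ) :
    K.homology n →ₗ[R] ((DerCA.locCx (Submonoid.powers f)).obj K).homology n :=
  (homologyMap (DerCA.locCxUnit (Submonoid.powers f) K) n).hom

/-- The connecting map. -/
noncomputable def cδ (n m : ℤ) (h : n + 1 = m) :
    ((DerCA.locCx (Submonoid.powers f)).obj K).homology n →ₗ[R] (cone K f).homology m :=
  (CochainComplex.homologyδOfTriangle
    (CochainComplex.mappingCocone.triangle (DerCA.locCxUnit (Submonoid.powers f) K)) n m h).hom

section Exactness

attribute [local instance] HasDerivedCategory.standard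

theorem cπ_cloc_exact (n : ℤ) : Function.Exact (cπ K f n) (cloc K f n) := by
  have h := CochainComplex.homologyMap_exact₂_of_distTriang
    (CochainComplex.mappingCocone.triangle (DerCA.locCxUnit (Submonoid.powers f) K))
    (DerivedCategory.mappingCocone_triangle_distinguished _) n
  rw [ShortComplex.ShortExact.moduleCat_exact_iff_function_exact] at h
  exact h

theorem cδ_cπ_exact (n m : ℤ) (hnm : n + 1 = m) : Function.Exact (cδ K f n m hnm) (cπ K f m) := by
  have h := CochainComplex.homologyMap_exact₁_of_distTriang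
    (CochainComplex.mappingCocone.triangle (DerCA.locCxUnit (Submonoid.powers f) K))
    (DerivedCategory.mappingCocone_triangle_distinguished _) n m hnm
  rw [ShortComplex.ShortExact.moduleCat_exact_iff_function_exact] at h
  exact h

theorem cloc_cδ_exact (n m : ℤ) (hnm : n + 1 = m) : Function.Exact (cloc K f n) (cδ K f n m hnm) := by
  have h := CochainComplex.homologyMap_exact₃_of_distTriang
    (CochainComplex.mappingCocone.triangle (DerCA.locCxUnit (Submonoid.powers f) K))
    (DerivedCategory.mappingCocone_triangle_distinguished _) n m hnm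
  rw [ShortComplex.ShortExact.moduleCat_exact_iff_function_exact] at h
  exact h

end Exactness

section Elements

variable {K}

lemma cloc_eq_zero_iff (n : ℤ) (x : K.homology n) :
    cloc K f n x = 0 ↔ ∃ k : ℕ, f ^ k • x = 0 := by
  have := isLocalizedModule_homologyMap (Submonoid.powers f) K n
  rw [IsLocalizedModule.eq_zero_iff (Submonoid.powers f)]
  exact ⟨fun ⟨⟨_, k, rfl⟩, h⟩ => ⟨k, h⟩, fun ⟨k, h⟩ => ⟨⟨f ^ k, k, rfl⟩, h⟩⟩

lemma exists_pow_smul_eq_cloc (n : ℤ) (z : ((DerCA.locCx (Submonoid.powers f)).obj K).homology n) :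
    ∃ (k : ℕ) (w : K.homology n), f ^ k • z = cloc K f n w := by
  have := isLocalizedModule_homologyMap (Submonoid.powers f) K n
  obtain ⟨⟨w, ⟨_, k, rfl⟩⟩, h⟩ := IsLocalizedModule.surj (Submonoid.powers f) (cloc K f n) z
  exact ⟨k, w, h⟩

lemma subsingleton_loc_homology (n : ℤ) (h : Subsingleton (K.homology n)) :
    Subsingleton (((DerCA.locCx (Submonoid.powers f)).obj K).homology n) := by
  have := isLocalizedModule_homologyMap (Submonoid.powers f) K n
  refine subsingleton_of_forall_eq 0 fun z => ?_
  obtain ⟨⟨w, s⟩, hs⟩ := IsLocalizedModule.surj (Submonoid.powers f) (cloc K f n) z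
  have hs' : (s : R) • z = 0 := hs.trans ((congrArg _ (h.elim w 0)).trans (map_zero _))
  exact IsLocalizedModule.smul_injective (cloc K f n) s (hs'.trans (smul_zero s).symm)

lemma subsingleton_cone_homology (n : ℤ) (h : Subsingleton (K.homology n))
    (h' : Subsingleton (K.homology (n - 1))) : Subsingleton ((cone K f).homology n) := by
  refine subsingleton_of_forall_eq 0 fun x => ?_
  obtain ⟨z, rfl⟩ := (cδ_cπ_exact K f (n - 1) n (by omega) x).1 (h.elim _ _)
  rw [(subsingleton_loc_homology f (n - 1) h').elim z 0, map_zero]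

lemma cone_pow_smul_eq_zero (n : ℤ) (x : (cone K f).homology n) : ∃ k : ℕ, f ^ k • x = 0 := by
  obtain ⟨a, ha⟩ := (cloc_eq_zero_iff f n _).1 ((cπ_cloc_exact K f n _).2 ⟨x, rfl⟩)
  obtain ⟨z, hz⟩ := (cδ_cπ_exact K f (n - 1) n (by omega) (f ^ a • x)).1 (by rw [map_smul, ha])
  obtain ⟨b, w, hw⟩ := exists_pow_smul_eq_cloc f (n - 1) z
  refine ⟨b + a, ?_⟩
  rw [pow_add, mul_smul, ← hz, ← map_smul, hw]
  exact (cloc_cδ_exact K f (n - 1) n (by omega) _).2 ⟨w, rfl⟩

lemma cone_pow_smul_eq_zero' (g : R) (h : ∀ (m : ℤ) (y : K.homology m), ∃ k : ℕ, g ^ k • y = 0)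
    (n : ℤ) (x : (cone K f).homology n) : ∃ k : ℕ, g ^ k • x = 0 := by
  obtain ⟨a, ha⟩ := h n (cπ K f n x)
  obtain ⟨z, hz⟩ := (cδ_cπ_exact K f (n - 1) n (by omega) (g ^ a • x)).1 (by rw [map_smul, ha])
  obtain ⟨b, w, hw⟩ := exists_pow_smul_eq_cloc f (n - 1) z
  obtain ⟨c, hc⟩ := h (n - 1) w
  refine ⟨c + a, ?_⟩
  rw [pow_add, mul_smul, ← hz, ← map_smul]
  have hl := isLocalizedModule_homologyMap (Submonoid.powers f) K (n - 1)
  have : g ^ c • z = 0 := by
    refine IsLocalizedModule.smul_injective (cloc K f (n - 1)) (⟨f ^ b, b, rfl⟩ : Submonoid.powers f) ?_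
    show f ^ b • g ^ c • z = f ^ b • 0
    rw [smul_comm, hw, ← map_smul, hc, map_zero, smul_zero]
  rw [this, map_zero]

end Elements

section Range

/-- `extCech` has no homology outside `[0, length]`. -/
theorem subsingleton_extCech_homology (M : ModuleCat.{u} R) : ∀ (fs : List R) (n : ℤ),
    n < 0 ∨ (fs.length : ℤ) < n → Subsingleton ((DerCA.extCech M fs).homology n) := by
  intro fs
  induction fs with
  | nil =>
    intro n hn
    exact ModuleCat.subsingleton_of_isZero (HomologicalComplex.isZero_single_obj_homology _ 0 M n (by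
      simp only [List.length_nil, Nat.cast_zero] at hn; omega))
  | cons g fs ih =>
    intro n hn
    simp only [List.length_cons, Nat.cast_add, Nat.cast_one] at hn
    exact subsingleton_cone_homology g n (ih n (by omega)) (ih (n - 1) (by omega))

/-- The homology of `extCech` is torsion for each element of the list. -/
theorem extCech_pow_smul_eq_zero (M : ModuleCat.{u} R) : ∀ (fs : List R), ∀ g ∈ fs,
    ∀ (n : ℤ) (x : (DerCA.extCech M fs).homology n), ∃ k : ℕ, g ^ k • x = 0 := by
  intro fs
  induction fs with
  | nil => simp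
  | cons f fs ih =>
    intro g hg n x
    rcases List.mem_cons.1 hg with rfl | hg
    · exact cone_pow_smul_eq_zero g n x
    · exact cone_pow_smul_eq_zero' f g (ih g hg) n x

/-- The homology of `extCech` is torsion for the ideal of the list. -/
theorem extCech_isPowerTorsion (M : ModuleCat.{u} R) (fs : List R) (g : R)
    (hg : g ∈ Ideal.span {x | x ∈ fs}) (n : ℤ) (x : (DerCA.extCech M fs).homology n) :
    ∃ k : ℕ, g ^ k • x = 0 := by
  induction hg using Submodule.span_induction with
  | mem z hz => exact extCech_pow_smul_eq_zero M fs z hz n x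
  | zero => exact ⟨1, by rw [pow_one, zero_smul]⟩
  | add p q _ _ hp hq =>
    obtain ⟨a, ha⟩ := hp
    obtain ⟨b, hb⟩ := hq
    refine ⟨a + b, ?_⟩
    rw [add_pow, Finset.sum_smul]
    refine Finset.sum_eq_zero fun i _ => ?_
    rcases le_or_gt a i with h | h
    · obtain ⟨c, rfl⟩ := Nat.exists_eq_add_of_le h
      rw [show p ^ (a + c) * q ^ (a + b - (a + c)) * ((a + b).choose (a + c) : R) =
        (p ^ c * q ^ (a + b - (a + c)) * ((a + b).choose (a + c) : R)) * p ^ a by ring, mul_smul, ha,
        smul_zero]
    · rw [show a + b - i = (a - i) + b by omega,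
        show p ^ i * q ^ (a - i + b) * ((a + b).choose i : R) =
        (p ^ i * q ^ (a - i) * ((a + b).choose i : R)) * q ^ b by ring, mul_smul, hb, smul_zero]
  | smul r p _ hp =>
    obtain ⟨a, ha⟩ := hp
    exact ⟨a, by rw [smul_eq_mul, mul_pow, mul_smul, ha, smul_zero]⟩

end Range

end Groth.LocCohTransform
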