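import Groth.Agent.LocCohTransform.DualVanishing
import Groth.Agent.LocCohTransform.RHomDual
import Groth.Agent.DualCore.DualHomology
import Groth.Agent.CohBase.FiniteFree

/-!
Local cohomology through the dualizing complex: `H^i(RΓ_I M) = Hom(D M, RΓ_I ω⟦i⟧)`.
-/

set_option autoImplicit false
set_option linter.style.haveILetI false
set_option linter.unusedSectionVars false

universe u

open CategoryTheory CategoryTheory.Limits CategoryTheory.Pretriangulated
open CochainComplex CochainComplex.HomComplex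
open Groth.DualCore Groth.LocCohTransform.RgammaCompute

attribute [local instance] HasDerivedCategory.standard

namespace Groth.LocCohTransform.DualTransfer

variable {A : Type u} [CommRing A]

theorem θ_smul {K L : DRing.Cx A} [L.IsKInjective] {n : ℤ} (c : A) (z : Cocycle K L n) :
    RHomDual.θ (c • z) = c • RHomDual.θ z := by
  show DerivedCategory.Q.map (Cocycle.equivHomShift.symm (c • z)) =
    c • DerivedCategory.Q.map (Cocycle.equivHomShift.symm z)
  rw [← Functor.map_smul]
  congr 1

/-- Cohomology of the Hom complex into a K-injective complex. -/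
theorem nonempty_homology_homCx (K L : DRing.Cx A) [L.IsKInjective] (n : ℤ) :
    Nonempty ((DRing.homCx K L).homology n ≃ₗ[A]
      (DerivedCategory.Q.obj K ⟶ DerivedCategory.Q.obj (L⟦n⟧))) := by
  let Z := LinearMap.ker ((DRing.homCx K L).d n ((ComplexShape.up ℤ).next n)).hom
  have hnext : (ComplexShape.up ℤ).next n = n + 1 := by simp
  let mk : Z → Cocycle K L n := fun x => Cocycle.mk x.1 ((ComplexShape.up ℤ).next n) hnext.symm x.2
  let Θ : Z →ₗ[A] (DerivedCategory.Q.obj K ⟶ DerivedCategory.Q.obj (L⟦n⟧)) :=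
    { toFun := fun x => RHomDual.θ (mk x)
      map_add' := fun x y => by rw [← map_add]; rfl
      map_smul' := fun c x => by rw [RingHom.id_apply, ← θ_smul]; rfl }
  have hsur : Function.Surjective Θ := fun φ => by
    obtain ⟨z, rfl⟩ := RHomDual.θ_surjective φ
    exact ⟨⟨(z : Cochain K L n), Cocycle.δ_eq_zero z _⟩, congrArg RHomDual.θ (Subtype.ext rfl)⟩
  have hker : LinearMap.ker Θ = LinearMap.ker (Groth.FlatCxBase.cls (DRing.homCx K L) n) := by
    ext x
    rw [LinearMap.mem_ker, LinearMap.mem_ker, Groth.FlatCxBase.cls_eq_zero_iff n (i := n - 1) (by simp)]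
    exact RHomDual.θ_eq_zero_iff (n - 1) (by omega) (mk x)
  exact ⟨((LinearMap.quotKerEquivOfSurjective _ (Groth.FlatCxBase.cls_surjective (K := DRing.homCx K L) n)).symm.trans
    (Submodule.quotEquivOfEq _ _ hker.symm)).trans (LinearMap.quotKerEquivOfSurjective Θ hsur)⟩

variable (P L : DRing.Cx A)

theorem moduleInjective_homCx (hP : ∀ p, Module.Free A (P.X p)) (hL : ∀ q, Module.Injective A (L.X q)) (n : ℤ) :
    Module.Injective A ((DRing.homCx P L).X n) := by
  refine Module.Baer.injective fun 𝔞 g => ?_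
  let g' : ∀ (p q : ℤ) (h : p + n = q), P.X p → 𝔞 →ₗ[A] L.X q := fun p q h x =>
    { toFun := fun a => ((show Cochain P L n from g a).v p q h).hom x
      map_add' := fun a b => by
        have : (show Cochain P L n from g (a + b)) = (show Cochain P L n from g a) + (show Cochain P L n from g b) :=
          map_add g a b
        rw [this, Cochain.add_v]
        rfl
      map_smul' := fun c a => by
        have : (show Cochain P L n from g (c • a)) = c • (show Cochain P L n from g a) := map_smul g c a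
        rw [this, Cochain.smul_v]
        rfl }
  choose ext hext using fun (p q : ℤ) (h : p + n = q) (x : P.X p) => (Module.Baer.of_injective (hL q)) 𝔞 (g' p q h x)
  haveI := hP
  let φ : Cochain P L n := Cochain.mk fun p q h =>
    ModuleCat.ofHom ((Module.Free.chooseBasis A (P.X p)).constr A fun e => ext p q h (Module.Free.chooseBasis A (P.X p) e) 1)
  refine ⟨LinearMap.toSpanSingleton A (Cochain P L n) φ, fun a ha => ?_⟩
  refine Cochain.ext _ _ fun p q h => ?_
  show (a • φ).v p q h = _
  rw [Cochain.smul_v]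
  refine ModuleCat.hom_ext ((Module.Free.chooseBasis A (P.X p)).ext fun e => ?_)
  show a • (((φ.v p q h)).hom (Module.Free.chooseBasis A (P.X p) e)) = _
  rw [show φ.v p q h = ModuleCat.ofHom ((Module.Free.chooseBasis A (P.X p)).constr A fun e =>
    ext p q h (Module.Free.chooseBasis A (P.X p) e) 1) from Cochain.mk_v _ _ _ _, ModuleCat.hom_ofHom,
    Module.Basis.constr_basis, ← map_smul, smul_eq_mul, mul_one]
  exact hext p q h _ a ha

theorem isStrictlyGE_homCx (a b : ℤ) (hL : ∀ q, q < a → IsZero (L.X q)) (hP : ∀ p, b < p → IsZero (P.X p)) :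
    (DRing.homCx P L).IsStrictlyGE (a - b) := by
  rw [CochainComplex.isStrictlyGE_iff]
  intro n hn
  haveI : Subsingleton (Cochain P L n) := ⟨fun z w => Cochain.ext _ _ fun p q h => by
    rcases lt_or_ge b p with hp | hp
    · exact (hP p hp).eq_of_src _ _
    · exact (hL q (by omega)).eq_of_tgt _ _⟩
  exact ModuleCat.isZero_of_subsingleton (ModuleCat.of A (Cochain P L n))

theorem isPowerTorsion_cochain (I : Ideal A) (a b : ℤ) (hL : ∀ q, q < a → IsZero (L.X q))
    (hP : ∀ p, b < p → IsZero (P.X p)) (hfin : ∀ p, Module.Finite A (P.X p)) (n : ℤ) (z : Cochain P L n)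
    (ht : ∀ (p q : ℤ) (h : p + n = q) (x : P.X p), (z.v p q h).hom x ∈ DRing.torsionSub I (L.X q)) :
    ∃ k : ℕ, ∀ c ∈ I ^ k, c • z = 0 := by
  have key : ∀ p : ℤ, ∃ k : ℕ, ∀ c ∈ I ^ k, ∀ (q : ℤ) (h : p + n = q), c • z.v p q h = 0 := by
    intro p
    classical
    obtain ⟨s, hs⟩ := (hfin p).fg_top
    choose e he using fun x => ht p (p + n) rfl x
    refine ⟨s.sup e, fun c hc q h => ?_⟩
    subst h
    refine ModuleCat.hom_ext (LinearMap.ext_on hs fun x hx => ?_)
    exact he x c (Ideal.pow_le_pow_right (Finset.le_sup hx) hc)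
  choose k hk using key
  refine ⟨(Finset.Icc (a - n) b).sup k, fun c hc => Cochain.ext _ _ fun p q h => ?_⟩
  rw [Cochain.smul_v, Cochain.zero_v]
  by_cases hp : p ∈ Finset.Icc (a - n) b
  · exact hk p c (Ideal.pow_le_pow_right (Finset.le_sup hp) hc) q h
  · rw [Finset.mem_Icc, not_and_or, not_le, not_le] at hp
    rcases hp with hp | hp
    · exact (hL q (by omega)).eq_of_tgt _ _
    · exact (hP p hp).eq_of_src _ _

/-- Torsion commutes with `Hom` out of bounded above complexes of finite free modules. -/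
theorem nonempty_gam_homCx (I : Ideal A) (a b : ℤ) (hL : ∀ q, q < a → IsZero (L.X q))
    (hP : ∀ p, b < p → IsZero (P.X p)) (hfin : ∀ p, Module.Finite A (P.X p)) :
    Nonempty ((gam I).obj (DRing.homCx P L) ≅ DRing.homCx P ((gam I).obj L)) := by
  let G := DRing.homCx P ((gam I).obj L)
  let j : G ⟶ DRing.homCx P L := DRing.homCxMap P (incl I L)
  have hzero : ∀ q, q < a → IsZero (((gam I).obj L).X q) := fun q hq => (DRing.gammaI I).map_isZero (hL q hq)
  have hj : ∀ n (z : Cochain P ((gam I).obj L) n) (p q : ℤ) (h : p + n = q) (x : P.X p),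
      ((show Cochain P L n from (j.f n).hom z).v p q h).hom x = ((z.v p q h).hom x).1 := fun n z p q h x => by
    show (((z.comp (Cochain.ofHom (incl I L)) (add_zero n)).v p q h)).hom x = _
    rw [Cochain.comp_zero_cochain_v, Cochain.ofHom_v]
    rfl
  have htor : ∀ n (z : Cochain P ((gam I).obj L) n), ∃ k : ℕ, ∀ c ∈ I ^ k, c • z = 0 := fun n z =>
    isPowerTorsion_cochain P _ I a b hzero hP hfin n z fun p q h x => by
      obtain ⟨k, hk⟩ := ((z.v p q h).hom x).2
      exact ⟨k, fun c hc => Subtype.ext (hk c hc)⟩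
  haveI : ∀ n, IsIso ((incl I G).f n) := fun n => (ConcreteCategory.isIso_iff_bijective _).2
    ⟨fun x y h => Subtype.ext h, fun z => ⟨(⟨z, htor n z⟩ : DRing.torsionSub I (G.X n)), rfl⟩⟩
  haveI : IsIso (incl I G) := HomologicalComplex.Hom.isIso_of_components _
  haveI : ∀ n, IsIso (((gam I).map j).f n) := fun n => (ConcreteCategory.isIso_iff_bijective _).2 (by
    refine ⟨fun x y h => Subtype.ext (Cochain.ext (G := (gam I).obj L) _ _ fun p q hpq =>
      ModuleCat.hom_ext (LinearMap.ext fun v => Subtype.ext ?_)), fun w => ?_⟩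
    · have h1 : (show Cochain P L n from (j.f n).hom x.1) = (show Cochain P L n from (j.f n).hom y.1) :=
        congrArg (fun t : DRing.torsionSub I ((DRing.homCx P L).X n) => t.1) h
      exact (hj n x.1 p q hpq v).symm.trans ((congrArg (fun t : Cochain P L n => (t.v p q hpq).hom v) h1).trans
        (hj n y.1 p q hpq v))
    · let w' : DRing.torsionSub I ((DRing.homCx P L).X n) := w
      obtain ⟨k, hk⟩ := w'.2
      let z : Cochain P ((gam I).obj L) n := Cochain.mk fun p q h => ModuleCat.ofHom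
        (((show Cochain P L n from w'.1).v p q h).hom.codRestrict (DRing.torsionSub I (L.X q)) fun x =>
          ⟨k, fun c hc => congr((($(hk c hc) : Cochain P L n).v p q h).hom x)⟩)
      refine ⟨(⟨z, htor n z⟩ : DRing.torsionSub I (G.X n)), Subtype.ext (Cochain.ext (G := L) _ _ fun p q h =>
        ModuleCat.hom_ext (LinearMap.ext fun v => ?_))⟩
      refine (hj n z p q h v).trans ?_
      simp only [z, Cochain.mk_v]
      rfl)
  haveI : IsIso ((gam I).map j) := HomologicalComplex.Hom.isIso_of_components _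
  exact ⟨(asIso ((gam I).map j)).symm ≪≫ asIso (incl I G)⟩

variable [IsNoetherianRing A] {ω : Dual.D A} (hω : Dual.IsDualizing A ω)
  (M : Type u) [AddCommGroup M] [Module A M] [Module.Finite A M]

include hω in
theorem finite_homology_DC (r : InjRep ω) (n : ℤ) : Module.Finite A ((r.DC M).homology n) :=
  haveI := DualVanishing.finite_hom hω M n
  Module.Finite.equiv (r.homologyEquiv M n).symm

theorem isStrictlyLE_DC (r : InjRep ω) (n : ℤ) (hn : r.b < n) : IsZero ((r.DC M).X n) := by
  haveI := r.hLE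
  haveI : Subsingleton (r.I.X n) := ModuleCat.isZero_iff_subsingleton.1 (CochainComplex.isZero_of_isStrictlyLE r.I r.b n hn)
  exact ModuleCat.isZero_of_subsingleton (ModuleCat.of A (M →ₗ[A] r.I.X n))

variable (I : Ideal A) [DRing.HasRgammaI I]

include hω in
/-- `H^i(RΓ_I M) = Hom(D M, RΓ_I ω⟦i⟧)`. -/
theorem nonempty_HD_rgamma_equiv (r : InjRep ω) (i : ℤ) :
    Nonempty (Dual.HD A ((DRing.RgammaI I).obj (Dual.inD A M)) i ≃ₗ[A]
      (DerivedCategory.Q.obj (r.DC M) ⟶ ((DRing.RgammaI I).obj ω)⟦i⟧)) := by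
  obtain ⟨P, φ, hφ, hfree, hPb⟩ := Groth.CohBase.FiniteFree.exists_quasiIso (C := r.DC M)
    (finite_homology_DC hω M r) r.b fun n hn =>
      ((HomologicalComplex.exactAt_iff_isZero_homology _ _).1
        ((ShortComplex.exact_of_isZero_X₂ _ (isStrictlyLE_DC M r n hn))))
  haveI : IsIso (DerivedCategory.Q.map φ) := (DerivedCategory.isIso_Q_map_iff_quasiIso _ φ).2 hφ
  let eP : DerivedCategory.Q.obj P ≅ DerivedCategory.Q.obj (r.DC M) := asIso (DerivedCategory.Q.map φ)
  have hIz : ∀ q, q < r.a → IsZero (r.I.X q) := fun q hq =>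
    haveI := r.hGE
    CochainComplex.isZero_of_isStrictlyGE r.I r.a q hq
  let E := DRing.homCx P r.I
  haveI : E.IsStrictlyGE (r.a - r.b) := isStrictlyGE_homCx P r.I r.a r.b hIz hPb
  have hEinj := moduleInjective_homCx P r.I (fun p => (hfree p).2) r.injective
  haveI : ∀ n, Injective (E.X n) := fun n => (Module.injective_iff_injective_object A (E.X n)).1 (hEinj n)
  haveI : E.IsKInjective := CochainComplex.isKInjective_of_injective E (r.a - r.b)
  -- `E` represents `M`
  have hE : ∀ n, Nonempty (Dual.HD A (DerivedCategory.Q.obj E) n ≃ₗ[A] r.F M n) := fun n => by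
    obtain ⟨e⟩ := nonempty_homology_homCx P r.I n
    exact ⟨((RgammaTorsion.hdEquiv E n).trans e).trans
      (Linear.homCongr A eP ((DerivedCategory.Q.commShiftIso n).app r.I ≪≫ (CategoryTheory.shiftFunctor _ n).mapIso r.iso))⟩
  have hvan : ∀ n, n ≠ 0 → Subsingleton (Dual.HD A (DerivedCategory.Q.obj E) n) := fun n hn => by
    obtain ⟨e⟩ := hE n
    haveI := InjRep.subsingleton_F r hω M n hn
    exact e.toEquiv.subsingleton
  haveI : (DerivedCategory.Q.obj E).IsGE 0 :=
    CompletionAmplitude.isGE_of_subsingleton _ 0 fun n hn => hvan n (by omega)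
  haveI : (DerivedCategory.Q.obj E).IsLE 0 :=
    CompletionAmplitude.isLE_of_subsingleton _ 0 fun n hn => hvan n (by omega)
  obtain ⟨Y, ⟨eY⟩⟩ := DerivedCategory.exists_iso_singleFunctor_obj_of_isGE_of_isLE (DerivedCategory.Q.obj E) 0
  obtain ⟨e0⟩ := hE 0
  let d : Y ≃ₗ[A] M := ((Groth.DerComplete.HDinDEquiv Y).symm.trans
    ((((DerivedCategory.homologyFunctor (ModuleCat.{u} A) 0).mapIso eY).toLinearEquiv.symm).trans e0)).trans
      (LinearEquiv.ofBijective _ (InjRep.η_bijective r hω M)).symm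
  let eM : DerivedCategory.Q.obj E ≅ Dual.inD A M :=
    eY ≪≫ (DerivedCategory.singleFunctor (ModuleCat.{u} A) 0).mapIso d.toModuleIso
  -- torsion
  obtain ⟨eg⟩ := nonempty_gam_homCx P r.I I r.a r.b hIz hPb fun p => (hfree p).1
  haveI : ((gam I).obj r.I).IsStrictlyGE r.a := by
    rw [CochainComplex.isStrictlyGE_iff]
    exact fun q hq => (DRing.gammaI I).map_isZero (hIz q hq)
  haveI : ∀ q, Injective (((gam I).obj r.I).X q) :=
    RgammaTorsion.injective_gam I r.I fun q => (Module.injective_iff_injective_object A (r.I.X q)).1 (r.injective q)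
  haveI : ((gam I).obj r.I).IsKInjective := CochainComplex.isKInjective_of_injective _ r.a
  let eΓ : DerivedCategory.Q.obj ((gam I).obj r.I) ≅ (DRing.RgammaI I).obj ω :=
    (rgammaIso I r.I).symm ≪≫ (DRing.RgammaI I).mapIso r.iso
  obtain ⟨e1⟩ := nonempty_homology_homCx P ((gam I).obj r.I) i
  let e2 : Dual.HD A ((DRing.RgammaI I).obj (Dual.inD A M)) i ≃ₗ[A] (DRing.homCx P ((gam I).obj r.I)).homology i :=
    (((DerivedCategory.homologyFunctor (ModuleCat.{u} A) i).mapIso
      ((DRing.RgammaI I).mapIso eM.symm ≪≫ rgammaIso I E ≪≫ DerivedCategory.Q.mapIso eg)).toLinearEquiv).trans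
        (RgammaTorsion.hdEquiv _ i)
  exact ⟨(e2.trans e1).trans
    (Linear.homCongr A eP ((DerivedCategory.Q.commShiftIso i).app _ ≪≫ (CategoryTheory.shiftFunctor _ i).mapIso eΓ))⟩

include hω in
/-- Annihilation criterion. -/
theorem pk_HD_rgamma (y : A) (i : ℤ)
    (h : ∀ (q : ℤ) (P : PrimeSpectrum A), y ∉ P.asIdeal →
      Nontrivial (LocalizedModule P.asIdeal.primeCompl (Dual.inD A M ⟶ ω⟦q⟧)) →
        ∀ Q : PrimeSpectrum A, P ≤ Q → I ≤ Q.asIdeal → i + q < degree hω Q) :
    DualVanishing.PK y (Dual.HD A ((DRing.RgammaI I).obj (Dual.inD A M)) i) := by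
  obtain ⟨a, b, hab⟩ := hω.finite_injective_dimension
  obtain ⟨r⟩ := exists_injRep ω a b hab
  obtain ⟨e⟩ := nonempty_HD_rgamma_equiv hω M I r i
  set W := (DRing.RgammaI I).obj ω
  let X := DerivedCategory.Q.obj (r.DC M)
  have hX : ∀ n, (n < r.a ∨ r.b < n) → IsZero ((r.DC M).X n) := fun n hn => by
    rcases hn with hn | hn
    · haveI := r.hGE
      haveI : Subsingleton (r.I.X n) :=
        ModuleCat.isZero_iff_subsingleton.1 (CochainComplex.isZero_of_isStrictlyGE r.I r.a n hn)
      exact ModuleCat.isZero_of_subsingleton (ModuleCat.of A (M →ₗ[A] r.I.X n))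
    · exact isStrictlyLE_DC M r n hn
  have hXh : ∀ n, (n < r.a ∨ r.b < n) → Subsingleton (Dual.HD A X n) := fun n hn => by
    haveI := ModuleCat.subsingleton_of_isZero ((HomologicalComplex.exactAt_iff_isZero_homology _ _).1
      (ShortComplex.exact_of_isZero_X₂ ((r.DC M).sc n) (hX n hn)))
    exact (RgammaTorsion.hdEquiv (r.DC M) n).toEquiv.subsingleton
  suffices hq : ∀ q : ℤ, DualVanishing.PK y ((Dual.inD A (Dual.HD A X q))⟦-q⟧ ⟶ W⟦i⟧) by
    obtain ⟨k, hk⟩ := DualVanishing.pk_hom_of_cohomology y (W⟦i⟧) (r.b - r.a + 1).toNat X r.a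
      (CompletionAmplitude.isGE_of_subsingleton _ _ fun n hn => hXh n (Or.inl hn))
      (CompletionAmplitude.isLE_of_subsingleton _ _ fun n hn => hXh n (Or.inr (by omega))) hq
    refine ⟨k, fun x => e.injective ?_⟩
    rw [map_smul, hk, map_zero]
  intro q
  haveI := DualVanishing.finite_hom hω M q
  let d := r.HDEquiv M q
  haveI : Module.Finite A (Dual.HD A X q) := Module.Finite.equiv d.symm
  obtain ⟨k, hk⟩ := DualVanishing.pk_hom_rgamma hω I y (Dual.HD A X q) (i + q) fun P hP hy Q hPQ hIQ => by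
    refine h q P hy ?_ Q hPQ hIQ
    rw [← Module.mem_support_iff, ← d.support_eq]
    exact hP
  refine ⟨k, fun φ => ?_⟩
  let adj := (shiftEquiv' (Dual.D A) (-q) q (neg_add_cancel q)).toAdjunction
  let s := (CategoryTheory.shiftFunctorAdd' (Dual.D A) i q (i + q) rfl).symm.app W
  have h1 := hk (adj.homEquiv _ _ φ ≫ s.hom)
  rw [← Linear.smul_comp, Preadditive.IsIso.comp_right_eq_zero] at h1
  refine (adj.homEquiv _ _).injective ?_
  rw [adj.homEquiv_unit, adj.homEquiv_unit]
  show adj.unit.app _ ≫ (CategoryTheory.shiftFunctor (Dual.D A) q).map (y ^ k • φ) =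
    adj.unit.app _ ≫ (CategoryTheory.shiftFunctor (Dual.D A) q).map 0
  rw [Functor.map_zero]
  rw [adj.homEquiv_unit] at h1
  refine Eq.trans ?_ comp_zero.symm
  exact (congrArg (adj.unit.app _ ≫ ·) (Functor.map_smul (CategoryTheory.shiftFunctor (Dual.D A) q) (y ^ k) φ)).trans
    ((Linear.comp_smul _ _ _ _ _ _).trans h1)

end Groth.LocCohTransform.DualTransfer
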