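import Groth.Agent.LocCohTransform.TildeSections
import Groth.Agent.PropsBasic2.TildeExact
import Groth.Agent.CohBase.AffineHomCriterion
import Groth.Agent.EulerDeg.HLinear

/-!
The functor `M ↦ M~|_U` for the punctured open `U` of an ideal, with linear cohomology.
-/

set_option autoImplicit false
universe u

open CategoryTheory CategoryTheory.Limits AlgebraicGeometry Opposite TopologicalSpace

namespace Groth.LocCohTransform.Punct

variable {A : Type u} [CommRing A] (I : Ideal A)

/-- The punctured scheme. -/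
noncomputable abbrev UU : Scheme.{u} := ↑(LocCoh.puncturedOpen A I)

/-- `M ↦ M~|_U`. -/
noncomputable abbrev Φ : ModuleCat.{u} A ⥤ (UU I).Modules :=
  tilde.functor (CommRingCat.of A) ⋙ Scheme.Modules.restrictFunctor (LocCoh.puncturedOpen A I).ι

instance : PreservesFiniteLimits (Φ I) := by
  have := Groth.PropsBasic2.preservesFiniteLimits_tilde (CommRingCat.of A)
  have := Groth.CohBase.preservesFiniteLimits_restrictFunctor (LocCoh.puncturedOpen A I).ι
  infer_instance

instance : PreservesFiniteColimits (Φ I) := by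
  have := Groth.PropsBasic2.preservesFiniteColimits_tilde (CommRingCat.of A)
  infer_instance

instance : (Φ I).Additive :=
  Functor.additive_of_preserves_binary_products _

theorem shortExact_Φ {S : ShortComplex (ModuleCat.{u} A)} (hS : S.ShortExact) :
    (S.map (Φ I)).ShortExact :=
  hS.map_of_exact (Φ I)

theorem res_refl {M : ModuleCat.{u} A} {W : (Spec (CommRingCat.of A)).Opens} (h : W ≤ W)
    (s : TildeSec.sec (R := A) M W) : TildeSec.res (R := A) M h s = s := by
  change ((modulesSpecToSheaf.obj (tilde (R := CommRingCat.of A) M)).presheaf.map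
    (𝟙 (op W))).hom s = s
  rw [CategoryTheory.Functor.map_id]
  rfl

/-- Multiplication by `x`. -/
noncomputable abbrev mulHom (M : ModuleCat.{u} A) (x : A) : M ⟶ M :=
  ModuleCat.ofHom (LinearMap.lsmul A M x)

theorem tilde_map_mulHom_app (M : ModuleCat.{u} A) (x : A) (W : (Spec (CommRingCat.of A)).Opens)
    (s : TildeSec.sec (R := A) M W) :
    (tilde.map (R := CommRingCat.of A) (mulHom M x)).app W s = x • s := by
  refine Eq.trans ?_
    (((tilde.modulesSpecToSheafIso (R := CommRingCat.of A) M).app (op W)).toLinearEquiv.map_smul x s).symm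
  refine Subtype.ext (funext fun y => ?_)
  change LocalizedModule.map y.1.asIdeal.primeCompl (LinearMap.lsmul A M x) (s.1 y) = x • s.1 y
  induction s.1 y using LocalizedModule.induction_on with
  | _ m t => rw [LocalizedModule.map_mk, LocalizedModule.smul'_mk]; rfl

theorem abMap_mulHom (M : ModuleCat.{u} A) (x : A) :
    Groth.EulerDeg.abMap ((Φ I).map (mulHom M x)) =
      Coh.smulAb ((Φ I).obj M) (Coh.toGlobal (UU I ↘ Spec (CommRingCat.of A)) x) := by
  ext W s
  refine (tilde_map_mulHom_app M x ((LocCoh.puncturedOpen A I).ι ''ᵁ W.unop) s).trans ?_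
  have key : (Spec (CommRingCat.of A)).presheaf.map
      (homOfLE (le_top (a := (LocCoh.puncturedOpen A I).ι ''ᵁ W.unop))).op
        ((Scheme.ΓSpecIso (CommRingCat.of A)).inv x) =
      ((LocCoh.puncturedOpen A I).ι.appIso W.unop).inv
        (Coh.resTop (UU I) W (Coh.toGlobal (UU I ↘ Spec (CommRingCat.of A)) x)) := by
    rw [Scheme.Opens.ι_appIso]
    change _ = ((LocCoh.puncturedOpen A I).ι.appTop ≫ (UU I).presheaf.map (homOfLE le_top).op)
      ((Scheme.ΓSpecIso (CommRingCat.of A)).inv x)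
    rw [Scheme.Opens.ι_appTop]
    simp only [Scheme.Opens.toScheme_presheaf_map]
    rfl
  exact congrArg (fun r : (Spec (CommRingCat.of A)).ringCatSheaf.obj.obj
    (op ((LocCoh.puncturedOpen A I).ι ''ᵁ W.unop)) =>
      (r • (show ((tilde (R := CommRingCat.of A) M).val.obj
        (op ((LocCoh.puncturedOpen A I).ι ''ᵁ W.unop))) from s))) key

theorem hMap_mulHom (M : ModuleCat.{u} A) (x : A) (i : ℕ) (h : Coh.HH (UU I) ((Φ I).obj M) i) :
    Groth.EulerDeg.hMap A ((Φ I).map (mulHom M x)) i h = x • h := by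
  rw [Groth.EulerDeg.hMap_apply, abMap_mulHom]
  rfl

theorem isZero_Φ (M : ModuleCat.{u} A) (hM : LocCoh.IsPowerTorsion I M) : IsZero ((Φ I).obj M) := by
  rw [IsZero.iff_id_eq_zero]
  ext W s
  refine Subtype.ext (funext fun y => ?_)
  obtain ⟨z, hz, hzy⟩ := y.2
  obtain ⟨f, hf, hfy⟩ : ∃ f ∈ I, f ∉ (y.1 : PrimeSpectrum A).asIdeal := by
    by_contra hcon
    push Not at hcon
    exact z.2 (fun f hf => (show (z.1 : PrimeSpectrum A) = y.1 from hzy) ▸ hcon f hf)
  have : Subsingleton (LocalizedModule (y.1 : PrimeSpectrum A).asIdeal.primeCompl M) := by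
    refine LocalizedModule.subsingleton_iff.2 fun m => ?_
    obtain ⟨n, hn⟩ := hM m
    exact ⟨f ^ n, fun h => hfy ((y.1 : PrimeSpectrum A).2.mem_of_pow_mem n h),
      hn _ (Ideal.pow_mem_pow hf n)⟩
  exact Subsingleton.elim _ _

theorem subsingleton_HH_of_isZero {X : Scheme.{u}} {F : X.Modules} (hF : IsZero F) (i : ℕ) :
    Subsingleton (Coh.HH X F i) := by
  refine subsingleton_of_forall_eq 0 fun h => ?_
  have e : Sheaf.H.map (Groth.EulerDeg.abMap (𝟙 F)) i h = h := by
    rw [Groth.EulerDeg.abMap_id, Sheaf.H.map_id_apply]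
  rw [← e, IsZero.eq_of_src hF (𝟙 F) 0, Groth.EulerDeg.abMap_zero]
  change ((Sheaf.functorH _ i).map 0).hom h = 0
  rw [Functor.map_zero]
  rfl

/-- Cohomology in positive degree does not see torsion submodules. -/
theorem bijective_hMap_mkQ (M : ModuleCat.{u} A) (N : Submodule A M) (hN : LocCoh.IsPowerTorsion I N)
    (i : ℕ) :
    Function.Bijective (Groth.EulerDeg.hMap A
      ((Φ I).map (ModuleCat.ofHom N.mkQ : M ⟶ ModuleCat.of A (M ⧸ N))) i) := by
  let S : ShortComplex (ModuleCat.{u} A) :=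
    ShortComplex.mk (ModuleCat.ofHom N.subtype : ModuleCat.of A N ⟶ M) (ModuleCat.ofHom N.mkQ) (by
      ext m; exact (Submodule.Quotient.mk_eq_zero _).2 m.2)
  have hS : S.ShortExact :=
    { exact := (ShortComplex.moduleCat_exact_iff _).2 fun m hm =>
        ⟨⟨m, (Submodule.Quotient.mk_eq_zero _).1 hm⟩, rfl⟩
      mono_f := (ModuleCat.mono_iff_injective _).2 N.subtype_injective
      epi_g := (ModuleCat.epi_iff_surjective _).2 N.mkQ_surjective }
  have hz := fun j => subsingleton_HH_of_isZero (isZero_Φ I (ModuleCat.of A N) hN) j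
  refine ⟨?_, ?_⟩
  · rw [injective_iff_map_eq_zero]
    intro h hh
    obtain ⟨y, rfl⟩ := (Groth.EulerDeg.exact_mid A (shortExact_Φ I hS) i h).1 hh
    have hy : y = 0 :=
      Subsingleton.elim (α := Coh.HH (UU I) ((Φ I).obj (ModuleCat.of A N)) i) (h := hz i) y 0
    rw [hy, map_zero]
    rfl
  · intro h
    refine (Groth.EulerDeg.exact_right A (shortExact_Φ I hS) i h).1 ?_
    exact Subsingleton.elim (α := Coh.HH (UU I) ((Φ I).obj (ModuleCat.of A N)) (i + 1)) (h := hz (i + 1)) _ _

/-- Global sections of `M~|_U` from sections of `M~` on `U`. -/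
noncomputable def toH0 (M : ModuleCat.{u} A) :
    TildeSec.sec (R := A) M (LocCoh.puncturedOpen A I) →+ Coh.HH (UU I) ((Φ I).obj M) 0 :=
  (Sheaf.H.equiv₀ (Coh.toAb ((Φ I).obj M)) isTerminalTop).symm.toAddMonoidHom.comp
    (TildeSec.res (R := A) M (le_of_eq (LocCoh.puncturedOpen A I).ι_image_top)).toAddMonoidHom

theorem toH0_surjective (M : ModuleCat.{u} A) : Function.Surjective (toH0 I M) := by
  intro h
  refine ⟨TildeSec.res (R := A) M (ge_of_eq (LocCoh.puncturedOpen A I).ι_image_top)
    (Sheaf.H.equiv₀ (Coh.toAb ((Φ I).obj M)) isTerminalTop h), ?_⟩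
  refine (Sheaf.H.equiv₀ (Coh.toAb ((Φ I).obj M)) isTerminalTop).symm_apply_eq.2 ?_
  exact (TildeSec.res_res (R := A) M _ _ _).trans (res_refl _ _)

theorem toH0_map {M N : ModuleCat.{u} A} (φ : M ⟶ N)
    (s : TildeSec.sec (R := A) M (LocCoh.puncturedOpen A I)) :
    toH0 I N ((tilde.map (R := CommRingCat.of A) φ).app (LocCoh.puncturedOpen A I) s) =
      Groth.EulerDeg.hMap A ((Φ I).map φ) 0 (toH0 I M s) := by
  refine Eq.trans ?_ (Sheaf.H.equiv₀_symm_naturality (hT := isTerminalTop)
    (Groth.EulerDeg.abMap ((Φ I).map φ)) _).symm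
  refine congrArg (Sheaf.H.equiv₀ (Coh.toAb ((Φ I).obj N)) isTerminalTop).symm ?_
  exact (congrArg (fun t => t s) (congrArg DFunLike.coe (congrArg AddCommGrpCat.Hom.hom
    ((tilde.map (R := CommRingCat.of A) φ).mapPresheaf.naturality
      (homOfLE (le_of_eq (LocCoh.puncturedOpen A I).ι_image_top)).op)))).symm

/-- `toH0` is linear. -/
noncomputable def toH0ₗ (M : ModuleCat.{u} A) :
    TildeSec.sec (R := A) M (LocCoh.puncturedOpen A I) →ₗ[A] Coh.HH (UU I) ((Φ I).obj M) 0 :=
  { toH0 I M with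
    map_smul' := fun x s => by
      change toH0 I M (x • s) = x • toH0 I M s
      rw [← tilde_map_mulHom_app, toH0_map, hMap_mulHom] }

theorem toH0_toOpen_map {M N : ModuleCat.{u} A} (φ : M ⟶ N) (m : M) :
    toH0 I N ((tilde.toOpen (R := CommRingCat.of A) N (LocCoh.puncturedOpen A I)).hom (φ m)) =
      Groth.EulerDeg.hMap A ((Φ I).map φ) 0
        (toH0 I M ((tilde.toOpen (R := CommRingCat.of A) M (LocCoh.puncturedOpen A I)).hom m)) := by
  rw [← toH0_map]
  exact congrArg (toH0 I N) (congrArg (fun t => t m) (congrArg DFunLike.coe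
    (congrArg ModuleCat.Hom.hom (tilde.toOpen_map_app φ (LocCoh.puncturedOpen A I))))).symm

end Groth.LocCohTransform.Punct
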