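import Groth.Agent.LocCohTransform.HMap
import Groth.Agent.LocCohBase.Cd
import Groth.Agent.LocCohBase.Torsion
import Mathlib.Algebra.Category.ModuleCat.ProjectiveDimension
import Mathlib.Algebra.Module.FinitePresentation
import Mathlib.RingTheory.Localization.Module
import Mathlib.Algebra.Module.LocalizedModule.Exact

/-!
Projective dimension of a localization spreads out to an element of the multiplicative set, and
that element annihilates local cohomology below `depth - projective dimension`.
-/

set_option autoImplicit false
universe u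
open CategoryTheory CategoryTheory.Limits

namespace Groth.LocCohTransform

open Groth.LocCohBase (HH' δ exact₃ smul_eq_map subsingleton_H_pi)

variable {R : Type u} [CommRing R]

/-- The localization at `S` of `M` has projective dimension at most `h`. -/
abbrev PdLE (S : Submonoid R) (M : Type u) [AddCommGroup M] [Module R M] (h : ℕ) : Prop :=
  HasProjectiveDimensionLE (ModuleCat.of (Localization S) (LocalizedModule S M)) h

lemma pdLE_zero_iff (S : Submonoid R) (M : Type u) [AddCommGroup M] [Module R M] :
    PdLE S M 0 ↔ Module.Projective (Localization S) (LocalizedModule S M) :=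
  (projective_iff_hasProjectiveDimensionLE_zero _).symm.trans
    (IsProjective.iff_projective (LocalizedModule S M)).symm

lemma projective_localized_pi (S : Submonoid R) (n : ℕ) :
    Module.Projective (Localization S) (LocalizedModule S (Fin n → R)) := by
  have := Module.Free.of_basis ((Pi.basisFun R (Fin n)).ofIsLocalizedModule (Localization S) S
    (LocalizedModule.mkLinearMap S (Fin n → R)))
  infer_instance

lemma exists_lift_of_pdLE_zero [IsNoetherianRing R] (S : Submonoid R) (M : Type u) [AddCommGroup M]
    [Module R M] [Module.Finite R M] {n : ℕ} (π : (Fin n → R) →ₗ[R] M) (hπ : Function.Surjective π)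
    (h : PdLE S M 0) :
    ∃ s ∈ S, ∃ g : M →ₗ[R] (Fin n → R), ∀ m, π (g m) = s • m := by
  have := (pdLE_zero_iff S M).1 h
  have := Module.finitePresentation_of_finite R M
  obtain ⟨σ, hσ⟩ := Module.projective_lifting_property (LocalizedModule.map S π)
    (LinearMap.id (R := Localization S) (M := LocalizedModule S M))
    (IsLocalizedModule.map_surjective S (LocalizedModule.mkLinearMap S _)
      (LocalizedModule.mkLinearMap S _) π hπ)
  obtain ⟨g, s, hg⟩ := Module.FinitePresentation.exists_lift_of_isLocalizedModule S
    (LocalizedModule.mkLinearMap S (Fin n → R))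
    ((σ.restrictScalars R).comp (LocalizedModule.mkLinearMap S M))
  have h1 : (LocalizedModule.mkLinearMap S M).comp (π.comp g) =
      (LocalizedModule.mkLinearMap S M).comp ((s : R) • LinearMap.id) := by
    refine LinearMap.ext fun m => ?_
    have hm : LocalizedModule.mk (g m) (1 : S) = (s : R) • σ (LocalizedModule.mk m 1) :=
      LinearMap.congr_fun hg m
    change LocalizedModule.mk (π (g m)) (1 : S) = LocalizedModule.mk ((s : R) • m) 1
    rw [← LocalizedModule.map_mk, hm, LinearMap.map_smul_of_tower, ← LinearMap.comp_apply, hσ,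
      LinearMap.id_apply, LocalizedModule.smul'_mk]
  obtain ⟨t, ht⟩ := Module.Finite.exists_smul_of_comp_eq_of_isLocalizedModule S _ _ _ h1
  refine ⟨(t : R) * s, mul_mem t.2 s.2, (t : R) • g, fun m => ?_⟩
  rw [LinearMap.smul_apply, map_smul, mul_smul]
  exact LinearMap.congr_fun ht m

lemma pdLE_zero_of_lift (S : Submonoid R) (M : Type u) [AddCommGroup M] [Module R M] {n : ℕ}
    (π : (Fin n → R) →ₗ[R] M) {s : R} (hs : s ∈ S) (g : M →ₗ[R] (Fin n → R))
    (hg : ∀ m, π (g m) = s • m) : PdLE S M 0 := by
  rw [pdLE_zero_iff]
  have := projective_localized_pi S n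
  let c : Localization S := IsLocalization.mk' _ (1 : R) (⟨s, hs⟩ : S)
  refine Module.Projective.of_split (c • LocalizedModule.map S g) (LocalizedModule.map S π)
    (LinearMap.ext fun x => ?_)
  induction x using LocalizedModule.induction_on with
  | _ m t =>
    rw [LinearMap.comp_apply, LinearMap.smul_apply, map_smul, LocalizedModule.map_mk,
      LocalizedModule.map_mk, hg, ← LocalizedModule.smul'_mk,
      ← algebraMap_smul (Localization S) s, smul_smul, IsLocalization.mk'_spec, map_one, one_smul,
      LinearMap.id_apply]

/-- The localized presentation. -/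
lemma pdLE_succ_iff (S : Submonoid R) (M : Type u) [AddCommGroup M] [Module R M] {n : ℕ}
    (π : (Fin n → R) →ₗ[R] M) (hπ : Function.Surjective π) (h : ℕ) :
    PdLE S M (h + 1) ↔ PdLE S (LinearMap.ker π) h := by
  let C : ShortComplex (ModuleCat.{u} (Localization S)) := ShortComplex.mk
    (ModuleCat.ofHom (X := LocalizedModule S (LinearMap.ker π))
      (Y := LocalizedModule S (Fin n → R)) (LocalizedModule.map S (LinearMap.ker π).subtype))
    (ModuleCat.ofHom (X := LocalizedModule S (Fin n → R)) (Y := LocalizedModule S M)
      (LocalizedModule.map S π))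
    (by
      refine ModuleCat.hom_ext (LinearMap.ext fun x => ?_)
      exact (LocalizedModule.map_exact S _ _ (LinearMap.exact_subtype_ker_map π) _).2 ⟨x, rfl⟩)
  have hC : C.ShortExact :=
    { exact := (ShortComplex.ShortExact.moduleCat_exact_iff_function_exact _).2
        (LocalizedModule.map_exact S _ _ (LinearMap.exact_subtype_ker_map π))
      mono_f := (ModuleCat.mono_iff_injective _).2
        (IsLocalizedModule.map_injective S (LocalizedModule.mkLinearMap S _)
          (LocalizedModule.mkLinearMap S _) _ (Submodule.injective_subtype _))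
      epi_g := (ModuleCat.epi_iff_surjective _).2
        (IsLocalizedModule.map_surjective S (LocalizedModule.mkLinearMap S _)
          (LocalizedModule.mkLinearMap S _) π hπ) }
  exact hC.hasProjectiveDimensionLT_X₃_iff h
    ((IsProjective.iff_projective _).1 (projective_localized_pi S n))

lemma subsingleton_H_pi_of_lt_depth [IsNoetherianRing R] (b : Ideal R) (i : ℕ)
    (hi : (i : ℕ∞) < LocCoh.idealDepth b R) (n : ℕ) : Subsingleton (LocCoh.H b i (Fin n → R)) := by
  refine subsingleton_H_pi b i ?_ n
  refine (Groth.LocCohBase.le_idealDepth_iff_localCohomology b (i + 1) R).1 ?_ i (Nat.lt_succ_self i)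
  rw [Nat.cast_succ]
  exact Order.add_one_le_of_lt hi

/-- Projective dimension `≤ h` at `S` spreads out to some `s ∈ S`, which moreover annihilates
`H^i_b(M)` for `i + h < depth_b R`. -/
theorem exists_spread [IsNoetherianRing R] : ∀ (h : ℕ) (S : Submonoid R) (M : Type u)
    [AddCommGroup M] [Module R M] [Module.Finite R M], PdLE S M h →
      ∃ s ∈ S, (∀ T : Submonoid R, s ∈ T → PdLE T M h) ∧
        ∀ (b : Ideal R) (i : ℕ), ((i + h : ℕ) : ℕ∞) < LocCoh.idealDepth b R →
          ∀ x : LocCoh.H b i M, s • x = 0 := by
  intro h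
  induction h with
  | zero =>
    intro S M _ _ _ hM
    obtain ⟨n, π, hπ⟩ := Module.Finite.exists_fin' R M
    obtain ⟨s, hs, g, hg⟩ := exists_lift_of_pdLE_zero S M π hπ hM
    refine ⟨s, hs, fun T hT => pdLE_zero_of_lift T M π hT g hg, fun b i hi x => ?_⟩
    have := subsingleton_H_pi_of_lt_depth b i hi n
    have e : s • 𝟙 (ModuleCat.of R M) = ModuleCat.ofHom g ≫ ModuleCat.ofHom π := by
      ext m; exact (hg m).symm
    rw [smul_eq_map, e, map_comp', Subsingleton.elim
      (((localCohomology b i).map (ModuleCat.ofHom g)).hom x : LocCoh.H b i (Fin n → R)) 0]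
    exact map_zero _
  | succ h ih =>
    intro S M _ _ _ hM
    obtain ⟨n, π, hπ⟩ := Module.Finite.exists_fin' R M
    have hK := (pdLE_succ_iff S M π hπ h).1 hM
    have := Module.Finite.of_fg (IsNoetherian.noetherian (LinearMap.ker π))
    obtain ⟨s, hs, hT, hann⟩ := ih S (LinearMap.ker π) hK
    refine ⟨s, hs, fun T hsT => (pdLE_succ_iff T M π hπ h).2 (hT T hsT), fun b i hi x => ?_⟩
    let C : ShortComplex (ModuleCat.{u} R) := ShortComplex.mk
      (ModuleCat.ofHom (LinearMap.ker π).subtype) (ModuleCat.ofHom π)
      (by ext x; exact x.2)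
    have hC : C.ShortExact :=
      { exact := (ShortComplex.ShortExact.moduleCat_exact_iff_function_exact _).2
          (LinearMap.exact_subtype_ker_map π)
        mono_f := (ModuleCat.mono_iff_injective _).2 (Submodule.injective_subtype _)
        epi_g := (ModuleCat.epi_iff_surjective _).2 hπ }
    have := subsingleton_H_pi_of_lt_depth b i (lt_of_le_of_lt (by exact_mod_cast (by omega)) hi) n
    have h1 : δ hC i (s • (x : HH' b i C.X₃)) = 0 := by
      rw [map_smul]
      exact hann b (i + 1) (by rw [show i + 1 + h = i + (h + 1) by omega]; exact hi) _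
    obtain ⟨y, hy⟩ := (exact₃ hC i _).1 h1
    rw [← hy, Subsingleton.elim (y : LocCoh.H b i (Fin n → R)) 0]
    exact map_zero _

lemma exists_mem_annihilator_of_notMem_support (M : Type u) [AddCommGroup M] [Module R M]
    [Module.Finite R M] (p : PrimeSpectrum R) (hp : p ∉ Module.support R M) :
    ∃ s : R, s ∉ p.asIdeal ∧ ∀ m : M, s • m = 0 := by
  rw [Module.support_eq_zeroLocus, PrimeSpectrum.mem_zeroLocus, Set.not_subset] at hp
  obtain ⟨s, hs, hsp⟩ := hp
  exact ⟨s, hsp, fun m => Module.mem_annihilator.1 hs m⟩

lemma smul_H_eq_zero_of_annihilates (b : Ideal R) (i : ℕ) (M : Type u) [AddCommGroup M]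
    [Module R M] {s : R} (hs : ∀ m : M, s • m = 0) (x : LocCoh.H b i M) : s • x = 0 := by
  have e : s • 𝟙 (ModuleCat.of R M) = 0 := by ext m; exact hs m
  rw [smul_eq_map, e]
  exact map_zero' b i x

lemma isZero_localized_iff (S : Submonoid R) (M : Type u) [AddCommGroup M] [Module R M] :
    IsZero (ModuleCat.of (Localization S) (LocalizedModule S M)) ↔
      ∀ m : M, ∃ r ∈ S, r • m = 0 := by
  rw [ModuleCat.isZero_iff_subsingleton]
  exact LocalizedModule.subsingleton_iff

end Groth.LocCohTransform
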