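import Groth.Agent.LocCohBase.DepthTower
import Groth.Agent.LocFinite.CMOff
import Groth.Agent.LocCohTransform.PdAnnihilation
import Groth.Prelude.Def_W4bk5brsh7111920
import Groth.Prelude.Def_SGA2

/-!
Adjusted depths: the height term as a relative codimension, behaviour under localisation and
quotients, torsion invariance, monotonicity along a specialisation.
-/

set_option autoImplicit false
universe u

open CategoryTheory IsLocalRing Groth.LocCohBase

namespace Groth.LocCohTransform

variable {R : Type u} [CommRing R]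

/-- `V(p)` as the spectrum of `R/p`. -/
noncomputable def iciOrderIso (p : PrimeSpectrum R) :
    Set.Ici p ≃o PrimeSpectrum (R ⧸ p.asIdeal) where
  toFun x := ⟨x.1.asIdeal.map (Ideal.Quotient.mk p.asIdeal),
    Ideal.map_isPrime_of_surjective Ideal.Quotient.mk_surjective (by rw [Ideal.mk_ker]; exact x.2)⟩
  invFun y := ⟨PrimeSpectrum.comap (Ideal.Quotient.mk p.asIdeal) y, fun a ha => by
    show Ideal.Quotient.mk p.asIdeal a ∈ y.asIdeal
    rw [Ideal.Quotient.eq_zero_iff_mem.2 ha]
    exact y.asIdeal.zero_mem⟩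
  left_inv x := Subtype.ext (PrimeSpectrum.ext (by
    show (x.1.asIdeal.map (Ideal.Quotient.mk p.asIdeal)).comap (Ideal.Quotient.mk p.asIdeal) = _
    rw [Ideal.comap_map_of_surjective _ Ideal.Quotient.mk_surjective, ← RingHom.ker_eq_comap_bot,
      Ideal.mk_ker]
    exact sup_eq_left.2 x.2))
  right_inv y := PrimeSpectrum.ext (Ideal.map_comap_of_surjective _ Ideal.Quotient.mk_surjective _)
  map_rel_iff' {x y} := by
    refine ⟨fun h => ?_, fun h => Ideal.map_mono h⟩
    have h' := Ideal.comap_mono (f := Ideal.Quotient.mk p.asIdeal) (show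
      x.1.asIdeal.map (Ideal.Quotient.mk p.asIdeal) ≤ y.1.asIdeal.map (Ideal.Quotient.mk p.asIdeal)
      from h)
    rw [Ideal.comap_map_of_surjective _ Ideal.Quotient.mk_surjective,
      Ideal.comap_map_of_surjective _ Ideal.Quotient.mk_surjective, ← RingHom.ker_eq_comap_bot,
      Ideal.mk_ker, sup_eq_left.2 (show p.asIdeal ≤ x.1.asIdeal from x.2),
      sup_eq_left.2 (show p.asIdeal ≤ y.1.asIdeal from y.2)] at h'
    exact h'

/-- The height of `q/p` is the height of `q` above `p`. -/
theorem height_map_eq_height_Ici {p q : PrimeSpectrum R} (h : p ≤ q) :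
    (q.asIdeal.map (Ideal.Quotient.mk p.asIdeal)).height = Order.height (⟨q, h⟩ : Set.Ici p) := by
  rw [← Order.height_orderIso (iciOrderIso p) ⟨q, h⟩, ← PrimeSpectrum.height_eq_orderHeight]
  rfl

/-- `ht ((a + p)/p)` is the relative codimension. -/
theorem height_map_sup_eq_relCodim (a : Ideal R) (p : PrimeSpectrum R) :
    ((a ⊔ p.asIdeal).map (Ideal.Quotient.mk p.asIdeal)).height = SGA2.relCodim a p := by
  refine le_antisymm (le_iInf fun q => ?_) ?_
  · rw [← height_map_eq_height_Ici q.2.1]
    exact Ideal.height_mono (Ideal.map_mono (sup_le q.2.2 q.2.1))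
  · rw [Ideal.height_eq_inf_minimalPrimes]
    refine le_iInf₂ fun J hJ => ?_
    have := hJ.1.1
    set x := (iciOrderIso p).symm ⟨J, hJ.1.1⟩
    have hax : a ≤ x.1.asIdeal := fun z hz => hJ.1.2 (Ideal.mem_map_of_mem _ (Ideal.mem_sup_left hz))
    refine (iInf_le _ (⟨x.1, x.2, hax⟩ : {q : PrimeSpectrum R // p ≤ q ∧ a ≤ q.asIdeal})).trans ?_
    rw [← height_map_eq_height_Ici x.2]
    exact le_of_eq (congrArg Ideal.height
      (congrArg PrimeSpectrum.asIdeal ((iciOrderIso p).apply_symm_apply ⟨J, hJ.1.1⟩)))

theorem adjDepth_eq (a : Ideal R) (M : Type u) [AddCommGroup M] [Module R M]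
    (p : PrimeSpectrum R) :
    LocCoh.adjDepth a M p =
      LocCoh.depth (Localization.AtPrime p.asIdeal) (LocalizedModule p.asIdeal.primeCompl M) +
        SGA2.relCodim a p := by
  rw [LocCoh.adjDepth, height_map_sup_eq_relCodim]

theorem depth_eq_top_of_subsingleton {A : Type u} [CommRing A] [IsLocalRing A] (M : Type u)
    [AddCommGroup M] [Module A M] [Subsingleton M] : LocCoh.depth A M = ⊤ :=
  idealDepth_eq_top_of_smul_top_eq_top (Subsingleton.elim _ _)

/-- A submodule invisible at the primes not containing `b` does not change `λ_a^b`. -/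
theorem minAdjDepth_quotient_eq (a b : Ideal R) (M : Type u) [AddCommGroup M] [Module R M]
    (N : Submodule R M) (hN : ∀ p : PrimeSpectrum R, ¬ b ≤ p.asIdeal →
      Subsingleton (LocalizedModule p.asIdeal.primeCompl N)) :
    LocCoh.minAdjDepth a b M = LocCoh.minAdjDepth a b (M ⧸ N) := by
  refine iInf_congr fun p => iInf_congr fun hp => ?_
  have := hN p hp
  rw [LocCoh.adjDepth, LocCoh.adjDepth]
  congr 1
  refine idealDepth_congr (LinearEquiv.ofBijective (LocalizedModule.map p.asIdeal.primeCompl N.mkQ)
    ⟨?_, LocalizedModule.map_surjective _ _ N.mkQ_surjective⟩)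
  rw [injective_iff_map_eq_zero]
  intro x hx
  obtain ⟨y, rfl⟩ := (LocalizedModule.map_exact p.asIdeal.primeCompl N.subtype N.mkQ
    (LinearMap.exact_subtype_mkQ N) x).1 hx
  rw [Subsingleton.elim y 0, map_zero]

variable [IsNoetherianRing R]

/-- An iterated localisation. -/
theorem depth_localization_localized (S : Submonoid R) (P : Ideal (Localization S)) [P.IsPrime]
    (p : Ideal R) [p.IsPrime] (hp : p = P.comap (algebraMap R (Localization S)))
    (M : Type u) [AddCommGroup M] [Module R M] [Module.Finite R M] :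
    LocCoh.depth (Localization.AtPrime P) (LocalizedModule P.primeCompl (LocalizedModule S M)) =
      LocCoh.depth (Localization.AtPrime p) (LocalizedModule p.primeCompl M) := by
  have : IsNoetherianRing (Localization S) := IsLocalization.isNoetherianRing S _ inferInstance
  have : Module.Finite (Localization S) (LocalizedModule S M) :=
    Module.Finite.of_isLocalizedModule S (LocalizedModule.mkLinearMap S M)
  have : Module.Finite (Localization.AtPrime p) (LocalizedModule p.primeCompl M) :=
    Module.Finite.of_isLocalizedModule p.primeCompl (LocalizedModule.mkLinearMap p.primeCompl M)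
  have : Module.Finite (Localization.AtPrime P)
      (LocalizedModule P.primeCompl (LocalizedModule S M)) :=
    Module.Finite.of_isLocalizedModule P.primeCompl
      (LocalizedModule.mkLinearMap P.primeCompl (LocalizedModule S M))
  subst hp
  set p := P.comap (algebraMap R (Localization S))
  have : IsLocalization p.primeCompl (Localization.AtPrime P) :=
    IsLocalization.isLocalization_atPrime_localization_atPrime S P
  let ψ : Localization.AtPrime p ≃ₐ[R] Localization.AtPrime P :=
    IsLocalization.algEquiv p.primeCompl _ _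
  let : Algebra (Localization.AtPrime p) (Localization.AtPrime P) :=
    ψ.toAlgHom.toRingHom.toAlgebra
  let Y := LocalizedModule P.primeCompl (LocalizedModule S M)
  let : Module (Localization.AtPrime p) Y :=
    Module.compHom _ (algebraMap (Localization.AtPrime p) (Localization.AtPrime P))
  have : IsScalarTower (Localization.AtPrime p) (Localization.AtPrime P) Y :=
    IsScalarTower.of_algebraMap_smul fun _ _ => rfl
  have : IsScalarTower R (Localization.AtPrime p) Y :=
    IsScalarTower.of_algebraMap_smul fun a x => by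
      show ψ (algebraMap R _ a) • x = a • x
      rw [AlgEquiv.commutes, algebraMap_smul]
  let g : M →ₗ[R] Y := ((LocalizedModule.mkLinearMap P.primeCompl
    (LocalizedModule S M)).restrictScalars R).comp (LocalizedModule.mkLinearMap S M)
  have hbc : IsBaseChange (Localization.AtPrime P) g :=
    IsBaseChange.comp (IsLocalizedModule.isBaseChange S (Localization S) _)
      (IsLocalizedModule.isBaseChange P.primeCompl (Localization.AtPrime P) _)
  have : IsLocalizedModule p.primeCompl g :=
    (isLocalizedModule_iff_isBaseChange p.primeCompl (Localization.AtPrime P) g).2 hbc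
  let e := (IsLocalizedModule.iso p.primeCompl g).extendScalarsOfIsLocalization p.primeCompl
    (Localization.AtPrime p)
  have key : ∀ n : ℕ, (n : ℕ∞) ≤ LocCoh.depth (Localization.AtPrime P) Y ↔
      (n : ℕ∞) ≤ LocCoh.depth (Localization.AtPrime p) (LocalizedModule p.primeCompl M) := fun n => by
    rw [LocCoh.depth, LocCoh.depth, le_idealDepth_iff_localCohomology,
      le_idealDepth_iff_localCohomology]
    refine forall₂_congr fun j _ => ?_
    rw [subsingleton_H_congr (maximalIdeal (Localization.AtPrime p)) j e]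
    exact Groth.LocDual.subsingleton_H_iff_of_surjective ψ.surjective Y j
  exact le_antisymm (le_iff_forall_nat_le.2 fun n hn => (key n).1 hn)
    (le_iff_forall_nat_le.2 fun n hn => (key n).2 hn)

omit [IsNoetherianRing R] in
theorem relCodim_le_localization (S : Submonoid R) (a : Ideal R)
    (P : PrimeSpectrum (Localization S)) :
    SGA2.relCodim a (PrimeSpectrum.comap (algebraMap R (Localization S)) P) ≤
      SGA2.relCodim (a.map (algebraMap R (Localization S))) P := by
  set f := algebraMap R (Localization S)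
  refine le_iInf fun Q => ?_
  have hPQ : PrimeSpectrum.comap f P ≤ PrimeSpectrum.comap f Q.1 := Ideal.comap_mono Q.2.1
  refine (iInf_le _ ⟨PrimeSpectrum.comap f Q.1, hPQ, Ideal.map_le_iff_le_comap.1 Q.2.2⟩).trans ?_
  rw [← WithBot.coe_le_coe, Order.height_eq_krullDim_Iic, Order.height_eq_krullDim_Iic]
  have hd : ∀ r : Set.Iic (⟨PrimeSpectrum.comap f Q.1, hPQ⟩ : Set.Ici (PrimeSpectrum.comap f P)),
      Disjoint (S : Set R) (r.1.1.asIdeal : Set R) := fun r => by
    refine Set.disjoint_of_subset_right (show (r.1.1.asIdeal : Set R) ⊆ (Q.1.asIdeal.comap f : Set R)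
      from r.2) ?_
    exact ((IsLocalization.isPrime_iff_isPrime_disjoint S (Localization S) _).1 Q.1.isPrime).2
  have hprime := fun r : Set.Iic (⟨PrimeSpectrum.comap f Q.1, hPQ⟩ :
      Set.Ici (PrimeSpectrum.comap f P)) =>
    IsLocalization.isPrime_of_isPrime_disjoint S (Localization S) r.1.1.asIdeal r.1.1.isPrime (hd r)
  have hcomap := fun r : Set.Iic (⟨PrimeSpectrum.comap f Q.1, hPQ⟩ :
      Set.Ici (PrimeSpectrum.comap f P)) =>
    IsLocalization.under_map_of_isPrime_disjoint S (Localization S) r.1.1.isPrime (hd r)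
  refine Order.krullDim_le_of_strictMono
    (fun r => ⟨⟨⟨r.1.1.asIdeal.map f, hprime r⟩, ?_⟩, ?_⟩) ?_
  · show P.asIdeal ≤ r.1.1.asIdeal.map f
    rw [← IsLocalization.map_under S (Localization S) P.asIdeal]
    exact Ideal.map_mono r.1.2
  · show r.1.1.asIdeal.map f ≤ Q.1.asIdeal
    exact Ideal.map_le_iff_le_comap.2 r.2
  · intro r r' hrr'
    refine lt_of_le_not_ge (Ideal.map_mono hrr'.le) fun hge => not_le_of_gt hrr' ?_
    show r'.1.1.asIdeal ≤ r.1.1.asIdeal
    rw [← hcomap r, ← hcomap r']
    exact Ideal.comap_mono hge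

theorem minAdjDepth_le_localization (a b : Ideal R) (M : Type u) [AddCommGroup M] [Module R M]
    [Module.Finite R M] (S : Submonoid R) :
    LocCoh.minAdjDepth a b M ≤ LocCoh.minAdjDepth (a.map (algebraMap R (Localization S)))
      (b.map (algebraMap R (Localization S))) (LocalizedModule S M) := by
  refine le_iInf₂ fun P hP => ?_
  refine (iInf₂_le (PrimeSpectrum.comap (algebraMap R (Localization S)) P)
    fun h => hP (Ideal.map_le_iff_le_comap.2 h)).trans ?_
  rw [adjDepth_eq, adjDepth_eq, depth_localization_localized S P.asIdeal _ rfl M]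
  exact add_le_add le_rfl (relCodim_le_localization S a P)

/-- Depth at a prime over a quotient ring. -/
theorem depth_localized_quotient (c : Ideal R) (P : Ideal (R ⧸ c)) [P.IsPrime] (p : Ideal R)
    [p.IsPrime] (hp : p = P.comap (algebraMap R (R ⧸ c))) (M : Type u) [AddCommGroup M] [Module R M]
    [Module (R ⧸ c) M] [IsScalarTower R (R ⧸ c) M] [Module.Finite R M] :
    LocCoh.depth (Localization.AtPrime P) (LocalizedModule P.primeCompl M) =
      LocCoh.depth (Localization.AtPrime p) (LocalizedModule p.primeCompl M) := by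
  have : Module.Finite (R ⧸ c) M := Module.Finite.of_restrictScalars_finite R (R ⧸ c) M
  have : Module.Finite (Localization.AtPrime p) (LocalizedModule p.primeCompl M) :=
    Module.Finite.of_isLocalizedModule p.primeCompl (LocalizedModule.mkLinearMap p.primeCompl M)
  have : Module.Finite (Localization.AtPrime P) (LocalizedModule P.primeCompl M) :=
    Module.Finite.of_isLocalizedModule P.primeCompl (LocalizedModule.mkLinearMap P.primeCompl M)
  have key : ∀ n : ℕ, (n : ℕ∞) ≤ LocCoh.depth (Localization.AtPrime P) (LocalizedModule P.primeCompl M)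
      ↔ (n : ℕ∞) ≤ LocCoh.depth (Localization.AtPrime p) (LocalizedModule p.primeCompl M) :=
    fun n => by
      rw [LocCoh.depth, LocCoh.depth, le_idealDepth_iff_localCohomology,
        le_idealDepth_iff_localCohomology]
      exact forall₂_congr fun j _ => Groth.LocDual.subsingleton_H_atPrime_iff_of_surjective
        Ideal.Quotient.mk_surjective p P hp M j
  exact le_antisymm (le_iff_forall_nat_le.2 fun n hn => (key n).1 hn)
    (le_iff_forall_nat_le.2 fun n hn => (key n).2 hn)

omit [IsNoetherianRing R] in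
theorem relCodim_quotient (c a : Ideal R) (P : PrimeSpectrum (R ⧸ c)) :
    SGA2.relCodim (a.map (Ideal.Quotient.mk c)) P =
      SGA2.relCodim a (PrimeSpectrum.comap (Ideal.Quotient.mk c) P) := by
  obtain ⟨e, he⟩ := Groth.LocFinite.exists_Ici_orderIso (R := R) (A := R ⧸ c)
    Ideal.Quotient.mk_surjective P
  refine le_antisymm (le_iInf fun q => ?_) (le_iInf fun Q => ?_)
  · set x := e.symm ⟨q.1, q.2.1⟩
    have hx : PrimeSpectrum.comap (Ideal.Quotient.mk c) x.1 = q.1 :=
      (he x).symm.trans (congrArg Subtype.val (e.apply_symm_apply ⟨q.1, q.2.1⟩))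
    have hax : a.map (Ideal.Quotient.mk c) ≤ x.1.asIdeal := Ideal.map_le_iff_le_comap.2
      (le_of_le_of_eq q.2.2 (congrArg PrimeSpectrum.asIdeal hx).symm)
    refine (iInf_le _ ⟨x.1, x.2, hax⟩).trans ?_
    rw [← Order.height_orderIso e, e.apply_symm_apply]
  · refine (iInf_le _ ⟨(e ⟨Q.1, Q.2.1⟩).1, (e ⟨Q.1, Q.2.1⟩).2, ?_⟩).trans ?_
    · exact le_of_eq (Order.height_orderIso e ⟨Q.1, Q.2.1⟩)
    · exact (Ideal.map_le_iff_le_comap.1 Q.2.2).trans
        (le_of_eq (congrArg PrimeSpectrum.asIdeal (he ⟨Q.1, Q.2.1⟩)).symm)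

theorem minAdjDepth_quotient_ring (a b c : Ideal R) (M : Type u) [AddCommGroup M] [Module R M]
    [Module (R ⧸ c) M] [IsScalarTower R (R ⧸ c) M] [Module.Finite R M] :
    LocCoh.minAdjDepth a b M =
      LocCoh.minAdjDepth (a.map (Ideal.Quotient.mk c)) (b.map (Ideal.Quotient.mk c)) M := by
  have key : ∀ P : PrimeSpectrum (R ⧸ c), LocCoh.adjDepth (a.map (Ideal.Quotient.mk c)) M P =
      LocCoh.adjDepth a M (PrimeSpectrum.comap (Ideal.Quotient.mk c) P) := fun P => by
    rw [adjDepth_eq, adjDepth_eq, relCodim_quotient,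
      depth_localized_quotient c P.asIdeal (PrimeSpectrum.comap (Ideal.Quotient.mk c) P).asIdeal rfl M]
  refine le_antisymm (le_iInf₂ fun P hP => ?_) (le_iInf₂ fun p hp => ?_)
  · exact le_of_le_of_eq (iInf₂_le (PrimeSpectrum.comap (Ideal.Quotient.mk c) P)
      fun h => hP (Ideal.map_le_iff_le_comap.2 h)) (key P).symm
  by_cases hcp : c ≤ p.asIdeal
  · have : (p.asIdeal.map (Ideal.Quotient.mk c)).IsPrime :=
      Ideal.map_isPrime_of_surjective Ideal.Quotient.mk_surjective (by rwa [Ideal.mk_ker])
    have hcomap : PrimeSpectrum.comap (Ideal.Quotient.mk c)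
        ⟨p.asIdeal.map (Ideal.Quotient.mk c), inferInstance⟩ = p := PrimeSpectrum.ext (by
      show (p.asIdeal.map (Ideal.Quotient.mk c)).comap (Ideal.Quotient.mk c) = _
      rw [Ideal.comap_map_of_surjective _ Ideal.Quotient.mk_surjective, ← RingHom.ker_eq_comap_bot,
        Ideal.mk_ker]
      exact sup_eq_left.2 hcp)
    refine le_of_le_of_eq (iInf₂_le ⟨p.asIdeal.map (Ideal.Quotient.mk c), inferInstance⟩ fun h => hp ?_)
      ((key _).trans (congrArg (LocCoh.adjDepth a M) hcomap))
    exact (Ideal.map_le_iff_le_comap.1 h).trans (congrArg PrimeSpectrum.asIdeal hcomap).le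
  · obtain ⟨x, hxc, hxp⟩ := SetLike.not_le_iff_exists.1 hcp
    have : Subsingleton (LocalizedModule p.asIdeal.primeCompl M) :=
      LocalizedModule.subsingleton_iff.2 fun m => ⟨x, hxp, by
        rw [← algebraMap_smul (R ⧸ c) x m, Ideal.Quotient.algebraMap_eq,
          Ideal.Quotient.eq_zero_iff_mem.2 hxc, zero_smul]⟩
    rw [adjDepth_eq, depth_eq_top_of_subsingleton, top_add]
    exact le_top

omit [IsNoetherianRing R] in
/-- Heights add up along a specialisation (inequality). -/
theorem height_Ici_add_le {p s q : PrimeSpectrum R} (hps : p ≤ s) (hsq : s ≤ q) :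
    Order.height (⟨s, hps⟩ : Set.Ici p) + Order.height (⟨q, hsq⟩ : Set.Ici s) ≤
      Order.height (⟨q, hps.trans hsq⟩ : Set.Ici p) := by
  rcases eq_or_ne (Order.height (⟨q, hps.trans hsq⟩ : Set.Ici p)) ⊤ with h | h
  · rw [h]; exact le_top
  let g : Set.Ici s → Set.Ici p := fun x => ⟨x.1, hps.trans x.2⟩
  have hg : StrictMono g := fun x y hxy => hxy
  have h1 : Order.height (⟨s, hps⟩ : Set.Ici p) ≠ ⊤ :=
    ne_top_of_le_ne_top h (Order.height_mono hsq)
  have h2 : Order.height (⟨q, hsq⟩ : Set.Ici s) ≠ ⊤ :=
    ne_top_of_le_ne_top h (Order.height_le_height_apply_of_strictMono g hg ⟨q, hsq⟩)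
  obtain ⟨m, hm⟩ := ENat.ne_top_iff_exists.1 h1
  obtain ⟨n, hn⟩ := ENat.ne_top_iff_exists.1 h2
  obtain ⟨l, hl, hllen⟩ := Order.exists_series_of_height_eq_coe _ hm.symm
  obtain ⟨l', hl', hllen'⟩ := Order.exists_series_of_height_eq_coe _ hn.symm
  have hhead : l'.head = ⟨s, Set.self_mem_Ici⟩ := by
    by_contra hne
    have hlt : (⟨s, Set.self_mem_Ici⟩ : Set.Ici s) < l'.head :=
      lt_of_le_of_ne l'.head.2 fun h => hne h.symm
    have := Order.length_le_height_last (p := l'.cons _ hlt)
    rw [RelSeries.cons_length, RelSeries.last_cons, hl', ← hn, Nat.cast_le] at this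
    omega
  have hconn : l.last = (l'.map g hg).head := by
    rw [hl, LTSeries.head_map, hhead]
  have := Order.length_le_height_last (p := l.smash (l'.map g hg) hconn)
  rw [RelSeries.smash_length, RelSeries.last_smash, LTSeries.last_map, hl', LTSeries.map_length,
    hllen, hllen', Nat.cast_add] at this
  rw [← hm, ← hn]
  exact this

theorem adjDepth_le_of_between (a : Ideal R) (M : Type u) [AddCommGroup M] [Module R M]
    [Module.Finite R M] {p s q : PrimeSpectrum R} (hps : p ≤ s) (hsq : s ≤ q) (haq : a ≤ q.asIdeal)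
    (hq : Order.height (⟨q, hps.trans hsq⟩ : Set.Ici p) = SGA2.relCodim a p) :
    LocCoh.adjDepth a M s ≤ LocCoh.adjDepth a M p := by
  rw [adjDepth_eq, adjDepth_eq]
  rcases eq_or_ne (SGA2.relCodim a p) ⊤ with h | h
  · rw [h, add_top]; exact le_top
  have hle := height_Ici_add_le hps hsq
  rw [hq] at hle
  obtain ⟨e, he⟩ := ENat.ne_top_iff_exists.1 (ne_top_of_le_ne_top h (le_trans le_self_add hle))
  refine (add_le_add (depth_le_depth_add_height p s hps he.symm.le M)
    (iInf_le _ (⟨q, hsq, haq⟩ : {x : PrimeSpectrum R // s ≤ x ∧ a ≤ x.asIdeal}))).trans ?_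
  rw [add_assoc, he]
  exact add_le_add le_rfl hle

end Groth.LocCohTransform
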