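import Groth.Prelude.Def_W4bk5brsh7111920
import Mathlib.Topology.KrullDimension
import Mathlib.Topology.NoetherianSpace
import Mathlib.RingTheory.Spectrum.Prime.Noetherian

/-!
Connectedness dimension through irreducible components.
-/

set_option autoImplicit false
universe u

open TopologicalSpace Set

namespace Groth.LocCohTransform

variable {T : Type u} [TopologicalSpace T]

theorem isClosed_sUnion_of_subset [NoetherianSpace T] {A : Set (Set T)}
    (hA : A ⊆ irreducibleComponents T) : IsClosed (⋃₀ A) := by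
  rw [Set.sUnion_eq_biUnion]
  exact (NoetherianSpace.finite_irreducibleComponents.subset hA).isClosed_biUnion
    fun C hC => isClosed_of_mem_irreducibleComponents C (hA hC)

theorem topologicalKrullDim_mono {S S' : Set T} (h : S ⊆ S') :
    topologicalKrullDim S ≤ topologicalKrullDim S' :=
  (Topology.IsEmbedding.inclusion h).isInducing.topologicalKrullDim_le

/-- A partition of the components disconnects the complement of the intersection. -/
theorem connDim_le_of_partition [NoetherianSpace T] {A B : Set (Set T)}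
    (hA : A ⊆ irreducibleComponents T) (hB : B ⊆ irreducibleComponents T) (hA0 : A.Nonempty)
    (hB0 : B.Nonempty) (hAB : A ∪ B = irreducibleComponents T) (hd : Disjoint A B) :
    LocCoh.connDim T ≤ topologicalKrullDim ↥(⋃₀ A ∩ ⋃₀ B) := by
  have hAc := isClosed_sUnion_of_subset hA
  have hBc := isClosed_sUnion_of_subset hB
  have hfin : (irreducibleComponents T).Finite := NoetherianSpace.finite_irreducibleComponents
  refine iInf₂_le_of_le (⋃₀ A ∩ ⋃₀ B) ⟨hAc.inter hBc, fun hconn => ?_⟩ le_rfl
  obtain ⟨C, hC⟩ := hA0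
  obtain ⟨D, hD⟩ := hB0
  have hx : (C \ ⋃₀ B).Nonempty := Set.not_subset.1 fun hsub =>
    Set.disjoint_left.1 hd hC
      (mem_of_subset_sUnion_irreducibleComponents C (hA hC) B (hfin.subset hB) hB hsub)
  have hy : (D \ ⋃₀ A).Nonempty := Set.not_subset.1 fun hsub =>
    Set.disjoint_right.1 hd hD
      (mem_of_subset_sUnion_irreducibleComponents D (hB hD) A (hfin.subset hA) hA hsub)
  obtain ⟨x, -, hxB⟩ := hx
  obtain ⟨y, -, hyA⟩ := hy
  obtain ⟨z, -, hzA, hzB⟩ := hconn.isPreconnected (⋃₀ A)ᶜ (⋃₀ B)ᶜ hAc.isOpen_compl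
    hBc.isOpen_compl (by rw [← Set.compl_inter])
    ⟨y, fun h => hyA h.1, hyA⟩ ⟨x, fun h => hxB h.2, hxB⟩
  have : z ∈ ⋃₀ irreducibleComponents T := by rw [sUnion_irreducibleComponents]; trivial
  rw [← hAB, Set.sUnion_union] at this
  exact this.elim hzA hzB

theorem connDim_le_of_cover [NoetherianSpace T] {A B : Set (Set T)}
    (hA : A ⊆ irreducibleComponents T) (hB : B ⊆ irreducibleComponents T) (hA0 : A.Nonempty)
    (hB0 : B.Nonempty) (hAB : A ∪ B = irreducibleComponents T) :
    LocCoh.connDim T ≤ topologicalKrullDim ↥(⋃₀ A ∩ ⋃₀ B) := by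
  by_cases h : (B \ A).Nonempty
  · exact (connDim_le_of_partition hA (Set.sdiff_subset.trans hB) hA0 h
      (by rw [Set.union_sdiff_self, hAB]) Set.disjoint_sdiff_right).trans
      (topologicalKrullDim_mono (Set.inter_subset_inter_right _
        (Set.sUnion_mono Set.sdiff_subset)))
  · rw [Set.not_nonempty_iff_eq_empty, Set.sdiff_eq_empty] at h
    obtain rfl : A = irreducibleComponents T := by rwa [Set.union_eq_left.2 h] at hAB
    obtain ⟨C, hC⟩ := hB0
    rw [sUnion_irreducibleComponents, Set.univ_inter]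
    refine le_trans ?_ (topologicalKrullDim_mono (Set.subset_sUnion_of_mem hC))
    by_cases hrest : (irreducibleComponents T \ {C}).Nonempty
    · exact (connDim_le_of_partition (Set.singleton_subset_iff.2 (hB hC)) Set.sdiff_subset
        (Set.singleton_nonempty C) hrest
        (by rw [Set.union_sdiff_self, Set.union_eq_right.2 (Set.singleton_subset_iff.2 (hB hC))])
        Set.disjoint_sdiff_right).trans
        (topologicalKrullDim_mono (Set.inter_subset_left.trans (Set.sUnion_singleton C).subset))
    · rw [Set.not_nonempty_iff_eq_empty, Set.sdiff_eq_empty] at hrest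
      have hu : C = Set.univ := by
        rw [← Set.sUnion_singleton C, ← sUnion_irreducibleComponents]
        exact congrArg Set.sUnion (Set.Subset.antisymm (Set.singleton_subset_iff.2 (hB hC)) hrest)
      exact iInf₂_le_of_le C ⟨isClosed_of_mem_irreducibleComponents C (hB hC), fun hc => by
        rw [hu, Set.compl_univ] at hc; exact Set.not_nonempty_empty hc.nonempty⟩ le_rfl

theorem connDim_eq_iInf [NoetherianSpace T] [Nonempty T] :
    LocCoh.connDim T = ⨅ (A : Set (Set T)) (B : Set (Set T))
      (_ : A ⊆ irreducibleComponents T ∧ B ⊆ irreducibleComponents T ∧ A.Nonempty ∧ B.Nonempty ∧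
        A ∪ B = irreducibleComponents T), topologicalKrullDim ↥(⋃₀ A ∩ ⋃₀ B) := by
  refine le_antisymm (le_iInf fun A => le_iInf₂ fun B h =>
    connDim_le_of_cover h.1 h.2.1 h.2.2.1 h.2.2.2.1 h.2.2.2.2) (le_iInf₂ fun Z hZ => ?_)
  have hne : (irreducibleComponents T).Nonempty := ⟨_, irreducibleComponent_mem_irreducibleComponents
    (Classical.arbitrary T)⟩
  rcases Set.eq_empty_or_nonempty Zᶜ with hem | hzne
  · rw [Set.compl_empty_iff] at hem
    refine iInf_le_of_le _ (iInf₂_le_of_le (irreducibleComponents T)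
      ⟨subset_rfl, subset_rfl, hne, hne, Set.union_self _⟩ (topologicalKrullDim_mono ?_))
    rw [hem]
    exact Set.subset_univ _
  have hnp : ¬ IsPreconnected Zᶜ := fun hp => hZ.2 ⟨hzne, hp⟩
  rw [IsPreconnected] at hnp
  push Not at hnp
  obtain ⟨U, V, hU, hV, hsub, ⟨x, hxZ, hxU⟩, ⟨y, hyZ, hyV⟩, hUV⟩ := hnp
  set U' := U ∩ Zᶜ
  set V' := V ∩ Zᶜ
  have hU' : IsOpen U' := hU.inter hZ.1.isOpen_compl
  have hV' : IsOpen V' := hV.inter hZ.1.isOpen_compl
  have hdisj : ∀ p, p ∈ U' → p ∈ V' → False := fun p h1 h2 =>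
    Set.eq_empty_iff_forall_notMem.1 hUV p ⟨h1.2, h1.1, h2.1⟩
  have hsplit : ∀ C ∈ irreducibleComponents T, C ∩ V' = ∅ ∨ C ∩ U' = ∅ := by
    intro C hC
    by_contra hcon
    push Not at hcon
    obtain ⟨h1, h2⟩ := hcon
    obtain ⟨p, -, hp1, hp2⟩ := hC.1.2 _ _ hV' hU' h1 h2
    exact hdisj p hp2 hp1
  set A := {C ∈ irreducibleComponents T | C ∩ V' = ∅}
  set B := {C ∈ irreducibleComponents T | C ∩ U' = ∅}
  have hmem : ∀ {p : T} {W : Set T}, p ∈ W → irreducibleComponent p ∩ W ≠ ∅ :=
    fun {p} {W} hp h => Set.eq_empty_iff_forall_notMem.1 h p ⟨mem_irreducibleComponent, hp⟩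
  have hA0 : A.Nonempty := ⟨irreducibleComponent x, irreducibleComponent_mem_irreducibleComponents x,
    (hsplit _ (irreducibleComponent_mem_irreducibleComponents x)).resolve_right
      (hmem ⟨hxU, hxZ⟩)⟩
  have hB0 : B.Nonempty := ⟨irreducibleComponent y, irreducibleComponent_mem_irreducibleComponents y,
    (hsplit _ (irreducibleComponent_mem_irreducibleComponents y)).resolve_left
      (hmem ⟨hyV, hyZ⟩)⟩
  refine iInf_le_of_le A (iInf₂_le_of_le B ⟨fun _ h => h.1, fun _ h => h.1, hA0, hB0,
    Set.Subset.antisymm (Set.union_subset (fun _ h => h.1) fun _ h => h.1)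
      (fun C hC => (hsplit C hC).imp (fun h => ⟨hC, h⟩) fun h => ⟨hC, h⟩)⟩
    (topologicalKrullDim_mono ?_))
  rintro p ⟨⟨C, hC, hpC⟩, D, hD, hpD⟩
  by_contra hpZ
  rcases hsub hpZ with hp | hp
  · exact Set.eq_empty_iff_forall_notMem.1 hD.2 p ⟨hpD, hp, hpZ⟩
  · exact Set.eq_empty_iff_forall_notMem.1 hC.2 p ⟨hpC, hp, hpZ⟩

theorem connDim_le_subdim [NoetherianSpace T] : LocCoh.connDim T ≤ LocCoh.subdim T :=
  le_iInf₂ fun C hC => (connDim_le_of_cover (Set.singleton_subset_iff.2 hC) subset_rfl
    (Set.singleton_nonempty C) ⟨C, hC⟩ (Set.union_eq_right.2 (Set.singleton_subset_iff.2 hC))).trans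
    (topologicalKrullDim_mono (Set.inter_subset_left.trans (Set.sUnion_singleton C).subset))

/-- A proper closed subset of an irreducible closed set of finite dimension has smaller dimension. -/
theorem topologicalKrullDim_lt_of_ssubset {Z C : Set T} (hZC : Z ⊆ C) (hne : ¬ C ⊆ Z)
    (hZ : IsClosed Z) (hC : IsClosed C) (hCi : IsIrreducible C)
    (hfin : topologicalKrullDim C < ⊤) : topologicalKrullDim Z < topologicalKrullDim C := by
  set i : Z → C := Set.inclusion hZC
  have hi : Topology.IsClosedEmbedding i := Topology.IsClosedEmbedding.inclusion hZC (hZ.preimage continuous_subtype_val)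
  by_contra hcon
  rw [not_lt] at hcon
  have heq : topologicalKrullDim Z = topologicalKrullDim C :=
    le_antisymm (topologicalKrullDim_mono hZC) hcon
  have : IrreducibleSpace C := Subtype.irreducibleSpace hCi
  let top : IrreducibleCloseds C :=
    ⟨Set.univ, IrreducibleSpace.isIrreducible_univ C, isClosed_univ⟩
  generalize hd : topologicalKrullDim C = d at hfin heq
  cases d with
  | bot =>
    have : IsEmpty (IrreducibleCloseds C) := Order.krullDim_eq_bot_iff.1 hd
    exact this.elim top
  | coe d =>
    cases d with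
    | top => exact lt_irrefl _ hfin
    | coe n =>
      obtain ⟨l, hl⟩ := (Order.le_krullDim_iff (n := n)).1 heq.ge
      set g := IrreducibleCloseds.map i hi.continuous
      have hg : StrictMono g := IrreducibleCloseds.map_strictMono_of_isInducing hi.isInducing
      have hlt : (l.map g hg).last < top := by
        rw [LTSeries.last_map]
        refine lt_of_le_not_ge (fun _ _ => trivial) fun hle => hne fun c hc => ?_
        obtain ⟨z, hz⟩ := (closure_minimal (Set.image_subset_range i _)
          hi.isClosed_range (hle (Set.mem_univ (⟨c, hc⟩ : C))) : (⟨c, hc⟩ : C) ∈ Set.range i)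
        rw [show c = z.1 from congrArg Subtype.val hz.symm]
        exact z.2
      have := Order.LTSeries.length_le_krullDim ((l.map g hg).snoc top hlt)
      rw [show Order.krullDim (IrreducibleCloseds C) = _ from hd] at this
      simp only [RelSeries.snoc, RelSeries.append_length, RelSeries.singleton_length,
        LTSeries.map_length, hl] at this
      norm_cast at this
      omega

theorem connDim_eq_subdim_iff [NoetherianSpace T] [Nonempty T] (hfin : topologicalKrullDim T < ⊤) :
    LocCoh.connDim T = LocCoh.subdim T ↔ IrreducibleSpace T := by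
  constructor
  · intro h
    by_contra hred
    obtain ⟨C, hC, hmin⟩ := NoetherianSpace.finite_irreducibleComponents.exists_minimalFor
      (fun C : Set T => topologicalKrullDim C) _
      ⟨_, irreducibleComponent_mem_irreducibleComponents (Classical.arbitrary T)⟩
    have hrest : (irreducibleComponents T \ {C}).Nonempty := by
      by_contra hr
      rw [Set.not_nonempty_iff_eq_empty, Set.sdiff_eq_empty] at hr
      refine hred ?_
      have hu : C = Set.univ := by
        rw [← Set.sUnion_singleton C, ← sUnion_irreducibleComponents]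
        exact congrArg Set.sUnion (Set.Subset.antisymm (Set.singleton_subset_iff.2 hC) hr)
      have := hC.1
      rw [hu] at this
      exact { toNonempty := ‹_›, isPreirreducible_univ := this.2 }
    have hsub : LocCoh.subdim T = topologicalKrullDim C := by
      refine le_antisymm (iInf₂_le C hC) (le_iInf₂ fun D hD => ?_)
      rcases le_total (topologicalKrullDim C) (topologicalKrullDim D) with hle | hle
      · exact hle
      · exact hmin hD hle
    have h1 := connDim_le_of_cover (Set.singleton_subset_iff.2 hC) Set.sdiff_subset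
      (Set.singleton_nonempty C) hrest
      (by rw [Set.union_sdiff_self, Set.union_eq_right.2 (Set.singleton_subset_iff.2 hC)])
    have hcl : IsClosed (⋃₀ ({C} : Set (Set T)) ∩ ⋃₀ (irreducibleComponents T \ {C})) :=
      (isClosed_sUnion_of_subset (Set.singleton_subset_iff.2 hC)).inter
        (isClosed_sUnion_of_subset Set.sdiff_subset)
    refine lt_irrefl (topologicalKrullDim C) (lt_of_le_of_lt (hsub ▸ h ▸ h1)
      (topologicalKrullDim_lt_of_ssubset (Set.inter_subset_left.trans (Set.sUnion_singleton C).subset)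
        (fun hle => ?_) hcl (isClosed_of_mem_irreducibleComponents C hC) hC.1
        (lt_of_le_of_lt (topologicalKrullDim_subspace_le T C) hfin)))
    exact (mem_of_subset_sUnion_irreducibleComponents C hC _
      NoetherianSpace.finite_irreducibleComponents.sdiff Set.sdiff_subset
      (hle.trans Set.inter_subset_right)).2 rfl
  · intro h
    refine le_antisymm connDim_le_subdim ?_
    rw [connDim_eq_iInf]
    refine le_iInf fun A => le_iInf₂ fun B hAB => iInf₂_le_of_le Set.univ ?_ ?_
    · rw [irreducibleComponents_eq_singleton]; rfl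
    · refine topologicalKrullDim_mono ?_
      rw [irreducibleComponents_eq_singleton] at hAB
      obtain ⟨C, hC⟩ := hAB.2.2.1
      obtain ⟨D, hD⟩ := hAB.2.2.2.1
      intro p _
      exact ⟨⟨C, hC, by rw [show C = Set.univ from hAB.1 hC]; trivial⟩,
        ⟨D, hD, by rw [show D = Set.univ from hAB.2.1 hD]; trivial⟩⟩

open PrimeSpectrum in
theorem connDim_of_two_minimalPrimes (R : Type u) [CommRing R] [IsNoetherianRing R] [Nontrivial R]
    (p q : Ideal R) (hpq : p ≠ q) (hmin : minimalPrimes R = {p, q}) :
    LocCoh.connDim (PrimeSpectrum R) = ringKrullDim (R ⧸ (p ⊔ q)) := by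
  have hcomp : irreducibleComponents (PrimeSpectrum R) =
      {zeroLocus (p : Set R), zeroLocus (q : Set R)} := by
    rw [← zeroLocus_minimalPrimes, hmin, Set.image_insert_eq, Set.image_singleton]
    rfl
  have hne : zeroLocus (p : Set R) ≠ zeroLocus (q : Set R) := fun h => hpq (by
    have hp : p.IsPrime := ((hmin ▸ Set.mem_insert p {q} : p ∈ minimalPrimes R)).1.1
    have hq : q.IsPrime := ((hmin ▸ Set.mem_insert_of_mem p rfl : q ∈ minimalPrimes R)).1.1
    have := congrArg vanishingIdeal h
    rwa [vanishingIdeal_zeroLocus_eq_radical, vanishingIdeal_zeroLocus_eq_radical, hp.radical,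
      hq.radical] at this)
  have hint : zeroLocus (p : Set R) ∩ zeroLocus (q : Set R) =
      zeroLocus ((p ⊔ q : Ideal R) : Set R) := (zeroLocus_sup p q).symm
  have hdim : topologicalKrullDim ↥(zeroLocus (p : Set R) ∩ zeroLocus (q : Set R)) =
      ringKrullDim (R ⧸ (p ⊔ q)) := by
    rw [hint, ← PrimeSpectrum.topologicalKrullDim_eq_ringKrullDim]
    have hrange : Set.range (PrimeSpectrum.comap (Ideal.Quotient.mk (p ⊔ q))) =
        zeroLocus ((p ⊔ q : Ideal R) : Set R) := by
      rw [range_comap_of_surjective _ _ Ideal.Quotient.mk_surjective, Ideal.mk_ker]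
    rw [← hrange]
    exact ((PrimeSpectrum.isClosedEmbedding_comap_of_surjective (R ⧸ (p ⊔ q))
      (Ideal.Quotient.mk (p ⊔ q)) Ideal.Quotient.mk_surjective).isEmbedding.toHomeomorph.isHomeomorph
      |>.topologicalKrullDim_eq).symm
  rw [← hdim, connDim_eq_iInf]
  refine le_antisymm ?_ (le_iInf fun A => le_iInf₂ fun B h => topologicalKrullDim_mono ?_)
  · refine iInf_le_of_le {zeroLocus (p : Set R)} (iInf₂_le_of_le {zeroLocus (q : Set R)}
      ⟨?_, ?_, Set.singleton_nonempty _, Set.singleton_nonempty _, ?_⟩ (topologicalKrullDim_mono ?_))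
    · rw [hcomp]; exact Set.singleton_subset_iff.2 (Set.mem_insert _ _)
    · rw [hcomp]; exact Set.singleton_subset_iff.2 (Set.mem_insert_of_mem _ rfl)
    · rw [hcomp, Set.singleton_union]
    · rw [Set.sUnion_singleton, Set.sUnion_singleton]
  · rw [hcomp] at h
    obtain ⟨hA, hB, ⟨C, hC⟩, ⟨D, hD⟩, -⟩ := h
    intro x hx
    exact ⟨⟨C, hC, (hA hC).elim (fun e => e ▸ hx.1) fun e => (Set.mem_singleton_iff.1 e) ▸ hx.2⟩,
      ⟨D, hD, (hB hD).elim (fun e => e ▸ hx.1) fun e => (Set.mem_singleton_iff.1 e) ▸ hx.2⟩⟩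

end Groth.LocCohTransform
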