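import Groth.Agent.LocCohTransform.DimCd
import Groth.Agent.LocCohTransform.ConnDim
import Groth.Agent.LocCohBase.CdLocal
import Mathlib.RingTheory.Ideal.MinimalPrime.Localization
import Mathlib.RingTheory.Spectrum.Prime.Topology

/-!
Grothendieck's connectedness theorems for complete local rings.
-/

set_option autoImplicit false
universe u

open CategoryTheory IsLocalRing Groth.LocCohBase TopologicalSpace

namespace Groth.LocCohTransform.Connectedness

section General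

variable {R : Type u} [CommRing R]

theorem topologicalKrullDim_zeroLocus (J : Ideal R) :
    topologicalKrullDim ↥(PrimeSpectrum.zeroLocus (J : Set R)) = ringKrullDim (R ⧸ J) := by
  rw [← PrimeSpectrum.topologicalKrullDim_eq_ringKrullDim]
  have hrange : Set.range (PrimeSpectrum.comap (Ideal.Quotient.mk J)) =
      PrimeSpectrum.zeroLocus (J : Set R) := by
    rw [range_comap_of_surjective _ _ Ideal.Quotient.mk_surjective, Ideal.mk_ker]
  rw [← hrange]
  exact ((PrimeSpectrum.isClosedEmbedding_comap_of_surjective (R ⧸ J)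
    (Ideal.Quotient.mk J) Ideal.Quotient.mk_surjective).isEmbedding.toHomeomorph.isHomeomorph
    |>.topologicalKrullDim_eq).symm

theorem dim_mono {J K : Ideal R} (h : J ≤ K) : ringKrullDim (R ⧸ K) ≤ ringKrullDim (R ⧸ J) :=
  ringKrullDim_le_of_surjective (Ideal.Quotient.factor h) (Ideal.Quotient.factor_surjective h)

/-- The dimension of a quotient is governed by the primes above the ideal. -/
theorem dim_le_of_forall_prime (J : Ideal R) (X : WithBot ℕ∞)
    (h : ∀ Q : Ideal R, Q.IsPrime → J ≤ Q → ringKrullDim (R ⧸ Q) ≤ X) :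
    ringKrullDim (R ⧸ J) ≤ X := by
  rw [ringKrullDim_quotient]
  refine iSup_le fun l => ?_
  refine le_trans ?_ (h l.head.1.asIdeal l.head.1.2 l.head.2)
  rw [ringKrullDim_quotient]
  let l' : LTSeries (PrimeSpectrum.zeroLocus (R := R) (l.head.1.asIdeal : Set R)) :=
    ⟨l.length, fun i => ⟨(l i).1, (show l.head.1 ≤ (l i).1 from l.head_le i)⟩, fun i => l.step i⟩
  exact Order.LTSeries.length_le_krullDim l'

variable (R) in
theorem zeroLocus_mem_irreducibleComponents {p : Ideal R} (hp : p ∈ minimalPrimes R) :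
    PrimeSpectrum.zeroLocus (p : Set R) ∈ irreducibleComponents (PrimeSpectrum R) := by
  rw [← PrimeSpectrum.zeroLocus_minimalPrimes]
  exact ⟨p, hp, rfl⟩

theorem subdim_le {p : Ideal R} (hp : p ∈ minimalPrimes R) :
    LocCoh.subdim (PrimeSpectrum R) ≤ ringKrullDim (R ⧸ p) :=
  (iInf₂_le _ (zeroLocus_mem_irreducibleComponents R hp)).trans (topologicalKrullDim_zeroLocus p).le

/-- Bounding the connectedness dimension by a cover of the minimal primes. -/
theorem connDim_le_of_minimalPrimes [IsNoetherianRing R] {S T : Set (Ideal R)}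
    (hS : S ⊆ minimalPrimes R) (hT : T ⊆ minimalPrimes R) (hS0 : S.Nonempty) (hT0 : T.Nonempty)
    (hST : S ∪ T = minimalPrimes R) (X : WithBot ℕ∞)
    (h : ∀ P : Ideal R, P.IsPrime → ∀ p ∈ S, ∀ q ∈ T, p ≤ P → q ≤ P → ringKrullDim (R ⧸ P) ≤ X) :
    LocCoh.connDim (PrimeSpectrum R) ≤ X := by
  have hfin := minimalPrimes.finite_of_isNoetherianRing R
  let f : Ideal R → Set (PrimeSpectrum R) := fun p => PrimeSpectrum.zeroLocus (p : Set R)
  have hsub : ∀ {U : Set (Ideal R)}, U ⊆ minimalPrimes R → f '' U ⊆ irreducibleComponents _ :=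
    fun hU => by rintro _ ⟨p, hp, rfl⟩; exact zeroLocus_mem_irreducibleComponents R (hU hp)
  refine (connDim_le_of_cover (hsub hS) (hsub hT) (hS0.image f) (hT0.image f) ?_).trans ?_
  · rw [← Set.image_union, hST]
    exact PrimeSpectrum.zeroLocus_minimalPrimes R
  have hcl : ⋃₀ (f '' S) ∩ ⋃₀ (f '' T) ⊆ PrimeSpectrum.zeroLocus ((sInf S ⊔ sInf T : Ideal R) : Set R) := by
    rintro x ⟨⟨_, ⟨p, hp, rfl⟩, hxp⟩, _, ⟨q, hq, rfl⟩, hxq⟩
    exact show sInf S ⊔ sInf T ≤ x.asIdeal from sup_le ((sInf_le hp).trans hxp) ((sInf_le hq).trans hxq)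
  refine (topologicalKrullDim_mono hcl).trans ?_
  rw [topologicalKrullDim_zeroLocus]
  refine dim_le_of_forall_prime _ X fun Q hQ hle => ?_
  haveI := hQ
  have key : ∀ U : Set (Ideal R), U ⊆ minimalPrimes R → sInf U ≤ Q → ∃ p ∈ U, p ≤ Q := by
    intro U hU hUQ
    have he : sInf U = (hfin.subset hU).toFinset.inf id := by
      rw [Finset.inf_id_eq_sInf, Set.Finite.coe_toFinset]
    rw [he, hQ.inf_le'] at hUQ
    obtain ⟨p, hp, hpQ⟩ := hUQ
    exact ⟨p, (hfin.subset hU).mem_toFinset.1 hp, hpQ⟩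
  obtain ⟨p, hp, hpQ⟩ := key S hS (le_sup_left.trans hle)
  obtain ⟨q, hq, hqQ⟩ := key T hT (le_sup_right.trans hle)
  exact h Q hQ p hp q hq hpQ hqQ

end General

variable {R : Type u} [CommRing R] [IsLocalRing R] [IsNoetherianRing R]

omit [IsNoetherianRing R] in
theorem map_mk_ne_top {c : Ideal R} (hc : c ≠ ⊤) (p : Ideal R) [p.IsPrime] :
    c.map (Ideal.Quotient.mk p) ≠ ⊤ := by
  haveI : IsLocalRing (R ⧸ p) := .of_surjective' (Ideal.Quotient.mk p) Ideal.Quotient.mk_surjective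
  refine ne_top_of_le_ne_top (maximalIdeal.isMaximal (R ⧸ p)).ne_top ?_
  rw [← IsLocalRing.map_maximalIdeal_of_surjective (Ideal.Quotient.mk p) Ideal.Quotient.mk_surjective]
  exact Ideal.map_mono (le_maximalIdeal hc)

omit [IsLocalRing R] [IsNoetherianRing R] in
theorem dim_map_mk (c p : Ideal R) :
    ringKrullDim ((R ⧸ p) ⧸ c.map (Ideal.Quotient.mk p)) = ringKrullDim (R ⧸ (c ⊔ p)) := by
  rw [ringKrullDim_eq_of_ringEquiv (DoubleQuot.quotQuotEquivQuotSup p c),
    ringKrullDim_eq_of_ringEquiv (Ideal.quotEquivOfEq (sup_comm p c))]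

/-- `dim R/P ≤ cd + dim R/(J + P)`. -/
theorem dim_quotient_le (P : Ideal R) [P.IsPrime] (J : Ideal R) (hJ : J ≠ ⊤) {d k : ℕ}
    (hd : ringKrullDim (R ⧸ (J ⊔ P)) ≤ (d : ℕ)) (hk : LocCoh.CdLE R J k) :
    ringKrullDim (R ⧸ P) ≤ ((k + d : ℕ) : WithBot ℕ∞) := by
  haveI : IsLocalRing (R ⧸ P) := .of_surjective' (Ideal.Quotient.mk P) Ideal.Quotient.mk_surjective
  exact DimCd.dim_le_cd_add_dim d k (J.map (Ideal.Quotient.mk P)) (map_mk_ne_top hJ P)
    (by rw [dim_map_mk]; exact hd) (cdLE_map (R ⧸ P) hk)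

/-- A minimal prime of the ring realising `dim R/a`. -/
theorem exists_minimalPrime_lt (a : Ideal R) {d : ℕ}
    (h : ((d : ℕ) : WithBot ℕ∞) < ringKrullDim (R ⧸ a)) :
    ∃ p ∈ minimalPrimes R, ((d : ℕ) : WithBot ℕ∞) < ringKrullDim (R ⧸ (a ⊔ p)) := by
  by_contra hcon
  push Not at hcon
  refine not_le_of_gt h (dim_le_of_forall_prime a _ fun Q hQ haQ => ?_)
  haveI := hQ
  obtain ⟨p, hp, hpQ⟩ := Ideal.exists_minimalPrimes_le (I := (⊥ : Ideal R)) (J := Q) bot_le
  exact (dim_mono (sup_le haQ hpQ)).trans (hcon p hp)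

variable [IsAdicComplete (maximalIdeal R) R]

/-- The connectedness bound for two ideals. -/
theorem min_connDim_subdim_le (a b : Ideal R) (ha : a ≠ ⊤) (hb : b ≠ ⊤) {d k : ℕ}
    (hd : ringKrullDim (R ⧸ (a ⊔ b)) ≤ (d : ℕ))
    (hda : ((d : ℕ) : WithBot ℕ∞) < ringKrullDim (R ⧸ a))
    (hdb : ((d : ℕ) : WithBot ℕ∞) < ringKrullDim (R ⧸ b)) (hk : LocCoh.CdLE R (a ⊓ b) k) :
    min (LocCoh.connDim (PrimeSpectrum R) + 1) (LocCoh.subdim (PrimeSpectrum R)) ≤
      ((k + d + 1 : ℕ) : WithBot ℕ∞) := by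
  by_cases hex : ∃ p ∈ minimalPrimes R, ((d : ℕ) : WithBot ℕ∞) < ringKrullDim (R ⧸ (a ⊔ p)) ∧
      ((d : ℕ) : WithBot ℕ∞) < ringKrullDim (R ⧸ (b ⊔ p))
  · obtain ⟨p, hp, hpa, hpb⟩ := hex
    haveI : p.IsPrime := hp.1.1
    haveI : IsLocalRing (R ⧸ p) := .of_surjective' (Ideal.Quotient.mk p) Ideal.Quotient.mk_surjective
    haveI := Groth.FrobLCI.CE.isAdicComplete_quotient p
    refine (min_le_right _ _).trans ((subdim_le hp).trans ?_)
    refine DimCd.dim_le_cd_inf_add_dim_sup d k (a.map (Ideal.Quotient.mk p))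
      (b.map (Ideal.Quotient.mk p)) (map_mk_ne_top ha p) (map_mk_ne_top hb p) ?_
      (by rw [dim_map_mk]; exact hpa) (by rw [dim_map_mk]; exact hpb) ?_
    · rw [← Ideal.map_sup, dim_map_mk]
      exact (dim_mono le_sup_left).trans hd
    · refine DimCd.cdLE_congr_radical ?_ (cdLE_map (R ⧸ p) hk)
      refine le_antisymm (Ideal.radical_mono (Ideal.map_inf_le _)) ?_
      rw [Ideal.radical_inf]
      conv_rhs => rw [Ideal.radical_eq_sInf]
      refine le_sInf fun Q ⟨hle, hQ⟩ => ?_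
      rw [← Ideal.radical_inf]
      refine hQ.radical_le_iff.2 ?_
      have h1 : a ⊓ b ≤ Q.comap (Ideal.Quotient.mk p) := Ideal.map_le_iff_le_comap.1 hle
      rcases ((hQ.comap (Ideal.Quotient.mk p)).inf_le).1 h1 with h2 | h2
      · exact inf_le_left.trans (Ideal.map_le_iff_le_comap.2 h2)
      · exact inf_le_right.trans (Ideal.map_le_iff_le_comap.2 h2)
  · push Not at hex
    let S := {p ∈ minimalPrimes R | ringKrullDim (R ⧸ (a ⊔ p)) ≤ (d : ℕ)}
    let T := {p ∈ minimalPrimes R | ringKrullDim (R ⧸ (b ⊔ p)) ≤ (d : ℕ)}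
    have hS0 : S.Nonempty := by
      obtain ⟨p, hp, hlt⟩ := exists_minimalPrime_lt b hdb
      exact ⟨p, hp, not_lt.1 fun h' => not_le_of_gt hlt (hex p hp h')⟩
    have hT0 : T.Nonempty := by
      obtain ⟨p, hp, hlt⟩ := exists_minimalPrime_lt a hda
      exact ⟨p, hp, hex p hp hlt⟩
    have hST : S ∪ T = minimalPrimes R := by
      refine Set.Subset.antisymm (Set.union_subset (fun p h => h.1) fun p h => h.1) fun p hp => ?_
      by_cases h' : ((d : ℕ) : WithBot ℕ∞) < ringKrullDim (R ⧸ (a ⊔ p))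
      · exact Or.inr ⟨hp, hex p hp h'⟩
      · exact Or.inl ⟨hp, not_lt.1 h'⟩
    have hc : LocCoh.connDim (PrimeSpectrum R) ≤ ((k + d : ℕ) : WithBot ℕ∞) := by
      refine connDim_le_of_minimalPrimes (fun p h => h.1) (fun p h => h.1) hS0 hT0 hST _
        fun P hP p hp q hq hpP hqP => ?_
      haveI := hP
      refine dim_quotient_le P (a ⊓ b) (ne_top_of_le_ne_top ha inf_le_left) ?_ hk
      refine dim_le_of_forall_prime _ _ fun Q hQ hle => ?_
      rcases (hQ.inf_le).1 (le_sup_left.trans hle) with h | h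
      · exact (dim_mono (sup_le h (hpP.trans (le_sup_right.trans hle)))).trans hp.2
      · exact (dim_mono (sup_le h (hqP.trans (le_sup_right.trans hle)))).trans hq.2
    refine (min_le_left _ _).trans ((add_le_add hc le_rfl).trans (le_of_eq ?_))
    push_cast
    rfl

omit [IsAdicComplete (maximalIdeal R) R] in
/-- The closed point lies in every nonempty closed set. -/
theorem zero_le_connDim : 0 ≤ LocCoh.connDim (PrimeSpectrum R) := by
  rw [connDim_eq_iInf]
  refine le_iInf fun A => le_iInf₂ fun B ⟨hA, hB, ⟨C, hC⟩, ⟨D, hD⟩, _⟩ => ?_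
  have hmem : ∀ {Z : Set (PrimeSpectrum R)}, IsClosed Z → Z.Nonempty → closedPoint R ∈ Z := by
    rintro Z hZ ⟨x, hx⟩
    exact ((PrimeSpectrum.le_iff_specializes x (closedPoint R)).1
      (le_maximalIdeal x.2.ne_top)).mem_closed hZ hx
  have hne : Nonempty ↥(⋃₀ A ∩ ⋃₀ B) := ⟨⟨closedPoint R,
    ⟨C, hC, hmem (isClosed_of_mem_irreducibleComponents C (hA hC)) (hA hC).1.1⟩,
    ⟨D, hD, hmem (isClosed_of_mem_irreducibleComponents D (hB hD)) (hB hD).1.1⟩⟩⟩
  haveI : Nonempty (IrreducibleCloseds ↥(⋃₀ A ∩ ⋃₀ B)) :=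
    ⟨⟨closure {hne.some}, isIrreducible_singleton.closure, isClosed_closure⟩⟩
  exact Order.krullDim_nonneg

/-- Every minimal prime is bounded through the quotient. -/
theorem subdim_le_dim_add (a : Ideal R) (ha : a ≠ ⊤) (s : Finset R)
    (hs : (Ideal.span (s : Set R)).radical = a.radical) :
    LocCoh.subdim (PrimeSpectrum R) ≤ ringKrullDim (R ⧸ a) + (s.card : WithBot ℕ∞) := by
  obtain ⟨d, hd⟩ := DimCd.exists_nat_dim ha
  obtain ⟨p, hp⟩ := Ideal.nonempty_minimalPrimes (I := (⊥ : Ideal R)) bot_ne_top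
  haveI : p.IsPrime := hp.1.1
  refine (subdim_le hp).trans ((dim_quotient_le p a ha (d := d) (k := s.card)
    ((dim_mono le_sup_left).trans hd.le) (DimCd.cdLE_congr_radical hs (cdLE_span_finset s))).trans ?_)
  rw [hd, add_comm s.card d]
  push_cast
  rfl

/-- A chain from a minimal prime strictly below. -/
theorem dim_succ_le {J K : Ideal R} (hJK : J ≤ K)
    (h : ∀ Q : Ideal R, Q.IsPrime → K ≤ Q → ∃ p : Ideal R, p.IsPrime ∧ J ≤ p ∧ p < Q)
    {n : ℕ} (hn : ((n : ℕ) : WithBot ℕ∞) ≤ ringKrullDim (R ⧸ K)) :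
    ((n + 1 : ℕ) : WithBot ℕ∞) ≤ ringKrullDim (R ⧸ J) := by
  rw [ringKrullDim_quotient] at hn ⊢
  obtain ⟨l, hl⟩ := Order.le_krullDim_iff.1 hn
  obtain ⟨p, hp, hJp, hlt⟩ := h _ l.head.1.2 l.head.2
  let l' : LTSeries (PrimeSpectrum.zeroLocus (R := R) (J : Set R)) :=
    (l.map (fun x => (⟨x.1, hJK.trans x.2⟩ : PrimeSpectrum.zeroLocus (R := R) (J : Set R)))
      (fun a b hab => hab)).cons ⟨⟨p, hp⟩, hJp⟩ hlt
  exact Order.le_krullDim_iff.2 ⟨l', by simp [l', hl]⟩

/-- The bound for a partition of the minimal primes over `a`. -/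
theorem min_le_of_partition (a : Ideal R) (ha : a ≠ ⊤) (s : Finset R)
    (hs : (Ideal.span (s : Set R)).radical = a.radical) (S T : Set (Ideal R))
    (hS : S ⊆ a.minimalPrimes) (hT : T ⊆ a.minimalPrimes) (hS0 : S.Nonempty) (hT0 : T.Nonempty)
    (hST : S ∪ T = a.minimalPrimes) (hdisj : Disjoint S T) :
    min (LocCoh.connDim (PrimeSpectrum R) + 1) (LocCoh.subdim (PrimeSpectrum R)) ≤
      ringKrullDim (R ⧸ (sInf S ⊔ sInf T)) + (s.card : WithBot ℕ∞) + 1 := by
  have hfin := a.finite_minimalPrimes_of_isNoetherianRing R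
  have key : ∀ {U : Set (Ideal R)}, U ⊆ a.minimalPrimes → ∀ {Q : Ideal R}, Q.IsPrime →
      sInf U ≤ Q → ∃ p ∈ U, p ≤ Q := by
    intro U hU Q hQ hUQ
    have he : sInf U = (hfin.subset hU).toFinset.inf id := by
      rw [Finset.inf_id_eq_sInf, Set.Finite.coe_toFinset]
    rw [he, hQ.inf_le'] at hUQ
    obtain ⟨p, hp, hpQ⟩ := hUQ
    exact ⟨p, (hfin.subset hU).mem_toFinset.1 hp, hpQ⟩
  have hne : ∀ {U : Set (Ideal R)}, U ⊆ a.minimalPrimes → U.Nonempty → sInf U ≠ ⊤ :=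
    fun {U} hU ⟨p, hp⟩ h => (hU hp).1.1.ne_top (top_le_iff.1 (h ▸ sInf_le hp))
  have ha1 := hne hS hS0
  have hb1 := hne hT hT0
  obtain ⟨d, hd⟩ := DimCd.exists_nat_dim (A := R) (J := sInf S ⊔ sInf T)
    (ne_top_of_le_ne_top (maximalIdeal.isMaximal R).ne_top
      (sup_le (le_maximalIdeal ha1) (le_maximalIdeal hb1)))
  have hstrict : ∀ {U V : Set (Ideal R)}, U ⊆ a.minimalPrimes → V ⊆ a.minimalPrimes → Disjoint U V →
      sInf U ⊔ sInf V ≤ sInf S ⊔ sInf T →
      ((d : ℕ) : WithBot ℕ∞) < ringKrullDim (R ⧸ sInf U) := by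
    intro U V hU hV hUV hle
    refine lt_of_lt_of_le (Nat.cast_lt.2 (Nat.lt_succ_self d)) (dim_succ_le
      (K := sInf S ⊔ sInf T) (le_sup_left.trans hle) (fun Q hQ hQle => ?_) hd.ge)
    obtain ⟨p, hp, hpQ⟩ := key hU hQ (le_sup_left.trans (hle.trans hQle))
    obtain ⟨q, hq, hqQ⟩ := key hV hQ (le_sup_right.trans (hle.trans hQle))
    refine ⟨p, (hU hp).1.1, sInf_le hp, lt_of_le_of_ne hpQ ?_⟩
    rintro rfl
    exact Set.disjoint_left.1 hUV hp ((le_antisymm hqQ ((hU hp).2 (hV hq).1 hqQ) : q = p) ▸ hq)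
  have hrad : a.radical = (sInf S ⊓ sInf T).radical := by
    rw [← sInf_union, hST, Ideal.sInf_minimalPrimes, Ideal.radical_idem]
  refine (min_connDim_subdim_le (sInf S) (sInf T) ha1 hb1 hd.le (hstrict hS hT hdisj le_rfl)
    (hstrict hT hS hdisj.symm (le_of_eq (sup_comm _ _)))
    (DimCd.cdLE_congr_radical (hs.trans hrad) (cdLE_span_finset s))).trans (le_of_eq ?_)
  rw [hd, add_comm s.card d]
  push_cast
  rfl

/-- The connectedness bound through the arithmetic rank. -/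
theorem min_le_connDim_quotient_add (a : Ideal R) (ha : a ≠ ⊤) (s : Finset R)
    (hs : (Ideal.span (s : Set R)).radical = a.radical) :
    min (LocCoh.connDim (PrimeSpectrum R) + 1) (LocCoh.subdim (PrimeSpectrum R)) ≤
      LocCoh.connDim (PrimeSpectrum (R ⧸ a)) + (s.card : WithBot ℕ∞) + 1 := by
  classical
  haveI : Nontrivial (R ⧸ a) := Ideal.Quotient.nontrivial_iff.2 ha
  let g : Ideal (R ⧸ a) → Ideal R := Ideal.comap (Ideal.Quotient.mk a)
  have hg : Function.Injective g := Ideal.comap_injective_of_surjective _ Ideal.Quotient.mk_surjective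
  let f : Ideal (R ⧸ a) → Set (PrimeSpectrum (R ⧸ a)) := fun p => PrimeSpectrum.zeroLocus (p : Set (R ⧸ a))
  have hcomp : f '' minimalPrimes (R ⧸ a) = irreducibleComponents (PrimeSpectrum (R ⧸ a)) :=
    PrimeSpectrum.zeroLocus_minimalPrimes (R ⧸ a)
  -- the bound for every cover by components
  have main : ∀ A B : Set (Set (PrimeSpectrum (R ⧸ a))), A ⊆ irreducibleComponents _ →
      B ⊆ irreducibleComponents _ → A.Nonempty → B.Nonempty → A ∪ B = irreducibleComponents _ →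
      min (LocCoh.connDim (PrimeSpectrum R) + 1) (LocCoh.subdim (PrimeSpectrum R)) ≤
        topologicalKrullDim ↥(⋃₀ A ∩ ⋃₀ B) + (s.card : WithBot ℕ∞) + 1 := by
    intro A B hA hB hA0 hB0 hAB
    have hdimJ : ∀ (S T : Set (Ideal (R ⧸ a))), S ⊆ minimalPrimes (R ⧸ a) → T ⊆ minimalPrimes (R ⧸ a) →
        S.Nonempty → T.Nonempty → S ∪ T = minimalPrimes (R ⧸ a) → Disjoint S T →
        (⋃₀ (f '' S) ∩ ⋃₀ (f '' T)) ⊆ ⋃₀ A ∩ ⋃₀ B →
        min (LocCoh.connDim (PrimeSpectrum R) + 1) (LocCoh.subdim (PrimeSpectrum R)) ≤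
          topologicalKrullDim ↥(⋃₀ A ∩ ⋃₀ B) + (s.card : WithBot ℕ∞) + 1 := by
      intro S T hS hT hS0 hT0 hST hd hsub
      have himg : ∀ {U : Set (Ideal (R ⧸ a))}, U ⊆ minimalPrimes (R ⧸ a) → g '' U ⊆ a.minimalPrimes :=
        fun hU => by rw [Ideal.minimalPrimes_eq_comap]; exact Set.image_mono hU
      refine (min_le_of_partition a ha s hs (g '' S) (g '' T) (himg hS) (himg hT) (hS0.image g)
        (hT0.image g) (by rw [← Set.image_union, hST, Ideal.minimalPrimes_eq_comap])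
        (Set.disjoint_image_of_injective hg hd)).trans ?_
      refine add_le_add (add_le_add ?_ le_rfl) le_rfl
      have hfS := (minimalPrimes.finite_of_isNoetherianRing (R ⧸ a)).subset hS
      have hfT := (minimalPrimes.finite_of_isNoetherianRing (R ⧸ a)).subset hT
      refine dim_le_of_forall_prime _ _ fun Q hQ hle => ?_
      haveI := hQ
      have key : ∀ {U : Set (Ideal (R ⧸ a))}, U.Finite → sInf (g '' U) ≤ Q → ∃ p ∈ U, g p ≤ Q := by
        intro U hU hUQ
        have he : sInf (g '' U) = (hU.image g).toFinset.inf id := by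
          rw [Finset.inf_id_eq_sInf, Set.Finite.coe_toFinset]
        rw [he, hQ.inf_le'] at hUQ
        obtain ⟨_, hp, hpQ⟩ := hUQ
        obtain ⟨p, hp', rfl⟩ := (hU.image g).mem_toFinset.1 hp
        exact ⟨p, hp', hpQ⟩
      obtain ⟨p, hp, hpQ⟩ := key hfS (le_sup_left.trans hle)
      obtain ⟨q, hq, hqQ⟩ := key hfT (le_sup_right.trans hle)
      have haQ : a ≤ Q := le_trans (fun x hx => by
        change Ideal.Quotient.mk a x ∈ p
        rw [Ideal.Quotient.eq_zero_iff_mem.2 hx]; exact zero_mem p) hpQ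
      let Q' : Ideal (R ⧸ a) := Q.map (Ideal.Quotient.mk a)
      have hQ'c : Q'.comap (Ideal.Quotient.mk a) = Q := by
        rw [Ideal.comap_map_of_surjective _ Ideal.Quotient.mk_surjective, ← RingHom.ker_eq_comap_bot,
          Ideal.mk_ker, sup_eq_left.2 haQ]
      have hpQ' : p ≤ Q' := (Ideal.comap_le_comap_iff_of_surjective _ Ideal.Quotient.mk_surjective _ _).1
        (hQ'c.symm ▸ hpQ)
      have hqQ' : q ≤ Q' := (Ideal.comap_le_comap_iff_of_surjective _ Ideal.Quotient.mk_surjective _ _).1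
        (hQ'c.symm ▸ hqQ)
      calc ringKrullDim (R ⧸ Q)
          = ringKrullDim ((R ⧸ a) ⧸ Q') := by
            rw [ringKrullDim_eq_of_ringEquiv (DoubleQuot.quotQuotEquivQuotSup a Q),
              ringKrullDim_eq_of_ringEquiv (Ideal.quotEquivOfEq (sup_eq_right.2 haQ))]
        _ = topologicalKrullDim ↥(PrimeSpectrum.zeroLocus (Q' : Set (R ⧸ a))) :=
            (topologicalKrullDim_zeroLocus Q').symm
        _ ≤ _ := topologicalKrullDim_mono fun x hx => hsub
            ⟨⟨_, ⟨p, hp, rfl⟩, hpQ'.trans hx⟩, ⟨_, ⟨q, hq, rfl⟩, hqQ'.trans hx⟩⟩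
    let S := {p ∈ minimalPrimes (R ⧸ a) | f p ∈ A}
    let T := {p ∈ minimalPrimes (R ⧸ a) | f p ∈ B}
    have hsel : ∀ {U : Set (Set (PrimeSpectrum (R ⧸ a)))}, U ⊆ irreducibleComponents _ → ∀ C ∈ U,
        ∃ p ∈ minimalPrimes (R ⧸ a), f p = C := fun hU C hC => by
      have := hU hC
      rwa [← hcomp] at this
    obtain ⟨C, hC⟩ := hA0
    obtain ⟨p₀, hp₀, rfl⟩ := hsel hA C hC
    by_cases hd : Disjoint S T
    · obtain ⟨D, hD⟩ := hB0
      obtain ⟨q₀, hq₀, rfl⟩ := hsel hB D hD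
      refine hdimJ S T (fun p h => h.1) (fun p h => h.1) ⟨p₀, hp₀, hC⟩ ⟨q₀, hq₀, hD⟩ ?_ hd
        (Set.inter_subset_inter (Set.sUnion_mono (by rintro _ ⟨p, hp, rfl⟩; exact hp.2))
          (Set.sUnion_mono (by rintro _ ⟨p, hp, rfl⟩; exact hp.2)))
      refine Set.Subset.antisymm (Set.union_subset (fun p h => h.1) fun p h => h.1) fun p hp => ?_
      have : f p ∈ A ∪ B := hAB ▸ hcomp ▸ ⟨p, hp, rfl⟩
      exact this.imp (fun h => ⟨hp, h⟩) fun h => ⟨hp, h⟩
    · obtain ⟨q, hqS, hqT⟩ := Set.not_disjoint_iff.1 hd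
      have hsubq : f q ⊆ ⋃₀ A ∩ ⋃₀ B :=
        Set.subset_inter (Set.subset_sUnion_of_mem hqS.2) (Set.subset_sUnion_of_mem hqT.2)
      by_cases hsing : minimalPrimes (R ⧸ a) = {q}
      · refine (min_le_right _ _).trans ((subdim_le_dim_add a ha s hs).trans ?_)
        refine le_trans ?_ (le_add_of_nonneg_right zero_le_one)
        refine add_le_add ?_ le_rfl
        rw [← PrimeSpectrum.topologicalKrullDim_eq_ringKrullDim,
          ← (Homeomorph.Set.univ (PrimeSpectrum (R ⧸ a))).isHomeomorph.topologicalKrullDim_eq]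
        refine topologicalKrullDim_mono (Set.Subset.trans ?_ hsubq)
        intro x _
        obtain ⟨p, hp, hpx⟩ := Ideal.exists_minimalPrimes_le (I := (⊥ : Ideal (R ⧸ a))) (J := x.asIdeal) bot_le
        have : p = q := by
          have : p ∈ ({q} : Set (Ideal (R ⧸ a))) := hsing ▸ hp
          exact this
        exact show q ≤ x.asIdeal from this ▸ hpx
      · refine hdimJ {q} (minimalPrimes (R ⧸ a) \ {q}) (Set.singleton_subset_iff.2 hqS.1) Set.sdiff_subset
          (Set.singleton_nonempty q) ?_ (by rw [Set.union_sdiff_self,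
            Set.union_eq_right.2 (Set.singleton_subset_iff.2 hqS.1)]) Set.disjoint_sdiff_right
          ((Set.inter_subset_left.trans (by rw [Set.image_singleton, Set.sUnion_singleton])).trans hsubq)
        rw [Set.nonempty_iff_ne_empty, ne_eq, Set.sdiff_eq_empty]
        exact fun h => hsing (Set.Subset.antisymm h (Set.singleton_subset_iff.2 hqS.1))
  -- the infimum is attained
  obtain ⟨C, hC⟩ : (irreducibleComponents (PrimeSpectrum (R ⧸ a))).Nonempty :=
    ⟨_, irreducibleComponent_mem_irreducibleComponents (Classical.arbitrary _)⟩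
  let ι := {AB : Set (Set (PrimeSpectrum (R ⧸ a))) × Set (Set (PrimeSpectrum (R ⧸ a))) //
    AB.1 ⊆ irreducibleComponents _ ∧ AB.2 ⊆ irreducibleComponents _ ∧ AB.1.Nonempty ∧ AB.2.Nonempty ∧
      AB.1 ∪ AB.2 = irreducibleComponents _}
  haveI : Nonempty ι := ⟨⟨(_, _), subset_rfl, subset_rfl, ⟨C, hC⟩, ⟨C, hC⟩, Set.union_self _⟩⟩
  obtain ⟨⟨⟨A, B⟩, hA, hB, hA0, hB0, hAB⟩, hmin⟩ :=
    ciInf_mem (fun i : ι => topologicalKrullDim ↥(⋃₀ i.1.1 ∩ ⋃₀ i.1.2))
  refine (main A B hA hB hA0 hB0 hAB).trans (add_le_add (add_le_add ?_ le_rfl) le_rfl)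
  refine le_of_eq_of_le hmin ?_
  rw [connDim_eq_iInf]
  exact le_iInf fun A' => le_iInf₂ fun B' h' => ciInf_le (OrderBot.bddBelow _) (⟨(A', B'), h'⟩ : ι)

end Groth.LocCohTransform.Connectedness
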