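import Groth.Prelude.Def_EGA4b
import Groth.Agent.FibreDim.DimensionFormula
import Groth.Agent.Ega4Algebra1.FormallyEquidim
import Groth.Agent.LocCohTransform.DimCd
import Groth.Agent.Ega4Algebra1.CatenaryDim
import Groth.Agent.Ega4Algebra1.HullCatenary
import Groth.Agent.LocCohTransform.Connectedness

/-!
Universally catenary Noetherian local rings are formally catenary (Ratliff).
-/

set_option autoImplicit false
set_option linter.style.haveILetI false

universe u

namespace Groth.LocCohTransform.Ratliff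

open IsLocalRing Connectedness

theorem isIntegral_of_mem_adjoin_inv {A : Type u} [CommRing A] {K : Type u} [Field K] [Algebra A K]
    {z : K} (hz : z ∈ Algebra.adjoin A ({z⁻¹} : Set K)) : IsIntegral A z := by
  rcases eq_or_ne z 0 with rfl | hz0
  · exact isIntegral_zero
  rw [Algebra.adjoin_singleton_eq_range_aeval] at hz
  obtain ⟨p, hp⟩ := (AlgHom.mem_range _).1 hz
  set n := p.natDegree with hn
  refine ⟨Polynomial.X ^ (n + 1) - ∑ i ∈ Finset.range (n + 1), Polynomial.C (p.coeff i) * Polynomial.X ^ (n - i),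
    Polynomial.monic_X_pow_sub ((Polynomial.degree_sum_le _ _).trans_lt ?_), ?_⟩
  · refine (Finset.sup_lt_iff (WithBot.bot_lt_coe _)).2 fun i _ =>
      (Polynomial.degree_C_mul_X_pow_le _ _).trans_lt ?_
    exact_mod_cast Nat.lt_succ_of_le (Nat.sub_le n i)
  · rw [← Polynomial.aeval_def, map_sub, map_sum, sub_eq_zero, map_pow, Polynomial.aeval_X]
    rw [pow_succ]
    conv_lhs => arg 2; rw [← hp, Polynomial.aeval_eq_sum_range]
    rw [Finset.mul_sum]
    refine Finset.sum_congr rfl fun i hi => ?_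
    rw [Finset.mem_range] at hi
    rw [map_mul, map_pow, Polynomial.aeval_C, Polynomial.aeval_X, Algebra.smul_def, hn,
      show z ^ p.natDegree = z ^ (p.natDegree - i) * z ^ i by rw [← pow_add]; congr 1; omega, inv_pow]
    have : z ^ i ≠ 0 := pow_ne_zero _ hz0
    field_simp

variable {A : Type u} [CommRing A] [IsDomain A] [IsNoetherianRing A] [IsLocalRing A]

/-- Over a universally catenary local domain of dimension at least two, a fraction carried into the
ring by a power of the maximal ideal is integral. -/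
theorem isIntegral_of_pow_mul_mem (hA : CAlg.IsUniversallyCatenary A) (hd : 2 ≤ ringKrullDim A)
    {K : Type u} [Field K] [Algebra A K] [IsFractionRing A K] {z : K} {N : ℕ}
    (hz : ∀ y ∈ maximalIdeal A ^ N, ∃ a : A, algebraMap A K a = algebraMap A K y * z) :
    IsIntegral A z := by
  by_contra hint
  have hz0 : z ≠ 0 := fun h => hint (h ▸ isIntegral_zero)
  set S := Algebra.adjoin A ({z⁻¹} : Set K) with hS
  let w : S := ⟨z⁻¹, Algebra.self_mem_adjoin_singleton A z⁻¹⟩
  have hw0 : w ≠ 0 := fun h => inv_ne_zero hz0 (congrArg Subtype.val h)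
  have hwu : ¬ IsUnit w := by
    intro hu
    obtain ⟨v, hv⟩ := hu.exists_right_inv
    refine hint (isIntegral_of_mem_adjoin_inv ?_)
    have hv' : z⁻¹ * (v : K) = 1 := congrArg Subtype.val hv
    rw [show z = (v : K) by field_simp at hv'; exact hv'.symm]
    rw [show (v : K)⁻¹ = z⁻¹ from inv_eq_of_mul_eq_one_left hv']
    exact v.2
  haveI : Algebra.FiniteType A S := (S.fg_iff_finiteType).mp ⟨{z⁻¹}, by simp [hS]⟩
  haveI : IsNoetherianRing S := Algebra.FiniteType.isNoetherianRing A S
  haveI : FaithfulSMul A S := (faithfulSMul_iff_algebraMap_injective _ _).2 fun a b h =>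
    IsFractionRing.injective A K (congrArg Subtype.val h)
  obtain ⟨n, hn⟩ := Ideal.nonempty_minimalPrimes (I := Ideal.span {w})
    (by rw [Ne, Ideal.span_singleton_eq_top]; exact hwu)
  haveI := hn.1.1
  have hwn : w ∈ n := hn.1.2 (Ideal.mem_span_singleton_self w)
  have hn0 : n ≠ ⊥ := fun h => hw0 (Ideal.mem_bot.1 (h ▸ hwn))
  have hht : n.height = 1 := by
    refine le_antisymm (Ideal.height_le_one_of_isPrincipal_of_mem_minimalPrimes _ _ hn) ?_
    rw [Order.one_le_iff_ne_zero, Ne, Ideal.height_eq_zero_iff_eq_bot]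
    exact hn0
  have hp : n.under A = maximalIdeal A := by
    refine le_antisymm (IsLocalRing.le_maximalIdeal (Ideal.IsPrime.ne_top inferInstance)) ?_
    by_contra hnot
    obtain ⟨y, hy, hyn⟩ := SetLike.not_le_iff_exists.1 hnot
    obtain ⟨a, ha⟩ := hz _ (Ideal.pow_mem_pow hy N)
    refine hyn ((inferInstance : (n.under A).IsPrime).mem_of_pow_mem N ?_)
    have h1 : algebraMap A S (y ^ N) = algebraMap A S a * w := by
      apply Subtype.ext
      show algebraMap A K (y ^ N) = algebraMap A K a * z⁻¹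
      rw [ha, mul_assoc, mul_inv_cancel₀ hz0, mul_one]
    show algebraMap A S (y ^ N) ∈ n
    rw [h1]
    exact n.mul_mem_left _ hwn
  haveI : n.LiesOver (maximalIdeal A) := ⟨hp.symm⟩
  obtain ⟨t, t₀, ht, ht₀, -, heq⟩ :=
    Groth.FibreDim.exists_trdeg_add_height (R := A) (maximalIdeal A) n
  have h := heq hA
  have hsurj : Function.Surjective (algebraMap (A ⧸ maximalIdeal A) (S ⧸ n)) := by
    intro s
    obtain ⟨s, rfl⟩ := Ideal.Quotient.mk_surjective s
    obtain ⟨s, hs⟩ := s
    induction hs using Algebra.adjoin_induction with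
    | mem x hx =>
      obtain rfl : x = z⁻¹ := hx
      exact ⟨0, by rw [map_zero]; exact (Ideal.Quotient.eq_zero_iff_mem.2 hwn).symm⟩
    | algebraMap r => exact ⟨Ideal.Quotient.mk _ r, rfl⟩
    | add x y hx hy h1 h2 =>
      obtain ⟨a, ha⟩ := h1
      obtain ⟨b, hb⟩ := h2
      exact ⟨a + b, by rw [map_add, ha, hb]; rfl⟩
    | mul x y hx hy h1 h2 =>
      obtain ⟨a, ha⟩ := h1
      obtain ⟨b, hb⟩ := h2
      exact ⟨a * b, by rw [map_mul, ha, hb]; rfl⟩
  haveI : Algebra.IsAlgebraic (A ⧸ maximalIdeal A) (S ⧸ n) :=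
    ⟨fun s => by obtain ⟨a, rfl⟩ := hsurj s; exact isAlgebraic_algebraMap a⟩
  haveI : Algebra.IsAlgebraic A K := IsLocalization.isAlgebraic K (nonZeroDivisors A)
  haveI : Algebra.IsAlgebraic A S :=
    ⟨fun s => (isAlgebraic_algHom_iff S.val Subtype.val_injective).1 (Algebra.IsAlgebraic.isAlgebraic (s : K))⟩
  rw [trdeg_eq_zero] at ht ht₀
  obtain rfl : t = 0 := by exact_mod_cast ht.symm
  obtain rfl : t₀ = 0 := by exact_mod_cast ht₀.symm
  simp only [Nat.cast_zero, add_zero, hht] at h
  rw [← IsLocalRing.maximalIdeal_height_eq_ringKrullDim, ← h] at hd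
  norm_cast at hd

omit [IsDomain A] [IsNoetherianRing A] [IsLocalRing A] in
/-- Extension to a flat algebra commutes with colon ideals by finitely generated ideals. -/
theorem mem_map_of_mul_mem_span {C : Type u} [CommRing C] [Algebra A C] [Module.Flat A C]
    (s : Finset A) (b : A) (c : C)
    (hc : ∀ y ∈ s, algebraMap A C y * c ∈ Ideal.span {algebraMap A C b}) :
    c ∈ Ideal.map (algebraMap A C)
      (Submodule.colon (Ideal.span {b}) (s : Set A) : Ideal A) := by
  classical
  let φ : A →ₗ[A] (s → A ⧸ Ideal.span {b}) :=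
    LinearMap.pi fun y => ((y : A) • (Ideal.span {b}).mkQ)
  have hex : Function.Exact (LinearMap.ker φ).subtype φ := φ.exact_subtype_ker_map
  have hex' := Module.Flat.lTensor_exact C hex
  have h0 : φ.lTensor C (c ⊗ₜ[A] (1 : A)) = 0 := by
    rw [LinearMap.lTensor_tmul]
    have : φ 1 = ∑ y : s, Pi.single y (Ideal.Quotient.mk (Ideal.span {b}) (y : A)) := by
      rw [Finset.univ_sum_single]
      funext y
      simp [φ, Algebra.smul_def]
    rw [this, TensorProduct.tmul_sum]
    refine Finset.sum_eq_zero fun y _ => ?_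
    obtain ⟨d, hd⟩ := Ideal.mem_span_singleton'.1 (hc y y.2)
    rw [show (Pi.single y (Ideal.Quotient.mk (Ideal.span {b}) (y : A)) : s → A ⧸ Ideal.span {b}) =
        (y : A) • Pi.single y 1 by
      rw [← Pi.single_smul]; congr 1; rw [Algebra.smul_def, mul_one]; rfl]
    rw [← TensorProduct.smul_tmul, Algebra.smul_def, ← hd, mul_comm d, ← Algebra.smul_def,
      TensorProduct.smul_tmul, ← Pi.single_smul, Algebra.smul_def, mul_one,
      Ideal.Quotient.algebraMap_eq, Ideal.Quotient.eq_zero_iff_mem.2 (Ideal.mem_span_singleton_self b),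
      Pi.single_zero, TensorProduct.tmul_zero]
  obtain ⟨t, ht⟩ := (hex' _).1 h0
  have key : ∀ t : TensorProduct A C (LinearMap.ker φ),
      TensorProduct.rid A C ((LinearMap.ker φ).subtype.lTensor C t) ∈
        Ideal.map (algebraMap A C) (Submodule.colon (Ideal.span {b}) (s : Set A) : Ideal A) := by
    intro t
    induction t using TensorProduct.induction_on with
    | zero => simp
    | tmul c a =>
      rw [LinearMap.lTensor_tmul, TensorProduct.rid_tmul, Algebra.smul_def]
      refine Ideal.mul_mem_right _ _ (Ideal.mem_map_of_mem _ ?_)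
      refine Submodule.mem_colon.2 fun y hy => ?_
      have := congrFun (LinearMap.mem_ker.1 a.2) ⟨y, hy⟩
      simp only [φ, LinearMap.pi_apply, LinearMap.smul_apply, Submodule.mkQ_apply, Pi.zero_apply] at this
      rw [← Submodule.Quotient.mk_smul, Submodule.Quotient.mk_eq_zero] at this
      rw [smul_eq_mul] at this ⊢
      rwa [mul_comm]
    | add x y hx hy => rw [map_add, map_add]; exact Ideal.add_mem _ hx hy
  have := key t
  rw [ht, TensorProduct.rid_tmul, one_smul] at this
  exact this

omit [IsDomain A] [IsNoetherianRing A] [IsLocalRing A] in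
/-- A prime which is minimal and maximal is cut out by an idempotent. -/
theorem exists_idempotent_of_isMaximal_minimal {R : Type u} [CommRing R] [IsNoetherianRing R]
    {q : Ideal R} [hq : q.IsMaximal] (hq' : q ∈ minimalPrimes R) :
    ∃ e : R, IsIdempotentElem e ∧ ∀ P : Ideal R, P.IsPrime → (e ∈ P ↔ P ≠ q) := by
  let q₀ : PrimeSpectrum R := ⟨q, inferInstance⟩
  have hclosed : IsClosed ({q₀} : Set (PrimeSpectrum R)) :=
    (PrimeSpectrum.isClosed_singleton_iff_isMaximal _).2 hq
  have hopen : IsOpen ({q₀} : Set (PrimeSpectrum R)) := by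
    have heq : ({q₀} : Set (PrimeSpectrum R))ᶜ =
        ⋃ r ∈ minimalPrimes R \ {q}, PrimeSpectrum.zeroLocus (r : Set R) := by
      ext P
      simp only [Set.mem_compl_iff, Set.mem_singleton_iff, Set.mem_iUnion, PrimeSpectrum.mem_zeroLocus,
        SetLike.coe_subset_coe, Set.mem_sdiff, exists_prop]
      constructor
      · intro hP
        obtain ⟨r, hr, hrP⟩ := Ideal.exists_minimalPrimes_le (bot_le : (⊥ : Ideal R) ≤ P.asIdeal)
        refine ⟨r, ⟨hr, fun h => hP (PrimeSpectrum.ext ?_)⟩, hrP⟩
        obtain rfl : r = q := h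
        exact (hq.eq_of_le P.isPrime.ne_top hrP).symm
      · rintro ⟨r, ⟨hr, hrq⟩, hrP⟩ rfl
        exact hrq (le_antisymm hrP (hq'.2 ⟨hr.1.1, bot_le⟩ hrP))
    rw [← isClosed_compl_iff, heq]
    exact Set.Finite.isClosed_biUnion ((minimalPrimes.finite_of_isNoetherianRing R).subset Set.sdiff_subset)
      fun r _ => PrimeSpectrum.isClosed_zeroLocus _
  obtain ⟨e, he, hs⟩ := PrimeSpectrum.isClopen_iff.1 ⟨hclosed, hopen⟩
  refine ⟨e, he, fun P hP => ?_⟩
  have h1 : e ∉ P ↔ (⟨P, hP⟩ : PrimeSpectrum R) = q₀ := by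
    rw [← Set.mem_singleton_iff, hs]; rfl
  rw [← not_iff_not, h1, not_not, PrimeSpectrum.ext_iff]

/-- The finite birational extension cannot have a factor lying over a one dimensional component. -/
theorem false_of_idempotent (hA : CAlg.IsUniversallyCatenary A) (hd : 2 ≤ ringKrullDim A)
    {C : Type u} [CommRing C] [IsNoetherianRing C] [IsLocalRing C] [Algebra A C] [Module.Flat A C]
    (hm : (maximalIdeal A).map (algebraMap A C) = maximalIdeal C)
    {q : Ideal C} [q.IsPrime] (hdim : ringKrullDim (C ⧸ q) = 1)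
    {B : Type u} [CommRing B] [IsDomain B] [Algebra A B] [FaithfulSMul A B] [Module.Finite A B]
    {L : Type u} [CommRing L] [Algebra C L] [Algebra A L] [IsScalarTower A C L]
    (ψ : TensorProduct A B C →ₐ[A] L) (hψ : Function.Injective ψ) (t : TensorProduct A B C)
    (he : IsIdempotentElem (ψ t))
    (heP : ∀ P : Ideal L, P.IsPrime → ¬ q.map (algebraMap C L) ≤ P → ψ t ∈ P) (ht0 : t ≠ 0)
    (hψC : ∀ (b : B) (c : C), ψ (b ⊗ₜ c) = ψ (b ⊗ₜ 1) * algebraMap C L c) : False := by
  classical
  have htid : IsIdempotentElem t := hψ (by rw [map_mul]; exact he)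
  have htu : ¬ IsUnit (1 - t) := fun hu => ht0 (by
    have h : (1 - t) * t = (1 - t) * 0 := by rw [mul_zero]; exact htid.one_sub_mul_self
    exact hu.mul_left_cancel h)
  obtain ⟨M, hM, hMt⟩ := Ideal.exists_le_maximal (Ideal.span {1 - t}) (by rwa [Ne, Ideal.span_singleton_eq_top])
  -- the height of `M` computed downstairs
  haveI : IsNoetherianRing B := Algebra.FiniteType.isNoetherianRing A B
  let R' := TensorProduct A B C
  letI algC : Algebra C R' := Algebra.TensorProduct.rightAlgebra
  haveI : Module.Finite C R' := Module.Finite.equiv (Algebra.TensorProduct.commRight A C B).toLinearEquiv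
  haveI : Algebra.IsIntegral C R' := Algebra.IsIntegral.of_finite C R'
  haveI : IsNoetherianRing R' := Algebra.FiniteType.isNoetherianRing C R'
  haveI : M.IsPrime := hM.isPrime
  set n₀ := M.under B
  have hle2 : M.height ≤ 1 := by
    let PM : PrimeSpectrum R' := ⟨M, inferInstance⟩
    refine (PrimeSpectrum.height_eq_orderHeight PM).trans_le ?_
    refine Order.height_le fun l hl => ?_
    have hqc : ∀ P : PrimeSpectrum R', P.asIdeal ≤ M → q ≤ P.asIdeal.comap (algebraMap C R') := by
      intro P hP c hc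
      have htP : t ∉ P.asIdeal := fun h => hM.ne_top ((Ideal.eq_top_iff_one _).2 (by
        simpa using M.add_mem (hP h) (hMt (Ideal.mem_span_singleton_self _))))
      suffices algebraMap C R' c * t ∈ P.asIdeal from (P.isPrime.mem_or_mem this).resolve_right htP
      have hnil : IsNilpotent (ψ (algebraMap C R' c * t)) := by
        rw [nilpotent_iff_mem_prime]
        intro P' hP'
        rw [map_mul]
        by_cases h : q.map (algebraMap C L) ≤ P'
        · refine P'.mul_mem_right _ ?_
          show ψ ((1 : B) ⊗ₜ c) ∈ P'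
          rw [hψC, show ((1 : B) ⊗ₜ[A] (1 : C)) = (1 : TensorProduct A B C) from rfl, map_one, one_mul]
          exact h (Ideal.mem_map_of_mem _ hc)
        · exact P'.mul_mem_left _ (heP P' hP' h)
      obtain ⟨k, hk⟩ := hnil
      exact P.isPrime.mem_of_pow_mem k (by rw [hψ (((map_pow ψ _ k).trans hk).trans (map_zero ψ).symm)]; exact zero_mem _)
    let f : PrimeSpectrum R' → PrimeSpectrum C := PrimeSpectrum.comap (algebraMap C R')
    have hstrict : StrictMono f := fun P Q h => Ideal.IsIntegral.comap_lt_comap (R := C) h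
    have h1 : (⟨q, inferInstance⟩ : PrimeSpectrum C) ≤ (l.map f hstrict).head :=
      hqc l.head ((l.head_le_last).trans (le_of_eq hl))
    have h3 := Order.length_le_coheight (p := l.map f hstrict) h1
    rw [Groth.Ega4Algebra1.ringKrullDim_quotient_eq_coheight C ⟨q, inferInstance⟩] at hdim
    rw [WithBot.coe_eq_one.1 hdim] at h3
    exact h3
  have hn₀max : n₀.IsMaximal := by
    refine Ideal.isMaximal_of_isIntegral_of_isMaximal_comap (R := A) n₀ ?_
    have h1 : (M.comap (algebraMap C R')).IsMaximal := Ideal.isMaximal_comap_of_isIntegral_of_isMaximal M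
    have h2 : n₀.comap (algebraMap A B) = (M.comap (algebraMap C R')).comap (algebraMap A C) := by
      ext a
      show (algebraMap A B a ⊗ₜ[A] (1 : C)) ∈ M ↔ ((1 : B) ⊗ₜ[A] algebraMap A C a) ∈ M
      rw [Algebra.algebraMap_eq_smul_one, Algebra.algebraMap_eq_smul_one, TensorProduct.smul_tmul]
    rw [h2, eq_maximalIdeal h1]
    have : (maximalIdeal C).comap (algebraMap A C) = maximalIdeal A :=
      ((maximalIdeal.isMaximal A).eq_of_le (Ideal.comap_ne_top _ (maximalIdeal.isMaximal C).ne_top)
        (Ideal.map_le_iff_le_comap.1 hm.le)).symm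
    rw [this]; exact maximalIdeal.isMaximal A
  haveI := hn₀max
  haveI : n₀.LiesOver (maximalIdeal A) :=
    ⟨(eq_maximalIdeal (Ideal.isMaximal_comap_of_isIntegral_of_isMaximal n₀)).symm⟩
  obtain ⟨t₁, t₂, ht₁, ht₂, -, heq⟩ :=
    Groth.FibreDim.exists_trdeg_add_height (R := A) (maximalIdeal A) n₀
  have h := heq hA
  haveI : Algebra.IsAlgebraic A B := Algebra.IsIntegral.isAlgebraic
  haveI : Algebra.IsAlgebraic (A ⧸ maximalIdeal A) (B ⧸ n₀) := Algebra.IsIntegral.isAlgebraic
  rw [trdeg_eq_zero] at ht₁ ht₂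
  obtain rfl : t₁ = 0 := by exact_mod_cast ht₁.symm
  obtain rfl : t₂ = 0 := by exact_mod_cast ht₂.symm
  simp only [Nat.cast_zero, add_zero] at h
  haveI : Module.Flat B R' := inferInstance
  haveI : M.LiesOver n₀ := ⟨rfl⟩
  have hge := Ideal.height_eq_height_add_of_liesOver_of_hasGoingDown n₀ M
  rw [← maximalIdeal_height_eq_ringKrullDim, ← h] at hd
  have h5 : n₀.height ≤ 1 := le_trans (hge ▸ le_self_add) hle2
  have h6 : (2 : ℕ∞) ≤ n₀.height := WithBot.coe_le_coe.1 hd
  exact absurd (h6.trans h5) (by norm_num)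


/-- A flat Noetherian local algebra over a universally catenary local domain of dimension at least
two, having the same maximal ideal, has no minimal prime with one dimensional quotient. -/
theorem false_of_minimalPrime_dim_one (hA : CAlg.IsUniversallyCatenary A) (hd : 2 ≤ ringKrullDim A)
    {C : Type u} [CommRing C] [IsNoetherianRing C] [IsLocalRing C] [Algebra A C] [Module.Flat A C]
    (hm : (maximalIdeal A).map (algebraMap A C) = maximalIdeal C)
    {q : Ideal C} (hq : q ∈ minimalPrimes C) (hdim : ringKrullDim (C ⧸ q) = 1) : False := by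
  classical
  haveI := hq.1.1
  obtain ⟨x, hxm, hx0⟩ : ∃ x ∈ maximalIdeal A, x ≠ 0 := by
    refine Submodule.exists_mem_ne_zero_of_ne_bot fun h => ?_
    rw [← maximalIdeal_height_eq_ringKrullDim, h, Ideal.height_bot] at hd
    norm_cast at hd
  have hreg : ∀ c : C, algebraMap A C x * c = 0 → c = 0 := fun c hc => by
    have h := Module.Flat.isSMulRegular_of_isRegular (M := C) (isRegular_iff_ne_zero.2 hx0)
    exact h (by simpa [Algebra.smul_def] using hc)
  have hxq : algebraMap A C x ∉ q := fun h =>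
    Set.disjoint_left.1 (Ideal.disjoint_nonZeroDivisors_of_mem_minimalPrimes hq) h
      ((mem_nonZeroDivisors_iff_right).2 fun c hc => hreg c (by rwa [mul_comm]))
  have htwo : ∀ P : Ideal C, P.IsPrime → q ≤ P → P = q ∨ P = maximalIdeal C := by
    intro P hP hqP
    by_contra hne
    push Not at hne
    have h1 : (⟨q, inferInstance⟩ : PrimeSpectrum C) < ⟨P, hP⟩ := lt_of_le_of_ne hqP fun h => hne.1 (PrimeSpectrum.ext_iff.1 h).symm
    have h2 : (⟨P, hP⟩ : PrimeSpectrum C) < closedPoint C :=
      lt_of_le_of_ne (IsLocalRing.le_maximalIdeal hP.ne_top) fun h => hne.2 (PrimeSpectrum.ext_iff.1 h)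
    let l : LTSeries (PrimeSpectrum C) :=
      ((RelSeries.singleton _ (closedPoint C)).cons ⟨P, hP⟩ h2).cons ⟨q, inferInstance⟩ (by simpa using h1)
    have h3 := Order.length_le_coheight (p := l) (x := (⟨q, inferInstance⟩ : PrimeSpectrum C)) (by simp [l])
    have h4 : l.length = 2 := rfl
    rw [Groth.Ega4Algebra1.ringKrullDim_quotient_eq_coheight C ⟨q, inferInstance⟩] at hdim
    rw [h4, WithBot.coe_eq_one.1 hdim] at h3
    norm_cast at h3
  -- the component `{q}` of the complement of `V(x)` and its idempotent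
  set L := Localization.Away (algebraMap A C x)
  haveI : IsNoetherianRing L := IsLocalization.isNoetherianRing (.powers (algebraMap A C x)) L inferInstance
  have hLinj : Function.Injective (algebraMap C L) := IsLocalization.injective L
    (Submonoid.powers_le.2 ((mem_nonZeroDivisors_iff_right).2 fun c hc => hreg c (by rwa [mul_comm])))
  have hxmem : ∀ {P : Ideal L}, P.IsPrime → algebraMap A C x ∉ P.comap (algebraMap C L) := fun hP h =>
    hP.ne_top (Ideal.eq_top_of_isUnit_mem _ (Ideal.mem_comap.1 h) (IsLocalization.Away.algebraMap_isUnit _))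
  have hdisj : Disjoint (Submonoid.powers (algebraMap A C x) : Set C) q := by
    refine Set.disjoint_left.2 ?_
    rintro _ ⟨n, rfl⟩ h
    exact hxq ((inferInstance : q.IsPrime).mem_of_pow_mem n h)
  set qL := q.map (algebraMap C L)
  haveI hqLp : qL.IsPrime := IsLocalization.isPrime_of_isPrime_disjoint _ L q inferInstance hdisj
  have hqLc : qL.comap (algebraMap C L) = q :=
    IsLocalization.under_map_of_isPrime_disjoint _ L inferInstance hdisj
  have hqLmax : qL.IsMaximal := by
    obtain ⟨M, hM, hle⟩ := Ideal.exists_le_maximal qL hqLp.ne_top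
    rcases htwo (M.comap (algebraMap C L)) inferInstance (hqLc ▸ Ideal.comap_mono hle) with h | h
    · rwa [show qL = M by rw [← IsLocalization.map_under (.powers (algebraMap A C x)) L M, Ideal.under, h]]
    · exact absurd (h ▸ (hm ▸ Ideal.mem_map_of_mem _ hxm)) (hxmem hM.isPrime)
  have hqLmin : qL ∈ minimalPrimes L := by
    refine ⟨⟨hqLp, bot_le⟩, fun P hP hle => ?_⟩
    have h := hq.2 ⟨hP.1.comap (algebraMap C L), bot_le⟩ (hqLc ▸ Ideal.comap_mono hle)
    exact (Ideal.map_mono h).trans Ideal.map_comap_le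
  obtain ⟨e, he, heP⟩ := exists_idempotent_of_isMaximal_minimal (hq := hqLmax) hqLmin
  -- `e` extends to the punctured spectrum
  let I : Ideal C := Submodule.colon (LinearMap.range (Algebra.linearMap C L)) ({e} : Set L)
  have hI : ∀ y : C, y ∈ I ↔ ∃ c, algebraMap C L c = algebraMap C L y * e := fun y => by
    simp [I, Submodule.mem_colon, Algebra.smul_def]
  have hrad : maximalIdeal C ≤ I.radical := by
    rw [Ideal.radical_eq_sInf]
    refine le_sInf fun P hP => ?_
    obtain ⟨hIP, hPp⟩ := hP
    by_contra hne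
    have hxP : algebraMap A C x ∈ P := by
      obtain ⟨⟨c, ⟨_, n, rfl⟩⟩, hc⟩ := IsLocalization.surj (Submonoid.powers (algebraMap A C x)) e
      exact hPp.mem_of_pow_mem n (hIP ((hI _).2 ⟨c, by rw [← hc, mul_comm]⟩))
    have hqP : ¬ q ≤ P := fun h => by
      rcases htwo P hPp h with rfl | rfl
      · exact hxq hxP
      · exact hne le_rfl
    have hdis : Disjoint ((⊥ : Ideal L) : Set L)
        ↑(Submonoid.powers e ⊔ P.primeCompl.map (algebraMap C L)) := by
      refine Set.disjoint_left.2 fun z hz hz' => ?_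
      obtain rfl : z = 0 := Ideal.mem_bot.1 hz
      obtain ⟨_, ⟨k, rfl⟩, _, ⟨y, hy, rfl⟩, hk⟩ := Submonoid.mem_sup.1 hz'
      refine hy (hIP ((hI y).2 ⟨0, ?_⟩))
      rw [map_zero]
      rcases k with _ | k
      · rw [show algebraMap C L y = 0 by simpa using hk, zero_mul]
      · have hek : e ^ (k + 1) * algebraMap C L y = 0 := hk
        rw [he.pow_succ_eq] at hek
        rw [mul_comm, hek]
    obtain ⟨P', hP', -, hP'd⟩ := Ideal.exists_le_prime_disjoint _ _ hdis
    have heP' : e ∉ P' := fun h => Set.disjoint_left.1 hP'd h (Submonoid.mem_sup_left (Submonoid.mem_powers e))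
    have hP'q : P' = qL := not_not.1 fun h => heP' ((heP P' hP').2 h)
    refine hqP fun c hc => not_not.1 fun hcP => ?_
    refine Set.disjoint_left.1 hP'd ?_ (Submonoid.mem_sup_right (Submonoid.mem_map_of_mem _ hcP))
    rw [hP'q]
    exact Ideal.mem_map_of_mem _ hc
  obtain ⟨N, hN⟩ : ∃ N, maximalIdeal C ^ N ≤ I :=
    Ideal.exists_pow_le_of_le_radical_of_fg hrad (maximalIdeal C).fg_of_isNoetherianRing
  have hNA : ∀ y ∈ maximalIdeal A ^ N, algebraMap A C y ∈ I := fun y hy => hN (by
    rw [← hm, ← Ideal.map_pow]; exact Ideal.mem_map_of_mem _ hy)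
  obtain ⟨c, hc⟩ := (hI _).1 (hNA _ (Ideal.pow_mem_pow hxm N))
  obtain ⟨s, hs⟩ := (maximalIdeal A ^ N).fg_of_isNoetherianRing
  have hcJ := mem_map_of_mul_mem_span (C := C) s (x ^ N) c fun y hy => by
    obtain ⟨d, hd'⟩ := (hI _).1 (hNA y (hs ▸ Ideal.subset_span hy))
    refine Ideal.mem_span_singleton'.2 ⟨d, hLinj ?_⟩
    rw [map_mul, map_mul, hd', hc]
    ring
  -- the finite birational extension carrying `e`
  let F := FractionRing A
  let T := Localization.Away x
  haveI : IsDomain T := IsLocalization.isDomain_localization (Submonoid.powers_le.2 (mem_nonZeroDivisors_of_ne_zero hx0))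
  let toF : T →ₐ[A] F := IsLocalization.liftAlgHom (f := Algebra.ofId A F) (M := Submonoid.powers x) (by
    rintro ⟨_, n, rfl⟩
    rw [map_pow]
    exact ((IsUnit.mk0 _ (fun h => hx0 (IsFractionRing.injective A F (h.trans (map_zero _).symm)))).pow n))
  have hTinj : Function.Injective (algebraMap A T) := IsLocalization.injective T
    (Submonoid.powers_le.2 (mem_nonZeroDivisors_of_ne_zero hx0))
  have htoF : Function.Injective toF := (IsLocalization.lift_injective_iff (S := T) _).2 fun a b => by
    rw [hTinj.eq_iff]; exact (IsFractionRing.injective A F).eq_iff.symm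
  set J : Ideal A := Submodule.colon (Ideal.span {x ^ N}) (s : Set A) with hJ
  obtain ⟨g, hg⟩ := J.fg_of_isNoetherianRing
  let z : A → T := fun a => IsLocalization.mk' T a (⟨x ^ N, N, rfl⟩ : Submonoid.powers x)
  have hzint : ∀ a ∈ J, IsIntegral A (z a) := by
    intro a ha
    rw [← isIntegral_algHom_iff toF htoF]
    refine isIntegral_of_pow_mul_mem hA hd (N := N) fun y hy => ?_
    have hya : y * a ∈ Ideal.span {x ^ N} := by
      have : maximalIdeal A ^ N ≤ Submodule.colon (Ideal.span {x ^ N}) ({a} : Set A) := by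
        rw [← hs]
        refine Ideal.span_le.2 fun y hy => ?_
        simpa [Submodule.mem_colon, smul_eq_mul, mul_comm] using Submodule.mem_colon.1 ha y hy
      simpa [Submodule.mem_colon, smul_eq_mul, mul_comm] using Submodule.mem_colon.1 (this hy) a rfl
    obtain ⟨w, hw⟩ := Ideal.mem_span_singleton'.1 hya
    refine ⟨w, ?_⟩
    rw [← toF.commutes w, ← toF.commutes y, ← map_mul]
    congr 1
    rw [IsLocalization.mul_mk'_eq_mk'_of_mul, ← hw]
    exact (IsLocalization.mk'_mul_cancel_right w _).symm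
  set B := Algebra.adjoin A (z '' (g : Set A))
  haveI : Module.Finite A B := Module.Finite.iff_fg.2 (fg_adjoin_of_finite ((g.finite_toSet).image z) (by
    rintro _ ⟨a, ha, rfl⟩
    exact hzint a (hg ▸ Ideal.subset_span ha)))
  haveI : FaithfulSMul A B := (faithfulSMul_iff_algebraMap_injective _ _).2 fun a b h =>
    hTinj (congrArg Subtype.val h)
  let toL : T →ₐ[A] L := IsLocalization.liftAlgHom (f := Algebra.ofId A L) (M := Submonoid.powers x) (by
    rintro ⟨_, n, rfl⟩
    rw [map_pow]
    refine IsUnit.pow n ?_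
    show IsUnit (algebraMap A L x)
    rw [IsScalarTower.algebraMap_apply A C L]
    exact IsLocalization.Away.algebraMap_isUnit _)
  let ψ : TensorProduct A B C →ₐ[A] L :=
    Algebra.TensorProduct.lift (toL.comp B.val) (IsScalarTower.toAlgHom A C L) fun _ _ => Commute.all _ _
  -- `ψ` is injective
  obtain ⟨n, hn⟩ : ∃ n : ℕ, ∀ b : B, ∃ a : A, algebraMap A T a = algebraMap A T (x ^ n) * b := by
    obtain ⟨gB, hgB⟩ := (inferInstance : Module.Finite A B).fg_top
    obtain ⟨⟨_, n, rfl⟩, hn⟩ :=
      IsLocalization.exist_integer_multiples (Submonoid.powers x) gB fun b => ((b : B) : T)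
    refine ⟨n, fun b => ?_⟩
    have hb : b ∈ Submodule.span A (gB : Set B) := hgB ▸ Submodule.mem_top
    induction hb using Submodule.span_induction with
    | mem y hy =>
      obtain ⟨a, ha⟩ := hn y hy
      exact ⟨a, by rw [ha, Algebra.smul_def]⟩
    | zero => exact ⟨0, by simp⟩
    | add u v _ _ h1 h2 =>
      obtain ⟨a, ha⟩ := h1
      obtain ⟨a', ha'⟩ := h2
      exact ⟨a + a', by rw [map_add, ha, ha', Subalgebra.coe_add, mul_add]⟩
    | smul r u _ h1 =>
      obtain ⟨a, ha⟩ := h1
      exact ⟨r * a, by rw [map_mul, ha, Subalgebra.coe_smul, Algebra.smul_def]; ring⟩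
  choose φ hφ using hn
  have hT0 : algebraMap A T (x ^ n) ≠ 0 := fun h => pow_ne_zero n hx0 (hTinj (h.trans (map_zero _).symm))
  let φ' : B →ₗ[A] A :=
    { toFun := φ
      map_add' := fun u v => hTinj (by rw [map_add, hφ, hφ, hφ, Subalgebra.coe_add, mul_add])
      map_smul' := fun r u => hTinj (by
        rw [RingHom.id_apply, smul_eq_mul, map_mul, hφ, hφ, Subalgebra.coe_smul, Algebra.smul_def]; ring) }
  have hφ' : Function.Injective φ' := fun u v h => by
    have : φ u = φ v := h
    exact Subtype.ext (mul_left_cancel₀ hT0 (by rw [← hφ, ← hφ, this]))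
  have hψ : Function.Injective ψ := by
    rw [injective_iff_map_eq_zero]
    intro t ht
    have hcomm : ∀ t, algebraMap A L (x ^ n) * ψ t =
        algebraMap C L (TensorProduct.lid A C (φ'.rTensor C t)) := by
      intro t
      induction t using TensorProduct.induction_on with
      | zero => simp
      | tmul b c =>
        rw [LinearMap.rTensor_tmul, TensorProduct.lid_tmul, Algebra.TensorProduct.lift_tmul,
          Algebra.smul_def, map_mul, ← IsScalarTower.algebraMap_apply]
        show algebraMap A L (x ^ n) * (toL (b : T) * algebraMap C L c) = algebraMap A L (φ b) * algebraMap C L c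
        rw [← mul_assoc, ← toL.commutes (φ b), hφ, map_mul, toL.commutes]
      | add u v hu hv => rw [map_add, map_add, map_add, map_add, mul_add, hu, hv]
    have h2 := hcomm t
    rw [ht, mul_zero] at h2
    have h3 := hLinj (h2.symm.trans (map_zero _).symm)
    rw [LinearEquiv.map_eq_zero_iff] at h3
    exact (injective_iff_map_eq_zero _).1 (Module.Flat.rTensor_preserves_injective_linearMap (M := C) φ' hφ') t h3
  obtain ⟨t, ht⟩ : ∃ t, ψ t = e := by
    have hJR : ∀ a ∈ J, z a ∈ B := by
      intro a ha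
      rw [← hg] at ha
      induction ha using Submodule.span_induction with
      | mem y hy => exact Algebra.subset_adjoin ⟨y, hy, rfl⟩
      | zero => simp [z]
      | add u v _ _ h1 h2 => simp only [z, IsLocalization.mk'_eq_mul_mk'_one (_ + _), map_add, add_mul, ← IsLocalization.mk'_eq_mul_mk'_one]; exact add_mem h1 h2
      | smul r u _ h1 =>
        have : z (r • u) = r • z u := by
          simp only [z, smul_eq_mul, Algebra.smul_def, IsLocalization.mul_mk'_eq_mk'_of_mul]
        rw [this]
        exact B.smul_mem h1 r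
    have key : ∀ c ∈ J.map (algebraMap A C), ∃ t, algebraMap A L (x ^ N) * ψ t = algebraMap C L c := by
      intro c hc
      induction hc using Submodule.span_induction with
      | mem y hy =>
        obtain ⟨a, ha, rfl⟩ := hy
        refine ⟨(⟨z a, hJR a ha⟩ : B) ⊗ₜ 1, ?_⟩
        rw [Algebra.TensorProduct.lift_tmul, map_one, mul_one, ← toL.commutes, AlgHom.comp_apply,
          Subalgebra.val_apply, ← map_mul, IsLocalization.mk'_spec'_mk, toL.commutes,
          ← IsScalarTower.algebraMap_apply]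
      | zero => exact ⟨0, by simp⟩
      | add u v _ _ h1 h2 =>
        obtain ⟨a, ha⟩ := h1
        obtain ⟨a', ha'⟩ := h2
        exact ⟨a + a', by rw [map_add, mul_add, ha, ha', map_add]⟩
      | smul r u _ h1 =>
        obtain ⟨a, ha⟩ := h1
        refine ⟨((1 : B) ⊗ₜ r) * a, ?_⟩
        rw [map_mul, smul_eq_mul, map_mul, ← ha, Algebra.TensorProduct.lift_tmul, map_one, one_mul]
        show _ * (algebraMap C L r * _) = _
        ring
    obtain ⟨t, ht⟩ := key c hcJ
    refine ⟨t, ?_⟩
    rw [hc, IsScalarTower.algebraMap_apply A C L] at ht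
    exact IsUnit.mul_left_cancel (by
      rw [map_pow, map_pow]; exact (IsLocalization.Away.algebraMap_isUnit _).pow N) ht
  exact false_of_idempotent hA hd hm hdim ψ hψ t (ht ▸ he)
    (fun P hP hcP => by rw [ht]; exact (heP P hP).2 fun h => hcP (le_of_eq h.symm))
    (fun h => (heP qL hqLp).1 (by rw [← ht, h, map_zero]; exact qL.zero_mem) rfl)
    (fun b c => by rw [Algebra.TensorProduct.lift_tmul, Algebra.TensorProduct.lift_tmul, map_one, mul_one]; rfl)

/-- Every component of the completion of a universally catenary local domain has full dimension. -/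
theorem ringKrullDim_cpl_quotient_minimalPrime : ∀ (d : ℕ) (A : Type u) [CommRing A] [IsDomain A]
    [IsNoetherianRing A] [IsLocalRing A], CAlg.IsUniversallyCatenary A → ringKrullDim A = d →
    ∀ q ∈ minimalPrimes (EGA4.Cpl A), ringKrullDim (EGA4.Cpl A ⧸ q) = d := by
  intro d
  induction d using Nat.strong_induction_on with
  | _ d ih =>
  intro A _ _ _ _ hA hdA q hq
  classical
  haveI := hq.1.1
  haveI := Groth.Ega4b.isNoetherianRing_cpl A
  haveI : Module.Flat A (EGA4.Cpl A) := AdicCompletion.flat_of_isNoetherian _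
  have hm : (maximalIdeal A).map (algebraMap A (EGA4.Cpl A)) = maximalIdeal (EGA4.Cpl A) :=
    AdicCompletion.maximalIdeal_eq_map.symm
  set C := EGA4.Cpl A
  have hCA : ringKrullDim C = d := (Groth.Calg1.ringKrullDim_adicCompletion A).trans hdA
  obtain ⟨e, he⟩ := DimCd.exists_nat_dim (A := C) (J := q) (Ideal.IsPrime.ne_top ‹_›)
  have hed : e ≤ d := by
    have := (ringKrullDim_quotient_le q).trans (le_of_eq hCA)
    rw [he] at this; exact_mod_cast this
  by_contra hne
  have hlt : e < d := lt_of_le_of_ne hed fun h => hne (h ▸ he)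
  obtain ⟨x₀, hx₀m, hx₀⟩ : ∃ x ∈ maximalIdeal A, x ≠ 0 := by
    refine Submodule.exists_mem_ne_zero_of_ne_bot fun h => ?_
    rw [← maximalIdeal_height_eq_ringKrullDim, h, Ideal.height_bot] at hdA
    have : (0 : ℕ) = d := by exact_mod_cast hdA
    omega
  have hxq : ∀ x : A, x ≠ 0 → algebraMap A C x ∉ q := fun x hx h =>
    Set.disjoint_left.1 (Ideal.disjoint_nonZeroDivisors_of_mem_minimalPrimes hq) h
      ((mem_nonZeroDivisors_iff_right).2 fun c hc =>
        Module.Flat.isSMulRegular_of_isRegular (M := C) (isRegular_iff_ne_zero.2 hx)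
          (show x • c = x • (0 : C) by rw [smul_zero, Algebra.smul_def, mul_comm, hc]))
  have he1 : 1 ≤ e := by
    by_contra h
    obtain rfl : e = 0 := by omega
    have hqmax : maximalIdeal C ≤ q := by
      have := DimCd.radical_eq_maximalIdeal (J := q) (Ideal.IsPrime.ne_top ‹_›) he.le
      rw [(inferInstance : q.IsPrime).radical, (maximalIdeal.isMaximal C).isPrime.radical] at this
      exact this.ge
    exact hxq x₀ hx₀ (hqmax (hm ▸ Ideal.mem_map_of_mem _ hx₀m))
  have hd2 : (2 : WithBot ℕ∞) ≤ ringKrullDim A := by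
    rw [hdA]; exact_mod_cast (by omega : 2 ≤ d)
  rcases eq_or_lt_of_le he1 with rfl | he2
  · exact false_of_minimalPrime_dim_one hA hd2 hm hq (by rw [he]; rfl)
  -- primes to avoid
  have hfin : (⋃ q' ∈ minimalPrimes C \ {q}, (q ⊔ q').minimalPrimes).Finite :=
    ((minimalPrimes.finite_of_isNoetherianRing C).subset Set.sdiff_subset).biUnion fun q' _ =>
      Ideal.finite_minimalPrimes_of_isNoetherianRing C _
  set bad : Finset (Ideal A) := insert ⊥ ((hfin.toFinset.filter (· ≠ maximalIdeal C)).image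
    (Ideal.comap (algebraMap A C))) with hbad
  have hbadp : ∀ P ∈ bad, P.IsPrime ∧ P ≠ maximalIdeal A := by
    intro P hP
    rcases Finset.mem_insert.1 hP with rfl | hP
    · exact ⟨Ideal.isPrime_bot, fun h => hx₀ (Ideal.mem_bot.1 (h ▸ hx₀m))⟩
    obtain ⟨r, hr, rfl⟩ := Finset.mem_image.1 hP
    obtain ⟨hr, hrm⟩ := Finset.mem_filter.1 hr
    simp only [Set.Finite.mem_toFinset, Set.mem_iUnion] at hr
    obtain ⟨q', -, hr⟩ := hr
    haveI := hr.1.1
    refine ⟨inferInstance, fun h => hrm ?_⟩
    exact ((maximalIdeal.isMaximal C).eq_of_le hr.1.1.ne_top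
      (hm ▸ Ideal.map_le_iff_le_comap.2 h.ge)).symm
  obtain ⟨x, hxm, hx⟩ : ∃ x ∈ maximalIdeal A, ∀ P ∈ bad, x ∉ P := by
    by_contra h
    push Not at h
    have hsub : ((maximalIdeal A : Ideal A) : Set A) ⊆ ⋃ P ∈ (bad : Set (Ideal A)), (P : Set A) := fun x hx => by
      obtain ⟨P, hP, hxP⟩ := h x hx
      exact Set.mem_biUnion hP hxP
    obtain ⟨P, hP, hle⟩ := (Ideal.subset_union_prime (f := id) ⊥ ⊥ fun P hP _ _ => (hbadp P hP).1).1 hsub
    exact (hbadp P hP).2 ((maximalIdeal.isMaximal A).eq_of_le (hbadp P hP).1.ne_top hle).symm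
  have hx0 : x ≠ 0 := fun h => hx ⊥ (Finset.mem_insert_self _ _) (h ▸ zero_mem _)
  set xC := algebraMap A C x
  have hxCm : xC ∈ maximalIdeal C := hm ▸ Ideal.mem_map_of_mem _ hxm
  -- a component of the section
  have hne' : q ⊔ Ideal.span {xC} ≠ ⊤ := fun h =>
    (maximalIdeal.isMaximal C).ne_top (top_le_iff.1 (h ▸ sup_le (IsLocalRing.le_maximalIdeal (Ideal.IsPrime.ne_top ‹_›))
      ((Ideal.span_singleton_le_iff_mem _).2 hxCm)))
  obtain ⟨r, hr, hre⟩ : ∃ r ∈ (q ⊔ Ideal.span {xC}).minimalPrimes, ((e - 1 : ℕ) : WithBot ℕ∞) ≤ ringKrullDim (C ⧸ r) := by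
    obtain ⟨e', he'⟩ := DimCd.exists_nat_dim hne'
    have h1 := DimCd.dim_le_add_one q (Ideal.IsPrime.ne_top ‹_›) hxCm
    rw [he, he'] at h1
    have h2 : e ≤ e' + 1 := by exact_mod_cast h1
    by_contra hno
    push Not at hno
    have h3 : ringKrullDim (C ⧸ (q ⊔ Ideal.span {xC})) ≤ ((e - 2 : ℕ) : WithBot ℕ∞) := by
      refine dim_le_of_forall_prime _ _ fun P hP hle => ?_
      obtain ⟨r, hr, hrP⟩ := Ideal.exists_minimalPrimes_le hle
      refine (dim_mono hrP).trans ?_
      obtain ⟨k, hk⟩ := DimCd.exists_nat_dim hr.1.1.ne_top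
      have := hno r hr
      rw [hk] at this ⊢
      have : k < e - 1 := by exact_mod_cast this
      exact_mod_cast (by omega : k ≤ e - 2)
    rw [he'] at h3
    have : e' ≤ e - 2 := by exact_mod_cast h3
    omega
  haveI := hr.1.1
  have hqr : q ≤ r := le_sup_left.trans hr.1.2
  have hxr : xC ∈ r := hr.1.2 (Ideal.mem_sup_right (Ideal.mem_span_singleton_self _))
  have hqr' : q < r := lt_of_le_of_ne hqr fun h => hxq x hx0 (h ▸ hxr)
  have hrdim : ringKrullDim (C ⧸ r) = ((e - 1 : ℕ) : WithBot ℕ∞) := by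
    refine le_antisymm ?_ hre
    obtain ⟨k, hk⟩ := DimCd.exists_nat_dim hr.1.1.ne_top
    have h1 := Order.coheight_add_one_le (show (⟨q, inferInstance⟩ : PrimeSpectrum C) < ⟨r, inferInstance⟩ from hqr')
    rw [Groth.Ega4Algebra1.ringKrullDim_quotient_eq_coheight C ⟨q, inferInstance⟩] at he
    rw [Groth.Ega4Algebra1.ringKrullDim_quotient_eq_coheight C ⟨r, inferInstance⟩] at hk ⊢
    rw [← WithBot.coe_natCast, WithBot.coe_inj] at he hk
    rw [hk, he] at h1
    rw [hk, WithBot.coe_natCast]
    have : k + 1 ≤ e := by exact_mod_cast h1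
    exact_mod_cast (by omega : k ≤ e - 1)
  have hrm : r ≠ maximalIdeal C := fun h => by
    rw [h, ringKrullDim_eq_zero_of_isField ((Ideal.Quotient.maximal_ideal_iff_isField_quotient _).1 (maximalIdeal.isMaximal C))] at hrdim
    have : 0 = e - 1 := by exact_mod_cast hrdim
    omega
  -- no prime strictly between `q` and `r`
  have hgap : ∀ r'' : Ideal C, r''.IsPrime → q ≤ r'' → r'' < r → r'' = q := by
    intro r'' hr'' hq'' hlt''
    by_contra hne''
    have h2 : q.map (Ideal.Quotient.mk q) = ⊥ := Ideal.map_quotient_self q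
    have hker : ∀ P : Ideal C, q ≤ P → (P.map (Ideal.Quotient.mk q)).comap (Ideal.Quotient.mk q) = P := fun P hP => by
      rw [Ideal.comap_map_of_surjective _ Ideal.Quotient.mk_surjective, ← RingHom.ker_eq_comap_bot, Ideal.mk_ker]
      exact sup_eq_left.2 hP
    haveI := Ideal.map_isPrime_of_surjective (I := r) (f := Ideal.Quotient.mk q) Ideal.Quotient.mk_surjective (by rwa [Ideal.mk_ker])
    haveI := Ideal.map_isPrime_of_surjective (I := r'') (f := Ideal.Quotient.mk q) Ideal.Quotient.mk_surjective (by rwa [Ideal.mk_ker])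
    have hrmin : r.map (Ideal.Quotient.mk q) ∈ (Ideal.span {Ideal.Quotient.mk q xC}).minimalPrimes := by
      refine ⟨⟨inferInstance, (Ideal.span_singleton_le_iff_mem _).2 (Ideal.mem_map_of_mem _ hxr)⟩, fun P hP hle => ?_⟩
      have := hP.1
      have hqP : q ≤ P.comap (Ideal.Quotient.mk q) := fun z hz => Ideal.mem_comap.2 (by rw [Ideal.Quotient.eq_zero_iff_mem.2 hz]; exact zero_mem _)
      have h3 := hr.2 ⟨inferInstance, sup_le hqP ((Ideal.span_singleton_le_iff_mem _).2 (hP.2 (Ideal.mem_span_singleton_self _)))⟩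
        ((Ideal.comap_mono hle).trans (hker r hqr).le)
      exact (Ideal.map_mono h3).trans Ideal.map_comap_le
    have h4 := Ideal.height_le_one_of_isPrincipal_of_mem_minimalPrimes _ _ hrmin
    have hlt' : r''.map (Ideal.Quotient.mk q) < r.map (Ideal.Quotient.mk q) :=
      lt_of_le_of_ne (Ideal.map_mono hlt''.le) fun h => hlt''.ne (by rw [← hker r'' hq'', h, hker r hqr])
    have h5 := Ideal.height_strict_mono_of_isPrime hlt'
    have h6 : 1 ≤ (r''.map (Ideal.Quotient.mk q)).height := by
      rw [Order.one_le_iff_ne_zero, Ne, Ideal.height_eq_zero_iff_eq_bot]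
      exact fun h => hne'' (by rw [← hker r'' hq'', h, ← RingHom.ker_eq_comap_bot, Ideal.mk_ker])
    exact absurd (lt_of_lt_of_le (lt_of_le_of_lt h6 h5) h4) (lt_irrefl _)
  -- `r` is minimal over `xC`
  have hrx : r ∈ (Ideal.span {xC}).minimalPrimes := by
    refine ⟨⟨inferInstance, (Ideal.span_singleton_le_iff_mem _).2 hxr⟩, fun r' hr' hle => ?_⟩
    by_contra hnle
    have := hr'.1
    obtain ⟨q', hq', hq'r'⟩ := Ideal.exists_minimalPrimes_le (bot_le : (⊥ : Ideal C) ≤ r')
    have hq'q : q' ≠ q := fun h => hnle (hr.2 ⟨inferInstance, sup_le (h ▸ hq'r') hr'.2⟩ hle)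
    obtain ⟨r'', hr'', hr''r⟩ := Ideal.exists_minimalPrimes_le (sup_le hqr (hq'r'.trans hle) : q ⊔ q' ≤ r)
    have hrr : r'' = r := by
      by_contra h
      have := hgap r'' hr''.1.1 (le_sup_left.trans hr''.1.2) (lt_of_le_of_ne hr''r h)
      have hq'le : q' ≤ q := this ▸ le_sup_right.trans hr''.1.2
      exact hq'q (le_antisymm hq'le (hq.2 ⟨hq'.1.1, bot_le⟩ hq'le))
    refine hx (r.comap (algebraMap A C)) (Finset.mem_insert_of_mem (Finset.mem_image_of_mem _ ?_)) hxr
    refine Finset.mem_filter.2 ⟨?_, hrm⟩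
    simp only [Set.Finite.mem_toFinset, Set.mem_iUnion]
    exact ⟨q', ⟨hq', hq'q⟩, hrr ▸ hr''⟩
  set p := r.under A
  have hxp : x ∈ p := hxr
  haveI : r.LiesOver p := ⟨rfl⟩
  have hp1 : p.height = 1 := by
    refine le_antisymm ?_ ?_
    · have h := Ideal.height_eq_height_add_of_liesOver_of_hasGoingDown p r
      exact (h ▸ le_self_add).trans (Ideal.height_le_one_of_isPrincipal_of_mem_minimalPrimes _ _ hrx)
    · rw [Order.one_le_iff_ne_zero, Ne, Ideal.height_eq_zero_iff_eq_bot]
      exact fun h => hx0 (Ideal.mem_bot.1 (h ▸ hxp))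
  have hdp : ringKrullDim (A ⧸ p) = ((d - 1 : ℕ) : WithBot ℕ∞) := by
    obtain ⟨k, hk⟩ := DimCd.exists_nat_dim (A := A) (J := p) (Ideal.IsPrime.ne_top inferInstance)
    haveI : Nontrivial (A ⧸ p) := Ideal.Quotient.nontrivial_iff.2 (Ideal.IsPrime.ne_top inferInstance)
    haveI : IsLocalRing (A ⧸ p) := .of_surjective' (Ideal.Quotient.mk p) Ideal.Quotient.mk_surjective
    have h := (Groth.FibreDim.height_quotient_add (Ideal.Quotient.mk p) Ideal.Quotient.mk_surjective
      (maximalIdeal (A ⧸ p))).2 (hA.2 A inferInstance)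
    rw [Ideal.mk_ker, hp1, show (maximalIdeal (A ⧸ p)).comap (Ideal.Quotient.mk p) = maximalIdeal A from
      eq_maximalIdeal (Ideal.comap_isMaximal_of_surjective _ Ideal.Quotient.mk_surjective)] at h
    rw [← maximalIdeal_height_eq_ringKrullDim, ← WithBot.coe_natCast, WithBot.coe_inj] at hdA hk ⊢
    rw [hdA, hk] at h
    rw [hk]
    have : k + 1 = d := by exact_mod_cast h
    exact_mod_cast (by omega : k = d - 1)
  haveI : Nontrivial (A ⧸ p) := Ideal.Quotient.nontrivial_iff.2 (Ideal.IsPrime.ne_top inferInstance)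
  haveI : IsLocalRing (A ⧸ p) := .of_surjective' (Ideal.Quotient.mk p) Ideal.Quotient.mk_surjective
  set σ := Groth.Ega4b.cplQuot A p
  have hσ := Groth.Ega4b.cplQuot_surjective A p
  have hker : RingHom.ker σ ≤ r := (Groth.Ega4b.ker_cplQuot A p).trans_le (Ideal.map_le_iff_le_comap.2 le_rfl)
  haveI := Ideal.map_isPrime_of_surjective hσ hker
  have hback : (r.map σ).comap σ = r := by
    rw [Ideal.comap_map_of_surjective _ hσ]; exact sup_eq_left.2 hker
  have hmin : r.map σ ∈ minimalPrimes (EGA4.Cpl (A ⧸ p)) := by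
    refine ⟨⟨inferInstance, bot_le⟩, fun P hP hle => ?_⟩
    have := hP.1
    have hxP : Ideal.span {xC} ≤ P.comap σ := (Ideal.span_singleton_le_iff_mem _).2
      ((Ideal.comap_mono (f := σ) (bot_le : ⊥ ≤ P)) (by
        rw [← RingHom.ker_eq_comap_bot, Groth.Ega4b.ker_cplQuot A p]; exact Ideal.mem_map_of_mem _ hxp))
    exact (Ideal.map_mono (hrx.2 ⟨inferInstance, hxP⟩ ((Ideal.comap_mono hle).trans hback.le))).trans Ideal.map_comap_le
  have hfin' := ih (d - 1) (by omega) (A ⧸ p)
    (Groth.Ega4Algebra1.isUniversallyCatenary_of_finiteType hA (A ⧸ p)) hdp _ hmin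
  rw [← Groth.Ega4Algebra1.ringKrullDim_quotient_comap σ hσ, hback, hrdim] at hfin'
  have : e - 1 = d - 1 := by exact_mod_cast hfin'
  omega

end Groth.LocCohTransform.Ratliff
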