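import Groth.Agent.LocCohTransform.Acyclic

set_option autoImplicit false
universe u
open CategoryTheory CategoryTheory.Limits Opposite

namespace Groth.LocCohTransform

variable {R : Type u} [CommRing R]

lemma exists_desc_fι (N : ℕᵒᵖ ⥤ ModuleCat.{u} R) {M : ModuleCat.{u} R} {T : Type u}
    [AddCommGroup T] [Module R T] (φ : ∀ n, (N.obj (op n) ⟶ M) →ₗ[R] T)
    (hφ : ∀ {n m : ℕ} (h : n ≤ m) (f : N.obj (op n) ⟶ M), φ m (tr N h ≫ f) = φ n f) :
    ∃ Φ : (homColim N).obj M →ₗ[R] T, ∀ n f, Φ (fι N n f) = φ n f := by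
  let G := (N.op ⋙ linearCoyoneda R (ModuleCat.{u} R)) ⋙
    (evaluation (ModuleCat.{u} R) (ModuleCat.{u} R)).obj M
  let s : Cocone G :=
    { pt := ModuleCat.of R T
      ι :=
        { app := fun j => ModuleCat.ofHom (φ j.unop.unop)
          naturality := fun j k w => by
            ext f
            exact hφ w.unop.unop.down.down f } }
  refine ⟨((evalIsColimit (N.op ⋙ linearCoyoneda R (ModuleCat.{u} R)) M).desc s).hom, fun n f => ?_⟩
  exact LinearMap.congr_fun (congrArg ModuleCat.Hom.hom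
    ((evalIsColimit (N.op ⋙ linearCoyoneda R (ModuleCat.{u} R)) M).fac s (op (op n)))) f

variable (I : Ideal R) (M : Type u) [AddCommGroup M] [Module R M]

/-- `Hom(I^n, M) → colim Ext^1(R/I^n, M)`. -/
noncomputable def h1Level (n : ℕ) :
    ((nIdeal I).obj (op n) ⟶ ModuleCat.of R M) →ₗ[R] (extColim (nQuot I) 1).obj (ModuleCat.of R M) :=
  eι (nQuot I) 1 n ∘ₗ connMap I (show 1 + 0 = 1 from rfl) n (ModuleCat.of R M) ∘ₗ
    (Abelian.Ext.linearEquiv₀ (R := R) (X := (nIdeal I).obj (op n)) (Y := ModuleCat.of R M)).symm.toLinearMap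

lemma h1Level_apply (n : ℕ) (f : (nIdeal I).obj (op n) ⟶ ModuleCat.of R M) :
    h1Level I M n f = eι (nQuot I) 1 n
      (connMap I (show 1 + 0 = 1 from rfl) n (ModuleCat.of R M) (Abelian.Ext.mk₀ f)) :=
  rfl

lemma connMap_mk₀ {n m : ℕ} (h : n ≤ m) (f : (nIdeal I).obj (op n) ⟶ ModuleCat.of R M) :
    connMap I (show 1 + 0 = 1 from rfl) m (ModuleCat.of R M)
        (Abelian.Ext.mk₀ (tr (nIdeal I) h ≫ f)) =
      (Abelian.Ext.mk₀ (tr (nQuot I) h)).comp
        (connMap I (show 1 + 0 = 1 from rfl) n (ModuleCat.of R M) (Abelian.Ext.mk₀ f)) (zero_add 1) :=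
  (congrArg _ (Abelian.Ext.mk₀_comp_mk₀ _ _).symm).trans
    (connMap_natural I (show 1 + 0 = 1 from rfl) h (ModuleCat.of R M) (Abelian.Ext.mk₀ f))

theorem exists_coker_equiv :
    Nonempty ((LocCoh.DT I M ⧸ LinearMap.range (LocCoh.toDT I M)) ≃ₗ[R] LocCoh.H I 1 M) := by
  obtain ⟨Φ, hΦ⟩ : ∃ Φ : LocCoh.DT I M →ₗ[R]
      (extColim (nQuot I) 1).obj (ModuleCat.of R M),
      ∀ n f, Φ (fι (nIdeal I) n f) = h1Level I M n f := by
    refine exists_desc_fι (nIdeal I) (h1Level I M) fun {n m} h f => ?_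
    rw [h1Level_apply, h1Level_apply, ← eι_tr (nQuot I) h]
    exact congrArg _ (connMap_mk₀ I M h f)
  have hker : LinearMap.ker Φ = LinearMap.range (LocCoh.toDT I M) := by
    ext x
    obtain ⟨n, f, rfl⟩ := fι_surjective (nIdeal I) x
    refine LinearMap.mem_ker.trans ((Iff.of_eq (congrArg (· = 0) (hΦ n f))).trans ?_)
    rw [h1Level_apply, eι_eq_zero_iff]
    constructor
    · rintro ⟨m, h, e⟩
      have h1 := connMap_mk₀ I M h f
      obtain ⟨β, hβ⟩ := Abelian.Ext.contravariant_sequence_exact₁ (powSeq_shortExact I m)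
        (ModuleCat.of R M) (Abelian.Ext.mk₀ (tr (nIdeal I) h ≫ f)) (show 1 + 0 = 1 from rfl)
        (h1.trans e)
      obtain ⟨g, rfl⟩ := (Abelian.Ext.mk₀_bijective _ _).2 β
      have h2 : (powSeq I m).f ≫ g = tr (nIdeal I) h ≫ f :=
        (Abelian.Ext.mk₀_bijective _ _).1 ((Abelian.Ext.mk₀_comp_mk₀ _ _).symm.trans hβ)
      let g' : R →ₗ[R] M := g.hom
      refine ⟨g' 1, (toDT_eq_cls I m (g' 1)).trans (Eq.trans ?_ (fι_tr (nIdeal I) h f))⟩
      rw [← h2]
      refine congrArg (fι (nIdeal I) m) (ModuleCat.hom_ext (LinearMap.ext fun (a : (I ^ m : Ideal R)) => ?_))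
      show (a : R) • g' 1 = g' a
      rw [← map_smul, smul_eq_mul, mul_one]
    · rintro ⟨x, hx⟩
      rw [← eι_eq_zero_iff, ← h1Level_apply, ← hΦ, ← hx, toDT_eq_cls I 0 x]
      let g : (powSeq I 0).X₂ ⟶ ModuleCat.of R M := ModuleCat.ofHom (LinearMap.toSpanSingleton R M x)
      show Φ (fι (nIdeal I) 0 ((powSeq I 0).f ≫ g)) = 0
      rw [hΦ, h1Level_apply]
      refine (congrArg _ ?_).trans (map_zero _)
      change (powSeq_shortExact I 0).extClass.comp (Abelian.Ext.mk₀ ((powSeq I 0).f ≫ g)) rfl = 0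
      rw [← Abelian.Ext.mk₀_comp_mk₀, ShortComplex.ShortExact.extClass_comp_assoc]
  have hsurj : Function.Surjective Φ := fun y => by
    obtain ⟨n, α, rfl⟩ := eι_surjective (nQuot I) y
    have hproj : Projective (powSeq I n).X₂ := by dsimp [powSeq]; infer_instance
    obtain ⟨β, hβ⟩ := Abelian.Ext.contravariant_sequence_exact₃ (powSeq_shortExact I n)
      (ModuleCat.of R M) α (Abelian.Ext.eq_zero_of_projective _) (show 1 + 0 = 1 from rfl)
    obtain ⟨f, rfl⟩ := (Abelian.Ext.mk₀_bijective _ _).2 β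
    exact ⟨fι (nIdeal I) n f, (hΦ n f).trans (congrArg _ hβ)⟩
  exact ⟨(Submodule.quotEquivOfEq _ _ hker.symm).trans
    ((LinearMap.quotKerEquivOfSurjective Φ hsurj).trans
      ((lcIso I 1).app (ModuleCat.of R M)).symm.toLinearEquiv)⟩

theorem subsingleton_H_one_DT [IsNoetherianRing R] :
    Subsingleton (LocCoh.H I 1 (LocCoh.DT I M)) := by
  obtain ⟨e⟩ := exists_coker_equiv I (LocCoh.DT I M)
  have : Subsingleton (LocCoh.DT I (LocCoh.DT I M) ⧸ LinearMap.range (LocCoh.toDT I (LocCoh.DT I M))) := by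
    rw [Submodule.Quotient.subsingleton_iff, LinearMap.range_eq_top]
    exact (toDT_DT_bijective I).2
  exact e.symm.injective.subsingleton

end Groth.LocCohTransform
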