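import Groth.Prelude.Def_Wider
import Mathlib.AlgebraicGeometry.Modules.Tilde
import Mathlib.AlgebraicGeometry.Noetherian

/-!
Sections of `M~` on an open of `Spec R` outside `V(a)`: torsion free, with power torsion kernel and
cokernel of restriction.
-/

set_option autoImplicit false
universe u

open CategoryTheory AlgebraicGeometry Opposite TopologicalSpace

namespace Groth.LocCohTransform.TildeSec

variable {R : Type u} [CommRing R] (M : ModuleCat.{u} (CommRingCat.of R))

/-- `Γ(U, M~)` as an `R`-module. -/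
noncomputable abbrev sec (U : (Spec (CommRingCat.of R)).Opens) : ModuleCat.{u} (CommRingCat.of R) :=
  (modulesSpecToSheaf.obj (tilde M)).presheaf.obj (op U)

/-- Restriction of sections of `M~`. -/
noncomputable abbrev res {U V : (Spec (CommRingCat.of R)).Opens} (h : V ≤ U) :
    sec M U →ₗ[R] sec M V :=
  ((modulesSpecToSheaf.obj (tilde M)).presheaf.map (homOfLE h).op).hom

theorem res_res {U V W : (Spec (CommRingCat.of R)).Opens} (h : V ≤ U) (h' : W ≤ V) (s : sec M U) :
    res M h' (res M h s) = res M (h'.trans h) s := by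
  change (((modulesSpecToSheaf.obj (tilde M)).presheaf.map (homOfLE h).op) ≫
    ((modulesSpecToSheaf.obj (tilde M)).presheaf.map (homOfLE h').op)).hom s = _
  rw [← Functor.map_comp]
  rfl

theorem res_toOpen {U V : (Spec (CommRingCat.of R)).Opens} (h : V ≤ U) (m : M) :
    res M h ((tilde.toOpen M U).hom m) = (tilde.toOpen M V).hom m := by
  rw [← tilde.toOpen_res M U V (homOfLE h)]
  rfl

theorem eq_zero_of_local {U : (Spec (CommRingCat.of R)).Opens} {s : sec M U}
    (h : ∀ x ∈ U, ∃ (V : (Spec (CommRingCat.of R)).Opens) (hle : V ≤ U),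
      x ∈ V ∧ res M hle s = 0) : s = 0 := by
  apply TopCat.Presheaf.IsSheaf.section_ext (modulesSpecToSheaf.obj (tilde M)).2
  intro x hx
  obtain ⟨V, hle, hxV, hs⟩ := h x hx
  exact ⟨V, hle, hxV, hs.trans (map_zero _).symm⟩

theorem smul_pow_cancel {U : (Spec (CommRingCat.of R)).Opens} {f : R}
    (hU : U ≤ PrimeSpectrum.basicOpen f) (n : ℕ) {s : sec M U} (h : f ^ n • s = 0) : s = 0 := by
  have hr : IsSMulRegular (sec M U) f :=
    Scheme.Modules.isSMulRegular_of_le_basicOpen (M := tilde M) hU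
  exact (hr.pow n) (h.trans (smul_zero (f ^ n)).symm)

theorem isLocalizedAway {S : CommRingCat.{u}} (N : ModuleCat.{u} S) (g : S) :
    IsLocalizedModule.Away g (tilde.toOpen N (PrimeSpectrum.basicOpen g)).hom := inferInstance

theorem isLocalized (g : R) : IsLocalizedModule (Submonoid.powers g)
    (tilde.toOpen M (PrimeSpectrum.basicOpen g)).hom :=
  isLocalizedAway (S := CommRingCat.of R) M g

theorem exists_frac (g : R) (s : sec M (PrimeSpectrum.basicOpen g)) :
    ∃ (k : ℕ) (m : M), g ^ k • s = (tilde.toOpen M (PrimeSpectrum.basicOpen g)).hom m := by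
  haveI := isLocalized M g
  obtain ⟨⟨m, ⟨_, k, rfl⟩⟩, hk⟩ := IsLocalizedModule.surj (.powers g)
    (tilde.toOpen M (PrimeSpectrum.basicOpen g)).hom s
  exact ⟨k, m, hk⟩

theorem toOpen_basicOpen_eq_zero {g : R} {m : M}
    (h : (tilde.toOpen M (PrimeSpectrum.basicOpen g)).hom m = 0) : ∃ k : ℕ, g ^ k • m = 0 := by
  haveI := isLocalized M g
  obtain ⟨⟨_, k, rfl⟩, hk⟩ := (IsLocalizedModule.eq_zero_iff (.powers g)
    (tilde.toOpen M (PrimeSpectrum.basicOpen g)).hom).1 h
  exact ⟨k, hk⟩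

variable [IsNoetherianRing R]

/-- A section vanishing on `W ∩ D(f)` is killed by a power of `f`. -/
theorem exists_pow_smul_eq_zero {W : (Spec (CommRingCat.of R)).Opens} (f : R) (s : sec M W)
    (h : res M (inf_le_left : W ⊓ PrimeSpectrum.basicOpen f ≤ W) s = 0) :
    ∃ n : ℕ, f ^ n • s = 0 := by
  classical
  have hc : IsCompact (X := PrimeSpectrum R) W.carrier :=
    TopologicalSpace.NoetherianSpace.isCompact (α := PrimeSpectrum R) _
  obtain ⟨t, ht⟩ := hc.elim_finite_subcover
    (fun g : {g : R // PrimeSpectrum.basicOpen g ≤ W} => (PrimeSpectrum.basicOpen g.1 : Set _))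
    (fun g => (PrimeSpectrum.basicOpen g.1).2) (fun x hx => by
      obtain ⟨_, ⟨_, ⟨g, rfl⟩, rfl⟩, hxg, hgW⟩ :=
        (PrimeSpectrum.isBasis_basic_opens (R := R)).exists_subset_of_mem_open hx W.2
      exact Set.mem_iUnion.2 ⟨⟨g, hgW⟩, hxg⟩)
  have key : ∀ g : {g : R // PrimeSpectrum.basicOpen g ≤ W},
      ∃ l : ℕ, f ^ l • res M g.2 s = 0 := by
    rintro ⟨g, hg⟩
    obtain ⟨k, m, hm⟩ := exists_frac M g (res M hg s)
    have hle : PrimeSpectrum.basicOpen (g * f) ≤ W ⊓ PrimeSpectrum.basicOpen f :=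
      le_inf ((PrimeSpectrum.basicOpen_mul_le_left g f).trans hg)
        (PrimeSpectrum.basicOpen_mul_le_right g f)
    have h0 : (tilde.toOpen M (PrimeSpectrum.basicOpen (g * f))).hom m = 0 := by
      rw [← res_toOpen M (PrimeSpectrum.basicOpen_mul_le_left g f), ← hm, map_smul, res_res,
        ← res_res M (inf_le_left : W ⊓ PrimeSpectrum.basicOpen f ≤ W) hle, h, map_zero, smul_zero]
    obtain ⟨l, hl⟩ := toOpen_basicOpen_eq_zero M h0
    refine ⟨l, smul_pow_cancel M le_rfl (l + k) ?_⟩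
    calc g ^ (l + k) • f ^ l • res M hg s
        = (g * f) ^ l • g ^ k • res M hg s := by rw [smul_smul, smul_smul]; ring_nf
      _ = (g * f) ^ l • (tilde.toOpen M (PrimeSpectrum.basicOpen g)).hom m := by rw [hm]
      _ = (tilde.toOpen M (PrimeSpectrum.basicOpen g)).hom ((g * f) ^ l • m) := (map_smul _ _ _).symm
      _ = 0 := by rw [hl, map_zero]
  choose L hL using key
  refine ⟨t.sup L, eq_zero_of_local M fun x hx => ?_⟩
  obtain ⟨g, hgt, hxg⟩ := Set.mem_iUnion₂.1 (ht hx)
  refine ⟨_, g.2, hxg, ?_⟩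
  rw [map_smul, ← Nat.sub_add_cancel (Finset.le_sup hgt : L g ≤ t.sup L), pow_add, mul_smul, hL,
    smul_zero]

omit [IsNoetherianRing R] in
theorem mem_puncturedOpen {a : Ideal R} {f : R} (hf : f ∈ a) :
    PrimeSpectrum.basicOpen f ≤ LocCoh.puncturedOpen R a := fun _ hx hv => hx (hv hf)

omit [IsNoetherianRing R] in
/-- No nonzero section off `V(a)` is killed by a power of `a`. -/
theorem eq_zero_of_pow_smul {a : Ideal R} {U : (Spec (CommRingCat.of R)).Opens}
    (hU : U ≤ LocCoh.puncturedOpen R a) {n : ℕ} {s : sec M U}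
    (h : ∀ r ∈ a ^ n, r • s = 0) : s = 0 := by
  refine eq_zero_of_local M fun x hx => ?_
  obtain ⟨f, hfa, hfx⟩ : ∃ f ∈ a, f ∉ x.asIdeal := by
    by_contra hcon
    push Not at hcon
    exact hU hx hcon
  refine ⟨U ⊓ PrimeSpectrum.basicOpen f, inf_le_left, ⟨hx, hfx⟩,
    smul_pow_cancel M inf_le_right n ?_⟩
  rw [← map_smul, h _ (Ideal.pow_mem_pow hfa n), map_zero]

theorem ker_res_eq {a : Ideal R} {W : (Spec (CommRingCat.of R)).Opens}
    (hUW : LocCoh.puncturedOpen R a ≤ W) :
    LinearMap.ker (res M hUW) = ⨆ n : ℕ, LocCoh.torsionBy (a ^ n) (sec M W) := by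
  apply le_antisymm
  · intro s hs
    let J : Ideal R := LinearMap.ker (LinearMap.toSpanSingleton R (sec M W) s)
    have hJ : a ≤ J.radical := by
      intro f hf
      obtain ⟨n, hn⟩ := exists_pow_smul_eq_zero M f s (by
        rw [← res_res M hUW ((inf_le_right :
          W ⊓ PrimeSpectrum.basicOpen f ≤ _).trans (mem_puncturedOpen hf))]
        rw [show res M hUW s = 0 from hs, map_zero])
      exact ⟨n, hn⟩
    obtain ⟨n, hn⟩ := Ideal.exists_pow_le_of_le_radical_of_fg hJ (IsNoetherian.noetherian a)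
    refine Submodule.mem_iSup_of_mem n ((Submodule.mem_torsionBySet_iff _ _).2 fun r => hn r.2)
  · refine iSup_le fun n s hs => ?_
    refine LinearMap.mem_ker.2 (eq_zero_of_pow_smul M le_rfl (n := n) fun r hr => ?_)
    rw [← map_smul, show r • s = 0 from (Submodule.mem_torsionBySet_iff _ _).1 hs ⟨r, hr⟩, map_zero]

/-- The cokernel of `M → Γ(U, M~)` is `a`-power torsion. -/
theorem exists_pow_smul_mem_range {a : Ideal R} (s : sec M (LocCoh.puncturedOpen R a)) :
    ∃ n : ℕ, ∀ r ∈ a ^ n,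
      r • s ∈ LinearMap.range (tilde.toOpen M (LocCoh.puncturedOpen R a)).hom := by
  let J : Ideal R := (LinearMap.range (tilde.toOpen M (LocCoh.puncturedOpen R a)).hom).comap
    (LinearMap.toSpanSingleton R (sec M (LocCoh.puncturedOpen R a)) s)
  have hJ : a ≤ J.radical := by
    intro f hf
    obtain ⟨k, m, hm⟩ := exists_frac M f (res M (mem_puncturedOpen hf) s)
    obtain ⟨l, hl⟩ := exists_pow_smul_eq_zero M f
      (f ^ k • s - (tilde.toOpen M (LocCoh.puncturedOpen R a)).hom m) (by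
        rw [← res_res M (mem_puncturedOpen hf) inf_le_right, map_sub (res M (mem_puncturedOpen hf)),
          map_smul, res_toOpen, hm, sub_self, map_zero])
    refine ⟨l + k, ?_⟩
    change f ^ (l + k) • s ∈ LinearMap.range (tilde.toOpen M (LocCoh.puncturedOpen R a)).hom
    rw [smul_sub, sub_eq_zero, ← mul_smul, ← pow_add] at hl
    exact ⟨f ^ l • m, (map_smul _ _ _).trans hl.symm⟩
  obtain ⟨n, hn⟩ := Ideal.exists_pow_le_of_le_radical_of_fg hJ (IsNoetherian.noetherian a)
  exact ⟨n, fun r hr => hn hr⟩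

theorem ker_toOpen_eq (a : Ideal R) :
    LinearMap.ker (tilde.toOpen M (LocCoh.puncturedOpen R a)).hom =
      ⨆ n : ℕ, LocCoh.torsionBy (a ^ n) M := by
  apply le_antisymm
  · intro m hm
    let J : Ideal R := LinearMap.ker (LinearMap.toSpanSingleton R M m)
    have hJ : a ≤ J.radical := by
      intro f hf
      obtain ⟨n, hn⟩ := toOpen_basicOpen_eq_zero M (g := f) (m := m) (by
        rw [← res_toOpen M (mem_puncturedOpen hf), show (tilde.toOpen M _).hom m = 0 from hm,
          map_zero])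
      exact ⟨n, hn⟩
    obtain ⟨n, hn⟩ := Ideal.exists_pow_le_of_le_radical_of_fg hJ (IsNoetherian.noetherian a)
    exact Submodule.mem_iSup_of_mem n ((Submodule.mem_torsionBySet_iff _ _).2 fun r => hn r.2)
  · refine iSup_le fun n m hm => ?_
    refine LinearMap.mem_ker.2 (eq_zero_of_pow_smul M le_rfl (n := n) fun r hr => ?_)
    rw [← map_smul, show r • m = 0 from (Submodule.mem_torsionBySet_iff _ _).1 hm ⟨r, hr⟩, map_zero]

theorem iSup_torsionBy_sec_eq_bot (a : Ideal R) :
    ⨆ n : ℕ, LocCoh.torsionBy (a ^ n) (sec M (LocCoh.puncturedOpen R a)) = ⊥ :=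
  eq_bot_iff.2 (iSup_le fun n s hs => eq_zero_of_pow_smul M le_rfl (n := n) fun r hr =>
    (Submodule.mem_torsionBySet_iff _ _).1 hs ⟨r, hr⟩)

theorem isPowerTorsion_coker_toOpen (a : Ideal R) :
    LocCoh.IsPowerTorsion a (sec M (LocCoh.puncturedOpen R a) ⧸
      LinearMap.range (tilde.toOpen M (LocCoh.puncturedOpen R a)).hom) := by
  intro q
  obtain ⟨s, rfl⟩ := Submodule.Quotient.mk_surjective _ q
  obtain ⟨n, hn⟩ := exists_pow_smul_mem_range M s
  exact ⟨n, fun r hr => by
    rw [← Submodule.Quotient.mk_smul]; exact (Submodule.Quotient.mk_eq_zero _).2 (hn r hr)⟩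

theorem isPowerTorsion_coker_res {a : Ideal R} {W : (Spec (CommRingCat.of R)).Opens}
    (hUW : LocCoh.puncturedOpen R a ≤ W) :
    LocCoh.IsPowerTorsion a (sec M (LocCoh.puncturedOpen R a) ⧸ LinearMap.range (res M hUW)) := by
  intro q
  obtain ⟨s, rfl⟩ := Submodule.Quotient.mk_surjective _ q
  obtain ⟨n, hn⟩ := exists_pow_smul_mem_range M s
  refine ⟨n, fun r hr => ?_⟩
  rw [← Submodule.Quotient.mk_smul]
  refine (Submodule.Quotient.mk_eq_zero _).2 ?_
  obtain ⟨m, hm⟩ := hn r hr
  exact ⟨(tilde.toOpen M W).hom m, (res_toOpen M hUW m).trans hm⟩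

end Groth.LocCohTransform.TildeSec
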