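import Groth.Agent.LocCohTransform.Basic

set_option autoImplicit false
universe u
open CategoryTheory CategoryTheory.Limits Opposite

namespace Groth.LocCohTransform

variable {R : Type u} [CommRing R] [IsNoetherianRing R] (I : Ideal R)
  {M N : Type u} [AddCommGroup M] [Module R M] [AddCommGroup N] [Module R N]

omit [IsNoetherianRing R] in
/-- A map defined on a free cover of an ideal descends to a map on a smaller ideal of the form
`I ^ s * J`, as soon as it is torsion on the relations. -/
lemma exists_descend [IsNoetherianRing R] (J : Ideal R) {F : Type u} [AddCommGroup F] [Module R F]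
    [Module.Finite R F] (p : F →ₗ[R] R) (hp : LinearMap.range p = J) (G : F →ₗ[R] M)
    (hG : ∀ z ∈ LinearMap.ker p, G z ∈ DRing.torsionSub I M) :
    ∃ (s : ℕ) (g : (I ^ s * J : Ideal R) →ₗ[R] M),
      ∀ (x : F) (_ : x ∈ I ^ s • (⊤ : Submodule R F)) (h : p x ∈ I ^ s * J),
        g ⟨p x, h⟩ = G x := by
  obtain ⟨k, hk⟩ := exists_uniform_killing I ((LinearMap.ker p).map G)
    (Submodule.FG.map _ (IsNoetherian.noetherian _)) (by rintro x ⟨z, hz, rfl⟩; exact hG z hz)
  obtain ⟨c, hc⟩ := Ideal.exists_pow_inf_eq_pow_smul I (LinearMap.ker p)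
  set S : Submodule R F := I ^ (k + c) • ⊤
  have hvan : ∀ x ∈ S, p x = 0 → G x = 0 := by
    intro x hx hpx
    have hx' : x ∈ I ^ k • (I ^ c • (⊤ : Submodule R F) ⊓ LinearMap.ker p) := by
      have := hc (k + c) (Nat.le_add_left c k)
      rw [Nat.add_sub_cancel] at this
      rw [← this]
      exact ⟨hx, hpx⟩
    clear hx hpx
    induction hx' using Submodule.smul_induction_on' with
    | smul a ha b hb => rw [map_smul]; exact hk a ha _ ⟨b, hb.2, rfl⟩
    | add x _ y _ ihx ihy => rw [map_add, ihx, ihy, add_zero]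
  have hmap : S.map p = I ^ (k + c) * J := by
    simp only [S, Submodule.map_smul'', Submodule.map_top, hp, smul_eq_mul]
  let q : S →ₗ[R] (I ^ (k + c) * J : Ideal R) :=
    (p.domRestrict S).codRestrict _ fun x => hmap ▸ Submodule.mem_map_of_mem x.2
  have hq : Function.Surjective q := by
    rintro ⟨y, hy⟩
    rw [← hmap] at hy
    obtain ⟨x, hx, rfl⟩ := hy
    exact ⟨⟨x, hx⟩, rfl⟩
  have hker : LinearMap.ker q ≤ LinearMap.ker (G.domRestrict S) := by
    intro x hx
    exact hvan x x.2 (congrArg Subtype.val hx)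
  refine ⟨k + c, (LinearMap.ker q).liftQ (G.domRestrict S) hker ∘ₗ
    (q.quotKerEquivOfSurjective hq).symm.toLinearMap, fun x hx h => ?_⟩
  have : (⟨p x, h⟩ : (I ^ (k + c) * J : Ideal R)) = q ⟨x, hx⟩ := rfl
  rw [this]
  simp only [LinearMap.comp_apply, LinearEquiv.coe_coe]
  rw [show (q.quotKerEquivOfSurjective hq).symm (q ⟨x, hx⟩) = Submodule.Quotient.mk ⟨x, hx⟩ from
    (LinearEquiv.symm_apply_eq _).2 rfl]
  rfl

lemma map_injective (e : M →ₗ[R] N) (hker : LinearMap.ker e ≤ DRing.torsionSub I M) :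
    Function.Injective ((LocCoh.idealTransform I).map (ModuleCat.ofHom e)).hom := by
  refine (injective_iff_map_eq_zero _).2 fun x hx => ?_
  obtain ⟨n, f, rfl⟩ := cls_surjective I x
  rw [map_cls, cls_eq_zero_iff] at hx
  obtain ⟨m, hm, hx⟩ := hx
  rw [← cls_restrict I hm]
  refine cls_eq_zero_of_range_le I _ fun r => hker ?_
  exact LinearMap.congr_fun hx r

lemma map_surjective (e : M →ₗ[R] N) (hker : LinearMap.ker e ≤ DRing.torsionSub I M)
    (hcoker : LocCoh.IsPowerTorsion I (N ⧸ LinearMap.range e)) :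
    Function.Surjective ((LocCoh.idealTransform I).map (ModuleCat.ofHom e)).hom := by
  intro x
  obtain ⟨n, f, rfl⟩ := cls_surjective I x
  -- move the image into the range of `e`
  obtain ⟨k, hk⟩ := exists_uniform_killing I (LinearMap.range ((LinearMap.range e).mkQ ∘ₗ f))
    (Module.Finite.iff_fg.1 inferInstance) (fun y _ => hcoker y)
  obtain ⟨m, hm, hfm⟩ := exists_restrict_eq_zero I ((LinearMap.range e).mkQ ∘ₗ f)
    fun a ha r => hk a ha _ ⟨r, rfl⟩
  have hrange : ∀ r : (I ^ m : Ideal R), f (Submodule.inclusion (pow_le I hm) r) ∈ LinearMap.range e :=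
    fun r => (Submodule.Quotient.mk_eq_zero _).1 (LinearMap.congr_fun hfm r)
  -- lift along a free cover
  obtain ⟨l, p, hp⟩ := Module.Finite.exists_fin' R (I ^ m : Ideal R)
  choose v hv using fun i : Fin l => hrange (p (Pi.single i 1))
  let G : (Fin l → R) →ₗ[R] M := (Pi.basisFun R (Fin l)).constr R v
  have hG : e ∘ₗ G = f ∘ₗ Submodule.inclusion (pow_le I hm) ∘ₗ p := by
    refine (Pi.basisFun R (Fin l)).ext fun i => ?_
    simp [G, Pi.basisFun_apply, hv i]
  obtain ⟨s, g, hg⟩ := exists_descend I (I ^ m : Ideal R) (M := M)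
    ((I ^ m : Ideal R).subtype ∘ₗ p) (by rw [LinearMap.range_comp, LinearMap.range_eq_top.2 hp]; simp) G
    (fun z hz => hker (by
      have hz' : p z = 0 := Subtype.ext hz
      rw [LinearMap.mem_ker, ← LinearMap.comp_apply, hG]
      simp [hz']))
  have hle : I ^ (s + m) ≤ I ^ s * I ^ m := (pow_add I s m).le
  refine ⟨cls I (s + m) (g ∘ₗ Submodule.inclusion hle), ?_⟩
  rw [map_cls, ← cls_restrict I (hm.trans (Nat.le_add_left m s)) f]
  congr 1
  refine LinearMap.ext fun r => ?_
  obtain ⟨r, hr⟩ := r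
  have hr' : r ∈ Submodule.map ((I ^ m : Ideal R).subtype ∘ₗ p) (I ^ s • (⊤ : Submodule R (Fin l → R))) := by
    rw [Submodule.map_smul'', Submodule.map_top, LinearMap.range_comp, LinearMap.range_eq_top.2 hp]
    simpa [← pow_add] using hr
  obtain ⟨x, hx, rfl⟩ := hr'
  simp only [LinearMap.comp_apply]
  erw [hg x hx]
  exact LinearMap.congr_fun hG x

lemma map_bijective (e : M →ₗ[R] N) (hker : LinearMap.ker e ≤ DRing.torsionSub I M)
    (hcoker : LocCoh.IsPowerTorsion I (N ⧸ LinearMap.range e)) :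
    Function.Bijective ((LocCoh.idealTransform I).map (ModuleCat.ofHom e)).hom :=
  ⟨map_injective I e hker, map_surjective I e hker hcoker⟩

omit [IsNoetherianRing R] in
/-- Maps into a torsion-free module are determined on the image of a map with torsion cokernel. -/
lemma ext_of_coker_torsion {L : Type u} [AddCommGroup L] [Module R L]
    (hL : DRing.torsionSub I L = ⊥) (e : M →ₗ[R] N)
    (hcoker : LocCoh.IsPowerTorsion I (N ⧸ LinearMap.range e)) {a b : N →ₗ[R] L}
    (h : a ∘ₗ e = b ∘ₗ e) : a = b := by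
  refine LinearMap.ext fun y => ?_
  obtain ⟨n, hn⟩ := hcoker (Submodule.Quotient.mk y)
  have : a y - b y ∈ DRing.torsionSub I L := ⟨n, fun r hr => by
    obtain ⟨x, hx⟩ := (Submodule.Quotient.mk_eq_zero _).1
      (by rw [Submodule.Quotient.mk_smul]; exact hn r hr : Submodule.Quotient.mk (r • y) = (0 : N ⧸ LinearMap.range e))
    rw [smul_sub, ← map_smul, ← map_smul, ← hx, sub_eq_zero]
    exact LinearMap.congr_fun h x⟩
  rw [hL, Submodule.mem_bot, sub_eq_zero] at this
  exact this

lemma existsUnique_factor (K : Type u) [AddCommGroup K] [Module R K] (e : M →ₗ[R] N)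
    (hker : LinearMap.ker e ≤ DRing.torsionSub I M)
    (hcoker : LocCoh.IsPowerTorsion I (N ⧸ LinearMap.range e)) (ψ : M →ₗ[R] K) :
    ∃! ψ' : N →ₗ[R] LocCoh.DT I K, ψ' ∘ₗ e = LocCoh.toDT I K ∘ₗ ψ := by
  let E := LinearEquiv.ofBijective ((LocCoh.idealTransform I).map (ModuleCat.ofHom e)).hom
    (map_bijective I e hker hcoker)
  refine ⟨((LocCoh.idealTransform I).map (ModuleCat.ofHom ψ)).hom ∘ₗ E.symm.toLinearMap ∘ₗ
    LocCoh.toDT I N, ?_, fun ψ'' h => ?_⟩
  · refine LinearMap.ext fun x => ?_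
    have : E.symm (LocCoh.toDT I N (e x)) = LocCoh.toDT I M x :=
      E.symm_apply_eq.2 (map_toDT I e x).symm
    simp only [LinearMap.comp_apply, LinearEquiv.coe_coe, this, map_toDT]
  · refine ext_of_coker_torsion I (torsionSub_DT I) e hcoker ?_
    rw [h]
    refine LinearMap.ext fun x => ?_
    have : E.symm (LocCoh.toDT I N (e x)) = LocCoh.toDT I M x :=
      E.symm_apply_eq.2 (map_toDT I e x).symm
    simp only [LinearMap.comp_apply, LinearEquiv.coe_coe, this, map_toDT]

lemma map_toDT_bijective :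
    Function.Bijective ((LocCoh.idealTransform I).map (ModuleCat.ofHom (LocCoh.toDT I M))).hom :=
  map_bijective I _ (ker_toDT I).le (isPowerTorsion_coker_toDT I)

lemma toDT_DT_bijective : Function.Bijective (LocCoh.toDT I (LocCoh.DT I M)) := by
  constructor
  · rw [← LinearMap.ker_eq_bot, ker_toDT, torsionSub_DT]
  · have h : ((LocCoh.idealTransform I).map (ModuleCat.ofHom (LocCoh.toDT I M))).hom =
        LocCoh.toDT I (LocCoh.DT I M) :=
      ext_of_coker_torsion I (torsionSub_DT I) _ (isPowerTorsion_coker_toDT I)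
        (LinearMap.ext fun x => map_toDT I _ x)
    rw [← h]
    exact (map_toDT_bijective I).2

end Groth.LocCohTransform
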