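import Groth.Agent.LocCohTransform.AdjDepth

/-!
The finiteness dimension relative to a second ideal: torsion invariance.
-/

set_option autoImplicit false
universe u

open CategoryTheory CategoryTheory.Limits IsLocalRing Groth.LocCohBase

namespace Groth.LocCohTransform

variable {R : Type u} [CommRing R]

lemma mem_radical_annihilator_iff {M : Type u} [AddCommGroup M] [Module R M] {r : R} :
    r ∈ (Module.annihilator R M).radical ↔ ∃ k : ℕ, ∀ m : M, r ^ k • m = 0 :=
  exists_congr fun _ => Module.mem_annihilator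

lemma exists_uniform_torsion [IsNoetherianRing R] (c : Ideal R) (M : Type u) [AddCommGroup M]
    [Module R M] [Module.Finite R M] :
    ∃ K : ℕ, ∀ x ∈ (⨆ n : ℕ, LocCoh.torsionBy (c ^ n) M), ∀ a ∈ c ^ K, a • x = 0 := by
  let f : ℕ →o Submodule R M :=
    ⟨fun n => LocCoh.torsionBy (c ^ n) M, fun n m h =>
      Submodule.torsionBySet_le_torsionBySet_of_subset (Ideal.pow_le_pow_right h)⟩
  obtain ⟨K, hK⟩ := monotone_stabilizes_iff_noetherian.2 (inferInstance : IsNoetherian R M) f
  refine ⟨K, fun x hx a ha => ?_⟩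
  have hle : (⨆ n : ℕ, LocCoh.torsionBy (c ^ n) M) ≤ f K := iSup_le fun n =>
    (f.monotone (le_max_left n K)).trans (hK _ (le_max_right n K)).ge
  exact (Submodule.mem_torsionBySet_iff (c ^ K : Ideal R) x).1 (hle hx) ⟨a, ha⟩

lemma le_radical_annihilator_torsion [IsNoetherianRing R] (c : Ideal R) (M : Type u)
    [AddCommGroup M] [Module R M] [Module.Finite R M] :
    c ≤ (Module.annihilator R ↥(⨆ n : ℕ, LocCoh.torsionBy (c ^ n) M)).radical := fun r hr => by
  obtain ⟨K, hK⟩ := exists_uniform_torsion c M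
  exact mem_radical_annihilator_iff.2
    ⟨K, fun x => Subtype.ext (hK x.1 x.2 _ (Ideal.pow_mem_pow hr K))⟩

lemma radical_annihilator_of_exact {A B C : Type u} [AddCommGroup A] [Module R A] [AddCommGroup B]
    [Module R B] [AddCommGroup C] [Module R C] {f : A →ₗ[R] B} {g : B →ₗ[R] C}
    (h : Function.Exact f g) {r : R} (hA : r ∈ (Module.annihilator R A).radical)
    (hC : r ∈ (Module.annihilator R C).radical) : r ∈ (Module.annihilator R B).radical := by
  rw [mem_radical_annihilator_iff] at hA hC ⊢
  obtain ⟨k, hk⟩ := hA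
  obtain ⟨l, hl⟩ := hC
  refine ⟨k + l, fun x => ?_⟩
  obtain ⟨y, hy⟩ := (h (r ^ l • x)).1 (by rw [map_smul, hl])
  rw [pow_add, mul_smul, ← hy, ← map_smul, hk, map_zero]

lemma radical_annihilator_H_le (a : Ideal R) (i : ℕ) (M : Type u) [AddCommGroup M] [Module R M] :
    (Module.annihilator R M).radical ≤ (Module.annihilator R (LocCoh.H a i M)).radical :=
  Ideal.radical_mono fun _ hr => Module.mem_annihilator.2 fun x =>
    smul_H_eq_zero_of_annihilates a i M (Module.mem_annihilator.1 hr) x

/-- Quotienting by a submodule killed by a power of `b` does not change whether powers of `b`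
annihilate local cohomology. -/
theorem le_radical_annihilator_H_quotient_iff (a b : Ideal R) (M : Type u) [AddCommGroup M]
    [Module R M] (N : Submodule R M) (hN : b ≤ (Module.annihilator R N).radical) (i : ℕ) :
    b ≤ (Module.annihilator R (LocCoh.H a i M)).radical ↔
      b ≤ (Module.annihilator R (LocCoh.H a i (M ⧸ N))).radical := by
  have hS := subSeq_shortExact N
  constructor
  · intro h r hr
    exact radical_annihilator_of_exact (exact₃ (I := a) hS i) (h hr)
      (radical_annihilator_H_le a (i + 1) N (hN hr))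
  · intro h r hr
    exact radical_annihilator_of_exact (exact₂ (I := a) hS i)
      (radical_annihilator_H_le a i N (hN hr)) (h hr)

theorem finDimRel_quotient_eq (a b : Ideal R) (M : Type u) [AddCommGroup M] [Module R M]
    (N : Submodule R M) (hN : b ≤ (Module.annihilator R N).radical) :
    LocCoh.finDimRel a b M = LocCoh.finDimRel a b (M ⧸ N) := by
  exact iInf_congr fun i =>
    iInf_congr_Prop (not_congr (le_radical_annihilator_H_quotient_iff a b M N hN i)) fun _ => rfl

theorem le_radical_annihilator_torsion_of_finDimRel_pos [IsNoetherianRing R] (a b : Ideal R)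
    (M : Type u) [AddCommGroup M] [Module R M] [Module.Finite R M]
    (h : 0 < LocCoh.finDimRel a b M) :
    b ≤ (Module.annihilator R ↥(⨆ n : ℕ, LocCoh.torsionBy (a ^ n) M)).radical := by
  intro r hr
  have h0 : b ≤ (Module.annihilator R (LocCoh.H a 0 M)).radical := by
    by_contra hb
    exact absurd h (not_lt.2 ((iInf₂_le 0 hb).trans (le_of_eq Nat.cast_zero)))
  obtain ⟨k, hk⟩ := mem_radical_annihilator_iff.1 (h0 hr)
  obtain ⟨K, hK⟩ := exists_uniform_torsion a M
  refine mem_radical_annihilator_iff.2 ⟨k, fun x => Subtype.ext ?_⟩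
  obtain ⟨y, hy⟩ : ∃ y, (h0Equiv a M y).1 = x.1 :=
    ⟨(h0Equiv a M).symm ⟨x.1, ⟨K, hK x.1 x.2⟩⟩, by rw [LinearEquiv.apply_symm_apply]⟩
  show r ^ k • x.1 = 0
  rw [← hy, ← Submodule.coe_smul, ← map_smul, hk y, map_zero, Submodule.coe_zero]

theorem subsingleton_localized_of_le_radical (N : Type u) [AddCommGroup N] [Module R N]
    {b : Ideal R} (hN : b ≤ (Module.annihilator R N).radical) (p : PrimeSpectrum R)
    (hp : ¬ b ≤ p.asIdeal) : Subsingleton (LocalizedModule p.asIdeal.primeCompl N) := by
  obtain ⟨r, hr, hrp⟩ := SetLike.not_le_iff_exists.1 hp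
  obtain ⟨k, hk⟩ := mem_radical_annihilator_iff.1 (hN hr)
  exact LocalizedModule.subsingleton_iff.2 fun m =>
    ⟨r ^ k, fun h => hrp (p.isPrime.mem_of_pow_mem k h), hk m⟩

theorem relCodim_eq_zero_of_le (a : Ideal R) (p : PrimeSpectrum R) (h : a ≤ p.asIdeal) :
    SGA2.relCodim a p = 0 := by
  refine nonpos_iff_eq_zero.1 ((iInf_le _ ⟨p, le_rfl, h⟩).trans ?_)
  rw [nonpos_iff_eq_zero, Order.height_eq_zero]
  intro x _
  exact x.2

theorem subsingleton_localized_torsion_of_minAdjDepth_pos [IsNoetherianRing R] (a b : Ideal R)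
    (M : Type u) [AddCommGroup M] [Module R M] [Module.Finite R M]
    (h : 0 < LocCoh.minAdjDepth a b M) (p : PrimeSpectrum R) (hp : ¬ b ≤ p.asIdeal) :
    Subsingleton (LocalizedModule p.asIdeal.primeCompl ↥(⨆ n : ℕ, LocCoh.torsionBy (a ^ n) M)) := by
  by_contra hnt
  set N : Submodule R M := ⨆ n : ℕ, LocCoh.torsionBy (a ^ n) M
  have hsupp : p ∈ Module.support R N := Module.mem_support_iff.2 (not_subsingleton_iff_nontrivial.1 hnt)
  have hann := Module.mem_support_iff_of_finite.1 hsupp
  obtain ⟨q, hqmin, hqp⟩ := Ideal.exists_minimalPrimes_le hann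
  have hq : q ∈ associatedPrimes R N :=
    Module.associatedPrimes.minimalPrimes_annihilator_subset_associatedPrimes R N hqmin
  have hqM : q ∈ associatedPrimes R M :=
    associatedPrimes.subset_of_injective N.subtype_injective hq
  have := hq.isPrime
  have haq : a ≤ q := fun r hr => by
    have := (Ideal.radical_mono hqmin.1.2 (le_radical_annihilator_torsion a M hr))
    rwa [Ideal.IsPrime.radical ‹q.IsPrime›] at this
  have hbq : ¬ b ≤ q := fun h => hp (h.trans hqp)
  have h0 : LocCoh.depth (Localization.AtPrime q) (LocalizedModule q.primeCompl M) = 0 :=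
    Order.lt_one_iff.1 (not_le.1 fun h => (one_le_depth_localized_iff q M).1 h hqM)
  have h1 : LocCoh.minAdjDepth a b M ≤ LocCoh.adjDepth a M ⟨q, hq.isPrime⟩ :=
    iInf₂_le (⟨q, hq.isPrime⟩ : PrimeSpectrum R) hbq
  rw [adjDepth_eq, relCodim_eq_zero_of_le a _ haq, h0, add_zero] at h1
  exact absurd h (not_lt.2 h1)

end Groth.LocCohTransform
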