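import Groth.Agent.LocCohTransform.ExtCechCompare
import Groth.Agent.LocCohTransform.RgammaTorsion
import Mathlib.Algebra.Homology.DerivedCategory.Linear

/-!
The triangle of one step of the extended Čech complex, and `RΓ_J(M) = extCech`.
-/

set_option autoImplicit false
set_option linter.style.haveILetI false
set_option linter.unusedSectionVars false

universe u

open CategoryTheory CategoryTheory.Limits CategoryTheory.Pretriangulated HomologicalComplex

attribute [local instance] HasDerivedCategory.standard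

namespace Groth.LocCohTransform.CechTriangle

variable {A : Type u} [CommRing A]

theorem single0_pow_smul_eq_zero {M : ModuleCat.{u} A} {g : A} (h : ∀ m : M, ∃ k : ℕ, g ^ k • m = 0)
    (n : ℤ) (x : ((single0 M)).homology n) : ∃ k : ℕ, g ^ k • x = 0 := by
  by_cases hn : n = 0
  · subst hn
    let e := (singleObjHomologySelfIso (ComplexShape.up ℤ) 0 M).toLinearEquiv
    obtain ⟨k, hk⟩ := h (e x)
    exact ⟨k, e.injective (by rw [map_smul, hk, map_zero])⟩
  · exact ⟨0, @Subsingleton.elim _ (ModuleCat.subsingleton_of_isZero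
      (isZero_single_obj_homology (ComplexShape.up ℤ) 0 M n hn)) _ _⟩

theorem extCech_torsion {M : ModuleCat.{u} A} {g : A} (h : ∀ m : M, ∃ k : ℕ, g ^ k • m = 0) :
    ∀ (fs : List A) (n : ℤ) (x : (DerCA.extCech M fs).homology n), ∃ k : ℕ, g ^ k • x = 0
  | [], n, x => single0_pow_smul_eq_zero h n x
  | f :: fs, n, x => cone_pow_smul_eq_zero' f g (extCech_torsion h fs) n x

variable (f : A) (M : ModuleCat.{u} A)

/-- `M → M_f`. -/
noncomputable abbrev lf : M ⟶ (DerCA.locFunctor (Submonoid.powers f)).obj M :=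
  (DerCA.locUnit (Submonoid.powers f)).app M

theorem smul_bijective_locF :
    Function.Bijective fun x : (DerCA.locFunctor (Submonoid.powers f)).obj M => f • x :=
  (Module.End.isUnit_iff _).1 (IsLocalizedModule.map_units (S := Submonoid.powers f)
    (LocalizedModule.mkLinearMap (Submonoid.powers f) M) ⟨f, Submonoid.mem_powers f⟩)

/-- An element bijective on the module is bijective on its Čech cohomology. -/
theorem smul_bijective_extCech {N : ModuleCat.{u} A} {r : A} (h : Function.Bijective fun x : N => r • x)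
    (fs : List A) (n : ℤ) : Function.Bijective fun x : (DerCA.extCech N fs).homology n => r • x := by
  let e : N ≅ N := (LinearEquiv.ofBijective (LinearMap.lsmul A N r) h).toModuleIso
  have he : e.hom = r • 𝟙 N := by ext m; rfl
  let E : (DerCA.extCech N fs).homology n ≅ (DerCA.extCech N fs).homology n :=
    { hom := homologyMap (cechMap fs e.hom) n
      inv := homologyMap (cechMap fs e.inv) n
      hom_inv_id := by rw [← homologyMap_comp, ← cechMap_comp, e.hom_inv_id, cechMap_id, homologyMap_id]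
      inv_hom_id := by rw [← homologyMap_comp, ← cechMap_comp, e.inv_hom_id, cechMap_id, homologyMap_id] }
  have hE : (fun x : (DerCA.extCech N fs).homology n => r • x) = E.toLinearEquiv := by
    funext x
    show r • x = (homologyMap (cechMap fs e.hom) n).hom x
    rw [he, cechMap_smul, homologyMap_smul_id]
    rfl
  rw [hE]
  exact E.toLinearEquiv.bijective

theorem extCech_loc_ker_torsion {T : ShortComplex (ModuleCat.{u} A)} (hT : T.ShortExact)
    (h₁ : ∀ m : T.X₁, ∃ k : ℕ, f ^ k • m = 0) (fs : List A) (n : ℤ) (x : (DerCA.extCech T.X₂ fs).homology n)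
    (hx : (homologyMap (cechMap fs T.g) n).hom x = 0) : ∃ k : ℕ, f ^ k • x = 0 := by
  have hex := (cechSeq_shortExact hT fs).homology_exact₂ n
  rw [ShortComplex.ShortExact.moduleCat_exact_iff_function_exact] at hex
  obtain ⟨y, rfl⟩ := (hex x).1 hx
  obtain ⟨k, hk⟩ := extCech_torsion h₁ fs n y
  exact ⟨k, (map_smul _ _ _).symm.trans ((congrArg _ hk).trans (map_zero _))⟩

theorem extCech_loc_image {T : ShortComplex (ModuleCat.{u} A)} (hT : T.ShortExact)
    (h₃ : ∀ m : T.X₃, ∃ k : ℕ, f ^ k • m = 0) (fs : List A) (n : ℤ) (y : (DerCA.extCech T.X₂ fs).homology n) :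
    ∃ (k : ℕ) (x : (DerCA.extCech T.X₁ fs).homology n), (homologyMap (cechMap fs T.f) n).hom x = f ^ k • y := by
  obtain ⟨k, hk⟩ := extCech_torsion h₃ fs n ((homologyMap (cechMap fs T.g) n).hom y)
  have hex := (cechSeq_shortExact hT fs).homology_exact₂ n
  rw [ShortComplex.ShortExact.moduleCat_exact_iff_function_exact] at hex
  obtain ⟨x, hx⟩ := (hex (f ^ k • y)).1 ((map_smul _ _ _).trans hk)
  exact ⟨k, x, hx⟩

theorem cechMap_lf_ker (fs : List A) (n : ℤ) (x : (DerCA.extCech M fs).homology n)
    (hx : (homologyMap (cechMap fs (lf f M)) n).hom x = 0) : ∃ k : ℕ, f ^ k • x = 0 := by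
  let l : M →ₗ[A] (DerCA.locFunctor (Submonoid.powers f)).obj M := LocalizedModule.mkLinearMap _ M
  have : IsLocalizedModule (Submonoid.powers f) l := localizedModuleIsLocalizedModule (M := M) _
  -- factor through the image
  let T₁ := ShortComplex.mk (ModuleCat.ofHom (LinearMap.ker l).subtype) (ModuleCat.ofHom l.rangeRestrict)
    (by ext x; exact x.2)
  have hT₁ : T₁.ShortExact :=
    { exact := (ShortComplex.moduleCat_exact_iff _).2 fun x hx => ⟨⟨x, congrArg Subtype.val hx⟩, rfl⟩
      mono_f := (ModuleCat.mono_iff_injective _).2 Subtype.val_injective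
      epi_g := (ModuleCat.epi_iff_surjective _).2 l.surjective_rangeRestrict }
  let T₂ := ShortComplex.mk (ModuleCat.ofHom (LinearMap.range l).subtype) (ModuleCat.ofHom (LinearMap.range l).mkQ)
    (by ext x; exact (Submodule.Quotient.mk_eq_zero _).2 x.2)
  have hT₂ : T₂.ShortExact :=
    { exact := (ShortComplex.moduleCat_exact_iff _).2 fun x hx => ⟨⟨x, (Submodule.Quotient.mk_eq_zero _).1 hx⟩, rfl⟩
      mono_f := (ModuleCat.mono_iff_injective _).2 Subtype.val_injective
      epi_g := (ModuleCat.epi_iff_surjective _).2 (Submodule.mkQ_surjective _) }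
  have hfac : lf f M = T₁.g ≫ T₂.f := rfl
  rw [hfac, cechMap_comp, homologyMap_comp] at hx
  obtain ⟨w, hw⟩ := (cechδ_exact₁ hT₂ fs (n - 1) n (by omega) ((homologyMap (cechMap fs T₁.g) n).hom x)).1 hx
  obtain ⟨k, hk⟩ := extCech_torsion (M := T₂.X₃) (g := f) (fun q => by
    obtain ⟨y, rfl⟩ := Submodule.Quotient.mk_surjective _ q
    obtain ⟨⟨m, ⟨_, k, rfl⟩⟩, hy⟩ := IsLocalizedModule.surj (Submonoid.powers f) l y
    exact ⟨k, (Submodule.Quotient.mk_smul _ _ _).symm.trans ((Submodule.Quotient.mk_eq_zero _).2 ⟨m, hy.symm⟩)⟩)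
    fs (n - 1) w
  obtain ⟨k', hk'⟩ := extCech_loc_ker_torsion f hT₁ (fun m => by
    obtain ⟨⟨_, k, rfl⟩, hk⟩ := (IsLocalizedModule.eq_zero_iff (Submonoid.powers f) l).1 m.2
    exact ⟨k, Subtype.ext hk⟩) fs n (f ^ k • x) (by rw [map_smul, ← hw, ← map_smul, hk, map_zero])
  exact ⟨k' + k, by rw [pow_add, mul_smul]; exact hk'⟩

theorem cechMap_lf_image (fs : List A) (n : ℤ)
    (y : (DerCA.extCech ((DerCA.locFunctor (Submonoid.powers f)).obj M) fs).homology n) :
    ∃ (k : ℕ) (x : (DerCA.extCech M fs).homology n),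
      (homologyMap (cechMap fs (lf f M)) n).hom x = f ^ k • y := by
  let l : M →ₗ[A] (DerCA.locFunctor (Submonoid.powers f)).obj M := LocalizedModule.mkLinearMap _ M
  have : IsLocalizedModule (Submonoid.powers f) l := localizedModuleIsLocalizedModule (M := M) _
  let T₁ := ShortComplex.mk (ModuleCat.ofHom (LinearMap.ker l).subtype) (ModuleCat.ofHom l.rangeRestrict)
    (by ext x; exact x.2)
  have hT₁ : T₁.ShortExact :=
    { exact := (ShortComplex.moduleCat_exact_iff _).2 fun x hx => ⟨⟨x, congrArg Subtype.val hx⟩, rfl⟩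
      mono_f := (ModuleCat.mono_iff_injective _).2 Subtype.val_injective
      epi_g := (ModuleCat.epi_iff_surjective _).2 l.surjective_rangeRestrict }
  let T₂ := ShortComplex.mk (ModuleCat.ofHom (LinearMap.range l).subtype) (ModuleCat.ofHom (LinearMap.range l).mkQ)
    (by ext x; exact (Submodule.Quotient.mk_eq_zero _).2 x.2)
  have hT₂ : T₂.ShortExact :=
    { exact := (ShortComplex.moduleCat_exact_iff _).2 fun x hx => ⟨⟨x, (Submodule.Quotient.mk_eq_zero _).1 hx⟩, rfl⟩
      mono_f := (ModuleCat.mono_iff_injective _).2 Subtype.val_injective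
      epi_g := (ModuleCat.epi_iff_surjective _).2 (Submodule.mkQ_surjective _) }
  obtain ⟨k, z, hz⟩ := extCech_loc_image f hT₂ (fun q => by
    obtain ⟨y, rfl⟩ := Submodule.Quotient.mk_surjective _ q
    obtain ⟨⟨m, ⟨_, k, rfl⟩⟩, hy⟩ := IsLocalizedModule.surj (Submonoid.powers f) l y
    exact ⟨k, (Submodule.Quotient.mk_smul _ _ _).symm.trans ((Submodule.Quotient.mk_eq_zero _).2 ⟨m, hy.symm⟩)⟩)
    fs n y
  obtain ⟨k', hk'⟩ := extCech_torsion (M := T₁.X₁) (g := f) (fun m => by
    obtain ⟨⟨_, k, rfl⟩, hk⟩ := (IsLocalizedModule.eq_zero_iff (Submonoid.powers f) l).1 m.2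
    exact ⟨k, Subtype.ext hk⟩) fs (n + 1) (cechδ hT₁ fs n (n + 1) rfl z)
  obtain ⟨x, hx⟩ := (cechδ_exact₃ hT₁ fs n (n + 1) rfl (f ^ k' • z)).1 (by rw [map_smul, hk'])
  refine ⟨k' + k, x, ?_⟩
  rw [show lf f M = T₁.g ≫ T₂.f from rfl, cechMap_comp, homologyMap_comp]
  show (homologyMap (cechMap fs T₂.f) n).hom ((homologyMap (cechMap fs T₁.g) n).hom x) = _
  rw [hx, map_smul, pow_add, mul_smul, ← hz]

/-- The localization of the Čech complex is the Čech complex of the localization. -/
theorem exists_locIso (fs : List A) :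
    ∃ e : DerivedCategory.Q.obj ((DerCA.locCx (Submonoid.powers f)).obj (DerCA.extCech M fs)) ≅
        DerivedCategory.Q.obj (DerCA.extCech ((DerCA.locFunctor (Submonoid.powers f)).obj M) fs),
      DerivedCategory.Q.map (DerCA.locCxUnit (Submonoid.powers f) (DerCA.extCech M fs)) ≫ e.hom =
        DerivedCategory.Q.map (cechMap fs (lf f M)) := by
  let S := Submonoid.powers f
  let E := DerCA.extCech M fs
  let E' := DerCA.extCech ((DerCA.locFunctor S).obj M) fs
  have hbij : ∀ n, Function.Bijective (homologyMap (DerCA.locCxUnit S E') n).hom := by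
    intro n
    have := isLocalizedModule_homologyMap S E' n
    have hu : ∀ s : S, Function.Bijective fun x : E'.homology n => (s : A) • x := by
      rintro ⟨_, k, rfl⟩
      induction k with
      | zero => simp only [pow_zero, one_smul]; exact Function.bijective_id
      | succ k ih =>
        simp only [pow_succ, mul_smul]
        exact ih.comp (smul_bijective_extCech (smul_bijective_locF f M) fs n)
    refine ⟨(injective_iff_map_eq_zero _).2 fun x hx => ?_, fun y => ?_⟩
    · obtain ⟨s, hs⟩ := (IsLocalizedModule.eq_zero_iff S (homologyMap (DerCA.locCxUnit S E') n).hom).1 hx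
      exact (hu s).1 (hs.trans (smul_zero _).symm)
    · obtain ⟨⟨x, s⟩, hs⟩ := IsLocalizedModule.surj S (homologyMap (DerCA.locCxUnit S E') n).hom y
      obtain ⟨x', rfl⟩ := (hu s).2 x
      refine ⟨x', IsLocalizedModule.smul_injective (homologyMap (DerCA.locCxUnit S E') n).hom s ?_⟩
      exact (map_smul _ (s : A) x').symm.trans hs.symm
  have hq : QuasiIso (DerCA.locCxUnit S E') := ⟨fun n => by
    rw [quasiIsoAt_iff_isIso_homologyMap]
    exact (ConcreteCategory.isIso_iff_bijective _).2 (hbij n)⟩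
  have hq' : QuasiIso ((DerCA.locCx S).map (cechMap fs (lf f M))) := ⟨fun n => by
    rw [quasiIsoAt_iff_isIso_homologyMap]
    have := isLocalizedModule_homologyMap S E n
    have := isLocalizedModule_homologyMap S E' n
    have hnat : ∀ x, (homologyMap ((DerCA.locCx S).map (cechMap fs (lf f M))) n).hom
        ((homologyMap (DerCA.locCxUnit S E) n).hom x) =
        (homologyMap (DerCA.locCxUnit S E') n).hom ((homologyMap (cechMap fs (lf f M)) n).hom x) := fun x => by
      rw [← LinearMap.comp_apply, ← ModuleCat.hom_comp, ← homologyMap_comp, locCxUnit_natural,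
        homologyMap_comp]
      rfl
    refine (ConcreteCategory.isIso_iff_bijective _).2 ⟨(injective_iff_map_eq_zero _).2 fun y hy => ?_, fun y => ?_⟩
    · obtain ⟨⟨x, s⟩, hs⟩ := IsLocalizedModule.surj S (homologyMap (DerCA.locCxUnit S E) n).hom y
      have h0 : (homologyMap (cechMap fs (lf f M)) n).hom x = 0 := (hbij n).1 (by
        rw [← hnat, ← hs, map_zero]
        exact (map_smul _ (s : A) y).trans ((congrArg ((s : A) • ·) hy).trans (smul_zero _)))
      obtain ⟨k, hk⟩ := cechMap_lf_ker f M fs n x h0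
      have hx0 : (homologyMap (DerCA.locCxUnit S E) n).hom x = 0 :=
        (IsLocalizedModule.eq_zero_iff S _).2 ⟨⟨f ^ k, k, rfl⟩, hk⟩
      exact IsLocalizedModule.smul_injective (homologyMap (DerCA.locCxUnit S E) n).hom s
        ((hs.trans hx0).trans (smul_zero _).symm)
    · obtain ⟨y', rfl⟩ := (hbij n).2 y
      obtain ⟨k, x, hx⟩ := cechMap_lf_image f M fs n y'
      obtain ⟨z, hz⟩ := ((Module.End.isUnit_iff _).1 (IsLocalizedModule.map_units (S := S)
        (homologyMap (DerCA.locCxUnit S E) n).hom ⟨f ^ k, k, rfl⟩)).2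
          ((homologyMap (DerCA.locCxUnit S E) n).hom x)
      refine ⟨z, IsLocalizedModule.smul_injective (homologyMap (DerCA.locCxUnit S E') n).hom
        (⟨f ^ k, k, rfl⟩ : S) ?_⟩
      show (⟨f ^ k, k, rfl⟩ : S) • _ = (⟨f ^ k, k, rfl⟩ : S) • _
      rw [Submonoid.smul_def, Submonoid.smul_def]
      have hz' : f ^ k • z = (homologyMap (DerCA.locCxUnit S E) n).hom x := hz
      refine (map_smul _ _ _).symm.trans ?_
      rw [hz']
      refine (hnat x).trans ?_
      rw [hx, map_smul]⟩
  have := (DerivedCategory.isIso_Q_map_iff_quasiIso (C := ModuleCat.{u} A) _).2 hq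
  have := (DerivedCategory.isIso_Q_map_iff_quasiIso (C := ModuleCat.{u} A) _).2 hq'
  refine ⟨asIso (DerivedCategory.Q.map ((DerCA.locCx S).map (cechMap fs (lf f M)))) ≪≫
    (asIso (DerivedCategory.Q.map (DerCA.locCxUnit S E'))).symm, ?_⟩
  rw [Iso.trans_hom, asIso_hom, Iso.symm_hom, asIso_inv, ← Category.assoc, ← Functor.map_comp,
    locCxUnit_natural, Functor.map_comp, Category.assoc, IsIso.hom_inv_id, Category.comp_id]

/-- The triangle of one step. -/
theorem exists_step_triangle (fs : List A) :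
    ∃ δ : DerivedCategory.Q.obj (DerCA.extCech ((DerCA.locFunctor (Submonoid.powers f)).obj M) fs) ⟶
        (DerivedCategory.Q.obj (DerCA.extCech M (f :: fs)))⟦(1 : ℤ)⟧,
      Triangle.mk (DerivedCategory.Q.map
          (CochainComplex.mappingCocone.fst (DerCA.locCxUnit (Submonoid.powers f) (DerCA.extCech M fs))))
        (DerivedCategory.Q.map (cechMap fs (lf f M))) δ ∈ distTriang (Dual.D A) := by
  obtain ⟨e, he⟩ := exists_locIso f M fs
  have hT := DerivedCategory.mappingCocone_triangle_distinguished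
    (DerCA.locCxUnit (Submonoid.powers f) (DerCA.extCech M fs))
  set T := DerivedCategory.Q.mapTriangle.obj
    (CochainComplex.mappingCocone.triangle (DerCA.locCxUnit (Submonoid.powers f) (DerCA.extCech M fs))) with hTdef
  refine ⟨e.inv ≫ T.mor₃, isomorphic_distinguished _ hT _ (Triangle.isoMk _ _ (Iso.refl _) (Iso.refl _) e.symm ?_ ?_ ?_)⟩
  · exact (Category.comp_id _).trans (Category.id_comp _).symm
  · show DerivedCategory.Q.map (cechMap fs (lf f M)) ≫ e.inv = 𝟙 _ ≫ _
    rw [Category.id_comp, ← he, Category.assoc, e.hom_inv_id, Category.comp_id]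
    rfl
  · show (e.inv ≫ T.mor₃) ≫ _⟦(1 : ℤ)⟧' = e.inv ≫ T.mor₃
    exact (congrArg ((e.inv ≫ T.mor₃) ≫ ·) ((shiftFunctor _ (1 : ℤ)).map_id _)).trans (Category.comp_id _)

section RGamma

variable (J : Ideal A) [DRing.HasRgammaI J] [IsNoetherianRing A]

theorem smul_bijective_of_isIso (L : DRing.Cx A) (r : A) (h : IsIso (DerivedCategory.Q.map (r • 𝟙 L))) (n : ℤ) :
    Function.Bijective fun x : L.homology n => r • x := by
  have hq : QuasiIso (r • 𝟙 L) := (DerivedCategory.isIso_Q_map_iff_quasiIso (C := ModuleCat.{u} A) _).1 h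
  have h1 := hq.quasiIsoAt n
  rw [quasiIsoAt_iff_isIso_homologyMap, ConcreteCategory.isIso_iff_bijective] at h1
  have e : (fun x : L.homology n => r • x) = (homologyMap (r • 𝟙 L) n).hom := by
    funext x
    rw [homologyMap_smul_id]
    rfl
  rw [e]; exact h1

theorem Q_map_smul_id (L : DRing.Cx A) (r : A) :
    DerivedCategory.Q.map (r • 𝟙 L) = r • 𝟙 (DerivedCategory.Q.obj L) := by
  rw [Functor.map_smul, CategoryTheory.Functor.map_id]

theorem isZero_rgamma_of_bijective {W : DRing.Cx A} {r : A} (hr : r ∈ J)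
    (hW : ∀ n, Function.Bijective fun x : W.homology n => r • x) :
    IsZero ((DRing.RgammaI J).obj (DerivedCategory.Q.obj W)) := by
  have h1 : IsIso (DerivedCategory.Q.map (r • 𝟙 W)) := by
    refine (DerivedCategory.isIso_Q_map_iff_quasiIso (C := ModuleCat.{u} A) _).2 ⟨fun n => ?_⟩
    rw [quasiIsoAt_iff_isIso_homologyMap, ConcreteCategory.isIso_iff_bijective]
    have e : (fun x : W.homology n => r • x) = (homologyMap (r • 𝟙 W) n).hom := by
      funext x
      rw [homologyMap_smul_id]
      rfl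
    exact e ▸ hW n
  set X := (DRing.RgammaI J).obj (DerivedCategory.Q.obj W) with hX
  have hmap : (DRing.RgammaI J).map (DerivedCategory.Q.map (r • 𝟙 W)) = r • 𝟙 X := by
    apply (RgammaTorsion.comp_ε_bijective J X (DerivedCategory.Q.obj W)
      (RgammaTorsion.isPowerTorsion_rgamma J _)).1
    refine ((DRing.RgammaIε J).naturality _).trans ?_
    rw [Functor.id_map, Q_map_smul_id]
    refine (Linear.comp_smul _ _ _ _ _ _).trans ?_
    refine Eq.trans ?_ (Linear.smul_comp _ _ _ _ _ _).symm
    exact congrArg (r • ·) ((Category.comp_id _).trans (Category.id_comp _).symm)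
  let L := DerivedCategory.Q.objPreimage X
  let e : DerivedCategory.Q.obj L ≅ X := DerivedCategory.Q.objObjPreimageIso X
  have hL : IsIso (DerivedCategory.Q.map (r • 𝟙 L)) := by
    have : IsIso (r • 𝟙 X) := by rw [← hmap]; infer_instance
    have e' : DerivedCategory.Q.map (r • 𝟙 L) = e.hom ≫ (r • 𝟙 X) ≫ e.inv := by
      rw [Q_map_smul_id, Linear.smul_comp, Category.id_comp, Linear.comp_smul, e.hom_inv_id]
    rw [e']; infer_instance
  have hz : ∀ n, IsZero (L.homology n) := fun n => by
    have : Subsingleton (L.homology n) := subsingleton_of_forall_eq 0 fun x => by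
      obtain ⟨k, hk⟩ := RgammaTorsion.isPowerTorsion_homology_of_iso J e (RgammaTorsion.isPowerTorsion_rgamma J _) n x
      have hx := hk _ (Ideal.pow_mem_pow hr k)
      clear hk
      induction k with
      | zero => rwa [pow_zero, one_smul] at hx
      | succ k ih =>
        apply ih
        apply (smul_bijective_of_isIso L r hL n).1
        show r • r ^ k • x = r • 0
        rw [← mul_smul, ← pow_succ', hx, smul_zero]
    exact ModuleCat.isZero_of_subsingleton _
  refine IsZero.of_iso ?_ e.symm
  have : IsIso (DerivedCategory.Q.map (0 : L ⟶ L)) :=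
    (DerivedCategory.isIso_Q_map_iff_quasiIso (C := ModuleCat.{u} A) _).2 ⟨fun n => by
      rw [quasiIsoAt_iff_isIso_homologyMap]
      exact ⟨0, (hz n).eq_of_src _ _, (hz n).eq_of_src _ _⟩⟩
  rw [Functor.map_zero] at this
  rw [IsZero.iff_id_eq_zero, ← IsIso.hom_inv_id (0 : DerivedCategory.Q.obj L ⟶ DerivedCategory.Q.obj L), zero_comp]

theorem hom_eq_zero {T : Dual.D A} (hT : ∀ i, LocCoh.IsPowerTorsion J (Dual.HD A T i)) {W : DRing.Cx A} {r : A}
    (hr : r ∈ J) (hW : ∀ n, Function.Bijective fun x : W.homology n => r • x)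
    (φ : T ⟶ DerivedCategory.Q.obj W) : φ = 0 := by
  obtain ⟨g, rfl⟩ := (RgammaTorsion.comp_ε_bijective J T _ hT).2 φ
  show g ≫ _ = 0
  exact (congrArg (· ≫ _) ((isZero_rgamma_of_bijective J hr hW).eq_of_tgt g 0)).trans zero_comp

/-- The augmentation in the derived category. -/
noncomputable def aug (M : ModuleCat.{u} A) (fs : List A) :
    DerivedCategory.Q.obj (DerCA.extCech M fs) ⟶ Dual.inD A M :=
  DerivedCategory.Q.map (cechε M fs) ≫
    ((DerivedCategory.singleFunctorIsoCompQ (ModuleCat.{u} A) 0).app M).inv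

omit [DRing.HasRgammaI J] [IsNoetherianRing A] in
theorem aug_cons (M : ModuleCat.{u} A) (f : A) (fs : List A) :
    aug M (f :: fs) = DerivedCategory.Q.map
      (CochainComplex.mappingCocone.fst (DerCA.locCxUnit (Submonoid.powers f) (DerCA.extCech M fs))) ≫ aug M fs := by
  rw [aug, aug, ← Category.assoc, ← Functor.map_comp]
  rfl

theorem comp_aug_bijective {T : Dual.D A} (hT : ∀ i, LocCoh.IsPowerTorsion J (Dual.HD A T i)) :
    ∀ (fs : List A), (∀ g ∈ fs, g ∈ J) → ∀ (M : ModuleCat.{u} A),
      Function.Bijective fun φ : T ⟶ DerivedCategory.Q.obj (DerCA.extCech M fs) => φ ≫ aug M fs := by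
  intro fs
  induction fs with
  | nil =>
    intro _ M
    have : IsIso (aug M ([] : List A)) := by
      show IsIso (DerivedCategory.Q.map (𝟙 (single0 M)) ≫ _)
      infer_instance
    refine ⟨fun a b h => (cancel_mono (aug M ([] : List A))).1 h, fun φ => ⟨φ ≫ inv (aug M []), ?_⟩⟩
    simp
  | cons f fs ih =>
    intro hfs M
    have ih' := ih (fun g hg => hfs g (List.mem_cons_of_mem _ hg)) M
    obtain ⟨δ, hδ⟩ := exists_step_triangle f M fs
    have hW : ∀ n, Function.Bijective
        fun x : (DerCA.extCech ((DerCA.locFunctor (Submonoid.powers f)).obj M) fs).homology n => f • x :=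
      fun n => smul_bijective_extCech (smul_bijective_locF f M) fs n
    have hzero : ∀ φ : T ⟶ DerivedCategory.Q.obj
        (DerCA.extCech ((DerCA.locFunctor (Submonoid.powers f)).obj M) fs), φ = 0 :=
      hom_eq_zero J hT (hfs f (List.mem_cons_self ..)) hW
    constructor
    · intro a b h
      have h' : (a - b) ≫ DerivedCategory.Q.map
          (CochainComplex.mappingCocone.fst (DerCA.locCxUnit (Submonoid.powers f) (DerCA.extCech M fs))) = 0 := by
        rw [Preadditive.sub_comp, sub_eq_zero]
        apply ih'.1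
        simp only [Category.assoc]
        simp only [aug_cons] at h
        exact h
      obtain ⟨w, hw⟩ := (Triangle.invRotate _).coyoneda_exact₂ (inv_rot_of_distTriang _ hδ) (a - b) h'
      rw [← sub_eq_zero, hw]
      have : Subsingleton (T ⟶ (DerivedCategory.Q.obj
          (DerCA.extCech ((DerCA.locFunctor (Submonoid.powers f)).obj M) fs))⟦(-1 : ℤ)⟧) := by
        refine subsingleton_of_forall_eq 0 fun ψ => ?_
        let W' := (DerCA.extCech ((DerCA.locFunctor (Submonoid.powers f)).obj M) fs)⟦(-1 : ℤ)⟧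
        let eW := (DerivedCategory.Q.commShiftIso (-1 : ℤ)).app (DerCA.extCech ((DerCA.locFunctor (Submonoid.powers f)).obj M) fs)
        have hW' : ∀ n, Function.Bijective fun x : W'.homology n => f • x := fun n => by
          let e := ((CochainComplex.ShiftSequence.shiftIso (ModuleCat.{u} A) (-1) n (-1 + n) rfl).app
            (DerCA.extCech ((DerCA.locFunctor (Submonoid.powers f)).obj M) fs)).toLinearEquiv
          have he : (fun x : W'.homology n => f • x) = e.symm ∘ (fun y => f • y) ∘ e := by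
            funext x
            exact (e.injective ((e.apply_symm_apply _).trans (map_smul e f x).symm)).symm
          exact he ▸ e.symm.bijective.comp ((hW _).comp e.bijective)
        have h0 := hom_eq_zero J hT (hfs f (List.mem_cons_self ..)) hW' (ψ ≫ eW.inv)
        exact (cancel_mono eW.inv).1 (h0.trans zero_comp.symm)
      exact (congrArg (· ≫ _) (this.elim w 0)).trans zero_comp
    · intro φ
      obtain ⟨ψ, hψ⟩ := ih'.2 φ
      obtain ⟨χ, hχ⟩ := (Triangle.mk _ _ δ).coyoneda_exact₂ hδ ψ (hzero _)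
      refine ⟨χ, ?_⟩
      show χ ≫ aug M (f :: fs) = φ
      rw [aug_cons, ← hψ]
      refine (Category.assoc _ _ _).symm.trans ?_
      exact congrArg (· ≫ aug M fs) hχ.symm

omit [DRing.HasRgammaI J] in
theorem isPowerTorsion_extCech (fs : List A) (hfs : Ideal.span {x | x ∈ fs} = J) (M : ModuleCat.{u} A) (i : ℤ) :
    LocCoh.IsPowerTorsion J (Dual.HD A (DerivedCategory.Q.obj (DerCA.extCech M fs)) i) := by
  refine RgammaTorsion.isPowerTorsion_of_linearEquiv J (RgammaTorsion.hdEquiv _ i).symm fun x => ?_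
  have hle : J ≤ Ideal.radical (LinearMap.ker (LinearMap.toSpanSingleton A _ x)) := hfs ▸
    Ideal.span_le.2 fun g hg => extCech_pow_smul_eq_zero M fs g hg i x
  obtain ⟨n, hn⟩ := Ideal.exists_pow_le_of_le_radical_of_fg hle (IsNoetherian.noetherian J)
  exact ⟨n, fun a ha => hn ha⟩

/-- `RΓ_J(M)` is the extended Čech complex. -/
theorem exists_extCech_iso (fs : List A) (hfs : Ideal.span {x | x ∈ fs} = J) (M : ModuleCat.{u} A) :
    ∃ e : DerivedCategory.Q.obj (DerCA.extCech M fs) ≅ (DRing.RgammaI J).obj (Dual.inD A M),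
      e.hom ≫ (DRing.RgammaIε J).app (Dual.inD A M) = aug M fs := by
  have hmem : ∀ g ∈ fs, g ∈ J := fun g hg => hfs ▸ Ideal.subset_span hg
  have hE := isPowerTorsion_extCech J fs hfs M
  have hX := RgammaTorsion.isPowerTorsion_rgamma J (Dual.inD A M)
  obtain ⟨u, hu⟩ := (RgammaTorsion.comp_ε_bijective J _ (Dual.inD A M) hE).2 (aug M fs)
  obtain ⟨v, hv⟩ := (comp_aug_bijective J hX fs hmem M).2 ((DRing.RgammaIε J).app (Dual.inD A M))
  refine ⟨⟨u, v, (comp_aug_bijective J hE fs hmem M).1 ?_,
    (RgammaTorsion.comp_ε_bijective J _ (Dual.inD A M) hX).1 ?_⟩, hu⟩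
  · show (u ≫ v) ≫ aug M fs = 𝟙 _ ≫ aug M fs
    rw [Category.assoc, show v ≫ aug M fs = _ from hv, Category.id_comp]
    exact hu
  · show (v ≫ u) ≫ (DRing.RgammaIε J).app _ = 𝟙 _ ≫ _
    rw [Category.assoc, show u ≫ _ = _ from hu, Category.id_comp]
    exact hv

end RGamma

end Groth.LocCohTransform.CechTriangle
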