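import Groth.Agent.LocCohTransform.AlgebraizeMain
import Groth.Agent.LocCohBase.CdLocal
import Groth.Agent.LocCohTransform.DimCd

/-!
Algebraization of local cohomology under conditions (3) and (4).
-/

set_option autoImplicit false
set_option linter.style.haveILetI false
set_option linter.unusedSectionVars false

universe u

open CategoryTheory CategoryTheory.Limits
open Groth.DualCore

attribute [local instance] HasDerivedCategory.standard

namespace Groth.LocCohTransform.AlgebraizeApply

open DualKillColimit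

variable {A : Type u} [CommRing A] [IsNoetherianRing A] (I : Ideal A)

/-- Over an `I`-adically complete ring the cohomological dimension gives condition (3). -/
theorem exists_dimBetween_le [IsAdicComplete I A] (d : ℕ) (hd : LocCoh.CdLE A I d) (P : PrimeSpectrum A) :
    ∃ R : PrimeSpectrum A, P ≤ R ∧ I ≤ R.asIdeal ∧
      Formal2.dimBetween A P.asIdeal R.asIdeal ≤ ((d : ℕ∞) : WithBot ℕ∞) := by
  have hne : P.asIdeal ⊔ I ≠ ⊤ := by
    obtain ⟨m, hm, hPm⟩ := Ideal.exists_le_maximal _ P.2.ne_top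
    intro htop
    refine hm.ne_top (top_le_iff.1 (htop ▸ sup_le hPm (le_trans (IsAdicComplete.le_jacobson_bot I) ?_)))
    exact sInf_le (⟨bot_le, hm⟩ : m ∈ {J : Ideal A | ⊥ ≤ J ∧ J.IsMaximal})
  obtain ⟨m, hm, hle⟩ := Ideal.exists_le_maximal _ hne
  haveI := hm.isPrime
  obtain ⟨R, hR, -⟩ := Ideal.exists_minimalPrimes_le hle
  haveI hRp : R.IsPrime := hR.1.1
  refine ⟨⟨R, hRp⟩, le_sup_left.trans hR.1.2, le_sup_right.trans hR.1.2, ?_⟩
  let AR := Localization.AtPrime R
  haveI : IsNoetherianRing AR := IsLocalization.isNoetherianRing R.primeCompl _ inferInstance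
  let PR := P.asIdeal.map (algebraMap A AR)
  let B := AR ⧸ PR
  have hPR : PR ≠ ⊤ := fun htop => by
    have h1 : PR ≤ IsLocalRing.maximalIdeal AR := Ideal.map_le_iff_le_comap.2
      ((le_sup_left.trans hR.1.2).trans (IsLocalization.AtPrime.under_maximalIdeal AR R).ge)
    exact (IsLocalRing.maximalIdeal.isMaximal AR).ne_top (top_le_iff.1 (htop ▸ h1))
  haveI : Nontrivial B := Ideal.Quotient.nontrivial_iff.2 hPR
  haveI : IsLocalRing B := .of_surjective' (Ideal.Quotient.mk PR) Ideal.Quotient.mk_surjective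
  have hcd : LocCoh.CdLE B (I.map (algebraMap A B)) d := Groth.LocCohBase.cdLE_map B hd
  have hmax : ∀ x : Ideal B, x.IsPrime → I.map (algebraMap A B) ≤ x → x.IsMaximal := by
    intro x hx hIx
    haveI := hx
    let y : Ideal AR := x.comap (Ideal.Quotient.mk PR)
    haveI : y.IsPrime := Ideal.IsPrime.comap _
    let z : Ideal A := y.comap (algebraMap A AR)
    haveI : z.IsPrime := Ideal.IsPrime.comap _
    have hz1 : z ≤ R := (Ideal.comap_mono (IsLocalRing.le_maximalIdeal (Ideal.IsPrime.ne_top inferInstance))).trans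
      (IsLocalization.AtPrime.under_maximalIdeal AR R).le
    have hz2 : P.asIdeal ⊔ I ≤ z := sup_le
      (Ideal.le_comap_map.trans (Ideal.comap_mono (show PR ≤ y from fun u hu => by
        show Ideal.Quotient.mk PR u ∈ x
        rw [Ideal.Quotient.eq_zero_iff_mem.2 hu]
        exact zero_mem x)))
      (fun u hu => hIx (Ideal.mem_map_of_mem _ hu))
    have hzR : R ≤ z := hR.2 ⟨inferInstance, hz2⟩ hz1
    have hy : IsLocalRing.maximalIdeal AR ≤ y := by
      rw [← IsLocalization.AtPrime.map_eq_maximalIdeal R AR]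
      exact Ideal.map_le_iff_le_comap.2 hzR
    have hy' : y = IsLocalRing.maximalIdeal AR := ((IsLocalRing.maximalIdeal.isMaximal AR).eq_of_le
      (Ideal.IsPrime.ne_top inferInstance) hy).symm
    have hx' : x = y.map (Ideal.Quotient.mk PR) :=
      (Ideal.map_comap_of_surjective _ Ideal.Quotient.mk_surjective x).symm
    rw [hx', hy']
    haveI := IsLocalRing.maximalIdeal.isMaximal AR
    rcases Ideal.map_eq_top_or_isMaximal_of_surjective (Ideal.Quotient.mk PR) Ideal.Quotient.mk_surjective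
      (IsLocalRing.maximalIdeal.isMaximal AR) with h | h
    · exact absurd (hx'.trans (hy' ▸ h)) hx.ne_top
    · exact h
  have hne' : I.map (algebraMap A B) ≠ ⊤ := fun htop => by
    have hIR : I.map (algebraMap A AR) ≤ IsLocalRing.maximalIdeal AR := Ideal.map_le_iff_le_comap.2
      ((le_sup_right.trans hR.1.2).trans (IsLocalization.AtPrime.under_maximalIdeal AR R).ge)
    refine (IsLocalRing.maximalIdeal.isMaximal B).ne_top (top_le_iff.1 (htop ▸ ?_))
    rw [IsScalarTower.algebraMap_eq A AR B, ← Ideal.map_map]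
    refine Ideal.map_le_iff_le_comap.2 (hIR.trans ?_)
    exact le_of_eq ((IsLocalRing.maximalIdeal.isMaximal AR).eq_of_le
      (Ideal.IsPrime.ne_top (Ideal.IsPrime.comap _)) (fun u hu hunit => by
        obtain ⟨v, hv⟩ := hunit.exists_right_inv
        obtain ⟨w, rfl⟩ := Ideal.Quotient.mk_surjective v
        rw [Ideal.Quotient.algebraMap_eq, ← map_mul, ← sub_eq_zero, ← map_one (Ideal.Quotient.mk PR), ← map_sub,
          Ideal.Quotient.eq_zero_iff_mem] at hv
        have h1 : (1 : AR) ∈ IsLocalRing.maximalIdeal AR := by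
          have h2 : u * w - 1 ∈ IsLocalRing.maximalIdeal AR := IsLocalRing.le_maximalIdeal hPR hv
          have := (IsLocalRing.maximalIdeal AR).sub_mem (Ideal.mul_mem_right w _ hu) h2
          simpa using this
        exact (IsLocalRing.maximalIdeal.isMaximal AR).ne_top ((Ideal.eq_top_iff_one _).2 h1)))
  have h0 : ringKrullDim (B ⧸ I.map (algebraMap A B)) ≤ ((0 : ℕ) : WithBot ℕ∞) := by
    haveI : Ring.KrullDimLE 0 (B ⧸ I.map (algebraMap A B)) := Ring.KrullDimLE.mk₀ fun x hx => by
      haveI := hx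
      have := hmax (x.comap (Ideal.Quotient.mk _)) (Ideal.IsPrime.comap _) (fun u hu => by
        show Ideal.Quotient.mk _ u ∈ x
        rw [Ideal.Quotient.eq_zero_iff_mem.2 hu]
        exact zero_mem x)
      rcases Ideal.map_eq_top_or_isMaximal_of_surjective (Ideal.Quotient.mk (I.map (algebraMap A B)))
        Ideal.Quotient.mk_surjective this with h | h
      · exact absurd ((Ideal.map_comap_of_surjective _ Ideal.Quotient.mk_surjective x).symm.trans h) hx.ne_top
      · rwa [Ideal.map_comap_of_surjective _ Ideal.Quotient.mk_surjective x] at h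
    exact Order.KrullDimLE.krullDim_le
  simpa using DimCd.dim_le_cd_add_dim 0 d _ hne' h0 hcd

variable [DRing.HasDerivedCompletion I] (J : Ideal A) (M : Type u) [AddCommGroup M] [Module A M] [Module.Finite A M]

/-- Algebraization under condition (4). -/
theorem exists_algebraization [IsAdicComplete I A] {ω : Dual.D A} (hω : Dual.IsDualizing A ω) (s d : ℕ)
    (hd : LocCoh.CdLE A I d) (h4 : Cond4 M I J s d) :
    ∃ J₀ : Ideal A, J₀ ≤ J ∧ PrimeSpectrum.zeroLocus ((J₀ : Ideal A) : Set A) ∩ PrimeSpectrum.zeroLocus ((I : Ideal A) : Set A) =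
        PrimeSpectrum.zeroLocus ((J : Ideal A) : Set A) ∩ PrimeSpectrum.zeroLocus ((I : Ideal A) : Set A) ∧
      ∀ (J' : Ideal A) [DRing.HasRgammaI J'], J' ≤ J₀ →
        PrimeSpectrum.zeroLocus ((J' : Ideal A) : Set A) ∩ PrimeSpectrum.zeroLocus ((I : Ideal A) : Set A) =
          PrimeSpectrum.zeroLocus ((J : Ideal A) : Set A) ∩ PrimeSpectrum.zeroLocus ((I : Ideal A) : Set A) →
        ∀ i : ℤ, i ≤ s → Function.Bijective (CompletionAmplitude.hmap
          ((CompletionFunctor.η I).app ((DRing.RgammaI J').obj (Dual.inD A M))) i) := by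
  obtain ⟨J₀, hJJ, hsub, hrel⟩ := DualKillColimit.exists_J₀ hω M I J
  refine ⟨J₀, hJJ, DualKillColimit.zeroLocus_inter I J hJJ hsub, fun J' _ hJ' hV i hi => ?_⟩
  haveI := DualVanishing.hasRgammaI I
  have h3 : Cond3 I J d := fun p _ hp => by
    obtain ⟨R, hpR, hIR, hdim⟩ := exists_dimBetween_le I d hd p
    exact ⟨R, hpR, hp R hpR hIR, hIR, hdim⟩
  have hTJ : ∀ R : PrimeSpectrum A, I ≤ R.asIdeal → (J' ≤ R.asIdeal ↔ J ≤ R.asIdeal) := fun R hR => by
    have := Set.ext_iff.1 hV R
    simp only [Set.mem_inter_iff, PrimeSpectrum.mem_zeroLocus, SetLike.coe_subset_coe] at this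
    exact ⟨fun h => (this.1 ⟨h, hR⟩).1, fun h => (this.2 ⟨h, hR⟩).1⟩
  refine AlgebraizeMain.bijective_η hω J' I M i d hd fun q P hnt hPI hPJ => ?_
  by_cases hPT : InT I J P
  · obtain ⟨P₀, hP₀, ⟨δ, hq, hδ⟩, hT⟩ := hrel q P hnt
    have := DualKillColimit.good hω M I J s d h3 h4 (P := P₀) (Q := P)
      (fun h => hPJ (hJ'.trans ((hT h).trans hP₀))) (fun h => hPI (h.trans hP₀)) hP₀ hPT hδ
    exact Or.inl (by omega)
  · obtain ⟨δ, hq, hδ⟩ := DualVanishing.exists_depth_le hω M P q hnt
    by_cases hs : s ≤ δ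
    · obtain ⟨R, hPR, hIR, hJR⟩ : ∃ R : PrimeSpectrum A, P ≤ R ∧ I ≤ R.asIdeal ∧ ¬ J ≤ R.asIdeal := by
        simpa [InT] using hPT
      exact Or.inr (Or.inl ⟨by omega, R, hPR, hIR, fun h => hJR ((hTJ R hIR).1 h)⟩)
    · refine Or.inr (Or.inr fun R hPR hJR hIR => ?_)
      obtain ⟨n, hn⟩ := DualDegree.exists_degree_eq hω hPR
      rcases h4 P hPI hPT R hPR ((hTJ R hIR).1 hJR) hIR with h | h
      · exact absurd (by exact_mod_cast h.trans hδ) hs
      · rw [DualDegree.dimBetween hω hPR hn] at h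
        have h2 := lt_of_lt_of_le h (add_le_add (WithBot.coe_le_coe.2 hδ) le_rfl)
        have h3' : d + s < δ + n := by exact_mod_cast h2
        omega

theorem dimBetween_closedPoint [IsLocalRing A] {ω : Dual.D A} (hω : Dual.IsDualizing A ω) (P : PrimeSpectrum A) :
    Formal2.dimBetween A P.asIdeal (IsLocalRing.closedPoint A).asIdeal = ringKrullDim (A ⧸ P.asIdeal) := by
  have h : P ≤ IsLocalRing.closedPoint A := IsLocalRing.le_maximalIdeal P.2.ne_top
  obtain ⟨n, hn⟩ := DualDegree.exists_degree_eq hω h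
  rw [DualDegree.dimBetween hω h hn, ← DualDegree.krullDim_Icc hω h hn, ringKrullDim_quotient]
  have : (PrimeSpectrum.zeroLocus (P.asIdeal : Set A)) = Set.Icc P (IsLocalRing.closedPoint A) := by
    ext x
    rw [PrimeSpectrum.mem_zeroLocus, SetLike.coe_subset_coe, Set.mem_Icc]
    exact ⟨fun hx => ⟨hx, IsLocalRing.le_maximalIdeal x.2.ne_top⟩, fun hx => hx.1⟩
  rw [this]

end Groth.LocCohTransform.AlgebraizeApply
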