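import Groth.Agent.LocCohTransform.Derived
import Mathlib.Algebra.Homology.DerivedCategory.Ext.EnoughProjectives

set_option autoImplicit false
universe u
open CategoryTheory CategoryTheory.Limits Opposite

namespace Groth.LocCohTransform

open Groth.LocCohBase (extBifunctor extIso quotPow trans)

variable {R : Type u} [CommRing R] (I : Ideal R)

/-- An isomorphism of additive functors gives one of right derived functors. -/
noncomputable def rightDerivedMapIso {F G : ModuleCat.{u} R ⥤ ModuleCat.{u} R} [F.Additive]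
    [G.Additive] (e : F ≅ G) (i : ℕ) : F.rightDerived i ≅ G.rightDerived i where
  hom := NatTrans.rightDerived e.hom i
  inv := NatTrans.rightDerived e.inv i
  hom_inv_id := by rw [← NatTrans.rightDerived_comp, e.hom_inv_id, NatTrans.rightDerived_id]
  inv_hom_id := by rw [← NatTrans.rightDerived_comp, e.inv_hom_id, NatTrans.rightDerived_id]

/-- `n ↦ R/I^n`. -/
noncomputable abbrev nQuot : ℕᵒᵖ ⥤ ModuleCat.{u} R :=
  localCohomology.ringModIdeals (localCohomology.idealPowersDiagram I)

/-- `n ↦ I^n`. -/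
noncomputable abbrev nIdeal : ℕᵒᵖ ⥤ ModuleCat.{u} R :=
  localCohomology.idealPowersDiagram I ⋙ LocCoh.idealModFunctor

/-- `H^i_I ≅ colim Ext^i(R/I^n, -)`. -/
noncomputable def lcIso (i : ℕ) : localCohomology I i ≅ extColim (nQuot I) i :=
  extColimIso (nQuot I) i

/-- `colim Ext^i(I^n, -)`. -/
noncomputable def extTransformIso (i : ℕ) : LocCoh.extTransform I i ≅ extColim (nIdeal I) i :=
  extColimIso (nIdeal I) i

/-- `D_I` as a `homColim`. -/
noncomputable def transformIso : LocCoh.idealTransform I ≅ homColim (nIdeal I) := Iso.refl _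

/-- Evaluation at `1`. -/
noncomputable def evalOne (n : ℕ) (M : ModuleCat.{u} R) :
    ((nQuot I).obj (op n) ⟶ M) →ₗ[R] DRing.torsionSub I M where
  toFun f := ⟨f.hom (Submodule.Quotient.mk (1 : R)), n, fun a ha => by
    let g : (R ⧸ I ^ n) →ₗ[R] M := f.hom
    show a • g (Submodule.Quotient.mk (1 : R)) = 0
    rw [← map_smul, ← Submodule.Quotient.mk_smul, smul_eq_mul, mul_one,
      (Submodule.Quotient.mk_eq_zero _).2 ha, map_zero]⟩
  map_add' _ _ := rfl
  map_smul' _ _ := rfl

/-- The cocone giving `colim Hom(R/I^n, -) → Γ_I`. -/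
noncomputable def gammaCocone :
    Cocone ((nQuot I).op ⋙ linearCoyoneda R (ModuleCat.{u} R)) where
  pt := DRing.gammaI I
  ι :=
    { app := fun j =>
        { app := fun M => ModuleCat.ofHom (evalOne I j.unop.unop M)
          naturality := fun _ _ _ => rfl }
      naturality := fun _ _ _ => rfl }

/-- `colim Hom(R/I^n, -) → Γ_I`. -/
noncomputable def homColimToGamma : homColim (nQuot I) ⟶ DRing.gammaI I :=
  colimit.desc _ (gammaCocone I)

lemma homColimToGamma_fι {M : ModuleCat.{u} R} {n : ℕ} (f : (nQuot I).obj (op n) ⟶ M) :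
    ((homColimToGamma I).app M).hom (fι (nQuot I) n f) = evalOne I n M f := by
  have h := colimit.ι_desc (gammaCocone I) (op (op n))
  exact LinearMap.congr_fun (congrArg ModuleCat.Hom.hom (NatTrans.congr_app h M)) f

lemma homColimToGamma_bijective (M : ModuleCat.{u} R) :
    Function.Bijective ((homColimToGamma I).app M).hom := by
  constructor
  · refine (injective_iff_map_eq_zero _).2 fun x hx => ?_
    obtain ⟨n, f, rfl⟩ := fι_surjective (nQuot I) x
    rw [homColimToGamma_fι] at hx
    let g : (R ⧸ I ^ n) →ₗ[R] M := f.hom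
    have hg : g = 0 := Submodule.linearMap_qext _ (LinearMap.ext_ring (congrArg Subtype.val hx))
    have : f = 0 := ModuleCat.hom_ext hg
    rw [this, map_zero]
  · rintro ⟨m, n, hn⟩
    refine ⟨fι (nQuot I) n (ModuleCat.ofHom (X := R ⧸ I ^ n)
      ((I ^ n : Ideal R).liftQ (LinearMap.toSpanSingleton R M m) fun a ha => hn a ha)), ?_⟩
    exact (homColimToGamma_fι I _).trans (Subtype.ext (one_smul R m))

/-- `Γ_I ≅ colim Hom(R/I^n, -)`. -/
noncomputable def gammaIso : DRing.gammaI I ≅ homColim (nQuot I) :=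
  (NatIso.ofComponents
    (fun M => (LinearEquiv.ofBijective _ (homColimToGamma_bijective I M)).toModuleIso)
    (fun g => (homColimToGamma I).naturality g)).symm

/-- The right derived functors of `Γ_I` are local cohomology. -/
noncomputable def gammaDerivedIso (i : ℕ) :
    (DRing.gammaI I).rightDerived i ≅ localCohomology I i :=
  rightDerivedMapIso (gammaIso I) i ≪≫ derivedIso (nQuot I) i ≪≫ (lcIso I i).symm

/-- The right derived functors of `D_I` are `colim Ext^i(I^n, -)`. -/
noncomputable def transformDerivedIso (i : ℕ) :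
    (LocCoh.idealTransform I).rightDerived i ≅ LocCoh.extTransform I i :=
  rightDerivedMapIso (transformIso I) i ≪≫ derivedIso (nIdeal I) i ≪≫ (extTransformIso I i).symm

section Connecting

/-- `0 → I^n → R → R/I^n → 0`. -/
noncomputable def powSeq (n : ℕ) : ShortComplex (ModuleCat.{u} R) :=
  ShortComplex.mk (ModuleCat.ofHom (X := (I ^ n : Ideal R)) (Y := R) (I ^ n : Ideal R).subtype)
    (ModuleCat.ofHom (Y := R ⧸ I ^ n) (I ^ n : Ideal R).mkQ)
    (by ext x; exact (Submodule.Quotient.mk_eq_zero _).2 x.2)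

lemma powSeq_shortExact (n : ℕ) : (powSeq I n).ShortExact where
  exact := (ShortComplex.moduleCat_exact_iff _).2 fun x hx =>
    ⟨⟨x, (Submodule.Quotient.mk_eq_zero _).1 hx⟩, rfl⟩
  mono_f := (ModuleCat.mono_iff_injective _).2 Subtype.val_injective
  epi_g := (ModuleCat.epi_iff_surjective _).2 (Submodule.mkQ_surjective _)

/-- The morphism of sequences for `n ≤ m`. -/
noncomputable def powSeqMap {n m : ℕ} (h : n ≤ m) : powSeq I m ⟶ powSeq I n where
  τ₁ := (nIdeal I).map (homOfLE h).op
  τ₂ := 𝟙 _
  τ₃ := (nQuot I).map (homOfLE h).op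
  comm₁₂ := rfl
  comm₂₃ := rfl

/-- `Ext^i(I^n, M) → Ext^{1+i}(R/I^n, M)`. -/
noncomputable def connMap {i i' : ℕ} (hi' : 1 + i = i') (n : ℕ) (M : ModuleCat.{u} R) :
    Abelian.Ext ((nIdeal I).obj (op n)) M i →ₗ[R] Abelian.Ext ((nQuot I).obj (op n)) M i' :=
  (powSeq_shortExact I n).extClass.precompOfLinear R M hi'

lemma connMap_bijective {i i' : ℕ} (hi : 1 ≤ i) (hi' : 1 + i = i') (n : ℕ) (M : ModuleCat.{u} R) :
    Function.Bijective (connMap I hi' n M) := by
  have hproj : Projective (powSeq I n).X₂ := by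
    dsimp [powSeq]; infer_instance
  constructor
  · refine (injective_iff_map_eq_zero _).2 fun α hα => ?_
    obtain ⟨β, hβ⟩ := Abelian.Ext.contravariant_sequence_exact₁ (powSeq_shortExact I n) M α hi' hα
    obtain ⟨k, rfl⟩ : ∃ k, i = k + 1 := ⟨i - 1, by omega⟩
    rw [← hβ, β.eq_zero_of_projective, Abelian.Ext.comp_zero]
    rfl
  · intro α
    have hk : (Abelian.Ext.mk₀ (powSeq I n).g).comp α (zero_add i') = 0 := by
      obtain ⟨k, rfl⟩ : ∃ k, i' = k + 1 := ⟨i' - 1, by omega⟩
      exact Abelian.Ext.eq_zero_of_projective _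
    exact Abelian.Ext.contravariant_sequence_exact₃ (powSeq_shortExact I n) M α hk hi'

lemma connMap_natural {i i' : ℕ} (hi' : 1 + i = i') {n m : ℕ} (h : n ≤ m) (M : ModuleCat.{u} R)
    (α : Abelian.Ext (powSeq I n).X₁ M i) :
    connMap I hi' m M ((Abelian.Ext.mk₀ ((nIdeal I).map (homOfLE h).op)).comp α (zero_add i)) =
      (Abelian.Ext.mk₀ ((nQuot I).map (homOfLE h).op)).comp (connMap I hi' n M α) (zero_add i') := by
  have h' := ShortComplex.ShortExact.extClass_naturality (powSeq_shortExact I m)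
    (powSeq_shortExact I n) (powSeqMap I h)
  change (powSeq_shortExact I m).extClass.comp
      ((Abelian.Ext.mk₀ (powSeqMap I h).τ₁).comp α (zero_add i)) hi' =
    (Abelian.Ext.mk₀ (powSeqMap I h).τ₃).comp
      ((powSeq_shortExact I n).extClass.comp α hi') (zero_add i')
  rw [← Abelian.Ext.comp_assoc _ _ _ (add_zero 1) (zero_add i) (by omega), h',
    Abelian.Ext.comp_assoc _ _ _ (zero_add 1) hi' (by omega)]

lemma connMap_natural_right {i i' : ℕ} (hi' : 1 + i = i') (n : ℕ) {M M' : ModuleCat.{u} R}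
    (g : M ⟶ M') (α : Abelian.Ext ((nIdeal I).obj (op n)) M i) :
    connMap I hi' n M' (α.comp (Abelian.Ext.mk₀ g) (add_zero i)) =
      (connMap I hi' n M α).comp (Abelian.Ext.mk₀ g) (add_zero i') :=
  (Abelian.Ext.comp_assoc _ _ _ hi' (add_zero i) (by omega)).symm

/-- The connecting isomorphism of diagrams. -/
noncomputable def connDiagIso (i : ℕ) (hi : 1 ≤ i) :
    (nIdeal I).op ⋙ extBifunctor i ≅ (nQuot I).op ⋙ extBifunctor (i + 1) :=
  NatIso.ofComponents
    (fun j => NatIso.ofComponents
      (fun M => (LinearEquiv.ofBijective (connMap I (show 1 + i = i + 1 by omega) j.unop.unop M)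
        (connMap_bijective I hi _ j.unop.unop M)).toModuleIso)
      (fun {M M'} g => by
        ext α
        exact connMap_natural_right I (show 1 + i = i + 1 by omega) j.unop.unop g α))
    (fun {j k} w => by
      ext M α
      exact connMap_natural I (show 1 + i = i + 1 by omega) w.unop.unop.down.down M α)

/-- The connecting isomorphism `colim Ext^i(I^n, -) ≅ H^{i+1}_I`. -/
noncomputable def connectingIso (i : ℕ) (hi : 1 ≤ i) :
    LocCoh.extTransform I i ≅ localCohomology I (i + 1) :=
  extTransformIso I i ≪≫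
    HasColimit.isoOfNatIso (connDiagIso I i hi) ≪≫ (lcIso I (i + 1)).symm

end Connecting

end Groth.LocCohTransform
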