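import Groth.Agent.LocCohTransform.CompletionFlatModule
import Groth.Agent.LocCohTransform.GreenleesMay
import Mathlib.Algebra.Homology.DerivedCategory.Linear
import Mathlib.Algebra.Homology.DerivedCategory.TStructure
import Mathlib.CategoryTheory.Triangulated.TStructure.TruncLTGE

/-!
Cohomological amplitude of derived completion; cohomology of the completion of objects with finite cohomology.
-/

set_option autoImplicit false
set_option linter.style.haveILetI false
set_option linter.unusedSectionVars false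

universe u

open CategoryTheory CategoryTheory.Limits CategoryTheory.Pretriangulated HomologicalComplex TensorProduct

attribute [local instance] HasDerivedCategory.standard

namespace Groth.LocCohTransform.CompletionAmplitude

open CompletionFunctor DerivedCategory

variable {A : Type u} [CommRing A]

/-- The map on cohomology. -/
noncomputable abbrev hmap {X Y : Dual.D A} (φ : X ⟶ Y) (i : ℤ) : Dual.HD A X i →ₗ[A] Dual.HD A Y i :=
  ((DerivedCategory.homologyFunctor (ModuleCat.{u} A) i).map φ).hom

theorem hmap_comp {X Y Z : Dual.D A} (φ : X ⟶ Y) (ψ : Y ⟶ Z) (i : ℤ) (x : Dual.HD A X i) :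
    hmap (φ ≫ ψ) i x = hmap ψ i (hmap φ i x) := by
  simp only [hmap, Functor.map_comp]
  rfl

theorem hmap_iso {X Y : Dual.D A} (φ : X ⟶ Y) [IsIso φ] (i : ℤ) : Function.Bijective (hmap φ i) :=
  (asIso ((DerivedCategory.homologyFunctor (ModuleCat.{u} A) i).map φ)).toLinearEquiv.bijective

theorem subsingleton_of_isGE (X : Dual.D A) (b i : ℤ) [X.IsGE b] (h : i < b) : Subsingleton (Dual.HD A X i) :=
  ModuleCat.subsingleton_of_isZero (DerivedCategory.isZero_of_isGE X b i h)

theorem subsingleton_of_isLE (X : Dual.D A) (b i : ℤ) [X.IsLE b] (h : b < i) : Subsingleton (Dual.HD A X i) :=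
  ModuleCat.subsingleton_of_isZero (DerivedCategory.isZero_of_isLE X b i h)

theorem isGE_of_subsingleton (X : Dual.D A) (b : ℤ) (h : ∀ i < b, Subsingleton (Dual.HD A X i)) : X.IsGE b :=
  (DerivedCategory.isGE_iff X b).2 fun i hi => by
    have := h i hi
    exact ModuleCat.isZero_of_subsingleton _

theorem isLE_of_subsingleton (X : Dual.D A) (b : ℤ) (h : ∀ i, b < i → Subsingleton (Dual.HD A X i)) : X.IsLE b :=
  (DerivedCategory.isLE_iff X b).2 fun i hi => by
    have := h i hi
    exact ModuleCat.isZero_of_subsingleton _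

section Triangle

variable {T : Triangle (Dual.D A)} (hT : T ∈ distTriang (Dual.D A))

include hT in
theorem exact₂' (i : ℤ) : Function.Exact (hmap T.mor₁ i) (hmap T.mor₂ i) :=
  (ShortComplex.ShortExact.moduleCat_exact_iff_function_exact _).1 (DerivedCategory.HomologySequence.exact₂ T hT i)

include hT in
theorem injective₂ (i : ℤ) (h : Subsingleton (Dual.HD A T.obj₁ i)) : Function.Injective (hmap T.mor₂ i) :=
  (injective_iff_map_eq_zero _).2 fun x hx => by
    obtain ⟨y, rfl⟩ := (exact₂' hT i x).1 hx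
    rw [h.elim y 0, map_zero]

include hT in
theorem surjective₁ (i : ℤ) (h : Subsingleton (Dual.HD A T.obj₃ i)) : Function.Surjective (hmap T.mor₁ i) :=
  fun x => (exact₂' hT i x).1 (h.elim _ _)

include hT in
theorem surjective₂ (i j : ℤ) (hij : i + 1 = j) (h : Subsingleton (Dual.HD A T.obj₁ j)) :
    Function.Surjective (hmap T.mor₂ i) := fun x => by
  have h3 := DerivedCategory.HomologySequence.exact₃ T hT i j hij
  rw [ShortComplex.ShortExact.moduleCat_exact_iff_function_exact] at h3
  exact (h3 x).1 (@Subsingleton.elim _ h _ _)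

include hT in
theorem injective₁ (i j : ℤ) (hij : i + 1 = j) (h : Subsingleton (Dual.HD A T.obj₃ i)) :
    Function.Injective (hmap T.mor₁ j) := by
  refine (injective_iff_map_eq_zero _).2 fun x hx => ?_
  have h1 := DerivedCategory.HomologySequence.exact₁ T hT i j hij
  rw [ShortComplex.ShortExact.moduleCat_exact_iff_function_exact] at h1
  obtain ⟨y, rfl⟩ := (h1 x).1 hx
  rw [show y = 0 from @Subsingleton.elim _ h y 0]
  exact map_zero _

include hT in
theorem subsingleton₂ (i : ℤ) (h₁ : Subsingleton (Dual.HD A T.obj₁ i)) (h₃ : Subsingleton (Dual.HD A T.obj₃ i)) :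
    Subsingleton (Dual.HD A T.obj₂ i) :=
  (injective₂ hT i h₁).subsingleton

end Triangle

theorem hmap_smul_id (X : Dual.D A) (f : A) (i : ℤ) (x : Dual.HD A X i) : hmap (f • 𝟙 X) i x = f • x := by
  let L := DerivedCategory.Q.objPreimage X
  let e : DerivedCategory.Q.obj L ≅ X := DerivedCategory.Q.objObjPreimageIso X
  have e' : f • 𝟙 X = e.inv ≫ DerivedCategory.Q.map (f • 𝟙 L) ≫ e.hom := by
    rw [Functor.map_smul, CategoryTheory.Functor.map_id, Linear.smul_comp, Category.id_comp, Linear.comp_smul, e.inv_hom_id]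
  have hq : ∀ y : Dual.HD A (DerivedCategory.Q.obj L) i, hmap (DerivedCategory.Q.map (f • 𝟙 L)) i y = f • y := by
    intro y
    let E := (DerivedCategory.homologyFunctorFactors (ModuleCat.{u} A) i).app L
    apply E.toLinearEquiv.injective
    have h := congr(($((DerivedCategory.homologyFunctorFactors (ModuleCat.{u} A) i).hom.naturality (f • 𝟙 L))).hom y)
    refine h.trans ?_
    show (homologyMap (f • 𝟙 L) i).hom (E.hom.hom y) = _
    rw [homologyMap_smul_id]
    exact (map_smul E.toLinearEquiv f y).symm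
  rw [e', hmap_comp, hmap_comp, hq, map_smul, ← hmap_comp, e.inv_hom_id]
  simp [hmap]

theorem exists_cone (X : Dual.D A) (f : A) :
    ∃ (C : Dual.D A) (b : X ⟶ C) (c : C ⟶ X⟦(1 : ℤ)⟧), Triangle.mk (f • 𝟙 X) b c ∈ distTriang (Dual.D A) :=
  distinguished_cocone_triangle _

section Killed

variable {X C : Dual.D A} {f : A} {b : X ⟶ C} {c : C ⟶ X⟦(1 : ℤ)⟧}
  (h : Triangle.mk (f • 𝟙 X) b c ∈ distTriang (Dual.D A))

include h in
theorem cone_killed (i : ℤ) (y : Dual.HD A C i) : f ^ 2 • y = 0 := by
  have h3 := DerivedCategory.HomologySequence.exact₃ _ h i (i + 1) rfl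
  have h1 := DerivedCategory.HomologySequence.δ_comp _ h i (i + 1) rfl
  rw [ShortComplex.ShortExact.moduleCat_exact_iff_function_exact] at h3
  obtain ⟨x, hx⟩ := (h3 (f • y)).1 ((map_smul _ _ _).trans ((hmap_smul_id X f (i + 1) _).symm.trans
    (LinearMap.congr_fun (congrArg ModuleCat.Hom.hom h1) y)))
  rw [pow_two, mul_smul]
  refine (congrArg (f • ·) hx.symm).trans ((map_smul _ _ _).symm.trans ?_)
  exact (exact₂' h i _).2 ⟨x, hmap_smul_id X f i x⟩

include h in
theorem cone_subsingleton (i : ℤ) (h₀ : Subsingleton (Dual.HD A X i)) (h₁ : Subsingleton (Dual.HD A X (i + 1))) :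
    Subsingleton (Dual.HD A C i) :=
  @Function.Surjective.subsingleton _ _ _ h₀ (surjective₂ h i (i + 1) rfl h₁)

end Killed

variable (I : Ideal A) [DRing.HasDerivedCompletion I]

theorem comp_map_smul_id (X : Dual.D A) (f : A) : (comp I).map (f • 𝟙 X) = f • 𝟙 ((comp I).obj X) := by
  refine (precomp_bijective I X (complete_comp I X)).1 ?_
  show (η I).app X ≫ (comp I).map (f • 𝟙 X) = (η I).app X ≫ (f • 𝟙 ((comp I).obj X))
  refine ((η I).naturality (f • 𝟙 X)).symm.trans ?_
  show (f • 𝟙 X) ≫ (η I).app X = _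
  rw [Linear.smul_comp, Linear.comp_smul]
  exact congrArg (f • ·) ((Category.id_comp _).trans (Category.comp_id _).symm)

theorem dc_hd {Y : Dual.D A} (hY : DRing.IsDerivedComplete I Y) {f : A} (hf : f ∈ I) (i : ℤ) :
    Groth.DerComplete.DC f (Dual.HD A Y i) :=
  (Groth.DerComplete.isDerivedComplete_iff I Y).1 hY f hf i

/-- Completion lowers the lower bound by at most the number of generators. -/
theorem amplitude [IsNoetherianRing A] (gens : Finset A) (hgens : Ideal.span (gens : Set A) = I) :
    ∀ (t : Finset A), t ⊆ gens → ∀ (X : Dual.D A) (b : ℤ), (∀ i < b, Subsingleton (Dual.HD A X i)) →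
      (∀ g ∈ gens, g ∉ t → ∃ k : ℕ, ∀ (i : ℤ) (x : Dual.HD A X i), g ^ k • x = 0) →
      ∀ i < b - t.card, Subsingleton (Dual.HD A ((comp I).obj X) i) := by
  classical
  intro t
  induction t using Finset.induction with
  | empty =>
    intro _ X b hb hk i hi
    choose k hk using fun g : gens => hk g g.2 (Finset.notMem_empty _)
    have hle : I ≤ (Ideal.span (Set.range fun g : gens => g.1 ^ k g)).radical := by
      conv_lhs => rw [← hgens]
      exact Ideal.span_le.2 fun g hg => ⟨k ⟨g, hg⟩, Ideal.subset_span ⟨⟨g, hg⟩, rfl⟩⟩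
    obtain ⟨N, hN⟩ := Ideal.exists_pow_le_of_le_radical_of_fg hle (IsNoetherian.noetherian I)
    have hc := GreenleesMay.complete_of_killed I (X := X) (N := N) fun n x a ha => by
      refine Submodule.span_induction (p := fun a _ => a • x = 0) ?_ ?_ ?_ ?_ (hN ha)
      · rintro _ ⟨g, rfl⟩; exact hk g n x
      · exact zero_smul _ _
      · intro p q _ _ hp hq; rw [add_smul, hp, hq, add_zero]
      · intro r p _ hp; rw [smul_eq_mul, mul_smul, hp, smul_zero]
    have := isIso_η_of_complete I hc
    exact @Function.Surjective.subsingleton _ _ _ (hb i (by simpa using hi)) (hmap_iso ((η I).app X) i).2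
  | @insert f t hft ih =>
    intro hsub X b hb hk i hi
    have hf : f ∈ I := hgens ▸ Ideal.subset_span (hsub (Finset.mem_insert_self f t))
    obtain ⟨C, p, q, hT⟩ := exists_cone X f
    have hC : ∀ j < b - 1 - t.card, Subsingleton (Dual.HD A ((comp I).obj C) j) := by
      refine ih (fun x hx => hsub (Finset.mem_insert_of_mem hx)) C (b - 1)
        (fun j hj => cone_subsingleton hT j (hb j (by omega)) (hb (j + 1) (by omega))) fun g hg hgt => ?_
      by_cases h : g = f
      · subst h; exact ⟨2, cone_killed hT⟩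
      · obtain ⟨k, hk⟩ := hk g hg fun h' => (Finset.mem_insert.1 h').elim h hgt
        exact ⟨k + k, GreenleesMay.killed_cone hT hk⟩
    have hT' := (comp I).map_distinguished _ hT
    rw [Finset.card_insert_of_notMem hft] at hi
    have hs : Function.Surjective fun x : Dual.HD A ((comp I).obj X) i => f • x := fun x => by
      obtain ⟨y, hy⟩ := surjective₁ hT' i (hC i (by omega)) x
      refine ⟨y, Eq.trans ?_ hy⟩
      show f • y = hmap ((comp I).map (f • 𝟙 X)) i y
      rw [comp_map_smul_id, hmap_smul_id]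
      rfl
    exact (dc_hd I (complete_comp I X) hf i).subsingleton_of_surjective hs

theorem exists_amplitude [IsNoetherianRing A] :
    ∃ r : ℕ, ∀ (X : Dual.D A) (b : ℤ), (∀ i < b, Subsingleton (Dual.HD A X i)) →
      ∀ i < b - r, Subsingleton (Dual.HD A ((comp I).obj X) i) := by
  obtain ⟨gens, hgens⟩ := (IsNoetherian.noetherian I : I.FG)
  exact ⟨gens.card, fun X b hb => amplitude I gens hgens gens subset_rfl X b hb fun g hg h => absurd hg h⟩

/-- The truncation triangle. -/
theorem exists_trunc (X : Dual.D A) (m : ℤ) :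
    ∃ T : Triangle (Dual.D A), T ∈ distTriang (Dual.D A) ∧ T.obj₂ = X ∧ T.obj₁.IsLE (m - 1) ∧ T.obj₃.IsGE m :=
  ⟨(DerivedCategory.TStructure.t.triangleLTGE m).obj X,
    DerivedCategory.TStructure.t.triangleLTGE_distinguished m X, rfl, inferInstance, inferInstance⟩

section Trunc

variable {T : Triangle (Dual.D A)} (hT : T ∈ distTriang (Dual.D A)) (m : ℤ)

include hT in
theorem bijective_trunc₁ [T.obj₃.IsGE m] (i : ℤ) (hi : i < m) : Function.Bijective (hmap T.mor₁ i) :=
  ⟨injective₁ hT (i - 1) i (by omega) (subsingleton_of_isGE _ m _ (by omega)),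
    surjective₁ hT i (subsingleton_of_isGE _ m _ hi)⟩

include hT in
theorem bijective_trunc₃ [T.obj₁.IsLE (m - 1)] (i : ℤ) (hi : m ≤ i) : Function.Bijective (hmap T.mor₂ i) :=
  ⟨injective₂ hT i (subsingleton_of_isLE _ (m - 1) _ (by omega)),
    surjective₂ hT i (i + 1) rfl (subsingleton_of_isLE _ (m - 1) _ (by omega))⟩

include hT in
theorem finite_trunc [IsNoetherianRing A] [T.obj₁.IsLE (m - 1)] [T.obj₃.IsGE m]
    (h : ∀ i, Module.Finite A (Dual.HD A T.obj₂ i)) :
    (∀ i, Module.Finite A (Dual.HD A T.obj₁ i)) ∧ ∀ i, Module.Finite A (Dual.HD A T.obj₃ i) := by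
  refine ⟨fun i => ?_, fun i => ?_⟩
  · by_cases hi : i < m
    · have := h i
      exact Module.Finite.equiv (LinearEquiv.ofBijective _ (bijective_trunc₁ hT m i hi)).symm
    · have := subsingleton_of_isLE T.obj₁ (m - 1) i (by omega)
      infer_instance
  · by_cases hi : i < m
    · have := subsingleton_of_isGE T.obj₃ m i hi
      infer_instance
    · have := h i
      exact Module.Finite.equiv (LinearEquiv.ofBijective _ (bijective_trunc₃ hT m i (by omega)))

end Trunc

/-- Completion preserves upper bounds. -/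
theorem subsingleton_comp_of_isLE (X : Dual.D A) (a : ℤ) [X.IsLE a] (i : ℤ) (hi : a < i) :
    Subsingleton (Dual.HD A ((comp I).obj X) i) := by
  obtain ⟨T, hT, h2, h1, h3⟩ := exists_trunc ((comp I).obj X) (a + 1)
  haveI := h1
  haveI := h3
  obtain ⟨o₁, o₂, o₃, m₁, m₂, m₃⟩ := T
  obtain rfl : o₂ = _ := h2
  have hcompl : DRing.IsDerivedComplete I o₃ := by
    rw [Groth.DerComplete.isDerivedComplete_iff]
    intro f hf j
    by_cases hj : j < a + 1
    · haveI := subsingleton_of_isGE o₃ (a + 1) j hj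
      exact Groth.DerComplete.dc_of_subsingleton
    · exact (dc_hd I (complete_comp I X) hf j).congr
        (LinearEquiv.ofBijective _ (bijective_trunc₃ hT (a + 1) j (by omega)))
  have hz : m₂ = 0 := by
    refine (precomp_bijective I X hcompl).1 ?_
    show (η I).app X ≫ m₂ = (η I).app X ≫ 0
    rw [comp_zero]
    have hzz : ∀ φ : X ⟶ o₃, φ = 0 := fun φ =>
      DerivedCategory.TStructure.t.zero_of_isLE_of_isGE φ a (a + 1) (by omega) inferInstance inferInstance
    exact hzz _
  have hb := bijective_trunc₃ hT (a + 1) i (by omega)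
  refine subsingleton_of_forall_eq 0 fun x => hb.1 ?_
  show hmap m₂ i x = hmap m₂ i 0
  rw [hz]
  simp [hmap]

section Single

/-- `H^n (η)` is the completion map. -/
def Good (X : Dual.D A) (n : ℤ) : Prop :=
  ∃ e : Dual.HD A ((comp I).obj X) n ≃ₗ[A] AdicCompletion I (Dual.HD A X n),
    ∀ x, e (hmap ((η I).app X) n x) = AdicCompletion.of I _ x

theorem congr_of {M N : Type u} [AddCommGroup M] [Module A M] [AddCommGroup N] [Module A N] (e : M ≃ₗ[A] N) (x : M) :
    AdicCompletion.congr I e (AdicCompletion.of I M x) = AdicCompletion.of I N (e x) :=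
  AdicCompletion.ext fun _ => rfl

theorem good_transfer {X X' : Dual.D A} (φ : X ⟶ X') (n : ℤ) (h : Function.Bijective (hmap φ n))
    (h' : Function.Bijective (hmap ((comp I).map φ) n)) : Good I X n ↔ Good I X' n := by
  have nat : ∀ x, hmap ((η I).app X') n (hmap φ n x) = hmap ((comp I).map φ) n (hmap ((η I).app X) n x) := fun x => by
    rw [← hmap_comp, ← hmap_comp]
    exact congrArg (fun ψ => hmap ψ n x) ((η I).naturality φ)
  let u := LinearEquiv.ofBijective _ h
  let u' := LinearEquiv.ofBijective _ h'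
  let c := (AdicCompletion.congr I u).restrictScalars A
  constructor
  · rintro ⟨e, he⟩
    refine ⟨u'.symm.trans (e.trans c), fun x' => ?_⟩
    obtain ⟨x, rfl⟩ := h.2 x'
    show c (e (u'.symm _)) = _
    rw [nat, show u'.symm (hmap ((comp I).map φ) n (hmap ((η I).app X) n x)) = hmap ((η I).app X) n x from
      u'.symm_apply_apply _, he]
    exact congr_of I u x
  · rintro ⟨e, he⟩
    refine ⟨u'.trans (e.trans c.symm), fun x => ?_⟩
    show c.symm (e (hmap ((comp I).map φ) n (hmap ((η I).app X) n x))) = _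
    rw [← nat, he, LinearEquiv.symm_apply_eq]
    exact (congr_of I u x).symm

variable [IsNoetherianRing A]

theorem cIso_finite (M : Type u) [AddCommGroup M] [Module A M] [Module.Finite A M] :
    CIso I (AdicCompletion.of I M) := by
  let c := TensorProduct.rid A M
  have h : CIso I (AdicCompletion.of I (M ⊗[A] A)) := CompletionFlatModule.cIso_of I M A
  have heq : ModuleCat.ofHom (AdicCompletion.of I M) =
      c.symm.toModuleIso.hom ≫ ModuleCat.ofHom (AdicCompletion.of I (M ⊗[A] A)) ≫
        ((AdicCompletion.congr I c).restrictScalars A).toModuleIso.hom := by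
    refine ModuleCat.hom_ext (LinearMap.ext fun x => ?_)
    show AdicCompletion.of I M x = AdicCompletion.congr I c (AdicCompletion.of I (M ⊗[A] A) (c.symm x))
    rw [congr_of, LinearEquiv.apply_symm_apply]
  have : IsIso ((comp I).map ((DerivedCategory.singleFunctor (ModuleCat.{u} A) 0).map
      (ModuleCat.ofHom (AdicCompletion.of I (M ⊗[A] A))))) := h
  show IsIso ((comp I).map ((DerivedCategory.singleFunctor (ModuleCat.{u} A) 0).map
    (ModuleCat.ofHom (AdicCompletion.of I M))))
  rw [heq, Functor.map_comp, Functor.map_comp, Functor.map_comp, Functor.map_comp]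
  infer_instance

theorem good_shift (M : Type u) [AddCommGroup M] [Module A M] [Module.Finite A M] (n : ℤ) :
    (∀ i, i ≠ n → Subsingleton (Dual.HD A ((comp I).obj ((Dual.inD A M)⟦-n⟧)) i)) ∧
      Good I ((Dual.inD A M)⟦-n⟧) n := by
  have hI : I.FG := IsNoetherian.noetherian I
  let H := DerivedCategory.homologyFunctor (ModuleCat.{u} A) 0
  let W := Dual.inD A (AdicCompletion I M)
  let g0 : Dual.inD A M ⟶ W := (DerivedCategory.singleFunctor (ModuleCat.{u} A) 0).map (ModuleCat.ofHom (AdicCompletion.of I M))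
  have hW : DRing.IsDerivedComplete I W := by
    rw [Groth.DerComplete.isDerivedComplete_inD_iff]
    intro f hf
    have := AdicCompletion.isAdicComplete (I := I) (M := M) hI
    exact Groth.DerComplete.dc_of_isAdicComplete I hf
  have hW' : DRing.IsDerivedComplete I (W⟦-n⟧) := ObjectProperty.le_shift (DRing.IsDerivedComplete I) (-n) _ hW
  haveI : IsIso ((comp I).map g0) := cIso_finite I M
  haveI hg : IsIso ((comp I).map (g0⟦-n⟧')) :=
    (NatIso.isIso_map_iff ((comp I).commShiftIso (-n)) g0).2
      (by show IsIso (((comp I).map g0)⟦-n⟧'); infer_instance)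
  haveI := isIso_η_of_complete I hW'
  let i : (comp I).obj ((Dual.inD A M)⟦-n⟧) ≅ W⟦-n⟧ :=
    asIso ((comp I).map (g0⟦-n⟧')) ≪≫ (asIso ((η I).app (W⟦-n⟧))).symm
  have hi : (η I).app _ ≫ i.hom = g0⟦-n⟧' := by
    show (η I).app _ ≫ (comp I).map (g0⟦-n⟧') ≫ inv ((η I).app _) = g0⟦-n⟧'
    exact (Category.assoc _ _ _).symm.trans
      ((congrArg (· ≫ _) ((η I).naturality (g0⟦-n⟧')).symm).trans
        ((Category.assoc _ _ _).trans ((congrArg ((g0⟦-n⟧') ≫ ·) (IsIso.hom_inv_id _)).trans (Category.comp_id _))))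
  let s : ∀ (Z : Dual.D A) (k l : ℤ), -n + k = l → (Dual.HD A (Z⟦-n⟧) k ≃ₗ[A] Dual.HD A Z l) := fun Z k l h =>
    ((H.shiftIso (-n) k l h).app Z).toLinearEquiv
  refine ⟨fun k hk => ?_, ?_⟩
  · haveI := Groth.DerComplete.subsingleton_HD_inD (A := A) (AdicCompletion I M) (n := -n + k) (by omega)
    haveI := (s W k _ rfl).toEquiv.subsingleton
    exact (hmap_iso i.hom k).1.subsingleton
  · let d := (s (Dual.inD A M) n 0 (by omega)).trans (Groth.DerComplete.HDinDEquiv M)
    let dW := (s W n 0 (by omega)).trans (Groth.DerComplete.HDinDEquiv (AdicCompletion I M))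
    have hd : ∀ x, dW (hmap (g0⟦-n⟧') n x) = AdicCompletion.of I M (d x) := by
      intro x
      have h1 := congr(($((H.shiftIso (-n) n 0 (by omega)).hom.naturality g0)).hom x)
      have h2 := congr(($((DerivedCategory.singleFunctorCompHomologyFunctorIso (ModuleCat.{u} A) 0).hom.naturality
        (ModuleCat.ofHom (AdicCompletion.of I M)))).hom (s (Dual.inD A M) n 0 (by omega) x))
      exact (congrArg (Groth.DerComplete.HDinDEquiv (AdicCompletion I M)) h1).trans h2
    refine ⟨(((DerivedCategory.homologyFunctor (ModuleCat.{u} A) n).mapIso i).toLinearEquiv.trans dW).trans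
      (((AdicCompletion.congr I d).restrictScalars A).symm), fun x => ?_⟩
    show ((AdicCompletion.congr I d).restrictScalars A).symm (dW (hmap i.hom n (hmap ((η I).app _) n x))) = _
    rw [← hmap_comp, hi, hd, LinearEquiv.symm_apply_eq]
    exact (congr_of I d x).symm

/-- Objects concentrated in one degree with finite cohomology. -/
theorem good_single (Z : Dual.D A) (n : ℤ) [Z.IsGE n] [Z.IsLE n] (h : Module.Finite A (Dual.HD A Z n)) :
    (∀ i, i ≠ n → Subsingleton (Dual.HD A ((comp I).obj Z) i)) ∧ Good I Z n := by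
  obtain ⟨Y, ⟨e⟩⟩ := DerivedCategory.exists_iso_singleFunctor_obj_of_isGE_of_isLE Z n
  let e' : Z ≅ (Dual.inD A Y)⟦-n⟧ :=
    e ≪≫ ((((DerivedCategory.singleFunctors (ModuleCat.{u} A)).shiftIso (-n) n 0 (by omega))).app Y).symm
  let H := DerivedCategory.homologyFunctor (ModuleCat.{u} A) 0
  haveI := h
  haveI : Module.Finite A Y := Module.Finite.equiv
    ((((DerivedCategory.homologyFunctor (ModuleCat.{u} A) n).mapIso e').toLinearEquiv).trans
      ((((H.shiftIso (-n) n 0 (by omega)).app (Dual.inD A Y)).toLinearEquiv).trans (Groth.DerComplete.HDinDEquiv Y)))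
  obtain ⟨h1, h2⟩ := good_shift I Y n
  refine ⟨fun i hi => ?_, (good_transfer I e'.hom n (hmap_iso _ n) (hmap_iso _ n)).2 h2⟩
  haveI := h1 i hi
  exact (hmap_iso ((comp I).map e'.hom) i).1.subsingleton

theorem subsingleton_bounded : ∀ (k : ℕ) (X : Dual.D A) (b : ℤ), (∀ i, i < b → Subsingleton (Dual.HD A X i)) →
    (∀ i, b + k ≤ i → Subsingleton (Dual.HD A X i)) → (∀ i, Module.Finite A (Dual.HD A X i)) →
    ∀ i < b, Subsingleton (Dual.HD A ((comp I).obj X) i) := by
  intro k
  induction k with
  | zero =>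
    intro X b hb hk hfin i hi
    haveI : X.IsLE (i - 1) := isLE_of_subsingleton X (i - 1) fun j _ => by
      rcases lt_or_ge j b with h | h
      · exact hb j h
      · exact hk j (by simpa using h)
    exact subsingleton_comp_of_isLE I X (i - 1) i (by omega)
  | succ k ih =>
    intro X b hb hk hfin i hi
    obtain ⟨T, hT, h2, h1, h3⟩ := exists_trunc X (b + 1)
    haveI := h1
    haveI := h3
    obtain ⟨o₁, o₂, o₃, m₁, m₂, m₃⟩ := T
    obtain rfl : o₂ = _ := h2
    obtain ⟨hf1, hf3⟩ := finite_trunc hT (b + 1) hfin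
    haveI : o₁.IsGE b := isGE_of_subsingleton o₁ b fun j hj => by
      haveI := hb j hj
      exact (bijective_trunc₁ hT (b + 1) j (by omega)).1.subsingleton
    haveI : o₁.IsLE b := isLE_of_subsingleton o₁ b fun j hj => subsingleton_of_isLE o₁ (b + 1 - 1) j (by omega)
    refine subsingleton₂ ((comp I).map_distinguished _ hT) i ((good_single I o₁ b (hf1 b)).1 i (by omega)) ?_
    refine ih o₃ (b + 1) (fun j hj => subsingleton_of_isGE o₃ (b + 1) j hj) (fun j hj => ?_) hf3 i (by omega)
    haveI := hk j (by push_cast; omega)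
    exact (bijective_trunc₃ hT (b + 1) j (by omega)).2.subsingleton

/-- Completion preserves lower bounds for finite cohomology. -/
theorem subsingleton_comp_of_isGE (X : Dual.D A) (b : ℤ) [X.IsGE b] (hfin : ∀ i, Module.Finite A (Dual.HD A X i))
    (i : ℤ) (hi : i < b) : Subsingleton (Dual.HD A ((comp I).obj X) i) := by
  obtain ⟨r, hr⟩ := exists_amplitude I
  obtain ⟨T, hT, h2, h1, h3⟩ := exists_trunc X (b + r + 1)
  haveI := h1
  haveI := h3
  obtain ⟨o₁, o₂, o₃, m₁, m₂, m₃⟩ := T
  obtain rfl : o₂ = _ := h2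
  obtain ⟨hf1, -⟩ := finite_trunc hT (b + r + 1) hfin
  refine subsingleton₂ ((comp I).map_distinguished _ hT) i
    (subsingleton_bounded I (r + 1) o₁ b (fun j hj => ?_)
      (fun j hj => subsingleton_of_isLE o₁ (b + r + 1 - 1) j (by push_cast at hj; omega)) hf1 i hi)
    (hr o₃ (b + r + 1) (fun j hj => subsingleton_of_isGE o₃ (b + r + 1) j hj) i (by omega))
  haveI := subsingleton_of_isGE o₂ b j hj
  exact (bijective_trunc₁ hT (b + r + 1) j (by omega)).1.subsingleton

/-- The cohomology of the completion is the completion of the cohomology. -/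
theorem good (K : Dual.D A) (hK : ∀ n : ℤ, Module.Finite A (Dual.HD A K n)) (n : ℤ) : Good I K n := by
  obtain ⟨T, hT, h2, h1, h3⟩ := exists_trunc K (n + 1)
  haveI := h1
  haveI := h3
  obtain ⟨o₁, o₂, o₃, m₁, m₂, m₃⟩ := T
  obtain rfl : o₂ = _ := h2
  obtain ⟨hf1, hf3⟩ := finite_trunc hT (n + 1) hK
  have hT' := (comp I).map_distinguished _ hT
  have h3' : ∀ i < n + 1, Subsingleton (Dual.HD A ((comp I).obj o₃) i) := subsingleton_comp_of_isGE I o₃ (n + 1) hf3
  refine (good_transfer I m₁ n (bijective_trunc₁ hT (n + 1) n (by omega))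
    ⟨injective₁ hT' (n - 1) n (by omega) (h3' _ (by omega)), surjective₁ hT' n (h3' n (by omega))⟩).1 ?_
  obtain ⟨U, hU, u2, u1, u3⟩ := exists_trunc o₁ n
  haveI := u1
  haveI := u3
  obtain ⟨p₁, p₂, p₃, l₁, l₂, l₃⟩ := U
  obtain rfl : p₂ = _ := u2
  have hU' := (comp I).map_distinguished _ hU
  obtain ⟨-, hg3⟩ := finite_trunc hU n hf1
  haveI : p₃.IsLE n := isLE_of_subsingleton p₃ n fun i hi => by
    haveI := subsingleton_of_isLE p₂ (n + 1 - 1) i (by omega)
    exact (bijective_trunc₃ hU n i (by omega)).2.subsingleton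
  have hl : ∀ i, n - 1 < i → Subsingleton (Dual.HD A ((comp I).obj p₁) i) := subsingleton_comp_of_isLE I p₁ (n - 1)
  exact (good_transfer I l₂ n (bijective_trunc₃ hU n n le_rfl)
    ⟨injective₂ hU' n (hl n (by omega)), surjective₂ hU' n (n + 1) rfl (hl (n + 1) (by omega))⟩).2
      (good_single I p₃ n (hg3 n)).2

end Single

end Groth.LocCohTransform.CompletionAmplitude
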