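import Groth.Agent.Misc4.RFBounded
import Groth.Agent.LocCohTransform.Comparison
import Groth.Agent.LocCohTransform.RgammaTorsion
import Groth.Agent.LocCohTransform.CompletionAmplitude

/-!
`H^i(RΓ_I M)` is `H^i_I(M)`; bounds on `RΓ_I M`.
-/

set_option autoImplicit false
set_option linter.style.haveILetI false
set_option linter.unusedSectionVars false

universe u

open CategoryTheory CategoryTheory.Limits

attribute [local instance] HasDerivedCategory.standard

namespace Groth.LocCohTransform.BridgeH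

variable {A : Type u} [CommRing A] (I : Ideal A) [DRing.HasRgammaI I]

/-- `H^i(RΓ_I M) = H^i_I(M)`. -/
theorem nonempty_HD_equiv_H (M : Type u) [AddCommGroup M] [Module A M] (i : ℕ) :
    Nonempty (Dual.HD A ((DRing.RgammaI I).obj (Dual.inD A M)) (i : ℤ) ≃ₗ[A] LocCoh.H I i M) := by
  obtain ⟨e⟩ := Groth.Misc4.RFBounded.nonempty_homology_single (DRing.gammaI I) (DRing.RgammaI I)
    ((DRing.gammaIKh I).totalRightDerivedUnit DerivedCategory.Qh
      (HomotopyCategory.quasiIso (ModuleCat.{u} A) (ComplexShape.up ℤ)))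
    (ModuleCat.of A M) 0 (i : ℤ) i (zero_add _)
  exact ⟨(e ≪≫ (Groth.LocCohTransform.gammaDerivedIso I i).app (ModuleCat.of A M)).toLinearEquiv⟩

/-- `RΓ_I` is left t-exact. -/
theorem isGE_rgamma (K : Dual.D A) (n : ℤ) [K.IsGE n] : ((DRing.RgammaI I).obj K).IsGE n :=
  Groth.Misc4.RFBounded.isGE_obj (DRing.gammaI I) (DRing.RgammaI I)
    ((DRing.gammaIKh I).totalRightDerivedUnit DerivedCategory.Qh
      (HomotopyCategory.quasiIso (ModuleCat.{u} A) (ComplexShape.up ℤ))) K n

theorem isGE_rgamma_inD (M : Type u) [AddCommGroup M] [Module A M] :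
    ((DRing.RgammaI I).obj (Dual.inD A M)).IsGE 0 := by
  haveI : (Dual.inD A M).IsGE 0 := inferInstanceAs
    (((DerivedCategory.singleFunctor (ModuleCat.{u} A) 0).obj (ModuleCat.of A M)).IsGE 0)
  exact isGE_rgamma I _ 0

theorem isLE_rgamma_inD (M : Type u) [AddCommGroup M] [Module A M] (d : ℕ) (h : LocCoh.CdLE A I d) :
    ((DRing.RgammaI I).obj (Dual.inD A M)).IsLE d := by
  refine CompletionAmplitude.isLE_of_subsingleton _ _ fun i hi => ?_
  obtain ⟨n, rfl⟩ := Int.eq_ofNat_of_zero_le (show 0 ≤ i by omega)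
  obtain ⟨e⟩ := nonempty_HD_equiv_H I M n
  haveI := h M n (by omega)
  exact e.toEquiv.subsingleton

end Groth.LocCohTransform.BridgeH
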