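import Groth.Agent.LocCohTransform.DualAvoid
import Groth.Agent.LocCohTransform.BridgeH
import Groth.Agent.LocCohBase.DepthTower
import Groth.Agent.LocCohBase.Comparison
import Groth.Agent.LocCohTransform.HMap
import Groth.Agent.S1806

/-!
Killing the colimit of local cohomology over closed subsets of `T = {p | V(p) ∩ V(I) ⊆ V(J)}`.
-/

set_option autoImplicit false
set_option linter.style.haveILetI false
set_option linter.unusedSectionVars false

universe u

open CategoryTheory CategoryTheory.Limits TensorProduct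
open Groth.DualCore

attribute [local instance] HasDerivedCategory.standard

namespace Groth.LocCohTransform.DualKillColimit

variable {A : Type u} [CommRing A] [IsNoetherianRing A] {ω : Dual.D A} (hω : Dual.IsDualizing A ω)
  (M : Type u) [AddCommGroup M] [Module A M] [Module.Finite A M]

/-- `depth M_p`. -/
noncomputable abbrev dep (p : PrimeSpectrum A) : ℕ∞ :=
  LocCoh.depth (Localization.AtPrime p.asIdeal) (LocalizedModule p.asIdeal.primeCompl M)

include hω in
/-- The depth is attained by the duality module. -/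
theorem exists_hom_of_depth_eq (p : PrimeSpectrum A) (m : ℕ) (h : dep M p = m) :
    Nontrivial (LocalizedModule p.asIdeal.primeCompl (Dual.inD A M ⟶ ω⟦degree hω p - m⟧)) := by
  let B := Localization.AtPrime p.asIdeal
  haveI : IsNoetherianRing B := IsLocalization.isNoetherianRing p.asIdeal.primeCompl _ inferInstance
  let ω' := ((extD A B).obj ω)⟦degree hω p⟧
  have hω' : Dual.IsDualizing B ω' := isDualizing_shift (isDualizing_atPrime p.asIdeal hω) _
  have hn : Dual.IsNormalized B ω' := isNormalized_degree hω p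
  have hd : LocCoh.depth B (B ⊗[A] M) = m := by
    rw [← h]
    exact (depth_congr (M := LocalizedModule p.asIdeal.primeCompl M) (N := B ⊗[A] M)
      (LinearEquiv.extendScalarsOfIsLocalization p.asIdeal.primeCompl B
        (haveI : IsLocalizedModule p.asIdeal.primeCompl (TensorProduct.mk A B M 1) :=
          (isLocalizedModule_iff_isBaseChange p.asIdeal.primeCompl B _).2 (TensorProduct.isBaseChange A M _)
         IsLocalizedModule.linearEquiv p.asIdeal.primeCompl (LocalizedModule.mkLinearMap p.asIdeal.primeCompl M)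
          (TensorProduct.mk A B M 1)))).symm
  haveI : Nontrivial (B ⊗[A] M) := by
    by_contra hc
    rw [not_nontrivial_iff_subsingleton] at hc
    have htop : LocCoh.depth B (B ⊗[A] M) = ⊤ :=
      Groth.LocCohBase.idealDepth_eq_top_of_smul_top_eq_top (Subsingleton.elim _ _)
    rw [hd] at htop
    exact ENat.natCast_ne_top m htop
  have e1 := ((depth_eq_iff hω' hn (B ⊗[A] M) m).1 hd).2
  rw [nontrivial_shift_iff _ _ (degree hω p) (degree hω p - m) (-(m : ℤ)) (by omega)] at e1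
  exact (nontrivial_localized_hom_iff p.asIdeal hω M _).2 e1

omit [IsNoetherianRing A] in
theorem localized_nontrivial_of_le {X : Type*} [AddCommGroup X] [Module A X] {P Q : PrimeSpectrum A} (h : P ≤ Q)
    (hP : Nontrivial (LocalizedModule P.asIdeal.primeCompl X)) :
    Nontrivial (LocalizedModule Q.asIdeal.primeCompl X) :=
  Module.mem_support_iff.1 (Module.mem_support_mono h (Module.mem_support_iff.2 hP))

variable (I J : Ideal A) (s d : ℕ)

/-- Condition (3). -/
def Cond3 : Prop :=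
  ∀ p : PrimeSpectrum A, ¬ I ≤ p.asIdeal → (∀ q : PrimeSpectrum A, p ≤ q → I ≤ q.asIdeal → J ≤ q.asIdeal) →
    ∃ q : PrimeSpectrum A, p ≤ q ∧ J ≤ q.asIdeal ∧ I ≤ q.asIdeal ∧
      Formal2.dimBetween A p.asIdeal q.asIdeal ≤ ((d : ℕ∞) : WithBot ℕ∞)

/-- Condition (4). -/
def Cond4 : Prop :=
  ∀ p : PrimeSpectrum A, ¬ I ≤ p.asIdeal → ¬ (∀ q : PrimeSpectrum A, p ≤ q → I ≤ q.asIdeal → J ≤ q.asIdeal) →
    ∀ q : PrimeSpectrum A, p ≤ q → J ≤ q.asIdeal → I ≤ q.asIdeal →
      (s : ℕ∞) ≤ dep M p ∨ (((d + s : ℕ) : ℕ∞) : WithBot ℕ∞) <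
        ((dep M p : ℕ∞) : WithBot ℕ∞) + Formal2.dimBetween A p.asIdeal q.asIdeal

/-- The set `T`. -/
def InT (p : PrimeSpectrum A) : Prop := ∀ q : PrimeSpectrum A, p ≤ q → I ≤ q.asIdeal → J ≤ q.asIdeal

omit [IsNoetherianRing A] in
theorem InT.mono {p q : PrimeSpectrum A} (hp : InT I J p) (h : p ≤ q) : InT I J q :=
  fun r hr => hp r (h.trans hr)

include hω in
/-- The key inequality. -/
theorem good (h3 : Cond3 I J d) (h4 : Cond4 M I J s d) {P Q : PrimeSpectrum A} (hPT : ¬ InT I J P)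
    (hPI : ¬ I ≤ P.asIdeal) (hPQ : P ≤ Q) (hQT : InT I J Q) {δ : ℕ} (hδ : dep M P ≤ δ) :
    degree hω P + s < degree hω Q + δ := by
  have hlt : P < Q := lt_of_le_of_ne hPQ fun h => hPT (h ▸ hQT)
  have hdeg := DualDegree.degree_strictMono hω hlt
  have key : ∀ (R : PrimeSpectrum A), Q ≤ R → J ≤ R.asIdeal → I ≤ R.asIdeal →
      degree hω R ≤ degree hω Q + d → degree hω P + s < degree hω Q + δ := by
    intro R hQR hJR hIR hle
    have hPR := hPQ.trans hQR
    obtain ⟨n, hn⟩ := DualDegree.exists_degree_eq hω hPR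
    rcases h4 P hPI hPT R hPR hJR hIR with h | h
    · have : s ≤ δ := by exact_mod_cast h.trans hδ
      omega
    · rw [DualDegree.dimBetween hω hPR hn] at h
      have h2 := lt_of_lt_of_le h (add_le_add (WithBot.coe_le_coe.2 hδ) le_rfl)
      have h3' : d + s < δ + n := by exact_mod_cast h2
      omega
  by_cases hQI : I ≤ Q.asIdeal
  · exact key Q le_rfl (hQT Q le_rfl hQI) hQI (by omega)
  · obtain ⟨R, hQR, hJR, hIR, hdim⟩ := h3 Q hQI hQT
    obtain ⟨m, hm⟩ := DualDegree.exists_degree_eq hω hQR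
    rw [DualDegree.dimBetween hω hQR hm] at hdim
    have : m ≤ d := by exact_mod_cast hdim
    exact key R hQR hJR hIR (by omega)

include hω in
/-- Relevant primes: finitely many inside `T`, cut out by one ideal. -/
theorem exists_J₀ : ∃ J₀ : Ideal A, J₀ ≤ J ∧ (∀ p : PrimeSpectrum A, J₀ ≤ p.asIdeal → InT I J p) ∧
    ∀ (q : ℤ) (P : PrimeSpectrum A), Nontrivial (LocalizedModule P.asIdeal.primeCompl (Dual.inD A M ⟶ ω⟦q⟧)) →
      ∃ P₀ : PrimeSpectrum A, P₀ ≤ P ∧ (∃ δ : ℕ, q = degree hω P₀ - δ ∧ dep M P₀ ≤ δ) ∧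
        (InT I J P₀ → J₀ ≤ P₀.asIdeal) := by
  obtain ⟨a, b, hab⟩ := DualAvoid.exists_degree_bounds hω M
  let S : Set (Ideal A) := {P | ∃ h : P.IsPrime, InT I J ⟨P, h⟩ ∧
    ∃ q ∈ Set.Icc a b, P ∈ (Module.annihilator A (Dual.inD A M ⟶ ω⟦q⟧)).minimalPrimes}
  have hS : S.Finite := ((Set.finite_Icc a b).biUnion fun q _ =>
    Ideal.finite_minimalPrimes_of_isNoetherianRing A (Module.annihilator A (Dual.inD A M ⟶ ω⟦q⟧))).subset
      fun P hP => by
        obtain ⟨-, -, q, hq, hPq⟩ := hP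
        exact Set.mem_biUnion hq hPq
  refine ⟨J ⊓ hS.toFinset.inf id, inf_le_left, fun p hp => ?_, fun q P hnt => ?_⟩
  · rcases p.2.inf_le.1 hp with h | h
    · exact fun r hr _ => h.trans hr
    · obtain ⟨P, hP, hPp⟩ := (Ideal.IsPrime.inf_le' p.2).1 h
      obtain ⟨hpr, hPT, -⟩ := hS.mem_toFinset.1 hP
      exact hPT.mono I J (show (⟨P, hpr⟩ : PrimeSpectrum A) ≤ p from hPp)
  · haveI := DualVanishing.finite_hom hω M q
    have hq : q ∈ Set.Icc a b := by
      by_contra hq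
      haveI := hab q hq
      haveI : Subsingleton (LocalizedModule P.asIdeal.primeCompl (Dual.inD A M ⟶ ω⟦q⟧)) := by
        rw [LocalizedModule.subsingleton_iff]
        exact fun x => ⟨1, P.asIdeal.primeCompl.one_mem, Subsingleton.elim _ _⟩
      exact not_subsingleton _ ‹_›
    obtain ⟨P₀, hP₀, hP₀P⟩ := Ideal.exists_minimalPrimes_le
      (Module.mem_support_iff_of_finite.1 ((Module.mem_support_iff).2 hnt))
    haveI hP₀p : P₀.IsPrime := hP₀.1.1
    exact ⟨⟨P₀, hP₀p⟩, hP₀P, DualVanishing.exists_depth_le hω M ⟨P₀, hP₀p⟩ q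
      ((Module.mem_support_iff (p := ⟨P₀, hP₀p⟩)).1 (Module.mem_support_iff_of_finite.2 hP₀.1.2)),
      fun hT => inf_le_right.trans (Finset.inf_le (f := id) (hS.mem_toFinset.2 ⟨hP₀p, hT, q, hq, hP₀⟩))⟩

/-- From elementwise to uniform annihilation. -/
theorem exists_uniform {L : Ideal A} (E : ℕ → Type u) [∀ i, AddCommGroup (E i)] [∀ i, Module A (E i)]
    (h : ∀ f ∈ L, ∀ i ≤ s, ∃ k : ℕ, ∀ x : E i, f ^ k • x = 0) :
    ∃ n : ℕ, ∀ a ∈ L ^ n, ∀ i ≤ s, ∀ x : E i, a • x = 0 := by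
  let N : Ideal A := (Finset.range (s + 1)).inf fun i => Module.annihilator A (E i)
  have hle : L ≤ N.radical := fun f hf => by
    choose k hk using fun i : Finset.range (s + 1) => h f hf i.1 (Nat.lt_succ_iff.1 (Finset.mem_range.1 i.2))
    refine ⟨(Finset.range (s + 1)).attach.sup k, Submodule.mem_finsetInf.2 fun i hi => ?_⟩
    rw [Module.mem_annihilator]
    intro x
    obtain ⟨c, hc⟩ := Nat.exists_eq_add_of_le' (Finset.le_sup (f := k) (Finset.mem_attach _ ⟨i, hi⟩))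
    rw [hc, pow_add, mul_smul, hk ⟨i, hi⟩, smul_zero]
  obtain ⟨n, hn⟩ := Ideal.exists_pow_le_of_le_radical_of_fg hle (IsNoetherian.noetherian L)
  exact ⟨n, fun a ha i hi x => Module.mem_annihilator.1
    (Submodule.mem_finsetInf.1 (hn ha) i (Finset.mem_range.2 (by omega))) x⟩

include hω in
/-- Annihilation of local cohomology by criterion on relevant primes. -/
theorem exists_pow_killing (K L : Ideal A)
    (h : ∀ (q : ℤ) (P : PrimeSpectrum A), ¬ L ≤ P.asIdeal →
      Nontrivial (LocalizedModule P.asIdeal.primeCompl (Dual.inD A M ⟶ ω⟦q⟧)) →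
        ∀ Q : PrimeSpectrum A, P ≤ Q → K ≤ Q.asIdeal → (s : ℤ) + q < degree hω Q) :
    ∃ n : ℕ, ∀ a ∈ L ^ n, ∀ i ≤ s, ∀ x : LocCoh.H K i M, a • x = 0 := by
  haveI := DualVanishing.hasRgammaI K
  refine exists_uniform s (fun i => LocCoh.H K i M) fun f hf i hi => ?_
  obtain ⟨k, hk⟩ := DualTransfer.pk_HD_rgamma hω M K f (i : ℤ) fun q P hfP hnt Q hPQ hKQ => by
    have := h q P (fun hle => hfP (hle hf)) hnt Q hPQ hKQ
    omega
  obtain ⟨e⟩ := BridgeH.nonempty_HD_equiv_H K M i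
  exact ⟨k, fun x => e.symm.injective ((map_smul e.symm _ x).trans ((hk _).trans (map_zero _).symm))⟩

/-- Comparison maps are bijective once the depth on the difference is large. -/
theorem hmap_bijective_of_depth {K K' : Ideal A} (hle : K ≤ K')
    (h : ∀ p : PrimeSpectrum A, K ≤ p.asIdeal → ¬ K' ≤ p.asIdeal → (s : ℕ∞) < dep M p) (i : ℕ) (hi : i ≤ s) :
    Function.Bijective ((Dual2.HmapOfLE hle i).app (ModuleCat.of A M)).hom := by
  have hv : ∀ p : PrimeSpectrum A, K ≤ p.asIdeal → ¬ K' ≤ p.asIdeal → ∀ j ≤ s,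
      Subsingleton (LocCoh.H (IsLocalRing.maximalIdeal (Localization.AtPrime p.asIdeal)) j
        (LocalizedModule p.asIdeal.primeCompl M)) := by
    intro p hp hp' j hj
    haveI : IsNoetherianRing (Localization.AtPrime p.asIdeal) :=
      IsLocalization.isNoetherianRing p.asIdeal.primeCompl _ inferInstance
    have hd : ((s + 1 : ℕ) : ℕ∞) ≤ dep M p := by
      push_cast
      exact Order.add_one_le_of_lt (h p hp hp')
    exact (Groth.LocCohBase.le_idealDepth_iff_localCohomology _ _ _).1 hd j (by omega)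
  obtain ⟨h1, h2⟩ := Groth.Agent.S1806.result A K K' hle M i
  exact ⟨h2 fun p hp hp' j hj => hv p hp hp' j (by omega), h1 fun p hp hp' => hv p hp hp' i hi⟩

section Setup

variable (h3 : Cond3 I J d) (h4 : Cond4 M I J s d) {J₀ : Ideal A} (hJJ : J₀ ≤ J)
  (hsub : ∀ p : PrimeSpectrum A, J₀ ≤ p.asIdeal → InT I J p)
  (hrel : ∀ (q : ℤ) (P : PrimeSpectrum A), Nontrivial (LocalizedModule P.asIdeal.primeCompl (Dual.inD A M ⟶ ω⟦q⟧)) →
      ∃ P₀ : PrimeSpectrum A, P₀ ≤ P ∧ (∃ δ : ℕ, q = degree hω P₀ - δ ∧ dep M P₀ ≤ δ) ∧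
        (InT I J P₀ → J₀ ≤ P₀.asIdeal))

omit [IsNoetherianRing A] in
include hJJ hsub in
theorem zeroLocus_inter :
    PrimeSpectrum.zeroLocus ((J₀ : Ideal A) : Set A) ∩ PrimeSpectrum.zeroLocus ((I : Ideal A) : Set A) =
      PrimeSpectrum.zeroLocus ((J : Ideal A) : Set A) ∩ PrimeSpectrum.zeroLocus ((I : Ideal A) : Set A) := by
  ext p
  simp only [Set.mem_inter_iff, PrimeSpectrum.mem_zeroLocus, SetLike.coe_subset_coe]
  exact ⟨fun ⟨h1, h2⟩ => ⟨hsub p h1 p le_rfl h2, h2⟩, fun ⟨h1, h2⟩ => ⟨hJJ.trans h1, h2⟩⟩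

include h3 h4 hsub hrel in
/-- Powers of `J₀I` kill `H^{≤ s}_{J₀}`. -/
theorem exists_pow_mul_killing :
    ∃ n : ℕ, ∀ a ∈ (J₀ * I) ^ n, ∀ i ≤ s, ∀ x : LocCoh.H J₀ i M, a • x = 0 := by
  refine exists_pow_killing hω M s J₀ (J₀ * I) fun q P hL hnt Q hPQ hKQ => ?_
  obtain ⟨P₀, hP₀, ⟨δ, hq, hδ⟩, hT⟩ := hrel q P hnt
  have := good hω M I J s d h3 h4 (P := P₀) (Q := Q)
    (fun h => hL (Ideal.mul_le_left.trans ((hT h).trans hP₀)))
    (fun h => hL (Ideal.mul_le_right.trans (h.trans hP₀))) (hP₀.trans hPQ) (hsub Q hKQ) hδ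
  omega

include h3 h4 hrel in
/-- Depth on `T` outside `V(J₀)`. -/
theorem lt_dep {p : PrimeSpectrum A} (hpT : InT I J p) (hpJ : ¬ J₀ ≤ p.asIdeal) (hpI : ¬ I ≤ p.asIdeal) :
    (s : ℕ∞) < dep M p := by
  by_contra hle
  rw [not_lt] at hle
  obtain ⟨m, hm⟩ := ENat.ne_top_iff_exists.1 (ne_top_of_le_ne_top (ENat.natCast_ne_top s) hle)
  obtain ⟨P₀, hP₀, ⟨δ, hq, hδ⟩, hT⟩ := hrel _ p (exists_hom_of_depth_eq hω M p m hm.symm)
  have := good hω M I J s d h3 h4 (P := P₀) (Q := p) (fun h => hpJ ((hT h).trans hP₀))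
    (fun h => hpI (h.trans hP₀)) hP₀ hpT hδ
  have : m ≤ s := by
    rw [← hm] at hle
    exact_mod_cast hle
  omega

include h3 h4 hJJ hsub hrel in
/-- The system is constant from `J₀` on. -/
theorem bijective_hmap (J' : Ideal A) (hJ' : J' ≤ J₀)
    (h' : PrimeSpectrum.zeroLocus ((J' : Ideal A) : Set A) ∩ PrimeSpectrum.zeroLocus ((I : Ideal A) : Set A) =
      PrimeSpectrum.zeroLocus ((J : Ideal A) : Set A) ∩ PrimeSpectrum.zeroLocus ((I : Ideal A) : Set A))
    (i : ℕ) (hi : i ≤ s) : Function.Bijective ((Dual2.HmapOfLE hJ' i).app (ModuleCat.of A M)).hom := by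
  have hT : ∀ p : PrimeSpectrum A, J' ≤ p.asIdeal → InT I J p := fun p hp r hr hrI => by
    have : r ∈ PrimeSpectrum.zeroLocus ((J : Ideal A) : Set A) ∩ PrimeSpectrum.zeroLocus ((I : Ideal A) : Set A) :=
      h' ▸ ⟨hp.trans hr, hrI⟩
    exact this.1
  exact hmap_bijective_of_depth M s hJ' (fun p hp hp' =>
    lt_dep hω M I J s d h3 h4 hrel (hT p hp) hp' fun hI => hp' (hJJ.trans (hT p hp p le_rfl hI))) i hi

end Setup

end Groth.LocCohTransform.DualKillColimit
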