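import Groth.Agent.LocCohTransform.AlgebraizeVanish
import Groth.Agent.LocCohTransform.DualKillColimit

/-!
The fibre of `RΓ_J ω → (RΓ_J ω)^` seen by the residue modules `A/P`.
-/

set_option autoImplicit false
set_option linter.style.haveILetI false
set_option linter.unusedSectionVars false

universe u

open CategoryTheory CategoryTheory.Limits CategoryTheory.Pretriangulated
open Groth.DualCore Groth.LocCohTransform.RgammaCompute

attribute [local instance] HasDerivedCategory.standard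

namespace Groth.LocCohTransform.AlgebraizeFibre

open CompletionFunctor

variable {A : Type u} [CommRing A] [IsNoetherianRing A] (J I : Ideal A) [DRing.HasRgammaI J]
  [DRing.HasDerivedCompletion I] [DRing.HasRgammaI I]

/-- The test map `RΓ_I U → U`, shifted. -/
theorem exists_test (Y : Type u) [AddCommGroup Y] [Module A Y] (K : Ideal A) (hY : LocCoh.IsPowerTorsion K Y) (n : ℤ) :
    ∃ (T : Dual.D A) (τ : T ⟶ (Dual.inD A Y)⟦n⟧), IsIso ((comp I).map τ) ∧
      (∀ i, LocCoh.IsPowerTorsion I (Dual.HD A T i)) ∧ (∀ i, LocCoh.IsPowerTorsion (K ⊔ I) (Dual.HD A T i)) ∧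
      ∀ d : ℕ, LocCoh.CdLE A I d → T.IsLE ((d : ℤ) - n) := by
  haveI := DualVanishing.hasRgammaI K
  haveI := DualVanishing.hasRgammaI (K ⊔ I)
  let U : Dual.D A := Dual.inD A Y
  let ε := (DRing.RgammaIε I).app U
  haveI : IsIso ((comp I).map ε) := GreenleesMay.isIso_map_ε I U
  haveI := RgammaTorsion.isIso_ε K U (RgammaDualizing.isPowerTorsion_inD K Y hY)
  obtain ⟨e⟩ := RgammaTorsion.nonempty_comp_iso K I U
  have hK : ∀ i, LocCoh.IsPowerTorsion (K ⊔ I) (Dual.HD A ((DRing.RgammaI I).obj U) i) := fun i =>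
    RgammaTorsion.isPowerTorsion_of_linearEquiv (K ⊔ I)
      ((DerivedCategory.homologyFunctor (ModuleCat.{u} A) i).mapIso
        (((DRing.RgammaI I).mapIso (asIso ((DRing.RgammaIε K).app U))).symm ≪≫ e)).toLinearEquiv.symm
      (RgammaTorsion.isPowerTorsion_rgamma (K ⊔ I) U i)
  refine ⟨((DRing.RgammaI I).obj U)⟦n⟧, ε⟦n⟧', ?_,
    RgammaDualizing.isPowerTorsion_shift I _ (RgammaTorsion.isPowerTorsion_rgamma I U) n,
    RgammaDualizing.isPowerTorsion_shift (K ⊔ I) _ hK n, fun d hd => ?_⟩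
  · exact (NatIso.isIso_map_iff ((comp I).commShiftIso n) ε).2
      (by show IsIso (((comp I).map ε)⟦n⟧'); infer_instance)
  · haveI := BridgeH.isLE_rgamma_inD I Y d hd
    exact DerivedCategory.TStructure.t.isLE_shift ((DRing.RgammaI I).obj U) (d : ℤ) n ((d : ℤ) - n) (by omega)

variable {I}

omit [DRing.HasRgammaI J] [DRing.HasRgammaI I] [IsNoetherianRing A] in
/-- Maps to a completion are detected by the test map. -/
theorem eq_zero_of_test {T U X : Dual.D A} (τ : T ⟶ U) [IsIso ((comp I).map τ)] (φ : U ⟶ (comp I).obj X)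
    (h : τ ≫ φ = 0) : φ = 0 := by
  obtain ⟨g, rfl⟩ := (precomp_bijective I _ (complete_comp I X)).2 φ
  have h1 : (η I).app _ ≫ (comp I).map τ ≫ g = 0 := by
    rw [← Category.assoc, ← (η I).naturality τ, Category.assoc]
    exact h
  have h2 : (comp I).map τ ≫ g = 0 := (precomp_bijective I _ (complete_comp I X)).1 (h1.trans comp_zero.symm)
  have h3 : g = 0 := by rw [← cancel_epi ((comp I).map τ), h2, comp_zero]
  rw [h3]
  exact comp_zero

variable {J} {ω : Dual.D A}

/-- `Hom(Y⟦n⟧, (RΓ_J ω)^) = 0` below the degrees over `V(J + I + K)` minus the cohomological dimension. -/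
theorem subsingleton_hom_comp_of_cd (hω : Dual.IsDualizing A ω) (Y : Type u) [AddCommGroup Y] [Module A Y]
    (K : Ideal A) (hY : LocCoh.IsPowerTorsion K Y) (d : ℕ) (hd : LocCoh.CdLE A I d) (p : ℤ)
    (h : ∀ R : PrimeSpectrum A, J ≤ R.asIdeal → I ≤ R.asIdeal → K ≤ R.asIdeal → p + d < degree hω R) :
    Subsingleton ((Dual.inD A Y)⟦-p⟧ ⟶ (comp I).obj ((DRing.RgammaI J).obj ω)) := by
  obtain ⟨T, τ, hτ, hTI, hTK, hTd⟩ := exists_test I Y K hY (-p)
  haveI := hτ
  haveI := hTd d hd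
  haveI := DualVanishing.hasRgammaI (K ⊔ I)
  haveI := DualVanishing.hasRgammaI (J ⊔ (K ⊔ I))
  refine subsingleton_of_forall_eq 0 fun φ => eq_zero_of_test τ φ ?_
  obtain ⟨ψ, hψ⟩ := (GreenleesMay.comp_η_bijective I hTI ((DRing.RgammaI J).obj ω)).2 (τ ≫ φ)
  obtain ⟨ψ', rfl⟩ := (RgammaTorsion.comp_ε_bijective (K ⊔ I) T ((DRing.RgammaI J).obj ω) hTK).2 ψ
  obtain ⟨e⟩ := RgammaTorsion.nonempty_comp_iso J (K ⊔ I) ω
  haveI : ((DRing.RgammaI (J ⊔ (K ⊔ I))).obj ω).IsGE (p + d + 1) := CompletionAmplitude.isGE_of_subsingleton _ _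
    fun j hj => DualVanishing.subsingleton_HD_rgamma hω (J ⊔ (K ⊔ I)) (p + d)
      (fun R hR => h R (le_sup_left.trans hR) ((le_sup_right.trans le_sup_right).trans hR)
        ((le_sup_left.trans le_sup_right).trans hR)) j (by omega)
  have h0 : ψ' ≫ e.hom = 0 :=
    DerivedCategory.TStructure.t.zero_of_isLE_of_isGE _ ((d : ℤ) - -p) (p + d + 1) (by omega) inferInstance inferInstance
  have h1 : ψ' = 0 := by rw [← cancel_mono e.hom, h0, zero_comp]
  rw [← hψ, h1]
  simp

variable {L F : Dual.D A} {b : (comp I).obj L ⟶ F} {c : F ⟶ L⟦(1 : ℤ)⟧}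
  (hF : Triangle.mk ((η I).app L) b c ∈ distTriang (Dual.D A))

omit [IsNoetherianRing A] [DRing.HasRgammaI J] [DRing.HasRgammaI I] in
include hF in
theorem isZero_comp_fibre : IsZero ((comp I).obj F) := by
  refine (Triangle.isZero₃_iff_isIso₁ _ ((comp I).map_distinguished _ hF)).2 ?_
  show IsIso ((comp I).map ((η I).app L))
  haveI := isIso_η_of_complete I (complete_comp I L)
  have e : (comp I).map ((η I).app L) = (η I).app ((comp I).obj L) := by
    refine (precomp_bijective I L (complete_comp I _)).1 ?_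
    exact ((η I).naturality ((η I).app L)).symm
  rw [e]; infer_instance

include hF in
/-- `V(I)`: torsion objects do not see the fibre. -/
theorem subsingleton_of_torsion (Y : Type u) [AddCommGroup Y] [Module A Y] (hY : LocCoh.IsPowerTorsion I Y) (n : ℤ) :
    Subsingleton ((Dual.inD A Y)⟦n⟧ ⟶ F) :=
  subsingleton_of_forall_eq 0 fun φ => GreenleesMay.hom_eq_zero I
    (RgammaDualizing.isPowerTorsion_shift I _ (RgammaDualizing.isPowerTorsion_inD I Y hY) n)
    (isZero_comp_fibre hF) φ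

omit [IsNoetherianRing A] [DRing.HasRgammaI J] [DRing.HasRgammaI I] in
include hF in
/-- Exactness. -/
theorem subsingleton_of_hom (U : Dual.D A) (h₁ : Function.Surjective fun φ : U ⟶ L => φ ≫ (η I).app L)
    (h₂ : ∀ φ : U ⟶ L⟦(1 : ℤ)⟧, φ ≫ ((η I).app L)⟦(1 : ℤ)⟧' = 0 → φ = 0) : Subsingleton (U ⟶ F) := by
  refine subsingleton_of_forall_eq 0 fun φ => ?_
  have hc : φ ≫ c = 0 := h₂ _ (by
    have := comp_distTriang_mor_zero₃₁ _ hF
    dsimp at this
    exact (Category.assoc _ _ _).trans ((congrArg (φ ≫ ·) this).trans comp_zero))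
  obtain ⟨ψ, rfl⟩ := Triangle.coyoneda_exact₃ _ hF φ hc
  obtain ⟨χ, rfl⟩ := h₁ ψ
  have := comp_distTriang_mor_zero₁₂ _ hF
  exact (Category.assoc _ _ _).trans ((congrArg (χ ≫ ·) this).trans comp_zero)

omit [IsNoetherianRing A] [DRing.HasRgammaI J] [DRing.HasRgammaI I] in
include hF in
/-- The way back. -/
theorem bijective_postcomp (U : Dual.D A) (h : Subsingleton (U ⟶ F)) (h' : Subsingleton (U⟦(1 : ℤ)⟧ ⟶ F)) :
    Function.Bijective fun φ : U ⟶ L => φ ≫ (η I).app L := by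
  constructor
  · refine (injective_iff_map_eq_zero (Preadditive.rightComp U ((η I).app L))).2 fun φ hφ => ?_
    have h0 : φ⟦(1 : ℤ)⟧' ≫ ((η I).app L)⟦(1 : ℤ)⟧' = 0 := by
      rw [← Functor.map_comp]
      exact (congrArg (fun ψ => ψ⟦(1 : ℤ)⟧') hφ).trans (Functor.map_zero _ _ _)
    obtain ⟨ψ, hψ⟩ := (Triangle.mk ((η I).app L) b c).coyoneda_exact₁ hF (φ⟦(1 : ℤ)⟧') h0
    have hψ0 : ψ = 0 := @Subsingleton.elim _ h' ψ 0
    exact (shiftFunctor (Dual.D A) (1 : ℤ)).map_injective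
      ((hψ.trans ((congrArg (· ≫ _) hψ0).trans zero_comp)).trans (Functor.map_zero _ _ _).symm)
  · intro ψ
    obtain ⟨χ, hχ⟩ := Triangle.coyoneda_exact₂ _ hF ψ (h.elim _ _)
    exact ⟨χ, hχ.symm⟩

variable (hL : L = (DRing.RgammaI J).obj ω) (hωc : DRing.IsDerivedComplete I ω)

include hωc in
/-- `V(J)`: both sides are `Hom(-, ω)`. -/
theorem bijective_of_torsion (Y : Type u) [AddCommGroup Y] [Module A Y] (hY : LocCoh.IsPowerTorsion J Y) (n : ℤ) :
    Function.Bijective fun φ : (Dual.inD A Y)⟦n⟧ ⟶ (DRing.RgammaI J).obj ω =>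
      φ ≫ (η I).app ((DRing.RgammaI J).obj ω) := by
  let L := (DRing.RgammaI J).obj ω
  let εJ := (DRing.RgammaIε J).app ω
  haveI := isIso_η_of_complete I hωc
  have hnat : (η I).app L ≫ (comp I).map εJ = εJ ≫ (η I).app ω := ((η I).naturality εJ).symm
  have hU := RgammaDualizing.isPowerTorsion_shift J _ (RgammaDualizing.isPowerTorsion_inD J Y hY) n
  have hinj : ∀ {T : Dual.D A}, (∀ i, LocCoh.IsPowerTorsion J (Dual.HD A T i)) → ∀ w : T ⟶ L,
      w ≫ (η I).app L ≫ (comp I).map εJ = 0 → w = 0 := by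
    intro T hT w hw
    rw [hnat, ← Category.assoc, Preadditive.IsIso.comp_right_eq_zero] at hw
    exact (RgammaTorsion.comp_ε_bijective J T ω hT).1 (hw.trans zero_comp.symm)
  constructor
  · refine (injective_iff_map_eq_zero (Preadditive.rightComp _ ((η I).app L))).2 fun φ hφ => hinj hU φ ?_
    rw [← Category.assoc]
    exact (congrArg (· ≫ (comp I).map εJ) hφ).trans zero_comp
  · intro ψ
    obtain ⟨φ, hφ⟩ := (RgammaTorsion.comp_ε_bijective J _ ω hU).2 (ψ ≫ (comp I).map εJ ≫ inv ((η I).app ω))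
    change φ ≫ εJ = _ at hφ
    refine ⟨φ, ?_⟩
    obtain ⟨T, τ, hτ, hTI, hTJI, -⟩ := exists_test I Y J hY n
    haveI := hτ
    rw [← sub_eq_zero]
    refine eq_zero_of_test τ _ ?_
    obtain ⟨w, hw⟩ := (GreenleesMay.comp_η_bijective I hTI L).2 (τ ≫ (φ ≫ (η I).app L - ψ))
    change w ≫ (η I).app L = _ at hw
    have hTJ : ∀ i, LocCoh.IsPowerTorsion J (Dual.HD A T i) := fun i x => by
      obtain ⟨m, hm⟩ := hTJI i x
      exact ⟨m, fun a ha => hm a (Ideal.pow_right_mono le_sup_left m ha)⟩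
    have hz : (φ ≫ (η I).app L - ψ) ≫ (comp I).map εJ = 0 := by
      rw [Preadditive.sub_comp, Category.assoc, hnat, ← Category.assoc, hφ, Category.assoc, Category.assoc,
        IsIso.inv_hom_id]
      exact sub_eq_zero.2 (congrArg (ψ ≫ ·) (Category.comp_id _))
    have hw0 : w = 0 := hinj hTJ w (by rw [← Category.assoc, hw, Category.assoc, hz, comp_zero])
    rw [← hw, hw0]
    exact zero_comp

end Groth.LocCohTransform.AlgebraizeFibre
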