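import Groth.Agent.LocCohTransform.AlgebraizeFibre
import Mathlib.RingTheory.Ideal.Quotient.Operations

/-!
Algebraization of local cohomology: `RΓ_J M → (RΓ_J M)^` in low degrees.
-/

set_option autoImplicit false
set_option linter.style.haveILetI false
set_option linter.unusedSectionVars false

universe u

open CategoryTheory CategoryTheory.Limits CategoryTheory.Pretriangulated
open Groth.DualCore Groth.LocCohTransform.RgammaCompute

attribute [local instance] HasDerivedCategory.standard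

namespace Groth.LocCohTransform.AlgebraizeMain

open CompletionFunctor

variable {A : Type u} [CommRing A]

theorem subsingleton_shift_iff (U X : Dual.D A) (p : ℤ) :
    Subsingleton (U⟦-p⟧ ⟶ X) ↔ Subsingleton (U ⟶ X⟦p⟧) :=
  ((shiftEquiv' (Dual.D A) (-p) p (neg_add_cancel p)).toAdjunction.homEquiv U X).subsingleton_congr

/-- Dévissage through `A/P`. -/
theorem subsingleton_hom_module [IsNoetherianRing A] (W : Dual.D A) (N : Type u) [AddCommGroup N] [Module A N]
    [Module.Finite A N]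
    (h : ∀ P ∈ Module.support A N, Subsingleton (Dual.inD A (A ⧸ P.asIdeal) ⟶ W)) :
    Subsingleton (Dual.inD A N ⟶ W) := by
  revert h
  induction ‹Module.Finite A N› using IsNoetherianRing.induction_on_isQuotientEquivQuotientPrime A with
  | subsingleton N =>
    intro _
    exact ⟨fun u v => (Functor.map_isZero (DerivedCategory.singleFunctor (ModuleCat.{u} A) 0)
      (ModuleCat.isZero_of_subsingleton (ModuleCat.of A N))).eq_of_src u v⟩
  | quotient N p e =>
    intro h
    haveI := h p (by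
      rw [e.support_eq, Module.mem_support_iff_of_finite, Ideal.annihilator_quotient])
    exact Groth.DualCore.subsingleton_hom_of_iso
      ((DerivedCategory.singleFunctor (ModuleCat.{u} A) 0).mapIso e.toModuleIso).symm W
  | exact N₁ N₂ N₃ f g hf hg hfg h1 h3 =>
    intro h
    have h1' := h1 fun P hP => h P (Module.support_subset_of_injective f hf hP)
    have h3' := h3 fun P hP => h P (Module.support_subset_of_surjective g hg hP)
    let S : ShortComplex (ModuleCat.{u} A) := ShortComplex.mk (ModuleCat.ofHom f) (ModuleCat.ofHom g)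
      (ModuleCat.hom_ext hfg.linearMap_comp_eq_zero)
    have hS : S.ShortExact :=
      { exact := (ShortComplex.moduleCat_exact_iff _).2 fun x hx => (hfg x).1 hx
        mono_f := (ModuleCat.mono_iff_injective _).2 hf
        epi_g := (ModuleCat.epi_iff_surjective _).2 hg }
    refine subsingleton_of_forall_eq 0 fun u => ?_
    obtain ⟨v, hv⟩ := hS.singleTriangle.yoneda_exact₂ hS.singleTriangle_distinguished u (h1'.elim _ _)
    have hv0 : v = 0 := h3'.elim _ _
    exact hv.trans ((congrArg (_ ≫ ·) hv0).trans comp_zero)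

variable [IsNoetherianRing A]

theorem isPowerTorsion_quotient {K : Ideal A} {P : Ideal A} (h : K ≤ P) : LocCoh.IsPowerTorsion K (A ⧸ P) :=
  fun x => ⟨1, fun a ha => by
    rw [pow_one] at ha
    obtain ⟨x, rfl⟩ := Ideal.Quotient.mk_surjective x
    rw [Algebra.smul_def, Ideal.Quotient.algebraMap_eq, ← map_mul, Ideal.Quotient.eq_zero_iff_mem]
    exact P.mul_mem_right _ (h ha)⟩

/-- The sequence `0 → A/P → A/P → A/(P + a) → 0`. -/
theorem eq_zero_of_smul (P : PrimeSpectrum A) (W : Dual.D A) {a : A} (ha : a ∉ P.asIdeal)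
    (h : ∀ P' : PrimeSpectrum A, P < P' → Subsingleton (Dual.inD A (A ⧸ P'.asIdeal) ⟶ W))
    (φ : Dual.inD A (A ⧸ P.asIdeal) ⟶ W) (hφ : a • φ = 0) : φ = 0 := by
  let Y := A ⧸ P.asIdeal
  let f : Y →ₗ[A] Y := a • LinearMap.id
  let g : Y →ₗ[A] A ⧸ (P.asIdeal ⊔ Ideal.span {a}) := (Submodule.factor le_sup_left)
  have hf : Function.Injective f := (injective_iff_map_eq_zero f).2 fun x hx => by
    obtain ⟨x, rfl⟩ := Ideal.Quotient.mk_surjective x
    change a • Ideal.Quotient.mk P.asIdeal x = 0 at hx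
    rw [Algebra.smul_def, Ideal.Quotient.algebraMap_eq, ← map_mul, Ideal.Quotient.eq_zero_iff_mem] at hx
    exact Ideal.Quotient.eq_zero_iff_mem.2 ((P.2.mem_or_mem hx).resolve_left ha)
  have hg : Function.Surjective g := Submodule.factor_surjective _
  have hfg : Function.Exact f g := fun x => by
    obtain ⟨x, rfl⟩ := Submodule.Quotient.mk_surjective _ x
    show (Submodule.Quotient.mk x : A ⧸ (P.asIdeal ⊔ Ideal.span {a})) = 0 ↔ _
    rw [Submodule.Quotient.mk_eq_zero, Submodule.mem_sup]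
    constructor
    · rintro ⟨u, hu, v, hv, rfl⟩
      obtain ⟨c, rfl⟩ := Ideal.mem_span_singleton.1 hv
      refine ⟨Submodule.Quotient.mk c, ?_⟩
      show a • (Submodule.Quotient.mk c : A ⧸ P.asIdeal) = _
      rw [← Submodule.Quotient.mk_smul, Submodule.Quotient.eq]
      simpa [smul_eq_mul] using P.asIdeal.neg_mem hu
    · rintro ⟨c, hc⟩
      obtain ⟨c, rfl⟩ := Submodule.Quotient.mk_surjective _ c
      change a • (Submodule.Quotient.mk c : A ⧸ P.asIdeal) = _ at hc
      rw [← Submodule.Quotient.mk_smul, Submodule.Quotient.eq] at hc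
      exact ⟨-(a • c - x), P.asIdeal.neg_mem hc, a * c, Ideal.mem_span_singleton.2 ⟨c, rfl⟩, by
        rw [smul_eq_mul]; ring⟩
  let S : ShortComplex (ModuleCat.{u} A) := ShortComplex.mk (ModuleCat.ofHom f) (ModuleCat.ofHom g)
    (ModuleCat.hom_ext hfg.linearMap_comp_eq_zero)
  have hS : S.ShortExact :=
    { exact := (ShortComplex.moduleCat_exact_iff _).2 fun x hx => (hfg x).1 hx
      mono_f := (ModuleCat.mono_iff_injective _).2 hf
      epi_g := (ModuleCat.epi_iff_surjective _).2 hg }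
  have h1 : (DerivedCategory.singleFunctor (ModuleCat.{u} A) 0).map (ModuleCat.ofHom f) ≫ φ = 0 := by
    rw [show ModuleCat.ofHom f = a • 𝟙 (ModuleCat.of A Y) from rfl, Functor.map_smul, CategoryTheory.Functor.map_id,
      Linear.smul_comp, Category.id_comp, hφ]
  obtain ⟨v, hv⟩ := hS.singleTriangle.yoneda_exact₂ hS.singleTriangle_distinguished φ h1
  have h3 : Subsingleton (Dual.inD A (A ⧸ (P.asIdeal ⊔ Ideal.span {a})) ⟶ W) :=
    subsingleton_hom_module W _ fun P' hP' => h P' (by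
      rw [Module.mem_support_iff_of_finite, Ideal.annihilator_quotient] at hP'
      refine lt_of_le_not_ge (le_sup_left.trans hP') fun hle => ha (hle ?_)
      exact hP' (Ideal.mem_sup_right (Ideal.mem_span_singleton_self a)))
  have hv0 : v = 0 := h3.elim _ _
  exact hv.trans ((congrArg (_ ≫ ·) hv0).trans comp_zero)

variable {ω : Dual.D A} (hω : Dual.IsDualizing A ω) (J I : Ideal A) [DRing.HasRgammaI J]
  [DRing.HasDerivedCompletion I] [DRing.HasRgammaI I]

/-- `(RΓ_J ω)^`. -/
noncomputable abbrev Lhat (ω : Dual.D A) : Dual.D A := (comp I).obj ((DRing.RgammaI J).obj ω)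

theorem exists_resolution (Y : Type u) [AddCommGroup Y] [Module A Y] [Module.Finite A Y] :
    ∃ P : DRing.Cx A, (∀ p, Module.Finite A (P.X p) ∧ Module.Free A (P.X p)) ∧ (∀ p, 0 < p → IsZero (P.X p)) ∧
      Nonempty (DerivedCategory.Q.obj P ≅ Dual.inD A Y) := by
  let C : DRing.Cx A := (HomologicalComplex.single (ModuleCat.{u} A) (ComplexShape.up ℤ) 0).obj (ModuleCat.of A Y)
  let e : DerivedCategory.Q.obj C ≅ Dual.inD A Y :=
    ((DerivedCategory.singleFunctorIsoCompQ (ModuleCat.{u} A) 0).app (ModuleCat.of A Y)).symm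
  have hfin : ∀ i, Module.Finite A (C.homology i) := fun i =>
    haveI := finite_HD_inD (A := A) Y i
    Module.Finite.equiv ((((DerivedCategory.homologyFunctor (ModuleCat.{u} A) i).mapIso e).toLinearEquiv.symm).trans
      (RgammaTorsion.hdEquiv C i))
  obtain ⟨P, φ, hφ, hfree, hPb⟩ := Groth.CohBase.FiniteFree.exists_quasiIso (C := C) hfin 0 fun n hn => by
    haveI := Groth.DerComplete.subsingleton_HD_inD (A := A) Y (n := n) (by omega)
    haveI : Subsingleton (C.homology n) :=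
      ((((DerivedCategory.homologyFunctor (ModuleCat.{u} A) n).mapIso e).toLinearEquiv.symm).trans
        (RgammaTorsion.hdEquiv C n)).symm.toEquiv.subsingleton
    exact ModuleCat.isZero_of_subsingleton _
  haveI : IsIso (DerivedCategory.Q.map φ) := (DerivedCategory.isIso_Q_map_iff_quasiIso _ φ).2 hφ
  exact ⟨P, hfree, hPb, ⟨asIso (DerivedCategory.Q.map φ) ≪≫ e⟩⟩

include hω in
/-- Low degrees of `Hom(A/P, (RΓ_J ω)^)`. -/
theorem subsingleton_Lhat [IsAdicComplete I A] (P : PrimeSpectrum A) (p : ℤ)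
    (h : p < degree hω P ∨
      (p = degree hω P ∧ ∃ R : PrimeSpectrum A, P ≤ R ∧ I ≤ R.asIdeal ∧ ¬ J ≤ R.asIdeal)) :
    Subsingleton (Dual.inD A (A ⧸ P.asIdeal) ⟶ (Lhat J I ω)⟦p⟧) := by
  obtain ⟨a, b, hab⟩ := hω.finite_injective_dimension
  obtain ⟨r⟩ := exists_injRep ω a b hab
  obtain ⟨Q, hQ, hQb, ⟨eQ⟩⟩ := exists_resolution (A := A) (A ⧸ P.asIdeal)
  let Z := AlgebraizeRHom.Z r Q
  have eH : ∀ n, Nonempty (Dual.HD A Z n ≃ₗ[A] (Dual.inD A (A ⧸ P.asIdeal) ⟶ ω⟦n⟧)) := fun n => by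
    obtain ⟨e⟩ := AlgebraizeRHom.nonempty_HD_Z r Q n
    exact ⟨e.trans (Linear.homCongr A eQ (Iso.refl _))⟩
  obtain ⟨lo, hi, hb⟩ := DualAvoid.exists_degree_bounds hω (A ⧸ P.asIdeal)
  haveI : DerivedCategory.IsGE Z (degree hω P) := CompletionAmplitude.isGE_of_subsingleton _ _ fun n hn => by
    obtain ⟨e⟩ := eH n
    haveI := DualVanishing.subsingleton_hom_of_degree hω (A ⧸ P.asIdeal) n fun R hR => by
      rw [Module.mem_support_iff_of_finite, Ideal.annihilator_quotient] at hR
      exact lt_of_lt_of_le hn (DualDegree.degree_mono hω hR)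
    exact e.toEquiv.subsingleton
  haveI : DerivedCategory.IsLE Z hi := CompletionAmplitude.isLE_of_subsingleton _ _ fun n hn => by
    obtain ⟨e⟩ := eH n
    haveI := hb n fun hm => absurd hm.2 (not_le.2 hn)
    exact e.toEquiv.subsingleton
  have hfin : ∀ n, Module.Finite A (Dual.HD A Z n) := fun n => by
    obtain ⟨e⟩ := eH n
    haveI := DualVanishing.finite_hom hω (A ⧸ P.asIdeal) n
    exact Module.Finite.equiv e.symm
  obtain ⟨-, ⟨e⟩⟩ := AlgebraizeRHom.main r J I Q 0 hQb hQ p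
  have hsub : Subsingleton (AlgebraizeVanish.HC J I Z p) := by
    rcases h with h | ⟨rfl, R, hPR, hIR, hJR⟩
    · exact AlgebraizeVanish.subsingleton_HC J I Z (degree hω P) hi hfin p h
    · refine AlgebraizeVanish.subsingleton_HC_bottom J I Z (degree hω P) hi hfin fun x J' hJ' hx => ?_
      have hne : ¬ J' ≤ P.asIdeal := fun hle => hJR (hJ'.trans ((Ideal.radical_mono
        (sup_le (hle.trans hPR) hIR)).trans R.2.radical.le))
      obtain ⟨a, haJ', haP⟩ := SetLike.not_le_iff_exists.1 hne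
      obtain ⟨e'⟩ := eH (degree hω P)
      refine e'.injective ((eq_zero_of_smul P _ haP (fun P' hP' => ?_) (e' x) ?_).trans (map_zero e').symm)
      · refine DualVanishing.subsingleton_hom_of_degree hω (A ⧸ P'.asIdeal) _ fun R' hR' => ?_
        rw [Module.mem_support_iff_of_finite, Ideal.annihilator_quotient] at hR'
        exact lt_of_lt_of_le (DualDegree.degree_strictMono hω hP') (DualDegree.degree_mono hω hR')
      · rw [← map_smul, hx a haJ', map_zero]
  exact (e.trans (Linear.homCongr A eQ (Iso.refl _))).symm.toEquiv.subsingleton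

include hω in
theorem subsingleton_Lhat_of_cd (P : PrimeSpectrum A) (p : ℤ) (d : ℕ) (hd : LocCoh.CdLE A I d)
    (h : ∀ R : PrimeSpectrum A, P ≤ R → J ≤ R.asIdeal → I ≤ R.asIdeal → p + d < degree hω R) :
    Subsingleton (Dual.inD A (A ⧸ P.asIdeal) ⟶ (Lhat J I ω)⟦p⟧) :=
  (subsingleton_shift_iff _ _ p).1 (AlgebraizeFibre.subsingleton_hom_comp_of_cd hω (A ⧸ P.asIdeal) P.asIdeal
    (isPowerTorsion_quotient le_rfl) d hd p fun R hJ hI hP => h R hP hJ hI)

variable {F : Dual.D A} {b : Lhat J I ω ⟶ F} {c : F ⟶ ((DRing.RgammaI J).obj ω)⟦(1 : ℤ)⟧}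
  (hF : Triangle.mk ((η I).app ((DRing.RgammaI J).obj ω)) b c ∈ distTriang (Dual.D A))

omit [IsNoetherianRing A] [DRing.HasRgammaI I] in
theorem inj_shift (U L : Dual.D A) (h : Function.Injective fun w : U⟦(-1 : ℤ)⟧ ⟶ L => w ≫ (η I).app L)
    (φ : U ⟶ L⟦(1 : ℤ)⟧) (hφ : φ ≫ ((η I).app L)⟦(1 : ℤ)⟧' = 0) : φ = 0 := by
  let k := shiftFunctorCompIsoId (Dual.D A) (1 : ℤ) (-1) (by norm_num)
  have h1 : (φ⟦(-1 : ℤ)⟧' ≫ k.hom.app L) ≫ (η I).app L = 0 := by
    rw [Category.assoc]
    refine (congrArg (φ⟦(-1 : ℤ)⟧' ≫ ·) (k.hom.naturality ((η I).app L)).symm).trans ?_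
    rw [← Category.assoc]
    refine (congrArg (· ≫ _) ((Functor.map_comp _ _ _).symm.trans ((congrArg (fun ψ => ψ⟦(-1 : ℤ)⟧') hφ).trans
      (Functor.map_zero _ _ _)))).trans zero_comp
  have h2 : φ⟦(-1 : ℤ)⟧' ≫ k.hom.app L = 0 := h (h1.trans zero_comp.symm)
  rw [Preadditive.IsIso.comp_right_eq_zero] at h2
  exact (shiftFunctor (Dual.D A) (-1 : ℤ)).map_injective (h2.trans (Functor.map_zero _ _ _).symm)

include hω hF in
theorem subsingleton_fibre_V_J [IsAdicComplete I A] (P : PrimeSpectrum A) (hP : J ≤ P.asIdeal) (p : ℤ) :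
    Subsingleton (Dual.inD A (A ⧸ P.asIdeal) ⟶ F⟦p⟧) := by
  have hωc : DRing.IsDerivedComplete I ω := by
    rw [Groth.DerComplete.isDerivedComplete_iff]
    intro f hf n
    haveI := hω.finite_cohomology n
    exact CompletionFunctor.complete_of_finite I (Dual.HD A ω n) f hf
  let U := Dual.inD A (A ⧸ P.asIdeal)
  have hb := fun n => AlgebraizeFibre.bijective_of_torsion (J := J) (I := I) hωc (A ⧸ P.asIdeal)
    (isPowerTorsion_quotient hP) n
  refine (subsingleton_shift_iff _ _ p).1 (AlgebraizeFibre.subsingleton_of_hom hF _ (hb (-p)).2 fun φ hφ => ?_)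
  refine inj_shift I _ _ (fun w w' hw => ?_) φ hφ
  let e := ((shiftFunctorAdd' (Dual.D A) (-p) (-1) (-p + -1) rfl).app U)
  rw [← cancel_epi e.hom]
  exact (hb (-p + -1)).1 (by
    show (e.hom ≫ w) ≫ _ = (e.hom ≫ w') ≫ _
    rw [Category.assoc, Category.assoc]
    exact congrArg (e.hom ≫ ·) hw)

include hω hF in
/-- Vanishing for `A/P` by Noetherian induction. -/
theorem subsingleton_fibre [IsAdicComplete I A] (p : ℤ) (P : PrimeSpectrum A)
    (h : ∀ P' : PrimeSpectrum A, P ≤ P' → ¬ I ≤ P'.asIdeal → ¬ J ≤ P'.asIdeal →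
      Subsingleton (Dual.inD A (A ⧸ P'.asIdeal) ⟶ (Lhat J I ω)⟦p⟧)) :
    Subsingleton (Dual.inD A (A ⧸ P.asIdeal) ⟶ F⟦p⟧) := by
  revert h
  have hwf : WellFoundedGT (PrimeSpectrum A) :=
    StrictAnti.wellFoundedGT (f := fun Q : PrimeSpectrum A => OrderDual.toDual Q.asIdeal) fun _ _ hxy => hxy
  induction P using hwf.induction with
  | ind P ih =>
    intro h
    by_cases hPI : I ≤ P.asIdeal
    · exact (subsingleton_shift_iff _ _ p).1
        (AlgebraizeFibre.subsingleton_of_torsion hF (A ⧸ P.asIdeal) (isPowerTorsion_quotient hPI) (-p))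
    by_cases hPJ : J ≤ P.asIdeal
    · exact subsingleton_fibre_V_J hω J I hF P hPJ p
    have hL0 : Subsingleton ((Dual.inD A (A ⧸ P.asIdeal))⟦-p⟧ ⟶ Lhat J I ω) :=
      (subsingleton_shift_iff _ _ p).2 (h P le_rfl hPI hPJ)
    refine (subsingleton_shift_iff _ _ p).1 (subsingleton_of_forall_eq 0 fun φ => ?_)
    obtain ⟨a₀, b₀, hab⟩ := hω.finite_injective_dimension
    obtain ⟨r⟩ := exists_injRep ω a₀ b₀ hab
    obtain ⟨Q, hQ, hQb, ⟨eQ⟩⟩ := exists_resolution (A := A) (A ⧸ P.asIdeal)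
    obtain ⟨e⟩ := AlgebraizeRHom.nonempty_HD_rgamma_Z r J Q 0 hQb hQ (1 + p)
    let U := Dual.inD A (A ⧸ P.asIdeal)
    let i₁ := (shiftFunctorCompIsoId (Dual.D A) (-p) p (neg_add_cancel p)).app U
    let i₂ := (shiftFunctorAdd' (Dual.D A) 1 p (1 + p) rfl).symm.app ((DRing.RgammaI J).obj ω)
    let x : DerivedCategory.Q.obj Q ⟶ ((DRing.RgammaI J).obj ω)⟦1 + p⟧ :=
      eQ.hom ≫ i₁.inv ≫ (φ ≫ c)⟦p⟧' ≫ i₂.hom
    obtain ⟨k, hk⟩ := RgammaTorsion.isPowerTorsion_rgamma J (AlgebraizeRHom.Z r Q) (1 + p) (e.symm x)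
    obtain ⟨g, hgJ, hgP⟩ := SetLike.not_le_iff_exists.1 hPJ
    have hx : g ^ k • x = 0 := by
      have := congrArg e (hk _ (Ideal.pow_mem_pow hgJ k))
      rwa [map_smul, map_zero, e.apply_symm_apply] at this
    have hc : (g ^ k • φ) ≫ c = 0 := by
      rw [Linear.smul_comp]
      refine (shiftFunctor (Dual.D A) p).map_injective ?_
      rw [Functor.map_zero, ← cancel_epi i₁.inv, ← cancel_epi eQ.hom, ← cancel_mono i₂.hom]
      simp only [comp_zero, zero_comp, Functor.map_smul, Linear.comp_smul, Linear.smul_comp, Category.assoc]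
      exact hx
    obtain ⟨ψ, hψ⟩ := Triangle.coyoneda_exact₃ _ hF (g ^ k • φ) hc
    have hφ0 : g ^ k • φ = 0 := hψ.trans ((congrArg (· ≫ _) (hL0.elim ψ 0)).trans zero_comp)
    let adj := (shiftEquiv' (Dual.D A) (-p) p (neg_add_cancel p)).toAdjunction
    refine (adj.homEquiv _ _).injective ?_
    have hz : (adj.homEquiv _ _) (0 : U⟦-p⟧ ⟶ F) = 0 := by
      rw [adj.homEquiv_unit]
      show adj.unit.app _ ≫ (shiftFunctor (Dual.D A) p).map 0 = 0
      rw [Functor.map_zero]
      exact comp_zero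
    rw [hz]
    refine eq_zero_of_smul P _ (fun h' => hgP (P.2.mem_of_pow_mem k h'))
      (fun P' hP' => ih P' hP' fun P'' hle => h P'' (hP'.le.trans hle)) _ ?_
    rw [adj.homEquiv_unit]
    show g ^ k • (adj.unit.app _ ≫ (shiftFunctor (Dual.D A) p).map φ) = 0
    rw [← Linear.comp_smul]
    refine (congrArg (adj.unit.app _ ≫ ·) (Functor.map_smul (shiftFunctor (Dual.D A) p) (g ^ k) φ).symm).trans ?_
    rw [hφ0, Functor.map_zero]
    exact comp_zero

include hω in
/-- Algebraization in degree `i`. -/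
theorem bijective_η [IsAdicComplete I A] (M : Type u) [AddCommGroup M] [Module A M] [Module.Finite A M] (i : ℤ)
    (d : ℕ) (hd : LocCoh.CdLE A I d)
    (h : ∀ (q : ℤ) (P : PrimeSpectrum A), Nontrivial (LocalizedModule P.asIdeal.primeCompl (Dual.inD A M ⟶ ω⟦q⟧)) →
      ¬ I ≤ P.asIdeal → ¬ J ≤ P.asIdeal → i + q < degree hω P ∨
        (i + q ≤ degree hω P ∧ ∃ R : PrimeSpectrum A, P ≤ R ∧ I ≤ R.asIdeal ∧ ¬ J ≤ R.asIdeal) ∨
        ∀ R : PrimeSpectrum A, P ≤ R → J ≤ R.asIdeal → I ≤ R.asIdeal → i + q + d < degree hω R) :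
    Function.Bijective (CompletionAmplitude.hmap ((η I).app ((DRing.RgammaI J).obj (Dual.inD A M))) i) := by
  let L := (DRing.RgammaI J).obj ω
  obtain ⟨F, b, c, hF⟩ := distinguished_cocone_triangle ((η I).app L)
  obtain ⟨a₀, b₀, hab⟩ := hω.finite_injective_dimension
  obtain ⟨r⟩ := exists_injRep ω a₀ b₀ hab
  let X := DerivedCategory.Q.obj (r.DC M)
  have hXh : ∀ n, (n < r.a ∨ r.b < n) → Subsingleton (Dual.HD A X n) := fun n hn => by
    have hX : IsZero ((r.DC M).X n) := by
      rcases hn with hn | hn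
      · haveI := r.hGE
        haveI : Subsingleton (r.I.X n) :=
          ModuleCat.isZero_iff_subsingleton.1 (CochainComplex.isZero_of_isStrictlyGE r.I r.a n hn)
        exact ModuleCat.isZero_of_subsingleton (ModuleCat.of A (M →ₗ[A] r.I.X n))
      · exact DualTransfer.isStrictlyLE_DC M r n hn
    haveI := ModuleCat.subsingleton_of_isZero ((HomologicalComplex.exactAt_iff_isZero_homology _ _).1
      (ShortComplex.exact_of_isZero_X₂ ((r.DC M).sc n) hX))
    exact (RgammaTorsion.hdEquiv (r.DC M) n).toEquiv.subsingleton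
  have hX : ∀ i' ≤ i, Subsingleton (X ⟶ F⟦i'⟧) := by
    intro i' hi'
    have hq : ∀ q : ℤ, DualVanishing.PK (1 : A) ((Dual.inD A (Dual.HD A X q))⟦-q⟧ ⟶ F⟦i'⟧) := by
      intro q
      haveI := DualVanishing.finite_hom hω M q
      let dq := r.HDEquiv M q
      haveI : Module.Finite A (Dual.HD A X q) := Module.Finite.equiv dq.symm
      have hs : Subsingleton (Dual.inD A (Dual.HD A X q) ⟶ F⟦i' + q⟧) := by
        refine subsingleton_hom_module _ _ fun P hP => ?_
        refine subsingleton_fibre hω J I hF _ P fun P' hPP' hI' hJ' => ?_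
        have hnt : Nontrivial (LocalizedModule P'.asIdeal.primeCompl (Dual.inD A M ⟶ ω⟦q⟧)) := by
          rw [← Module.mem_support_iff, ← dq.support_eq]
          exact Module.mem_support_mono hPP' hP
        rcases h q P' hnt hI' hJ' with h | ⟨h1, hR⟩ | h
        · exact subsingleton_Lhat hω J I P' _ (Or.inl (by omega))
        · rcases lt_or_eq_of_le (show i' + q ≤ degree hω P' by omega) with h2 | h2
          · exact subsingleton_Lhat hω J I P' _ (Or.inl h2)
          · exact subsingleton_Lhat hω J I P' _ (Or.inr ⟨h2, hR⟩)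
        · exact subsingleton_Lhat_of_cd hω J I P' _ d hd fun R h1 h2 h3 => by
            have := h R h1 h2 h3
            omega
      have hs' : Subsingleton ((Dual.inD A (Dual.HD A X q))⟦-q⟧ ⟶ F⟦i'⟧) := (subsingleton_shift_iff _ _ q).2
        (((Iso.refl _).homCongr ((shiftFunctorAdd' (Dual.D A) i' q (i' + q) rfl).app F)).symm.subsingleton)
      exact ⟨0, fun φ => by rw [hs'.elim φ 0, smul_zero]⟩
    obtain ⟨k, hk⟩ := DualVanishing.pk_hom_of_cohomology (1 : A) (F⟦i'⟧) (r.b - r.a + 1).toNat X r.a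
      (CompletionAmplitude.isGE_of_subsingleton _ _ fun n hn => hXh n (Or.inl hn))
      (CompletionAmplitude.isLE_of_subsingleton _ _ fun n hn => hXh n (Or.inr (by omega))) hq
    exact subsingleton_of_forall_eq 0 fun φ => by simpa using hk φ
  have hU : Subsingleton (X⟦-i⟧ ⟶ F) := (subsingleton_shift_iff _ _ i).2 (hX i le_rfl)
  have hU' : Subsingleton ((X⟦-i⟧)⟦(1 : ℤ)⟧ ⟶ F) := by
    haveI := (subsingleton_shift_iff _ _ (i - 1)).2 (hX (i - 1) (by omega))
    exact (((shiftFunctorAdd' (Dual.D A) (-i) 1 (-(i - 1)) (by omega)).app X).homCongr (Iso.refl F)).symm.subsingleton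
  have hb := AlgebraizeFibre.bijective_postcomp hF (X⟦-i⟧) hU hU'
  obtain ⟨P, φ, hφ, hfree, hPb⟩ := Groth.CohBase.FiniteFree.exists_quasiIso (C := r.DC M)
    (DualTransfer.finite_homology_DC hω M r) r.b fun n hn =>
      ((HomologicalComplex.exactAt_iff_isZero_homology _ _).1
        ((ShortComplex.exact_of_isZero_X₂ _ (DualTransfer.isStrictlyLE_DC M r n hn))))
  haveI : IsIso (DerivedCategory.Q.map φ) := (DerivedCategory.isIso_Q_map_iff_quasiIso _ φ).2 hφ
  let eP : DerivedCategory.Q.obj P ≅ X := asIso (DerivedCategory.Q.map φ)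
  let adj := (shiftEquiv' (Dual.D A) (-i) i (neg_add_cancel i)).toAdjunction
  have hpost : Function.Bijective fun ψ : DerivedCategory.Q.obj P ⟶ L⟦i⟧ => ψ ≫ ((η I).app L)⟦i⟧' := by
    have h1 : Function.Bijective fun ψ : X ⟶ L⟦i⟧ => ψ ≫ ((η I).app L)⟦i⟧' := by
      refine (Function.Bijective.of_comp_iff _ (adj.homEquiv X L).bijective).1 ?_
      exact Eq.mp (congrArg Function.Bijective (funext fun ψ => adj.homEquiv_naturality_right ψ ((η I).app L)))
        (((adj.homEquiv X ((comp I).obj L)).bijective).comp hb)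
    refine (Function.Bijective.of_comp_iff' (eP.homCongr (Iso.refl (((comp I).obj L)⟦i⟧))).bijective _).1 ?_
    convert h1.comp (eP.homCongr (Iso.refl (L⟦i⟧))).bijective using 1
    funext ψ
    simp [Iso.homCongr]
  obtain ⟨hmain, -⟩ := AlgebraizeRHom.main r J I P r.b hPb hfree i
  let Z := AlgebraizeRHom.Z r P
  have hvan : ∀ n, n ≠ 0 → Subsingleton (Dual.HD A Z n) := fun n hn => by
    obtain ⟨e⟩ := AlgebraizeRHom.nonempty_HD_Z r P n
    haveI := InjRep.subsingleton_F r hω M n hn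
    exact (e.trans (Linear.homCongr A eP (Iso.refl _))).toEquiv.subsingleton
  haveI : Z.IsGE 0 := CompletionAmplitude.isGE_of_subsingleton _ 0 fun n hn => hvan n (by omega)
  haveI : Z.IsLE 0 := CompletionAmplitude.isLE_of_subsingleton _ 0 fun n hn => hvan n (by omega)
  obtain ⟨Y, ⟨eY⟩⟩ := DerivedCategory.exists_iso_singleFunctor_obj_of_isGE_of_isLE Z 0
  obtain ⟨e0⟩ := AlgebraizeRHom.nonempty_HD_Z r P 0
  let dY : Y ≃ₗ[A] M := ((Groth.DerComplete.HDinDEquiv Y).symm.trans
    ((((DerivedCategory.homologyFunctor (ModuleCat.{u} A) 0).mapIso eY).toLinearEquiv.symm).trans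
      (e0.trans (Linear.homCongr A eP (Iso.refl _))))).trans
      (LinearEquiv.ofBijective _ (InjRep.η_bijective r hω M)).symm
  let eM : Z ≅ Dual.inD A M := eY ≪≫ (DerivedCategory.singleFunctor (ModuleCat.{u} A) 0).mapIso dY.toModuleIso
  exact AlgebraizeRHom.η_bijective_congr ((DRing.RgammaI J).mapIso eM) i (hmain hpost)

end Groth.LocCohTransform.AlgebraizeMain
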