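import Groth.Agent.LocCohTransform.DualTransfer
import Groth.Agent.LocCohTransform.CompletionAmplitude

/-!
`RΓ_J` of a dual and its completion as `RHom` into `RΓ_J ω` and its completion.
-/

set_option autoImplicit false
set_option linter.style.haveILetI false
set_option linter.unusedSectionVars false

universe u

open CategoryTheory CategoryTheory.Limits CategoryTheory.Pretriangulated
open CochainComplex CochainComplex.HomComplex
open Groth.DualCore Groth.LocCohTransform.RgammaCompute Groth.LocCohTransform.CompletionFunctor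
open Groth.LocCohTransform.CompletionAmplitude

attribute [local instance] HasDerivedCategory.standard

namespace Groth.LocCohTransform.AlgebraizeRHom

variable {A : Type u} [CommRing A]

section Degree

variable {K L L' : DRing.Cx A} [L.IsKInjective] [L'.IsKInjective] (g : L ⟶ L') (j : ℤ)

theorem postcomp_θ (n : ℤ) (z : Cocycle K L n) :
    RHomDual.θ (z.postcomp g) = RHomDual.θ z ≫ DerivedCategory.Q.map (g⟦n⟧') := by
  show DerivedCategory.Q.map (Cocycle.equivHomShift.symm (z.postcomp g)) = _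
  rw [Cocycle.equivHomShift_symm_postcomp, Functor.map_comp]
  rfl

/-- Postcomposition controls homology of Hom complexes, one degree at a time. -/
theorem bijective_homologyMap
    (h : Function.Bijective fun φ : DerivedCategory.Q.obj K ⟶ DerivedCategory.Q.obj (L⟦j⟧) =>
      φ ≫ DerivedCategory.Q.map (g⟦j⟧')) :
    Function.Bijective (HomologicalComplex.homologyMap (DRing.homCxMap K g) j).hom := by
  refine ⟨(FlatCxBase.homologyMap_injective_iff _ (i := j - 1) (k := j + 1) (by simp) (by simp)).2 ?_,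
    (FlatCxBase.homologyMap_surjective_iff _ (i := j - 1) (k := j + 1) (by simp) (by simp)).2 ?_⟩
  · intro (x : Cochain K L j) (hx : δ j (j + 1) x = 0)
    rintro ⟨(y : Cochain K L' (j - 1)), hy⟩
    let z : Cocycle K L j := Cocycle.mk x (j + 1) rfl hx
    have h1 : RHomDual.θ (z.postcomp g) = 0 :=
      (RHomDual.θ_eq_zero_iff (j - 1) (by omega) _).2 ⟨y, hy⟩
    have h2 : RHomDual.θ z = 0 := h.1 (((postcomp_θ g j z).symm.trans h1).trans zero_comp.symm)
    exact (RHomDual.θ_eq_zero_iff (j - 1) (by omega) z).1 h2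
  · intro (y : Cochain K L' j) (hy : δ j (j + 1) y = 0)
    let y' : Cocycle K L' j := Cocycle.mk y (j + 1) rfl hy
    obtain ⟨φ, hφ⟩ := h.2 (RHomDual.θ y')
    obtain ⟨z, rfl⟩ := RHomDual.θ_surjective φ
    have h1 : RHomDual.θ (y' - z.postcomp g) = 0 := by
      rw [map_sub, postcomp_θ]
      exact sub_eq_zero.2 hφ.symm
    obtain ⟨w, hw⟩ := (RHomDual.θ_eq_zero_iff (j - 1) (by omega) _).1 h1
    refine ⟨(z : Cochain K L j), w, Cocycle.δ_eq_zero z (j + 1), ?_⟩
    show @HAdd.hAdd (Cochain K L' j) (Cochain K L' j) _ _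
      ((z : Cochain K L j).comp (Cochain.ofHom g) (add_zero j)) (δ (j - 1) j w) = y
    rw [hw]
    exact add_sub_cancel ((z : Cochain K L j).comp (Cochain.ofHom g) (add_zero j)) y

end Degree

section Shift

variable {I : Ideal A} [DRing.HasDerivedCompletion I]

theorem η_bijective_congr {X Y : Dual.D A} (e : X ≅ Y) (j : ℤ)
    (h : Function.Bijective (CompletionAmplitude.hmap ((η I).app X) j)) : Function.Bijective (CompletionAmplitude.hmap ((η I).app Y) j) := by
  have hn : ∀ x, CompletionAmplitude.hmap ((η I).app Y) j (CompletionAmplitude.hmap e.hom j x) = CompletionAmplitude.hmap ((comp I).map e.hom) j (CompletionAmplitude.hmap ((η I).app X) j x) :=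
    fun x => by
      rw [← CompletionAmplitude.hmap_comp, ← CompletionAmplitude.hmap_comp]
      exact congrArg (fun ψ => CompletionAmplitude.hmap ψ j x) ((η I).naturality e.hom)
  refine (Function.Bijective.of_comp_iff _ (CompletionAmplitude.hmap_iso e.hom j)).1 ?_
  rw [show (CompletionAmplitude.hmap ((η I).app Y) j : _ → _) ∘ (CompletionAmplitude.hmap e.hom j : _ → _) =
    (CompletionAmplitude.hmap ((comp I).map e.hom) j : _ → _) ∘ (CompletionAmplitude.hmap ((η I).app X) j : _ → _) from funext hn]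
  exact (CompletionAmplitude.hmap_iso ((comp I).map e.hom) j).comp h

end Shift

variable [IsNoetherianRing A] {ω : Dual.D A} (r : InjRep ω) (J I : Ideal A) [DRing.HasRgammaI J]
  [DRing.HasDerivedCompletion I] (P : DRing.Cx A) (b : ℤ) (hPb : ∀ p, b < p → IsZero (P.X p))
  (hP : ∀ p, Module.Finite A (P.X p) ∧ Module.Free A (P.X p))

/-- The dual of `P`. -/
noncomputable abbrev Z : Dual.D A := DerivedCategory.Q.obj (DRing.homCx P r.I)

include hPb in
theorem isKInjective_homCx (hP' : ∀ p, Module.Free A (P.X p)) : (DRing.homCx P r.I).IsKInjective := by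
  have hIz : ∀ q, q < r.a → IsZero (r.I.X q) := fun q hq =>
    haveI := r.hGE
    CochainComplex.isZero_of_isStrictlyGE r.I r.a q hq
  haveI := DualTransfer.isStrictlyGE_homCx P r.I r.a b hIz hPb
  have hEinj := DualTransfer.moduleInjective_homCx P r.I hP' r.injective
  haveI : ∀ n, Injective ((DRing.homCx P r.I).X n) := fun n =>
    (Module.injective_iff_injective_object A _).1 (hEinj n)
  exact CochainComplex.isKInjective_of_injective _ (r.a - b)

/-- Cohomology of the dual. -/
theorem nonempty_HD_Z (n : ℤ) :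
    Nonempty (Dual.HD A (Z r P) n ≃ₗ[A] (DerivedCategory.Q.obj P ⟶ ω⟦n⟧)) := by
  obtain ⟨e⟩ := DualTransfer.nonempty_homology_homCx P r.I n
  exact ⟨((RgammaTorsion.hdEquiv _ n).trans e).trans
    (Linear.homCongr A (Iso.refl _) ((DerivedCategory.Q.commShiftIso n).app r.I ≪≫ (CategoryTheory.shiftFunctor _ n).mapIso r.iso))⟩

include hPb hP in
theorem exists_rgamma_model : ∃ (Lc : DRing.Cx A) (_ : Lc.IsKInjective) (_e : DerivedCategory.Q.obj Lc ≅ (DRing.RgammaI J).obj ω),
    Nonempty ((DRing.RgammaI J).obj (Z r P) ≅ (DRing.RHomCx P).obj ((DRing.RgammaI J).obj ω)) := by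
  have hIz : ∀ q, q < r.a → IsZero (r.I.X q) := fun q hq =>
    haveI := r.hGE
    CochainComplex.isZero_of_isStrictlyGE r.I r.a q hq
  haveI := isKInjective_homCx r P b hPb fun p => (hP p).2
  obtain ⟨eg⟩ := DualTransfer.nonempty_gam_homCx P r.I J r.a b hIz hPb fun p => (hP p).1
  haveI : ((gam J).obj r.I).IsStrictlyGE r.a := by
    rw [CochainComplex.isStrictlyGE_iff]
    exact fun q hq => (DRing.gammaI J).map_isZero (hIz q hq)
  haveI : ∀ q, Injective (((gam J).obj r.I).X q) :=
    RgammaTorsion.injective_gam J r.I fun q => (Module.injective_iff_injective_object A (r.I.X q)).1 (r.injective q)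
  haveI : ((gam J).obj r.I).IsKInjective := CochainComplex.isKInjective_of_injective _ r.a
  let e : DerivedCategory.Q.obj ((gam J).obj r.I) ≅ (DRing.RgammaI J).obj ω :=
    (rgammaIso J r.I).symm ≪≫ (DRing.RgammaI J).mapIso r.iso
  exact ⟨(gam J).obj r.I, inferInstance, e, ⟨rgammaIso J (DRing.homCx P r.I) ≪≫ DerivedCategory.Q.mapIso eg ≪≫
    DAlg.RHomCx.objIso P _ ≪≫ (DRing.RHomCx P).mapIso e⟩⟩

include hPb hP in
/-- `Hⁱ(RΓ_J Z) = Hom(P, RΓ_J ω⟦i⟧)`. -/
theorem nonempty_HD_rgamma_Z (j : ℤ) :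
    Nonempty (Dual.HD A ((DRing.RgammaI J).obj (Z r P)) j ≃ₗ[A]
      (DerivedCategory.Q.obj P ⟶ ((DRing.RgammaI J).obj ω)⟦j⟧)) := by
  obtain ⟨Lc, hLc, e, ⟨em⟩⟩ := exists_rgamma_model r J P b hPb hP
  haveI := hLc
  obtain ⟨eθ⟩ := DualTransfer.nonempty_homology_homCx P Lc j
  let s := ((DerivedCategory.Q (C := ModuleCat.{u} A)).commShiftIso j).app Lc ≪≫
    (CategoryTheory.shiftFunctor (Dual.D A) j).mapIso e
  exact ⟨((((DerivedCategory.homologyFunctor (ModuleCat.{u} A) j).mapIso
    (em ≪≫ (DAlg.RHomCx.objIso P Lc ≪≫ (DRing.RHomCx P).mapIso e).symm)).toLinearEquiv.trans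
      (RgammaTorsion.hdEquiv _ j)).trans eθ).trans (Linear.homCongr A (Iso.refl _) s)⟩

include hPb hP in
/-- The completion map of `RΓ_J Z` is postcomposition with the completion map of `RΓ_J ω`. -/
theorem main (j : ℤ) :
    (Function.Bijective (fun φ : DerivedCategory.Q.obj P ⟶ ((DRing.RgammaI J).obj ω)⟦j⟧ =>
        φ ≫ ((η I).app ((DRing.RgammaI J).obj ω))⟦j⟧') →
      Function.Bijective (CompletionAmplitude.hmap ((η I).app ((DRing.RgammaI J).obj (Z r P))) j)) ∧
    Nonempty (Dual.HD A ((comp I).obj ((DRing.RgammaI J).obj (Z r P))) j ≃ₗ[A]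
      (DerivedCategory.Q.obj P ⟶ ((comp I).obj ((DRing.RgammaI J).obj ω))⟦j⟧)) := by
  obtain ⟨Lc, hLc, e, ⟨em⟩⟩ := exists_rgamma_model r J P b hPb hP
  haveI := hLc
  let L := (DRing.RgammaI J).obj ω
  obtain ⟨Lh, hLh, ⟨eh⟩⟩ := Groth.DerivedCoh.KInjRes.exists_kInjective_iso ((comp I).obj L)
  haveI := hLh
  obtain ⟨g, hg⟩ := Groth.DerivedCoh.KInjRes.Q_map_surjective Lc Lh (e.hom ≫ (η I).app L ≫ eh.inv)
  let ν := (DRing.RHomCx P).map ((η I).app L)
  obtain ⟨hc, hb⟩ := DAlg.DCompletionRHom.rhom_completion P I (IsNoetherian.noetherian I) L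
  obtain ⟨a, ha⟩ := (precomp_bijective I ((DRing.RHomCx P).obj L) hc).2 ν
  change (η I).app _ ≫ a = ν at ha
  haveI : IsIso a := by
    obtain ⟨c, hc'⟩ := (hb _ (complete_comp I _)).2 ((η I).app ((DRing.RHomCx P).obj L))
    change ν ≫ c = _ at hc'
    refine ⟨c, (precomp_bijective I _ (complete_comp I _)).1 ?_, (hb _ hc).1 ?_⟩
    · show (η I).app _ ≫ a ≫ c = (η I).app _ ≫ 𝟙 _
      rw [Category.comp_id]
      exact (Category.assoc _ _ _).symm.trans ((congrArg (· ≫ c) ha).trans hc')
    · show ν ≫ c ≫ a = ν ≫ 𝟙 _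
      rw [Category.comp_id]
      exact (Category.assoc _ _ _).symm.trans ((congrArg (· ≫ a) hc').trans ha)
  let u₁ := DAlg.RHomCx.objIso P Lc ≪≫ (DRing.RHomCx P).mapIso e
  let u₂ := DAlg.RHomCx.objIso P Lh ≪≫ (DRing.RHomCx P).mapIso eh
  let s := ((DerivedCategory.Q (C := ModuleCat.{u} A)).commShiftIso j).app Lc ≪≫ (CategoryTheory.shiftFunctor (Dual.D A) j).mapIso e
  let s' := ((DerivedCategory.Q (C := ModuleCat.{u} A)).commShiftIso j).app Lh ≪≫ (CategoryTheory.shiftFunctor (Dual.D A) j).mapIso eh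
  refine ⟨fun h => ?_, ?_⟩
  · have hsq : DerivedCategory.Q.map (g⟦j⟧') ≫ s'.hom = s.hom ≫ ((η I).app L)⟦j⟧' := by
      have hn : DerivedCategory.Q.map (g⟦j⟧') ≫ ((DerivedCategory.Q (C := ModuleCat.{u} A)).commShiftIso j).hom.app Lh =
          ((DerivedCategory.Q (C := ModuleCat.{u} A)).commShiftIso j).hom.app Lc ≫ (DerivedCategory.Q.map g)⟦j⟧' :=
        ((DerivedCategory.Q (C := ModuleCat.{u} A)).commShiftIso j).hom.naturality g
      simp only [s, s', Iso.trans_hom, Iso.app_hom, Functor.mapIso_hom]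
      rw [reassoc_of% hn, hg]
      simp [← Functor.map_comp]
    have h' : Function.Bijective fun φ : DerivedCategory.Q.obj P ⟶ DerivedCategory.Q.obj (Lc⟦j⟧) =>
        φ ≫ DerivedCategory.Q.map (g⟦j⟧') := by
      refine (Function.Bijective.of_comp_iff' ((Iso.refl (DerivedCategory.Q.obj P)).homCongr s').bijective _).1 ?_
      convert h.comp ((Iso.refl (DerivedCategory.Q.obj P)).homCongr s).bijective using 1
      funext φ
      simp [Iso.homCongr, hsq, L]
    have hg' : Function.Bijective (CompletionAmplitude.hmap (DerivedCategory.Q.map (DRing.homCxMap P g)) j) := by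
      let F := DerivedCategory.homologyFunctorFactors (ModuleCat.{u} A) j
      have hnat : ∀ x, (F.app (DRing.homCx P Lh)).toLinearEquiv (CompletionAmplitude.hmap (DerivedCategory.Q.map (DRing.homCxMap P g)) j x) =
          (HomologicalComplex.homologyMap (DRing.homCxMap P g) j).hom ((F.app (DRing.homCx P Lc)).toLinearEquiv x) :=
        fun x => congr(($(F.hom.naturality (DRing.homCxMap P g))).hom x)
      refine (Function.Bijective.of_comp_iff' (F.app (DRing.homCx P Lh)).toLinearEquiv.bijective _).1 ?_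
      rw [show ((F.app (DRing.homCx P Lh)).toLinearEquiv : _ → _) ∘
        (CompletionAmplitude.hmap (DerivedCategory.Q.map (DRing.homCxMap P g)) j : _ → _) =
          ((HomologicalComplex.homologyMap (DRing.homCxMap P g) j).hom : _ → _) ∘
            ((F.app (DRing.homCx P Lc)).toLinearEquiv : _ → _) from funext hnat]
      exact (bijective_homologyMap g j h').comp (F.app (DRing.homCx P Lc)).toLinearEquiv.bijective
    have hν : ν = u₁.inv ≫ DerivedCategory.Q.map (DRing.homCxMap P g) ≫ u₂.hom := by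
      rw [Iso.eq_inv_comp]
      show ((DAlg.RHomCx.objIso P Lc).hom ≫ (DRing.RHomCx P).map e.hom) ≫ (DRing.RHomCx P).map ((η I).app L) =
        DerivedCategory.Q.map ((DRing.homCxFunctor P).map g) ≫ (DAlg.RHomCx.objIso P Lh).hom ≫ (DRing.RHomCx P).map eh.hom
      rw [Category.assoc, ← Category.assoc (DerivedCategory.Q.map _), DAlg.RHomCx.objIso_naturality P g]
      refine ((Category.assoc _ _ _).trans ?_).symm
      refine congrArg ((DAlg.RHomCx.objIso P Lc).hom ≫ ·) ?_
      show (DRing.RHomCx P).map (DerivedCategory.Q.map g) ≫ (DRing.RHomCx P).map eh.hom =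
        (DRing.RHomCx P).map e.hom ≫ (DRing.RHomCx P).map ((η I).app L)
      rw [← Functor.map_comp, ← Functor.map_comp, hg]
      simp [L]
    have hνb : Function.Bijective (CompletionAmplitude.hmap ν j) := by
      rw [hν]
      rw [show (CompletionAmplitude.hmap (u₁.inv ≫ DerivedCategory.Q.map (DRing.homCxMap P g) ≫ u₂.hom) j : _ → _) =
        (CompletionAmplitude.hmap u₂.hom j : _ → _) ∘ (CompletionAmplitude.hmap (DerivedCategory.Q.map (DRing.homCxMap P g)) j : _ → _) ∘ (CompletionAmplitude.hmap u₁.inv j : _ → _)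
        from funext fun x => by rw [CompletionAmplitude.hmap_comp, CompletionAmplitude.hmap_comp]; rfl]
      exact (CompletionAmplitude.hmap_iso u₂.hom j).comp (hg'.comp (CompletionAmplitude.hmap_iso u₁.inv j))
    refine η_bijective_congr em.symm j ?_
    refine (Function.Bijective.of_comp_iff' (CompletionAmplitude.hmap_iso a j) _).1 ?_
    rw [show (CompletionAmplitude.hmap a j : _ → _) ∘ (CompletionAmplitude.hmap ((η I).app ((DRing.RHomCx P).obj L)) j : _ → _) = (CompletionAmplitude.hmap ν j : _ → _) from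
      funext fun x => by rw [← ha]; exact (CompletionAmplitude.hmap_comp _ _ j x).symm]
    exact hνb
  · obtain ⟨eθ⟩ := DualTransfer.nonempty_homology_homCx P Lh j
    exact ⟨((((DerivedCategory.homologyFunctor (ModuleCat.{u} A) j).mapIso
      ((comp I).mapIso em ≪≫ asIso a ≪≫ u₂.symm)).toLinearEquiv.trans (RgammaTorsion.hdEquiv _ j)).trans eθ).trans
        (Linear.homCongr A (Iso.refl _) s')⟩

end Groth.LocCohTransform.AlgebraizeRHom
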