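import Groth.Agent.LocCohTransform.CompletionModule
import Groth.Agent.LocCohTransform.CechTriangle
import Mathlib.RingTheory.FiniteType
import Mathlib.RingTheory.TensorProduct.Finite
import Mathlib.Algebra.Homology.DerivedCategory.HomologySequence

/-!
`H⁰` of the derived completion of the extended Čech complex of a finite module.
-/

set_option autoImplicit false
set_option linter.style.haveILetI false
set_option linter.unusedSectionVars false

universe u

open CategoryTheory CategoryTheory.Limits CategoryTheory.Pretriangulated TensorProduct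

attribute [local instance] HasDerivedCategory.standard

namespace Groth.LocCohTransform.CompletionFunctor

open CechTriangle

variable {A : Type u} [CommRing A] (I : Ideal A) [DRing.HasDerivedCompletion I]

/-- `H⁰` of the completion of a map. -/
noncomputable abbrev h0 {X Y : Dual.D A} (φ : X ⟶ Y) :
    Dual.HD A ((comp I).obj X) 0 →ₗ[A] Dual.HD A ((comp I).obj Y) 0 :=
  ((DerivedCategory.homologyFunctor (ModuleCat.{u} A) 0).map ((comp I).map φ)).hom

theorem h0_comp {X Y Z : Dual.D A} (φ : X ⟶ Y) (ψ : Y ⟶ Z) (x : Dual.HD A ((comp I).obj X) 0) :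
    h0 I (φ ≫ ψ) x = h0 I ψ (h0 I φ x) := by
  simp only [h0, Functor.map_comp]
  rfl

theorem h0_bijective {X Y : Dual.D A} (φ : X ⟶ Y) [IsIso ((comp I).map φ)] : Function.Bijective (h0 I φ) :=
  (asIso ((DerivedCategory.homologyFunctor (ModuleCat.{u} A) 0).map ((comp I).map φ))).toLinearEquiv.bijective

/-- A module of the form `B ⊗ M` with `B` flat and Noetherian. -/
def Nice (M : Type u) [AddCommGroup M] [Module A M] (N : ModuleCat.{u} A) : Prop :=
  ∃ (B : Type u) (_ : CommRing B) (_ : Algebra A B), IsNoetherianRing B ∧ Module.Flat A B ∧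
    Nonempty (N ≃ₗ[A] B ⊗[A] M)

omit [DRing.HasDerivedCompletion I] in
theorem nice_self [IsNoetherianRing A] (M : Type u) [AddCommGroup M] [Module A M] :
    Nice M (ModuleCat.of A M) :=
  ⟨A, inferInstance, inferInstance, inferInstance, inferInstance, ⟨(TensorProduct.lid A M).symm⟩⟩

omit [DRing.HasDerivedCompletion I] in
theorem Nice.loc {M : Type u} [AddCommGroup M] [Module A M] {N : ModuleCat.{u} A} (h : Nice M N) (f : A) :
    Nice M ((DerCA.locFunctor (Submonoid.powers f)).obj N) := by
  obtain ⟨B, _, _, hB, hflat, ⟨e⟩⟩ := h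
  refine ⟨B ⊗[A] Localization.Away f, inferInstance, inferInstance, ?_, inferInstance, ⟨?_⟩⟩
  · have := IsLocalization.Away.finitePresentation (S := Localization.Away f) f
    have : Algebra.FiniteType B (B ⊗[A] Localization.Away f) := inferInstance
    exact Algebra.FiniteType.isNoetherianRing B _
  · exact (IsLocalizedModule.iso (Submonoid.powers f)
        (TensorProduct.mk A (Localization.Away f) N 1)).trans
      ((TensorProduct.congr (LinearEquiv.refl A (Localization.Away f)) e).trans
        ((TensorProduct.assoc A (Localization.Away f) B M).symm.trans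
          (TensorProduct.congr (TensorProduct.comm A (Localization.Away f) B) (LinearEquiv.refl A M))))

theorem subsingleton_comp_nice (hI : I.FG) {M : Type u} [AddCommGroup M] [Module A M] [Module.Finite A M]
    {N : ModuleCat.{u} A} (h : Nice M N) {n : ℤ} (hn : n ≠ 0) :
    Subsingleton (Dual.HD A ((comp I).obj (Dual.inD A N)) n) := by
  obtain ⟨B, _, _, hB, hflat, ⟨e⟩⟩ := h
  have := hB
  have := hflat
  have h1 : IsIso ((comp I).map ((DerivedCategory.singleFunctor (ModuleCat.{u} A) 0).map (ModuleCat.ofHom ((toBhat I B).rTensor M)))) :=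
    cIso_toBhat I B hI M
  have h2 := isIso_η_of_complete I (complete_bhat_tensor I B M)
  let i : (comp I).obj (Dual.inD A N) ≅ Dual.inD A (Bhat I B ⊗[A] M) :=
    (comp I).mapIso ((DerivedCategory.singleFunctor (ModuleCat.{u} A) 0).mapIso e.toModuleIso) ≪≫
      asIso ((comp I).map ((DerivedCategory.singleFunctor (ModuleCat.{u} A) 0).map (ModuleCat.ofHom ((toBhat I B).rTensor M)))) ≪≫
      (asIso ((η I).app (Dual.inD A (Bhat I B ⊗[A] M)))).symm
  have := Groth.DerComplete.subsingleton_HD_inD (A := A) (Bhat I B ⊗[A] M) hn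
  exact ((DerivedCategory.homologyFunctor (ModuleCat.{u} A) n).mapIso i).toLinearEquiv.toEquiv.subsingleton

omit [DRing.HasDerivedCompletion I] in
theorem aug_natural {N N' : ModuleCat.{u} A} (g : N ⟶ N') (fs : List A) :
    DerivedCategory.Q.map (cechMap fs g) ≫ aug N' fs =
      aug N fs ≫ (DerivedCategory.singleFunctor (ModuleCat.{u} A) 0).map g := by
  rw [aug, aug, ← Category.assoc, ← Functor.map_comp, cechε_natural, Functor.map_comp, Category.assoc,
    Category.assoc]
  exact congrArg (DerivedCategory.Q.map (cechε N fs) ≫ ·)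
    ((DerivedCategory.singleFunctorIsoCompQ (ModuleCat.{u} A) 0).inv.naturality g)

/-- `H⁰` of the completed Čech complex is the part of the completed module vanishing in every completed localization. -/
theorem completion_extCech (hI : I.FG) {M : Type u} [AddCommGroup M] [Module A M] [Module.Finite A M] :
    ∀ (fs : List A) (N : ModuleCat.{u} A), Nice M N →
      (∀ n : ℤ, n < 0 → Subsingleton (Dual.HD A ((comp I).obj (DerivedCategory.Q.obj (DerCA.extCech N fs))) n)) ∧
      Function.Injective (h0 I (aug N fs)) ∧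
      ∀ y, y ∈ LinearMap.range (h0 I (aug N fs)) ↔
        ∀ f ∈ fs, h0 I ((DerivedCategory.singleFunctor (ModuleCat.{u} A) 0).map (lf f N)) y = 0
  | [], N, hN => by
    have : IsIso (aug N ([] : List A)) := by
      show IsIso (DerivedCategory.Q.map (𝟙 (single0 N)) ≫ _)
      infer_instance
    refine ⟨fun n hn => ?_, (h0_bijective I (aug N [])).1, fun y => ⟨fun _ => by simp, fun _ => (h0_bijective I (aug N [])).2 y⟩⟩
    have := subsingleton_comp_nice I hI hN (ne_of_lt hn)
    exact ((DerivedCategory.homologyFunctor (ModuleCat.{u} A) n).mapIso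
      ((comp I).mapIso (asIso (aug N [])))).toLinearEquiv.toEquiv.subsingleton
  | f :: fs, N, hN => by
    obtain ⟨h1, h2, h3⟩ := completion_extCech hI fs N hN
    obtain ⟨k1, k2, k3⟩ := completion_extCech hI fs _ (hN.loc f)
    obtain ⟨δ, hδ⟩ := exists_step_triangle f N fs
    let T := (comp I).mapTriangle.obj (Triangle.mk (DerivedCategory.Q.map
      (CochainComplex.mappingCocone.fst (DerCA.locCxUnit (Submonoid.powers f) (DerCA.extCech N fs))))
      (DerivedCategory.Q.map (cechMap fs (lf f N))) δ)
    have hT : T ∈ distTriang (Dual.D A) := (comp I).map_distinguished _ hδ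
    have inj : ∀ n : ℤ, n ≤ 0 → Function.Injective
        ((DerivedCategory.homologyFunctor (ModuleCat.{u} A) n).map T.mor₁).hom := by
      intro n hn
      refine (injective_iff_map_eq_zero _).2 fun x hx => ?_
      have hex := DerivedCategory.HomologySequence.exact₁ T hT (n - 1) n (by omega)
      rw [ShortComplex.ShortExact.moduleCat_exact_iff_function_exact] at hex
      obtain ⟨w, rfl⟩ := (hex x).1 hx
      have := k1 (n - 1) (by omega)
      rw [show w = 0 from @Subsingleton.elim _ this w 0]
      exact map_zero _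
    have hex0 := DerivedCategory.HomologySequence.exact₂ T hT 0
    rw [ShortComplex.ShortExact.moduleCat_exact_iff_function_exact] at hex0
    have haug : ∀ x, h0 I (aug N (f :: fs)) x = h0 I (aug N fs) (h0 I (DerivedCategory.Q.map
        (CochainComplex.mappingCocone.fst (DerCA.locCxUnit (Submonoid.powers f) (DerCA.extCech N fs)))) x) := by
      intro x
      exact (congrArg (fun φ => h0 I φ x) (aug_cons N f fs)).trans (h0_comp I _ _ x)
    refine ⟨fun n hn => ?_, fun a b h => ?_, fun y => ⟨?_, fun hy => ?_⟩⟩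
    · have := h1 n hn
      exact @Function.Injective.subsingleton _ _ _ (inj n (le_of_lt hn)) this
    · rw [haug, haug] at h
      exact inj 0 le_rfl (h2 h)
    · rintro ⟨x, rfl⟩ g hg
      rw [haug]
      rcases List.mem_cons.1 hg with rfl | hg
      · rw [← h0_comp, ← aug_natural, h0_comp,
          show h0 I (DerivedCategory.Q.map (cechMap fs (lf g N))) (h0 I (DerivedCategory.Q.map
            (CochainComplex.mappingCocone.fst (DerCA.locCxUnit (Submonoid.powers g) (DerCA.extCech N fs)))) x) = 0
          from (hex0 _).2 ⟨x, rfl⟩, map_zero]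
      · exact (h3 _).1 ⟨_, rfl⟩ g hg
    · obtain ⟨x, rfl⟩ := (h3 y).2 fun g hg => hy g (List.mem_cons_of_mem _ hg)
      have h0' : h0 I (DerivedCategory.Q.map (cechMap fs (lf f N))) x = 0 := by
        apply k2
        rw [map_zero, ← h0_comp, aug_natural, h0_comp]
        exact hy f (List.mem_cons_self ..)
      obtain ⟨w, hw⟩ := (hex0 x).1 h0'
      exact ⟨w, (haug w).trans (congrArg _ hw)⟩

/-- The map `M → (A_f)^ ⊗ M`. -/
noncomputable def toLocHat (f : A) (M : Type u) [AddCommGroup M] [Module A M] :
    M →ₗ[A] Bhat I (Localization.Away f) ⊗[A] M :=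
  (toBhat I (Localization.Away f)).rTensor M ∘ₗ TensorProduct.mk A (Localization.Away f) M 1

theorem h0_lf_eq_zero_iff [IsNoetherianRing A] (f : A) (M : Type u) [AddCommGroup M] [Module A M] [Module.Finite A M]
    (s : Dual.HD A (Dual.inD A M) 0) :
    h0 I ((DerivedCategory.singleFunctor (ModuleCat.{u} A) 0).map (lf f (ModuleCat.of A M)))
        (((DerivedCategory.homologyFunctor (ModuleCat.{u} A) 0).map ((η I).app (Dual.inD A M))).hom s) = 0 ↔
      toLocHat I f M (Groth.DerComplete.HDinDEquiv M s) = 0 := by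
  have hI : I.FG := IsNoetherian.noetherian I
  have : IsNoetherianRing (Localization.Away f) := IsLocalization.isNoetherianRing (Submonoid.powers f) _ ‹_›
  let S := (DerivedCategory.singleFunctor (ModuleCat.{u} A) 0)
  let e : (DerCA.locFunctor (Submonoid.powers f)).obj (ModuleCat.of A M) ≅ ModuleCat.of A (Localization.Away f ⊗[A] M) :=
    (IsLocalizedModule.iso (Submonoid.powers f) (TensorProduct.mk A (Localization.Away f) M 1)).toModuleIso
  let k : ModuleCat.of A (Localization.Away f ⊗[A] M) ⟶ ModuleCat.of A (Bhat I (Localization.Away f) ⊗[A] M) :=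
    ModuleCat.ofHom ((toBhat I (Localization.Away f)).rTensor M)
  have hg : lf f (ModuleCat.of A M) ≫ e.hom ≫ k = ModuleCat.ofHom (toLocHat I f M) := by
    refine ModuleCat.hom_ext (LinearMap.ext fun m => ?_)
    show (toBhat I (Localization.Away f)).rTensor M (IsLocalizedModule.iso (Submonoid.powers f)
      (TensorProduct.mk A (Localization.Away f) M 1) (LocalizedModule.mkLinearMap (Submonoid.powers f) M m)) = _
    rw [LocalizedModule.mkLinearMap_apply, IsLocalizedModule.iso_mk_one]
    rfl
  have : IsIso ((comp I).map (S.map k)) := cIso_toBhat I (Localization.Away f) hI M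
  have hη := isIso_η_of_complete I (complete_bhat_tensor I (Localization.Away f) M)
  set H := DerivedCategory.homologyFunctor (ModuleCat.{u} A) 0
  have step : h0 I (S.map (lf f (ModuleCat.of A M))) ((H.map ((η I).app (Dual.inD A M))).hom s) = 0 ↔
      h0 I (S.map (ModuleCat.ofHom (toLocHat I f M))) ((H.map ((η I).app (Dual.inD A M))).hom s) = 0 := by
    have : IsIso ((comp I).map (S.map (e.hom ≫ k))) := by
      rw [Functor.map_comp, Functor.map_comp]; infer_instance
    rw [← hg, Functor.map_comp, h0_comp]
    exact (map_eq_zero_iff _ (h0_bijective I (S.map (e.hom ≫ k))).1).symm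
  refine step.trans ?_
  have hnat : h0 I (S.map (ModuleCat.ofHom (toLocHat I f M))) ((H.map ((η I).app (Dual.inD A M))).hom s) =
      (H.map ((η I).app (S.obj (ModuleCat.of A (Bhat I (Localization.Away f) ⊗[A] M))))).hom
        ((H.map (S.map (ModuleCat.ofHom (toLocHat I f M)))).hom s) := by
    have h := congrArg H.map ((η I).naturality (S.map (ModuleCat.ofHom (toLocHat I f M))))
    rw [H.map_comp, H.map_comp] at h
    exact (congr(($h).hom s)).symm
  rw [hnat]
  have hinj : Function.Injective
      (H.map ((η I).app (S.obj (ModuleCat.of A (Bhat I (Localization.Away f) ⊗[A] M))))).hom := by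
    have : IsIso ((η I).app (S.obj (ModuleCat.of A (Bhat I (Localization.Away f) ⊗[A] M)))) := hη
    exact (asIso (H.map ((η I).app (S.obj (ModuleCat.of A (Bhat I (Localization.Away f) ⊗[A] M)))))).toLinearEquiv.injective
  rw [map_eq_zero_iff _ hinj]
  have hnat2 := congr(($((DerivedCategory.singleFunctorCompHomologyFunctorIso (ModuleCat.{u} A) 0).hom.naturality
    (ModuleCat.ofHom (toLocHat I f M)))).hom s)
  constructor
  · intro h
    refine hnat2.symm.trans ?_
    exact (congrArg ((DerivedCategory.singleFunctorCompHomologyFunctorIso (ModuleCat.{u} A) 0).hom.app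
      (ModuleCat.of A (Bhat I (Localization.Away f) ⊗[A] M))).hom h).trans (map_zero _)
  · intro h
    exact ((DerivedCategory.singleFunctorCompHomologyFunctorIso (ModuleCat.{u} A) 0).app
      (ModuleCat.of A (Bhat I (Localization.Away f) ⊗[A] M))).toLinearEquiv.injective
        ((hnat2.trans h).trans (map_zero _).symm)

theorem toLocHat_eq_zero_of [IsNoetherianRing A] {f : A} {M : Type u} [AddCommGroup M] [Module A M] [Module.Finite A M]
    {s : M} {i : A} (hi : i ∈ I) (hs : f • s = i • s) : toLocHat I f M s = 0 := by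
  have : IsNoetherianRing (Localization.Away f) := IsLocalization.isNoetherianRing (Submonoid.powers f) _ ‹_›
  set B := Localization.Away f
  let u : B := IsLocalization.Away.invSelf f
  let x : ℕ → B ⊗[A] M := fun n => (u ^ n) ⊗ₜ[A] s
  have hx : ∀ n, x n = i • x (n + 1) := by
    intro n
    show (u ^ n) ⊗ₜ[A] s = i • ((u ^ (n + 1)) ⊗ₜ[A] s)
    rw [← TensorProduct.tmul_smul, ← hs, ← TensorProduct.smul_tmul]
    congr 1
    rw [Algebra.smul_def, pow_succ, mul_left_comm, IsLocalization.Away.mul_invSelf, mul_one]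
  have hdc := (Groth.DerComplete.isDerivedComplete_inD_iff I _).1 (complete_bhat_tensor I B M) i hi
  have h := hdc.eq_zero (fun n => (toBhat I B).rTensor M (x n)) (fun n => by rw [← map_smul, ← hx]) 0
  rw [show toLocHat I f M s = (toBhat I B).rTensor M (x 0) by simp [toLocHat, x, B]]
  exact h

theorem exists_of_toLocHat_eq_zero [IsNoetherianRing A] {f : A} {M : Type u} [AddCommGroup M] [Module A M]
    [Module.Finite A M] {s : M} (h : toLocHat I f M s = 0) :
    ∃ (m : ℕ) (i : A), i ∈ I ∧ f ^ m • s = i • s := by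
  have : IsNoetherianRing (Localization.Away f) := IsLocalization.isNoetherianRing (Submonoid.powers f) _ ‹_›
  obtain ⟨r, hr, hrx⟩ := exists_of_tensor_eq_zero I (Localization.Away f) M (x := (1 : Localization.Away f) ⊗ₜ[A] s) h
  obtain ⟨⟨⟨i, hi⟩, ⟨_, k, rfl⟩⟩, hri⟩ :=
    (IsLocalization.mem_map_algebraMap_iff (Submonoid.powers f) (Localization.Away f)).1 hr
  have h1 : (f ^ k - i) • ((1 : Localization.Away f) ⊗ₜ[A] s) = 0 := by
    refine (sub_smul (f ^ k) i ((1 : Localization.Away f) ⊗ₜ[A] s)).trans (sub_eq_zero.2 ?_)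
    conv_lhs => rw [← hrx]
    rw [← algebraMap_smul (Localization.Away f) (f ^ k), ← algebraMap_smul (Localization.Away f) i, smul_smul,
      mul_comm]
    exact congrArg (fun b : Localization.Away f => b • (1 : Localization.Away f) ⊗ₜ[A] s) hri
  rw [← TensorProduct.tmul_smul] at h1
  obtain ⟨⟨_, l, rfl⟩, hl⟩ := (IsLocalizedModule.eq_zero_iff (Submonoid.powers f)
    (TensorProduct.mk A (Localization.Away f) M 1)).1 h1
  refine ⟨l + k, f ^ l * i, Ideal.mul_mem_left _ _ hi, ?_⟩
  have hl' : f ^ l • (f ^ k - i) • s = 0 := hl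
  rwa [smul_smul, mul_sub, sub_smul, sub_eq_zero, ← pow_add] at hl'

/-- The elements vanishing in all completed localizations. -/
theorem mem_union_iff [IsNoetherianRing A] (J : Ideal A) (fs : List A) (hfs : Ideal.span {x | x ∈ fs} = J)
    {M : Type u} [AddCommGroup M] [Module A M] [Module.Finite A M] (s : M) :
    (∀ f ∈ fs, toLocHat I f M s = 0) ↔
      ∃ J' : Ideal A, J' ≤ J ∧ J ≤ (J' ⊔ I).radical ∧ s ∈ DRing.torsionSub J' M := by
  constructor
  · intro h
    let J' : Ideal A := J ⊓ (LinearMap.ker (LinearMap.toSpanSingleton A M s) : Ideal A)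
    refine ⟨J', inf_le_left, ?_, 1, fun a ha => (by rw [pow_one] at ha; exact ha.2)⟩
    conv_lhs => rw [← hfs]
    refine Ideal.span_le.2 fun f hf => ?_
    obtain ⟨m, i, hi, hm⟩ := exists_of_toLocHat_eq_zero I (h f hf)
    refine ⟨m + 1, Submodule.mem_sup.2 ⟨f * (f ^ m - i), ⟨?_, ?_⟩, f * i, Ideal.mul_mem_left _ _ hi, by ring⟩⟩
    · exact Ideal.mul_mem_right _ _ (hfs ▸ Ideal.subset_span (show f ∈ {x | x ∈ fs} from hf))
    · show (f * (f ^ m - i)) • s = 0
      rw [mul_smul, sub_smul, hm, sub_self, smul_zero]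
  · rintro ⟨J', -, hJ, n, hn⟩ f hf
    obtain ⟨m, hm⟩ := hJ (hfs ▸ Ideal.subset_span (show f ∈ {x | x ∈ fs} from hf))
    obtain ⟨c, hc, i, hi, hci⟩ := Submodule.mem_sup.1
      ((Ideal.sup_pow_add_le_pow_sup_pow (I := J') (J := I) (n := n) (m := 1)) (Ideal.pow_mem_pow hm (n + 1)))
    rw [pow_one] at hi
    -- `f' • s = i • s` for a power `f'` of `f`
    have hs : f ^ (m * (n + 1)) • s = i • s := by rw [pow_mul, ← hci, add_smul, hn c hc, zero_add]
    rcases eq_or_ne (m * (n + 1)) 0 with h0 | h0
    · refine toLocHat_eq_zero_of I (Ideal.mul_mem_left _ f hi) ?_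
      rw [mul_smul, ← hs, h0, pow_zero, one_smul]
    · obtain ⟨p, hp⟩ := Nat.exists_eq_succ_of_ne_zero h0
      rw [hp, pow_succ', mul_smul] at hs
      have : IsNoetherianRing (Localization.Away f) := IsLocalization.isNoetherianRing (Submonoid.powers f) _ ‹_›
      set B := Localization.Away f
      let u : B := IsLocalization.Away.invSelf f ^ (p + 1)
      let x : ℕ → B ⊗[A] M := fun n => (u ^ n) ⊗ₜ[A] s
      have hx : ∀ n, x n = i • x (n + 1) := by
        intro n
        show (u ^ n) ⊗ₜ[A] s = i • ((u ^ (n + 1)) ⊗ₜ[A] s)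
        rw [← TensorProduct.tmul_smul, ← hs, ← mul_smul, ← TensorProduct.smul_tmul]
        congr 1
        rw [Algebra.smul_def, ← pow_succ', map_pow, pow_succ u, mul_left_comm, ← mul_pow,
          IsLocalization.Away.mul_invSelf, one_pow, mul_one]
      have hdc := (Groth.DerComplete.isDerivedComplete_inD_iff I _).1 (complete_bhat_tensor I B M) i hi
      have h := hdc.eq_zero (fun n => (toBhat I B).rTensor M (x n)) (fun n => by rw [← map_smul, ← hx]) 0
      rw [show toLocHat I f M s = (toBhat I B).rTensor M (x 0) by simp [toLocHat, x, B]]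
      exact h

omit [DRing.HasDerivedCompletion I] in
theorem complete_of_finite [IsNoetherianRing A] [IsAdicComplete I A] (M : Type u) [AddCommGroup M] [Module A M]
    [Module.Finite A M] : ∀ f ∈ I, Groth.DerComplete.DC f M := by
  intro f hf
  have := AdicCompletion.isAdicComplete (I := I) (M := M) (IsNoetherian.noetherian I)
  have e : AdicCompletion I M ≃ₗ[A] M :=
    ((AdicCompletion.ofTensorProductEquivOfFiniteNoetherian I M).restrictScalars A).symm.trans
      ((TensorProduct.congr (AdicCompletion.ofLinearEquiv I A).symm (LinearEquiv.refl A M)).trans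
        (TensorProduct.lid A M))
  exact (Groth.DerComplete.dc_of_isAdicComplete I hf).congr e

theorem main [IsNoetherianRing A] (J : Ideal A) [IsAdicComplete I A] [DRing.HasRgammaI J]
    (M : Type u) [AddCommGroup M] [Module A M] [Module.Finite A M] :
    Function.Injective (h0 I ((DRing.RgammaIε J).app (Dual.inD A M))) ∧
      Set.range (h0 I ((DRing.RgammaIε J).app (Dual.inD A M))) =
        (fun s : M => ((DerivedCategory.homologyFunctor (ModuleCat.{u} A) 0).map ((η I).app (Dual.inD A M))).hom
          (((DerivedCategory.singleFunctorCompHomologyFunctorIso (ModuleCat.{u} A) 0).inv.app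
            (ModuleCat.of A M)).hom s)) ''
          {s : M | ∃ J' : Ideal A, J' ≤ J ∧ J ≤ (J' ⊔ I).radical ∧ s ∈ DRing.torsionSub J' M} := by
  have hI : I.FG := IsNoetherian.noetherian I
  obtain ⟨gens, hgens⟩ := (IsNoetherian.noetherian J : J.FG)
  have hfs : Ideal.span {x | x ∈ gens.toList} = J := by
    rw [← hgens]; simp only [Finset.mem_toList]; rfl
  obtain ⟨e, he⟩ := exists_extCech_iso J gens.toList hfs (ModuleCat.of A M)
  obtain ⟨-, h2, h3⟩ := completion_extCech I hI (M := M) gens.toList (ModuleCat.of A M) (nice_self M)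
  set H := DerivedCategory.homologyFunctor (ModuleCat.{u} A) 0
  have hb := h0_bijective I e.hom
  have hcomp : ∀ x, h0 I (aug (ModuleCat.of A M) gens.toList) x =
      h0 I ((DRing.RgammaIε J).app (Dual.inD A M)) (h0 I e.hom x) := fun x => by
    rw [← h0_comp]
    exact congrArg (fun φ => h0 I φ x) he.symm
  have hcompl : DRing.IsDerivedComplete I (Dual.inD A M) := by
    rw [Groth.DerComplete.isDerivedComplete_inD_iff]
    intro f hf
    exact (complete_of_finite I M) f hf
  have := isIso_η_of_complete I hcompl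
  let E : Dual.HD A (Dual.inD A M) 0 ≃ₗ[A] Dual.HD A ((comp I).obj (Dual.inD A M)) 0 :=
    (H.mapIso (asIso ((η I).app (Dual.inD A M)))).toLinearEquiv
  refine ⟨fun a b hab => ?_, Set.ext fun y => ?_⟩
  · obtain ⟨a', rfl⟩ := hb.2 a
    obtain ⟨b', rfl⟩ := hb.2 b
    rw [h2 (a₁ := a') (a₂ := b') (by rw [hcomp, hcomp]; exact hab)]
  · have hrange : y ∈ Set.range (h0 I ((DRing.RgammaIε J).app (Dual.inD A M))) ↔
        y ∈ LinearMap.range (h0 I (aug (ModuleCat.of A M) gens.toList)) := by
      constructor
      · rintro ⟨x, rfl⟩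
        obtain ⟨x', rfl⟩ := hb.2 x
        exact ⟨x', hcomp x'⟩
      · rintro ⟨x', rfl⟩
        exact ⟨_, (hcomp x').symm⟩
    rw [hrange, h3 y]
    obtain ⟨t, rfl⟩ := E.surjective y
    have key : ∀ f, h0 I ((DerivedCategory.singleFunctor (ModuleCat.{u} A) 0).map (lf f (ModuleCat.of A M))) (E t) = 0 ↔
        toLocHat I f M (Groth.DerComplete.HDinDEquiv M t) = 0 := fun f => h0_lf_eq_zero_iff I f M t
    simp only [key]
    rw [mem_union_iff I J gens.toList hfs]
    constructor
    · intro h
      exact ⟨_, h, congrArg E ((Groth.DerComplete.HDinDEquiv M).symm_apply_apply t)⟩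
    · rintro ⟨s, hs, hst⟩
      have : t = (Groth.DerComplete.HDinDEquiv M).symm s := E.injective hst.symm
      rw [this, LinearEquiv.apply_symm_apply]
      exact hs

end Groth.LocCohTransform.CompletionFunctor
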