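import Groth.Agent.LocCohTransform.CompletionAmplitude
import Groth.Agent.DAlg.DCompletion
import Groth.Agent.Calg1.Completion

/-!
Derived complete modules which are finite modulo the ideal.
-/

set_option autoImplicit false
set_option linter.style.haveILetI false
set_option linter.unusedSectionVars false

universe u

open CategoryTheory CategoryTheory.Limits

attribute [local instance] HasDerivedCategory.standard

namespace Groth.LocCohTransform.CompletionNakayama

open CompletionFunctor

theorem smulTop_le {A : Type u} [CommRing A] {X Y : Type u} [AddCommGroup X] [Module A X] [AddCommGroup Y] [Module A Y]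
    (J : Ideal A) (f : X →ₗ[A] Y) {x : X} (hx : x ∈ (J • ⊤ : Submodule A X)) : f x ∈ (J • ⊤ : Submodule A Y) := by
  have h := Submodule.mem_map_of_mem (f := f) hx
  rw [Submodule.map_smul''] at h
  exact Submodule.smul_mono le_rfl le_top h

variable {A : Type u} [CommRing A] [IsNoetherianRing A] (I : Ideal A) {M : Type u} [AddCommGroup M] [Module A M]
  (hc : DRing.IsDerivedComplete I (Dual.inD A M))

include hc in
/-- Maps to a derived complete module extend uniquely to the completion of a finite module. -/
theorem comp_of_bijective (N : Type u) [AddCommGroup N] [Module A N] [Module.Finite A N] :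
    Function.Bijective fun φ : AdicCompletion I N →ₗ[A] M => φ ∘ₗ AdicCompletion.of I N := by
  haveI := Groth.DAlg.DCompletion.hasDerivedCompletion I (IsNoetherian.noetherian I)
  let S := DerivedCategory.singleFunctor (ModuleCat.{u} A) 0
  let g : Dual.inD A N ⟶ Dual.inD A (AdicCompletion I N) := S.map (ModuleCat.ofHom (AdicCompletion.of I N))
  have hiso : IsIso ((comp I).map g) := CompletionAmplitude.cIso_finite I N
  have hb : Function.Bijective fun φ : Dual.inD A (AdicCompletion I N) ⟶ Dual.inD A M => g ≫ φ := by
    have key : ∀ ψ : (comp I).obj (Dual.inD A (AdicCompletion I N)) ⟶ Dual.inD A M,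
        g ≫ (η I).app _ ≫ ψ = (η I).app _ ≫ (comp I).map g ≫ ψ := fun ψ =>
      (Category.assoc _ _ _).symm.trans ((congrArg (· ≫ ψ) ((η I).naturality g)).trans (Category.assoc _ _ _))
    constructor
    · intro φ φ' h
      obtain ⟨ψ, rfl⟩ := (precomp_bijective I _ hc).2 φ
      obtain ⟨ψ', rfl⟩ := (precomp_bijective I _ hc).2 φ'
      have h1 := (precomp_bijective I _ hc).1 ((key ψ).symm.trans (h.trans (key ψ')))
      haveI := hiso
      exact congrArg ((η I).app _ ≫ ·) ((cancel_epi ((comp I).map g)).1 h1)
    · intro χ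
      obtain ⟨ψ, hψ⟩ := (precomp_bijective I _ hc).2 χ
      refine ⟨(η I).app _ ≫ @inv _ _ _ _ ((comp I).map g) hiso ≫ ψ, ?_⟩
      show g ≫ (η I).app _ ≫ @inv _ _ _ _ ((comp I).map g) hiso ≫ ψ = χ
      refine ((key _).trans (congrArg ((η I).app _ ≫ ·) ?_)).trans hψ
      exact (Category.assoc _ _ _).symm.trans
        ((congrArg (· ≫ ψ) (@IsIso.hom_inv_id _ _ _ _ ((comp I).map g) hiso)).trans (Category.id_comp ψ))
  constructor
  · intro φ φ' h
    have := hb.1 (a₁ := S.map (ModuleCat.ofHom φ)) (a₂ := S.map (ModuleCat.ofHom φ')) (by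
      show S.map _ ≫ S.map _ = S.map _ ≫ S.map _
      rw [← Functor.map_comp, ← Functor.map_comp]
      exact congrArg (fun f => S.map (ModuleCat.ofHom f)) h)
    exact congrArg ModuleCat.Hom.hom (S.map_injective this)
  · intro ψ
    obtain ⟨χ, hχ⟩ := hb.2 (S.map (ModuleCat.ofHom ψ))
    obtain ⟨φ, rfl⟩ := S.map_surjective χ
    refine ⟨φ.hom, ?_⟩
    have h1 : S.map (ModuleCat.ofHom (AdicCompletion.of I N) ≫ φ) = S.map (ModuleCat.ofHom ψ) :=
      (S.map_comp _ _).trans hχ
    exact congrArg ModuleCat.Hom.hom (S.map_injective h1)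

theorem map_top_quot (P : Submodule A M) :
    (I • ⊤ : Submodule A M).map P.mkQ = (I • ⊤ : Submodule A (M ⧸ P)) := by
  rw [Submodule.map_smul'', Submodule.map_top, Submodule.range_mkQ]

include hc in
theorem main (hf : Module.Finite A (M ⧸ I • (⊤ : Submodule A M))) :
    IsAdicComplete I M ∧ Module.Finite (AdicCompletion I A) (AdicCompletion I M) := by
  classical
  have hI : I.FG := IsNoetherian.noetherian I
  have hdc : ∀ f ∈ I, Groth.DerComplete.DC f M := (Groth.DerComplete.isDerivedComplete_inD_iff I M).1 hc
  obtain ⟨r, q, hq⟩ := Module.Finite.exists_fin' A (M ⧸ I • (⊤ : Submodule A M))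
  obtain ⟨g, hg⟩ := Module.projective_lifting_property (I • ⊤ : Submodule A M).mkQ q (Submodule.mkQ_surjective _)
  obtain ⟨Φ, hΦ⟩ := (comp_of_bijective I hc (Fin r → A)).2 g
  have hF : ∀ f ∈ I, Groth.DerComplete.DC f (AdicCompletion I (Fin r → A)) := fun f hf' => by
    have := AdicCompletion.isAdicComplete (I := I) (M := Fin r → A) hI
    exact Groth.DerComplete.dc_of_isAdicComplete I hf'
  -- `Φ` is surjective
  have hΦs : Function.Surjective Φ := by
    obtain ⟨s, hs⟩ := hI
    have hQ : Subsingleton (M ⧸ LinearMap.range Φ) := by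
      refine Groth.DerComplete.subsingleton_of_span_smul_top s _
        (fun t ht => (hF t (hs ▸ Submodule.subset_span ht)).coker (hdc t (hs ▸ Submodule.subset_span ht)) Φ) ?_
      rw [show Ideal.span (s : Set A) = I from hs, ← map_top_quot, eq_top_iff]
      intro y _
      obtain ⟨m, rfl⟩ := Submodule.Quotient.mk_surjective _ y
      obtain ⟨v, hv⟩ := hq (Submodule.Quotient.mk m)
      refine ⟨m - g v, ?_, ?_⟩
      · exact (Submodule.Quotient.mk_eq_zero _).1 (by
          rw [Submodule.Quotient.mk_sub, ← hv, ← LinearMap.congr_fun hg v]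
          exact sub_self _)
      · rw [map_sub]
        refine sub_eq_self.2 ?_
        exact (Submodule.Quotient.mk_eq_zero _).2 ⟨AdicCompletion.of I _ v, LinearMap.congr_fun hΦ v⟩
    intro m
    exact Submodule.Quotient.subsingleton_iff.1 hQ |>.ge (Submodule.mem_top (x := m))
  -- the kernel is a submodule over the completed ring
  let K : Submodule (AdicCompletion I A) (AdicCompletion I (Fin r → A)) :=
    { carrier := {x | Φ x = 0}
      add_mem' := fun {x y} hx hy => by
        show Φ (x + y) = 0
        rw [map_add, show Φ x = 0 from hx, show Φ y = 0 from hy, add_zero]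
      zero_mem' := map_zero Φ
      smul_mem' := fun a x hx => by
        let θ : AdicCompletion I A →ₗ[A] M :=
          Φ ∘ₗ ((LinearMap.toSpanSingleton (AdicCompletion I A) _ x).restrictScalars A)
        have h0 : θ = 0 := (comp_of_bijective I hc A).1 (LinearMap.ext_ring (by
          show Φ ((AdicCompletion.of I A 1) • x) = 0
          rw [show AdicCompletion.of I A 1 = algebraMap A (AdicCompletion I A) 1 by
            rw [AdicCompletion.algebraMap_apply]; rfl, algebraMap_smul, one_smul]
          exact hx))
        exact LinearMap.congr_fun h0 a }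
  have hJ : IsAdicComplete (I.map (algebraMap A (AdicCompletion I A))) (AdicCompletion I A) :=
    (IsAdicComplete.map_algebraMap_iff I (AdicCompletion I A)).2 (AdicCompletion.isAdicComplete hI)
  haveI : IsNoetherianRing (AdicCompletion I A) := Groth.Calg1.isNoetherianRing_adicCompletion I hI
  haveI hfin : Module.Finite (AdicCompletion I A) (AdicCompletion I (Fin r → A)) :=
    Module.Finite.of_surjective (AdicCompletion.ofTensorProduct I (Fin r → A))
      (AdicCompletion.ofTensorProduct_bijective_of_finite_of_isNoetherian I (Fin r → A)).2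
  have hH : IsHausdorff I (AdicCompletion I (Fin r → A) ⧸ K) := by
    refine (IsHausdorff.map_algebraMap_iff (I := I) (S := AdicCompletion I A)
      (M := AdicCompletion I (Fin r → A) ⧸ K)).1 ?_
    exact IsHausdorff.of_le_jacobson _ _ (IsAdicComplete.le_jacobson_bot _)
  let ψ : (AdicCompletion I (Fin r → A) ⧸ K) →ₗ[A] M :=
    (Submodule.liftQ (K.restrictScalars A) Φ fun x hx => LinearMap.mem_ker.2 hx) ∘ₗ
      (Submodule.Quotient.restrictScalarsEquiv A K).symm.toLinearMap
  have hψ : Function.Bijective ψ := by
    constructor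
    · refine (injective_iff_map_eq_zero _).2 fun y hy => ?_
      obtain ⟨x, rfl⟩ := Submodule.Quotient.mk_surjective _ y
      exact (Submodule.Quotient.mk_eq_zero K).2 hy
    · intro m
      obtain ⟨x, rfl⟩ := hΦs m
      exact ⟨Submodule.Quotient.mk x, rfl⟩
  let e := LinearEquiv.ofBijective ψ hψ
  haveI : IsHausdorff I M := ⟨fun m hm => e.symm.injective ((hH.haus (e.symm m) fun n => by
    have h1 := smulTop_le (I ^ n) e.symm.toLinearMap (SModEq.zero.1 (hm n))
    exact SModEq.zero.2 h1).trans (map_zero e.symm).symm)⟩
  have hsur : Function.Surjective (AdicCompletion.of I M) := Groth.DerComplete.surjective_of_completion I hI hdc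
  refine ⟨AdicCompletion.of_bijective_iff.1 ⟨AdicCompletion.of_injective I M, hsur⟩, ?_⟩
  refine Module.Finite.of_surjective (AdicCompletion.map I g) ?_
  have hdc' : DRing.IsDerivedComplete I (Dual.inD A (AdicCompletion I M)) := by
    rw [Groth.DerComplete.isDerivedComplete_inD_iff]
    intro f hf'
    have := AdicCompletion.isAdicComplete (I := I) (M := M) hI
    exact Groth.DerComplete.dc_of_isAdicComplete I hf'
  have heq : (AdicCompletion.map I g).restrictScalars A = AdicCompletion.of I M ∘ₗ Φ :=
    (comp_of_bijective I hdc' (Fin r → A)).1 (LinearMap.ext fun v => by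
      show AdicCompletion.map I g (AdicCompletion.of I _ v) = AdicCompletion.of I M (Φ (AdicCompletion.of I _ v))
      rw [show Φ (AdicCompletion.of I _ v) = g v from LinearMap.congr_fun hΦ v]
      exact AdicCompletion.ext fun n => rfl)
  intro y
  obtain ⟨x, hx⟩ := (hsur.comp hΦs) y
  exact ⟨x, (LinearMap.congr_fun heq x).trans hx⟩

end Groth.LocCohTransform.CompletionNakayama
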