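import Groth.Agent.LocCohTransform.RgammaDualizing
import Groth.Agent.LocCohTransform.CompletionNakayama
import Groth.Agent.LocCohTransform.CompletionCech
import Groth.Agent.DAlg.RFTriangle

/-!
`RΓ_m` and derived completion over a complete local ring: finite versus cofinite cohomology.
-/

set_option autoImplicit false
set_option linter.style.haveILetI false
set_option linter.unusedSectionVars false

universe u

open CategoryTheory CategoryTheory.Limits CategoryTheory.Pretriangulated IsLocalRing

attribute [local instance] HasDerivedCategory.standard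

namespace Groth.LocCohTransform.CofiniteEquiv

open CompletionFunctor CompletionAmplitude

section General

variable {A : Type u} [CommRing A] [IsNoetherianRing A] (I : Ideal A)

/-- Induction over the generators of `I`, by cones of multiplications. -/
theorem koszul_induction (H P : Dual.D A → Prop)
    (hH : ∀ f ∈ I, ∀ (X C : Dual.D A) (b : X ⟶ C) (c : C ⟶ X⟦(1 : ℤ)⟧),
      Triangle.mk (f • 𝟙 X) b c ∈ distTriang (Dual.D A) → H X → H C)
    (base : ∀ X, H X → (∃ N : ℕ, ∀ (i : ℤ) (x : Dual.HD A X i), ∀ a ∈ I ^ N, a • x = 0) → P X)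
    (step : ∀ f ∈ I, ∀ (X C : Dual.D A) (b : X ⟶ C) (c : C ⟶ X⟦(1 : ℤ)⟧),
      Triangle.mk (f • 𝟙 X) b c ∈ distTriang (Dual.D A) → H X → P C → P X) :
    ∀ X, H X → P X := by
  classical
  obtain ⟨gens, hgens⟩ := (IsNoetherian.noetherian I : I.FG)
  suffices key : ∀ t : Finset A, t ⊆ gens → ∀ X : Dual.D A, H X →
      (∀ g ∈ gens, g ∉ t → ∃ k : ℕ, ∀ (i : ℤ) (x : Dual.HD A X i), g ^ k • x = 0) → P X from
    fun X hX => key gens subset_rfl X hX fun g hg h => absurd hg h
  intro t
  induction t using Finset.induction with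
  | empty =>
    intro _ X hX hk
    choose k hk using fun g : gens => hk g g.2 (Finset.notMem_empty _)
    have hle : I ≤ (Ideal.span (Set.range fun g : gens => g.1 ^ k g)).radical := by
      conv_lhs => rw [← hgens]
      exact Ideal.span_le.2 fun g hg => ⟨k ⟨g, hg⟩, Ideal.subset_span ⟨⟨g, hg⟩, rfl⟩⟩
    obtain ⟨N, hN⟩ := Ideal.exists_pow_le_of_le_radical_of_fg hle (IsNoetherian.noetherian I)
    refine base X hX ⟨N, fun n x a ha => ?_⟩
    refine Submodule.span_induction (p := fun a _ => a • x = 0) ?_ ?_ ?_ ?_ (hN ha)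
    · rintro _ ⟨g, rfl⟩; exact hk g n x
    · exact zero_smul _ _
    · intro p q _ _ hp hq; rw [add_smul, hp, hq, add_zero]
    · intro r p _ hp; rw [smul_eq_mul, mul_smul, hp, smul_zero]
  | @insert f t hft ih =>
    intro hsub X hX hk
    have hf : f ∈ I := hgens ▸ Ideal.subset_span (hsub (Finset.mem_insert_self f t))
    obtain ⟨C, b, c, hT⟩ := exists_cone X f
    refine step f hf X C b c hT hX
      (ih (fun x hx => hsub (Finset.mem_insert_of_mem hx)) C (hH f hf X C b c hT hX) fun g hg hgt => ?_)
    by_cases h : g = f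
    · subst h; exact ⟨2, cone_killed hT⟩
    · obtain ⟨k, hk⟩ := hk g hg fun h' => (Finset.mem_insert.1 h').elim h hgt
      exact ⟨k + k, GreenleesMay.killed_cone hT hk⟩

theorem isArtinian_of_triangle {T : Triangle (Dual.D A)} (hT : T ∈ distTriang (Dual.D A)) (i j : ℤ)
    (hij : i + 1 = j) (h₁ : IsArtinian A (Dual.HD A T.obj₂ i)) (h₂ : IsArtinian A (Dual.HD A T.obj₁ j)) :
    IsArtinian A (Dual.HD A T.obj₃ i) :=
  isArtinian_of_range_eq_ker _ _ (LinearMap.exact_iff.1
    ((ShortComplex.ShortExact.moduleCat_exact_iff_function_exact _).1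
      (DerivedCategory.HomologySequence.exact₃ T hT i j hij))).symm

theorem finite_of_triangle {T : Triangle (Dual.D A)} (hT : T ∈ distTriang (Dual.D A)) (i j : ℤ)
    (hij : i + 1 = j) (h₁ : Module.Finite A (Dual.HD A T.obj₂ i)) (h₂ : Module.Finite A (Dual.HD A T.obj₁ j)) :
    Module.Finite A (Dual.HD A T.obj₃ i) :=
  haveI := isNoetherian_of_range_eq_ker _ _ (LinearMap.exact_iff.1
    ((ShortComplex.ShortExact.moduleCat_exact_iff_function_exact _).1
      (DerivedCategory.HomologySequence.exact₃ T hT i j hij))).symm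
  inferInstance

variable [DRing.HasRgammaI I]

theorem rgamma_map_smul_id (X : Dual.D A) (f : A) :
    (DRing.RgammaI I).map (f • 𝟙 X) = f • 𝟙 ((DRing.RgammaI I).obj X) := by
  refine (RgammaTorsion.comp_ε_bijective I _ X (RgammaTorsion.isPowerTorsion_rgamma I X)).1 ?_
  show (DRing.RgammaI I).map (f • 𝟙 X) ≫ (DRing.RgammaIε I).app X = (f • 𝟙 _) ≫ (DRing.RgammaIε I).app X
  refine ((DRing.RgammaIε I).naturality (f • 𝟙 X)).trans ?_
  show (DRing.RgammaIε I).app X ≫ (f • 𝟙 X) = _
  rw [Linear.smul_comp, Linear.comp_smul]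
  exact congrArg (f • ·) ((Category.comp_id _).trans (Category.id_comp _).symm)

theorem exists_rgamma_cone {X C : Dual.D A} {f : A} {b : X ⟶ C} {c : C ⟶ X⟦(1 : ℤ)⟧}
    (hT : Triangle.mk (f • 𝟙 X) b c ∈ distTriang (Dual.D A)) :
    ∃ c' : (DRing.RgammaI I).obj C ⟶ ((DRing.RgammaI I).obj X)⟦(1 : ℤ)⟧,
      Triangle.mk (f • 𝟙 ((DRing.RgammaI I).obj X)) ((DRing.RgammaI I).map b) c' ∈ distTriang (Dual.D A) := by
  obtain ⟨c', hc'⟩ := Groth.DAlg.RFTriangle.exists_distinguished (DRing.gammaI I) (DRing.RgammaI I)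
    ((DRing.gammaIKh I).totalRightDerivedUnit DerivedCategory.Qh
      (HomotopyCategory.quasiIso (ModuleCat.{u} A) (ComplexShape.up ℤ))) _ hT
  refine ⟨c', ?_⟩
  rw [← rgamma_map_smul_id]
  exact hc'

/-- `RΓ_I` does not lower the lower bound. -/
theorem subsingleton_rgamma_of_lt (X : Dual.D A) (a : ℤ) (h : ∀ i < a, Subsingleton (Dual.HD A X i)) (i : ℤ)
    (hi : i < a) : Subsingleton (Dual.HD A ((DRing.RgammaI I).obj X) i) := by
  haveI : X.IsGE a := isGE_of_subsingleton X a h
  have htor := RgammaTorsion.isPowerTorsion_rgamma I X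
  obtain ⟨T, hT, h2, h1, h3⟩ := exists_trunc ((DRing.RgammaI I).obj X) a
  haveI := h1
  haveI := h3
  obtain ⟨o₁, o₂, o₃, m₁, m₂, m₃⟩ := T
  obtain rfl : o₂ = _ := h2
  have ho : ∀ j, LocCoh.IsPowerTorsion I (Dual.HD A o₁ j) := fun j => by
    by_cases hj : j < a
    · exact RgammaTorsion.isPowerTorsion_of_linearEquiv I
        (LinearEquiv.ofBijective _ (bijective_trunc₁ hT a j hj)).symm (htor j)
    · haveI := subsingleton_of_isLE o₁ (a - 1) j (by omega)
      exact fun x => ⟨0, fun c _ => Subsingleton.elim _ _⟩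
  have hzz : ∀ φ : o₁ ⟶ X, φ = 0 := fun φ =>
    DerivedCategory.TStructure.t.zero_of_isLE_of_isGE φ (a - 1) a (by omega) inferInstance inferInstance
  have hm : m₁ = 0 := (RgammaTorsion.comp_ε_bijective I o₁ X ho).1 ((hzz _).trans (hzz _).symm)
  refine subsingleton_of_forall_eq 0 fun x => ?_
  obtain ⟨y, rfl⟩ := (bijective_trunc₁ hT a i hi).2 x
  show CompletionAmplitude.hmap m₁ i y = 0
  rw [hm]
  simp [CompletionAmplitude.hmap]

variable [DRing.HasDerivedCompletion I]

theorem isIso_completion_map_ε (K : Dual.D A) :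
    IsIso ((DRing.derivedCompletion I).map ((DRing.RgammaIε I).app K)) := by
  have : IsIso ((ObjectProperty.ι (DRing.IsDerivedComplete I)).map
      ((DRing.derivedCompletion I).map ((DRing.RgammaIε I).app K))) := GreenleesMay.isIso_map_ε I K
  exact isIso_of_reflects_iso _ (ObjectProperty.ι (DRing.IsDerivedComplete I))

theorem isIso_rgamma_map_η (K : Dual.D A) : IsIso ((DRing.RgammaI I).map ((η I).app K)) := by
  let v := (DRing.RgammaI I).map ((η I).app K)
  have hL := RgammaTorsion.isPowerTorsion_rgamma I ((comp I).obj K)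
  have hK := RgammaTorsion.isPowerTorsion_rgamma I K
  have hb : ∀ {T : Dual.D A}, (∀ n, LocCoh.IsPowerTorsion I (Dual.HD A T n)) →
      Function.Bijective fun φ : T ⟶ (DRing.RgammaI I).obj K => φ ≫ v := by
    intro T hT
    have h := (GreenleesMay.comp_η_bijective I hT K).comp (RgammaTorsion.comp_ε_bijective I T K hT)
    refine (Function.Bijective.of_comp_iff' (RgammaTorsion.comp_ε_bijective I T ((comp I).obj K) hT) _).1 ?_
    convert h using 1
    funext φ
    exact (Category.assoc _ _ _).trans ((congrArg (φ ≫ ·) ((DRing.RgammaIε I).naturality ((η I).app K))).trans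
      (Category.assoc _ _ _).symm)
  obtain ⟨w, hw⟩ := (hb hL).2 (𝟙 _)
  exact ⟨w, (hb hK).1 (by
    show (v ≫ w) ≫ v = 𝟙 _ ≫ v
    rw [Category.assoc, show w ≫ v = 𝟙 _ from hw, Category.comp_id, Category.id_comp]), hw⟩

end General

variable {A : Type u} [CommRing A] [IsLocalRing A] [IsNoetherianRing A]

theorem isArtinian_of_cofinite (M : Type u) [AddCommGroup M] [Module A M]
    (hM : LocCoh.IsPowerTorsion (maximalIdeal A) M) (hs : Module.Finite A ↥(LocCoh.torsionBy (maximalIdeal A) M)) :
    IsArtinian A M := by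
  obtain ⟨E, _, _, f, hf⟩ := GrothMatlis.exists_hull (R := A) (M := ResidueField A)
  haveI : Module.Finite (A ⧸ maximalIdeal A) ↥(LocCoh.torsionBy (maximalIdeal A) M) :=
    Module.Finite.of_restrictScalars_finite A _ _
  exact GrothMatlis.isArtinian_of_socle hf M hM

theorem cofinite_of_isArtinian (M : Type u) [AddCommGroup M] [Module A M] [IsArtinian A M] :
    LocCoh.IsPowerTorsion (maximalIdeal A) M ∧ Module.Finite A ↥(LocCoh.torsionBy (maximalIdeal A) M) := by
  haveI := GrothMatlis.socle_finite_of_isArtinian (R := A) M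
  exact ⟨GrothMatlis.isPowerTorsion_of_isArtinian M, Module.Finite.trans (A ⧸ maximalIdeal A) _⟩

theorem isArtinian_of_killed (M : Type u) [AddCommGroup M] [Module A M] [Module.Finite A M] (N : ℕ)
    (h : ∀ x : M, ∀ a ∈ maximalIdeal A ^ N, a • x = 0) : IsArtinian A M :=
  isArtinian_of_cofinite M (fun x => ⟨N, h x⟩) inferInstance

theorem finite_of_killed (M : Type u) [AddCommGroup M] [Module A M] [IsArtinian A M] (N : ℕ)
    (h : ∀ x : M, ∀ a ∈ maximalIdeal A ^ N, a • x = 0) : Module.Finite A M := by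
  obtain ⟨E, _, _, f, hf⟩ := GrothMatlis.exists_hull (R := A) (M := ResidueField A)
  haveI := GrothMatlis.socle_finite_of_isArtinian (R := A) M
  obtain ⟨g, hg⟩ := GrothMatlis.exists_embedding_pi hf M (GrothMatlis.isPowerTorsion_of_isArtinian M) _ rfl
  have hfl := GrothMatlis.isFiniteLength_torsion_pow hf N
  haveI := (isFiniteLength_iff_isNoetherian_isArtinian.1 hfl).1
  let g' : M →ₗ[A] (Fin (Module.finrank (A ⧸ maximalIdeal A) ↥(LocCoh.torsionBy (maximalIdeal A) M)) →
      ↥(LocCoh.torsionBy (maximalIdeal A ^ N) E)) :=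
    LinearMap.pi fun l => ((LinearMap.proj l).comp g).codRestrict _ fun x => by
      refine (Submodule.mem_torsionBySet_iff _ _).2 fun a => ?_
      show (a : A) • g x l = 0
      rw [← Pi.smul_apply, ← map_smul, h x a a.2, map_zero, Pi.zero_apply]
  exact Module.Finite.of_injective g' fun x y hxy => hg (funext fun l => congrArg Subtype.val (congrFun hxy l))

/-- Bounded above, finite cohomology: `RΓ_m` has cofinite cohomology and is bounded above. -/
theorem rgamma_artinian [DRing.HasRgammaI (maximalIdeal A)] (X : Dual.D A)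
    (hfin : ∀ i, Module.Finite A (Dual.HD A X i)) (hb : ∃ b : ℤ, ∀ i > b, Subsingleton (Dual.HD A X i)) :
    (∀ i, IsArtinian A (Dual.HD A ((DRing.RgammaI (maximalIdeal A)).obj X) i)) ∧
      ∃ b : ℤ, ∀ i > b, Subsingleton (Dual.HD A ((DRing.RgammaI (maximalIdeal A)).obj X) i) := by
  refine koszul_induction (maximalIdeal A)
    (fun X => (∀ i, Module.Finite A (Dual.HD A X i)) ∧ ∃ b : ℤ, ∀ i > b, Subsingleton (Dual.HD A X i))
    (fun X => (∀ i, IsArtinian A (Dual.HD A ((DRing.RgammaI (maximalIdeal A)).obj X) i)) ∧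
      ∃ b : ℤ, ∀ i > b, Subsingleton (Dual.HD A ((DRing.RgammaI (maximalIdeal A)).obj X) i)) ?_ ?_ ?_ X ⟨hfin, hb⟩
  · rintro f - X C p q hT ⟨hfin, b, hb⟩
    exact ⟨fun i => finite_of_triangle hT i _ rfl (hfin i) (hfin (i + 1)),
      b, fun i hi => cone_subsingleton hT i (hb i hi) (hb (i + 1) (by omega))⟩
  · rintro X ⟨hfin, b, hb⟩ ⟨N, hN⟩
    haveI := RgammaTorsion.isIso_ε (maximalIdeal A) X fun i x => ⟨N, hN i x⟩
    let e : ∀ i, Dual.HD A ((DRing.RgammaI (maximalIdeal A)).obj X) i ≃ₗ[A] Dual.HD A X i := fun i => ((DerivedCategory.homologyFunctor (ModuleCat.{u} A) i).mapIso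
      (asIso ((DRing.RgammaIε (maximalIdeal A)).app X))).toLinearEquiv
    refine ⟨fun i => ?_, b, fun i hi => ?_⟩
    · haveI : IsArtinian A (Dual.HD A X i) :=
        haveI := hfin i
        isArtinian_of_killed _ N (hN i)
      exact isArtinian_of_linearEquiv (e i).symm
    · haveI := hb i hi
      exact (e i).toEquiv.subsingleton
  · rintro f hf X C p q hT ⟨hfin, b, hb⟩ ⟨hA, B, hB⟩
    obtain ⟨c', hT'⟩ := exists_rgamma_cone (maximalIdeal A) hT
    have htor := RgammaTorsion.isPowerTorsion_rgamma (maximalIdeal A) X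
    refine ⟨fun i => ?_, B + 1, fun i hi => ?_⟩
    · -- the socle lies in the kernel of `f`
      have h1 := (ShortComplex.ShortExact.moduleCat_exact_iff_function_exact _).1
        (DerivedCategory.HomologySequence.exact₁ _ hT' (i - 1) i (by omega))
      let L : Dual.HD A ((DRing.RgammaI (maximalIdeal A)).obj C) (i - 1) →ₗ[A]
          Dual.HD A ((DRing.RgammaI (maximalIdeal A)).obj X) i :=
        ((DerivedCategory.homologyFunctor (ModuleCat.{u} A) 0).shiftMap c' (i - 1) i (by omega)).hom
      haveI := hA (i - 1)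
      haveI := isArtinian_of_surjective _ L.rangeRestrict L.surjective_rangeRestrict
      have hle : LocCoh.torsionBy (maximalIdeal A) (Dual.HD A ((DRing.RgammaI (maximalIdeal A)).obj X) i) ≤
          LinearMap.range L := by
        intro x hx
        refine (h1 x).1 ?_
        exact (hmap_smul_id _ f i x).trans ((Submodule.mem_torsionBySet_iff _ _).1 hx ⟨f, hf⟩)
      haveI : IsArtinian A ↥(LocCoh.torsionBy (maximalIdeal A)
          (Dual.HD A ((DRing.RgammaI (maximalIdeal A)).obj X) i)) :=
        isArtinian_of_injective (Submodule.inclusion hle) (Submodule.inclusion_injective hle)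
      refine isArtinian_of_cofinite _ (htor i) (finite_of_killed _ 1 fun x a ha => ?_)
      rw [pow_one] at ha
      exact Subtype.ext ((Submodule.mem_torsionBySet_iff _ _).1 x.2 ⟨a, ha⟩)
    · have hinj := injective₁ hT' (i - 1) i (by omega) (hB (i - 1) (by omega))
      refine subsingleton_of_forall_eq 0 fun x => ?_
      obtain ⟨k, hk⟩ := htor i x
      have hk' := hk _ (Ideal.pow_mem_pow hf k)
      clear hk
      induction k with
      | zero => rwa [pow_zero, one_smul] at hk'
      | succ k ih =>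
        refine ih (hinj ?_)
        refine (hmap_smul_id _ f i (f ^ k • x)).trans (Eq.trans ?_ (map_zero _).symm)
        rw [← mul_smul, ← pow_succ']
        exact hk'

variable [IsAdicComplete (maximalIdeal A) A]

/-- A derived complete module which is finite modulo `f ∈ m` is finite. -/
theorem finite_of_dc (H : Type u) [AddCommGroup H] [Module A H]
    (hdc : ∀ g ∈ maximalIdeal A, Groth.DerComplete.DC g H) {f : A} (hf : f ∈ maximalIdeal A)
    (hfin : Module.Finite A (H ⧸ LinearMap.range (LinearMap.lsmul A H f))) : Module.Finite A H := by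
  have hle : LinearMap.range (LinearMap.lsmul A H f) ≤ maximalIdeal A • (⊤ : Submodule A H) := by
    rintro _ ⟨x, rfl⟩
    exact Submodule.smul_mem_smul hf Submodule.mem_top
  have hq : Module.Finite A (H ⧸ maximalIdeal A • (⊤ : Submodule A H)) :=
    Module.Finite.of_surjective (Submodule.factor hle) (Submodule.factor_surjective hle)
  obtain ⟨hc, hF⟩ := CompletionNakayama.main (maximalIdeal A)
    ((Groth.DerComplete.isDerivedComplete_inD_iff _ H).2 hdc) hq
  haveI := hc
  haveI := hF
  haveI : Module.Finite A (AdicCompletion (maximalIdeal A) A) :=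
    Module.Finite.equiv (AdicCompletion.ofLinearEquiv (maximalIdeal A) A)
  haveI : Module.Finite A (AdicCompletion (maximalIdeal A) H) :=
    Module.Finite.trans (AdicCompletion (maximalIdeal A) A) _
  exact Module.Finite.equiv (AdicCompletion.ofLinearEquiv (maximalIdeal A) H).symm

/-- Cofinite cohomology: the completion has finite cohomology. -/
theorem completion_finite [DRing.HasDerivedCompletion (maximalIdeal A)] (X : Dual.D A)
    (hA : ∀ i, IsArtinian A (Dual.HD A X i)) :
    ∀ i, Module.Finite A (Dual.HD A ((comp (maximalIdeal A)).obj X) i) := by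
  refine koszul_induction (maximalIdeal A) (fun X => ∀ i, IsArtinian A (Dual.HD A X i))
    (fun X => ∀ i, Module.Finite A (Dual.HD A ((comp (maximalIdeal A)).obj X) i)) ?_ ?_ ?_ X hA
  · exact fun f _ X C p q hT hA i => isArtinian_of_triangle hT i _ rfl (hA i) (hA (i + 1))
  · rintro X hA ⟨N, hN⟩ i
    haveI := isIso_η_of_complete (maximalIdeal A) (GreenleesMay.complete_of_killed (maximalIdeal A) hN)
    haveI := hA i
    haveI := finite_of_killed _ N (hN i)
    let e : Dual.HD A X i ≃ₗ[A] Dual.HD A ((comp (maximalIdeal A)).obj X) i :=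
      ((DerivedCategory.homologyFunctor (ModuleCat.{u} A) i).mapIso (asIso ((η (maximalIdeal A)).app X))).toLinearEquiv
    exact Module.Finite.equiv e
  · intro f hf X C p q hT _ hC i
    have hT' := (comp (maximalIdeal A)).map_distinguished _ hT
    haveI := hC i
    haveI : IsNoetherian A (Dual.HD A ((comp (maximalIdeal A)).obj C) i) := inferInstance
    refine finite_of_dc _ (fun g hg => dc_hd (maximalIdeal A) (complete_comp _ X) hg i) hf ?_
    have hker : LinearMap.range (LinearMap.lsmul A (Dual.HD A ((comp (maximalIdeal A)).obj X) i) f) =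
        LinearMap.ker (CompletionAmplitude.hmap ((comp (maximalIdeal A)).map p) i) := by
      refine Eq.trans (congrArg LinearMap.range ?_) (LinearMap.exact_iff.1 (exact₂' hT' i)).symm
      refine LinearMap.ext fun x => ?_
      show f • x = CompletionAmplitude.hmap ((comp (maximalIdeal A)).map (f • 𝟙 X)) i x
      rw [comp_map_smul_id]
      exact (hmap_smul_id _ f i x).symm
    rw [hker]
    exact Module.Finite.of_injective ((LinearMap.ker (CompletionAmplitude.hmap ((comp (maximalIdeal A)).map p) i)).liftQ _ le_rfl)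
      (LinearMap.ker_eq_bot.1 (Submodule.ker_liftQ_eq_bot _ _ _ le_rfl))

end Groth.LocCohTransform.CofiniteEquiv
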