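import Groth.Agent.LocCohTransform.RgammaCompute
import Groth.Prelude.Def_DualLC
import Mathlib.Algebra.Homology.DerivedCategory.Linear

/-!
`H^q(RΓ_I K)` as a direct limit of morphism groups in the derived category.
-/

set_option autoImplicit false
set_option linter.style.haveILetI false
set_option linter.unusedSectionVars false

universe u

open CategoryTheory CategoryTheory.Limits Opposite HomologicalComplex

attribute [local instance] HasDerivedCategory.standard

namespace Groth.LocCohTransform.RgammaHDI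

open RgammaCompute

variable {A : Type u} [CommRing A] (I : Ideal A) (L : CochainComplex (ModuleCat.{u} A) ℤ)

/-- `A/I^n` as a complex. -/
noncomputable abbrev Sn (n : ℕ) : CochainComplex (ModuleCat.{u} A) ℤ :=
  (HomologicalComplex.single (ModuleCat.{u} A) (ComplexShape.up ℤ) 0).obj (ModuleCat.of A (A ⧸ I ^ n))

/-- The element `1` of the degree zero term. -/
noncomputable def one (n : ℕ) : (Sn I n).X 0 :=
  (singleObjXSelf (ComplexShape.up ℤ) 0 (ModuleCat.of A (A ⧸ I ^ n))).inv.hom (Submodule.Quotient.mk 1)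

theorem hom_one (n : ℕ) :
    (singleObjXSelf (ComplexShape.up ℤ) 0 (ModuleCat.of A (A ⧸ I ^ n))).hom.hom (one I n) =
      Submodule.Quotient.mk 1 :=
  congr(($((singleObjXSelf (ComplexShape.up ℤ) 0 (ModuleCat.of A (A ⧸ I ^ n))).inv_hom_id)).hom
    (Submodule.Quotient.mk 1))

theorem smul_one_eq_zero {n : ℕ} {a : A} (ha : a ∈ I ^ n) : a • one I n = 0 := by
  rw [one, ← map_smul, ← Submodule.Quotient.mk_smul, smul_eq_mul, mul_one,
    (Submodule.Quotient.mk_eq_zero _).2 ha, map_zero]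

theorem mem_torsion {n : ℕ} (g : Sn I n ⟶ L) : (g.f 0).hom (one I n) ∈ DRing.torsionSub I (L.X 0) :=
  ⟨n, fun a ha => by rw [← map_smul, smul_one_eq_zero I ha, map_zero]⟩

/-- The value at `1`. -/
noncomputable def val {n : ℕ} (g : Sn I n ⟶ L) : ((gam I).obj L).X 0 :=
  (⟨(g.f 0).hom (one I n), mem_torsion I L g⟩ : DRing.torsionSub I (L.X 0))

theorem d_val {n : ℕ} (g : Sn I n ⟶ L) : (((gam I).obj L).d 0 1).hom (val I L g) = 0 := by
  apply Subtype.ext
  show (L.d 0 1).hom ((g.f 0).hom (one I n)) = 0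
  have h := congr(($(g.comm 0 1)).hom (one I n))
  simp only [single_obj_d, Limits.zero_comp, ModuleCat.hom_comp, LinearMap.comp_apply, ModuleCat.hom_zero,
    LinearMap.zero_apply] at h
  exact h

/-- The class of the value at `1`. -/
noncomputable def cl {n : ℕ} (g : Sn I n ⟶ L) : ((gam I).obj L).homology 0 :=
  (((gam I).obj L).homologyπ 0).hom
    (Groth.BiextChow.exists_cycle _ (k := 1) (by simp) _ (d_val I L g)).choose

theorem iCycles_cl_choose {n : ℕ} (g : Sn I n ⟶ L) :
    (((gam I).obj L).iCycles 0).hom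
      (Groth.BiextChow.exists_cycle _ (k := 1) (by simp) _ (d_val I L g)).choose = val I L g :=
  (Groth.BiextChow.exists_cycle _ (k := 1) (by simp) _ (d_val I L g)).choose_spec

theorem cl_eq_iff {n m : ℕ} (g : Sn I n ⟶ L) (g' : Sn I m ⟶ L) :
    cl I L g = cl I L g' ↔
      ∃ y ∈ DRing.torsionSub I (L.X (-1)), (L.d (-1) 0).hom y = (g.f 0).hom (one I n) - (g'.f 0).hom (one I m) := by
  rw [cl, cl, ← sub_eq_zero, ← map_sub,
    Groth.BiextChow.homologyπ_eq_zero_iff _ (j := -1) (by simp), map_sub, iCycles_cl_choose, iCycles_cl_choose]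
  constructor
  · rintro ⟨⟨y, hy⟩, h⟩
    exact ⟨y, hy, congrArg Subtype.val h⟩
  · rintro ⟨y, hy, h⟩
    exact ⟨⟨y, hy⟩, Subtype.ext h⟩

theorem cl_eq_of_val {n m : ℕ} {g : Sn I n ⟶ L} {g' : Sn I m ⟶ L}
    (h : (g.f 0).hom (one I n) = (g'.f 0).hom (one I m)) : cl I L g = cl I L g' :=
  (cl_eq_iff I L g g').2 ⟨0, zero_mem _, by rw [map_zero, h, sub_self]⟩

theorem cl_eq_of_homotopy {n : ℕ} {g g' : Sn I n ⟶ L} (h : Homotopy g g') : cl I L g = cl I L g' := by
  refine (cl_eq_iff I L g g').2 ⟨(h.hom 0 (-1)).hom (one I n), ⟨n, fun a ha => ?_⟩, ?_⟩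
  · rw [← map_smul, smul_one_eq_zero I ha, map_zero]
  · have hc := h.comm 0
    rw [dNext_eq h.hom (show (ComplexShape.up ℤ).Rel 0 1 by simp),
      prevD_eq h.hom (show (ComplexShape.up ℤ).Rel (-1) 0 by simp), single_obj_d, Limits.zero_comp, zero_add] at hc
    have h' := congr(($hc).hom (one I n))
    simp only [ModuleCat.hom_add, LinearMap.add_apply, ModuleCat.hom_comp, LinearMap.comp_apply] at h'
    rw [h', add_sub_cancel_right]

theorem cl_add {n : ℕ} (g g' : Sn I n ⟶ L) : cl I L (g + g') = cl I L g + cl I L g' := by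
  rw [cl, cl, cl, ← map_add]
  congr 1
  apply Groth.BiextChow.iCycles_injective
  rw [map_add, iCycles_cl_choose, iCycles_cl_choose, iCycles_cl_choose]
  rfl

theorem cl_smul {n : ℕ} (r : A) (g : Sn I n ⟶ L) : cl I L (r • g) = r • cl I L g := by
  rw [cl, cl, ← map_smul]
  congr 1
  apply Groth.BiextChow.iCycles_injective
  rw [map_smul, iCycles_cl_choose, iCycles_cl_choose]
  rfl

theorem exists_hom {n : ℕ} (x : L.X 0) (hx : (L.d 0 1).hom x = 0) (hn : ∀ a ∈ I ^ n, a • x = 0) :
    ∃ g : Sn I n ⟶ L, (g.f 0).hom (one I n) = x := by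
  let φ : ModuleCat.of A (A ⧸ I ^ n) ⟶ L.X 0 :=
    ModuleCat.ofHom ((I ^ n).liftQ (LinearMap.toSpanSingleton A (L.X 0) x) fun a ha => hn a ha)
  refine ⟨mkHomFromSingle φ fun k hk => ?_, ?_⟩
  · obtain rfl : k = 1 := by simpa using hk.symm
    ext : 1
    refine Submodule.linearMap_qext _ (LinearMap.ext_ring ?_)
    show (L.d 0 1).hom ((1 : A) • x) = 0
    rw [one_smul, hx]
  · rw [mkHomFromSingle_f]
    show φ.hom ((singleObjXSelf (ComplexShape.up ℤ) 0 (ModuleCat.of A (A ⧸ I ^ n))).hom.hom (one I n)) = x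
    rw [hom_one]
    show (1 : A) • x = x
    rw [one_smul]

theorem cl_surjective (t : ((gam I).obj L).homology 0) : ∃ (n : ℕ) (g : Sn I n ⟶ L), cl I L g = t := by
  obtain ⟨z, rfl⟩ := Groth.BiextChow.homologyπ_surjective _ 0 t
  obtain ⟨n, hn⟩ := ((((gam I).obj L).iCycles 0).hom z : DRing.torsionSub I (L.X 0)).2
  have hd : (L.d 0 1).hom ((((gam I).obj L).iCycles 0).hom z : DRing.torsionSub I (L.X 0)).1 = 0 :=
    congrArg (fun t : DRing.torsionSub I (L.X 1) => (t.1 : L.X 1)) (Groth.BiextChow.d_iCycles _ 0 1 z)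
  obtain ⟨g, hg⟩ := exists_hom I L _ hd hn
  refine ⟨n, g, ?_⟩
  rw [cl]
  congr 1
  apply Groth.BiextChow.iCycles_injective
  rw [iCycles_cl_choose]
  exact Subtype.ext hg

/-- The transition maps. -/
noncomputable def tr {n l : ℕ} (h : n ≤ l) : Sn I l ⟶ Sn I n :=
  (HomologicalComplex.single (ModuleCat.{u} A) (ComplexShape.up ℤ) 0).map
    (ModuleCat.ofHom (Submodule.mapQ (I ^ l) (I ^ n) LinearMap.id (Ideal.pow_le_pow_right h)))

theorem tr_one {n l : ℕ} (h : n ≤ l) : ((tr I h).f 0).hom (one I l) = one I n := by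
  rw [tr, single_map_f_self]
  show (singleObjXSelf (ComplexShape.up ℤ) 0 (ModuleCat.of A (A ⧸ I ^ n))).inv.hom
    ((ModuleCat.ofHom (Submodule.mapQ (I ^ l) (I ^ n) LinearMap.id (Ideal.pow_le_pow_right h))).hom
      ((singleObjXSelf (ComplexShape.up ℤ) 0 (ModuleCat.of A (A ⧸ I ^ l))).hom.hom (one I l))) = _
  rw [hom_one]
  rfl

theorem cl_tr {n l : ℕ} (h : n ≤ l) (g : Sn I n ⟶ L) : cl I L (tr I h ≫ g) = cl I L g :=
  cl_eq_of_val I L (by rw [comp_f, ModuleCat.hom_comp, LinearMap.comp_apply, tr_one])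

theorem exists_nullHomotopic {n : ℕ} (g : Sn I n ⟶ L) (hg : cl I L g = 0) :
    ∃ (l : ℕ) (h : n ≤ l), Nonempty (Homotopy (tr I h ≫ g) 0) := by
  have h0 : cl I L (0 : Sn I n ⟶ L) = 0 := by
    have h := cl_smul I L (0 : A) g
    rwa [zero_smul, zero_smul] at h
  obtain ⟨y, ⟨m, hm⟩, hy⟩ := (cl_eq_iff I L g 0).1 (hg.trans h0.symm)
  refine ⟨max n m, le_max_left _ _, ?_⟩
  let φ : ModuleCat.of A (A ⧸ I ^ max n m) ⟶ L.X (-1) :=
    ModuleCat.ofHom ((I ^ max n m).liftQ (LinearMap.toSpanSingleton A (L.X (-1)) y) fun a ha =>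
      hm a (Ideal.pow_le_pow_right (le_max_right n m) ha))
  let hh : ∀ i j : ℤ, (ComplexShape.up ℤ).Rel j i → ((Sn I (max n m)).X i ⟶ L.X j) := fun i j hij =>
    if hi : i = 0 then (singleObjXIsoOfEq (ComplexShape.up ℤ) 0 _ i hi).hom ≫ φ ≫
      (L.XIsoOfEq (show j = -1 by have : j + 1 = i := hij; omega)).inv else 0
  refine ⟨(Homotopy.ofEq ?_).trans (Homotopy.nullHomotopy' hh)⟩
  refine from_single_hom_ext ?_
  rw [Homotopy.nullHomotopicMap'_f (show (ComplexShape.up ℤ).Rel (-1) 0 by simp)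
    (show (ComplexShape.up ℤ).Rel 0 1 by simp), single_obj_d, Limits.zero_comp, zero_add]
  simp only [hh, dif_pos rfl, XIsoOfEq_rfl, Iso.refl_inv, Category.comp_id]
  rw [← cancel_epi (singleObjXSelf (ComplexShape.up ℤ) 0 (ModuleCat.of A (A ⧸ I ^ max n m))).inv]
  ext : 1
  refine Submodule.linearMap_qext _ (LinearMap.ext_ring ?_)
  show ((tr I (le_max_left n m) ≫ g).f 0).hom (one I (max n m)) = _
  rw [comp_f, ModuleCat.hom_comp, LinearMap.comp_apply, tr_one]
  simp only [zero_f, ModuleCat.hom_zero, LinearMap.zero_apply, sub_zero] at hy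
  rw [← hy]
  show _ = (L.d (-1) 0).hom (φ.hom ((singleObjXSelf (ComplexShape.up ℤ) 0
    (ModuleCat.of A (A ⧸ I ^ max n m))).hom.hom (one I (max n m))))
  rw [hom_one]
  congr 1
  exact (one_smul A y).symm

section Derived

variable [L.IsKInjective]

theorem exists_lift {n : ℕ} (u : Dual.inD A (A ⧸ I ^ n) ⟶ DerivedCategory.Q.obj L) :
    ∃ g : Sn I n ⟶ L, DerivedCategory.Q.map g = u := by
  obtain ⟨g, hg⟩ := (CochainComplex.IsKInjective.Qh_map_bijective
    ((HomotopyCategory.quotient (ModuleCat.{u} A) (ComplexShape.up ℤ)).obj (Sn I n)) L).2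
    ((DerivedCategory.quotientCompQhIso (ModuleCat.{u} A)).hom.app (Sn I n) ≫ u ≫
      (DerivedCategory.quotientCompQhIso (ModuleCat.{u} A)).inv.app L)
  obtain ⟨g, rfl⟩ := (HomotopyCategory.quotient (ModuleCat.{u} A) (ComplexShape.up ℤ)).map_surjective g
  refine ⟨g, ?_⟩
  have h := congrArg (fun t => (DerivedCategory.quotientCompQhIso (ModuleCat.{u} A)).inv.app (Sn I n) ≫ t ≫
    (DerivedCategory.quotientCompQhIso (ModuleCat.{u} A)).hom.app L) hg
  simp only [Category.assoc, Iso.inv_hom_id_app_assoc, Iso.inv_hom_id_app, Category.comp_id] at h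
  rw [DerivedCategory.quotientCompQhIso_hom_naturality, Iso.inv_hom_id_app_assoc] at h
  exact h

theorem homotopy_of_eq {n : ℕ} {g g' : Sn I n ⟶ L} (h : DerivedCategory.Q.map g = DerivedCategory.Q.map g') :
    Nonempty (Homotopy g g') := by
  refine ⟨HomotopyCategory.homotopyOfEq _ _ ((CochainComplex.IsKInjective.Qh_map_bijective
    ((HomotopyCategory.quotient (ModuleCat.{u} A) (ComplexShape.up ℤ)).obj (Sn I n)) L).1 ?_)⟩
  rw [← cancel_mono ((DerivedCategory.quotientCompQhIso (ModuleCat.{u} A)).hom.app L)]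
  exact ((DerivedCategory.quotientCompQhIso (ModuleCat.{u} A)).hom.naturality g).trans
    ((congrArg ((DerivedCategory.quotientCompQhIso (ModuleCat.{u} A)).hom.app (Sn I n) ≫ ·) h).trans
      ((DerivedCategory.quotientCompQhIso (ModuleCat.{u} A)).hom.naturality g').symm)

/-- The pairing. -/
noncomputable def P (n : ℕ) :
    (Dual.inD A (A ⧸ I ^ n) ⟶ DerivedCategory.Q.obj L) →ₗ[A] ULift.{u + 1} (((gam I).obj L).homology 0) where
  toFun u := ULift.up (cl I L (exists_lift I L u).choose)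
  map_add' u v := by
    refine ULift.ext _ _ ?_
    show cl I L _ = cl I L _ + cl I L _
    rw [← cl_add]
    refine cl_eq_of_homotopy I L (homotopy_of_eq I L ?_).some
    rw [(exists_lift I L (u + v)).choose_spec, Functor.map_add, (exists_lift I L u).choose_spec,
      (exists_lift I L v).choose_spec]
    rfl
  map_smul' r u := by
    refine ULift.ext _ _ ?_
    show cl I L _ = r • cl I L _
    rw [← cl_smul]
    refine cl_eq_of_homotopy I L (homotopy_of_eq I L ?_).some
    rw [(exists_lift I L (r • u)).choose_spec, Functor.map_smul, (exists_lift I L u).choose_spec]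
    rfl

theorem P_eq {n : ℕ} {u : Dual.inD A (A ⧸ I ^ n) ⟶ DerivedCategory.Q.obj L} {g : Sn I n ⟶ L}
    (hg : DerivedCategory.Q.map g = u) : P I L n u = ULift.up (cl I L g) :=
  congrArg ULift.up (cl_eq_of_homotopy I L
    (homotopy_of_eq I L ((exists_lift I L u).choose_spec.trans hg.symm)).some)

/-- The colimit computes the cohomology of the torsion subcomplex. -/
theorem nonempty_HDI_equiv (K : Dual.D A) (q : ℤ) (e : K⟦q⟧ ≅ DerivedCategory.Q.obj L) :
    Nonempty (Dual2.HDI A I K q ≃ₗ[A] ((gam I).obj L).homology 0) := by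
  let F := (localCohomology.ringModIdeals (localCohomology.idealPowersDiagram I) ⋙
      DerivedCategory.singleFunctor (ModuleCat.{u} A) 0).op ⋙ (linearYoneda A (Dual.D A)).obj (K⟦q⟧)
  let T := ULift.{u + 1} (((gam I).obj L).homology 0)
  have hmap : ∀ {j j' : ℕᵒᵖᵒᵖ} (w : j ⟶ j') (u : F.obj j) {g : Sn I j.unop.unop ⟶ L},
      DerivedCategory.Q.map g = u ≫ e.hom →
      DerivedCategory.Q.map (tr I (leOfHom w.unop.unop) ≫ g) = F.map w u ≫ e.hom := by
    intro j j' w u g hg
    rw [Functor.map_comp, hg]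
    exact (Category.assoc _ _ _).symm
  let φ : ∀ j : ℕᵒᵖᵒᵖ, F.obj j →ₗ[A] T := fun j =>
    { toFun := fun u => P I L j.unop.unop (u ≫ e.hom)
      map_add' := fun u v => by
        rw [← map_add, ← Preadditive.add_comp]; rfl
      map_smul' := fun r u => by
        rw [RingHom.id_apply, ← map_smul, ← Linear.smul_comp]; rfl }
  let s : Cocone F :=
    { pt := ModuleCat.of A T
      ι :=
        { app := fun j => ModuleCat.ofHom (φ j)
          naturality := fun j j' w => by
            ext1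
            apply LinearMap.ext
            intro u
            obtain ⟨g, hg⟩ := exists_lift I L (u ≫ e.hom)
            show P I L j'.unop.unop (F.map w u ≫ e.hom) = P I L j.unop.unop (u ≫ e.hom)
            rw [P_eq I L hg]
            exact (P_eq I L (hmap w u hg)).trans (congrArg ULift.up (cl_tr I L _ g)) } }
  have hd : ∀ j (u : F.obj j), colimit.desc F s (colimit.ι F j u) = φ j u := fun j u =>
    ConcreteCategory.congr_hom (colimit.ι_desc s j) u
  refine ⟨(LinearEquiv.ofBijective (colimit.desc F s).hom ⟨?_, fun t => ?_⟩).trans ULift.moduleEquiv⟩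
  · rw [← LinearMap.ker_eq_bot, LinearMap.ker_eq_bot']
    intro x hx
    haveI : PreservesFilteredColimitsOfSize.{0, 0} (forget AddCommGrpCat.{u + 1}) :=
      preservesFilteredColimitsOfSize_shrink.{0, u + 1, 0, u + 1} _
    haveI : PreservesColimit F (forget (ModuleCat.{u + 1} A)) :=
      inferInstanceAs (PreservesColimit F (forget₂ (ModuleCat.{u + 1} A) AddCommGrpCat ⋙ forget AddCommGrpCat))
    obtain ⟨j, u, rfl⟩ := Concrete.colimit_exists_rep F x
    obtain ⟨g, hg⟩ := exists_lift I L (u ≫ e.hom)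
    have h2 : cl I L g = 0 := by
      have h3 : P I L j.unop.unop (u ≫ e.hom) = 0 := (hd j u).symm.trans hx
      rw [P_eq I L hg] at h3
      exact congrArg ULift.down h3
    obtain ⟨l, hl, ⟨hh⟩⟩ := exists_nullHomotopic I L g h2
    let w : j ⟶ op (op l) := (homOfLE hl).op.op
    have h1 : F.map w u = 0 := by
      have h4 : F.map w u ≫ e.hom = 0 := by
        rw [← hmap w u hg]
        have h5 := congrArg DerivedCategory.Qh.map
          (HomotopyCategory.eq_of_homotopy (tr I hl ≫ g) 0 hh)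
        rw [Functor.map_zero, Functor.map_zero] at h5
        refine (cancel_epi ((DerivedCategory.quotientCompQhIso (ModuleCat.{u} A)).hom.app (Sn I l))).1 ?_
        refine ((DerivedCategory.quotientCompQhIso (ModuleCat.{u} A)).hom.naturality _).symm.trans ?_
        exact (congrArg (· ≫ _) h5).trans (Limits.zero_comp.trans Limits.comp_zero.symm)
      exact (cancel_mono e.hom).1 (h4.trans Limits.zero_comp.symm)
    rw [← ConcreteCategory.congr_hom (colimit.w F w) u]
    show colimit.ι F _ (F.map w u) = 0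
    rw [h1, map_zero]
  · obtain ⟨n, g, hg⟩ := cl_surjective I L t.down
    let u : F.obj (op (op n)) := DerivedCategory.Q.map g ≫ e.inv
    refine ⟨colimit.ι F (op (op n)) u, (hd (op (op n)) u).trans ?_⟩
    show P I L n ((DerivedCategory.Q.map g ≫ e.inv) ≫ e.hom) = t
    exact (P_eq I L (g := g) ((Category.assoc _ _ _).trans
      ((congrArg _ e.inv_hom_id).trans (Category.comp_id _))).symm).trans (congrArg ULift.up hg)

end Derived

variable [DRing.HasRgammaI I]

/-- `H^q(RΓ_I K)` is the direct limit of `Hom(A/I^n, K[q])`. -/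
theorem nonempty_HD_equiv_HDI (K : Dual.D A) (q : ℤ) :
    Nonempty (Dual.HD A ((DRing.RgammaI I).obj K) q ≃ₗ[A] Dual2.HDI A I K q) := by
  obtain ⟨J, hJ, -, ⟨e⟩⟩ := exists_iso K
  haveI := hJ
  obtain ⟨f⟩ := nonempty_HDI_equiv I (J⟦q⟧) K q
    ((shiftFunctor (Dual.D A) q).mapIso e.symm ≪≫ ((DerivedCategory.Q.commShiftIso q).app J).symm)
  let g : ((gam I).obj (J⟦q⟧)).homology 0 ≃ₗ[A] ((gam I).obj J).homology q :=
    ((HomologicalComplex.homologyFunctor (ModuleCat.{u} A) (ComplexShape.up ℤ) 0).mapIso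
      ((Functor.commShiftIso (gam I) q).app J) ≪≫
      (CochainComplex.ShiftSequence.shiftIso (ModuleCat.{u} A) q 0 q (add_zero q)).app ((gam I).obj J)).toLinearEquiv
  exact ⟨(((DerivedCategory.homologyFunctor (ModuleCat.{u} A) q).mapIso
      ((DRing.RgammaI I).mapIso e.symm ≪≫ rgammaIso I J) ≪≫
      (DerivedCategory.homologyFunctorFactors (ModuleCat.{u} A) q).app ((gam I).obj J)).toLinearEquiv).trans
        (g.symm.trans f.symm)⟩

end Groth.LocCohTransform.RgammaHDI
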