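import Groth.Agent.LocCohTransform.DualDegree
import Groth.Agent.LocCohTransform.CofiniteEquiv
import Groth.Agent.LocCohTransform.RgammaHDI
import Groth.Agent.DualCore.CM
import Groth.Agent.DualCore.Transform
import Groth.Agent.LocFinite.Cx
import Groth.Agent.LocCohBase.Torsion

/-!
Vanishing of `Hom(X, RΓ_I ω⟦p⟧)` below the degrees of the primes in `supp X ∩ V(I)`, and devissage of annihilation.
-/

set_option autoImplicit false
set_option linter.style.haveILetI false
set_option linter.unusedSectionVars false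

universe u

open CategoryTheory CategoryTheory.Limits CategoryTheory.Pretriangulated TensorProduct Opposite IsLocalRing

attribute [local instance] HasDerivedCategory.standard

namespace Groth.LocCohTransform.DualVanishing

open Groth.DualCore CompletionAmplitude

theorem hasRgammaI {A : Type u} [CommRing A] (J : Ideal A) : DRing.HasRgammaI J :=
  haveI := Groth.DerivedAdj.hasPointwiseRightDerivedFunctor_of_bijective (F := DRing.gammaIKh J)
    (HomotopyCategory.quasiIso (ModuleCat.{u} A) (ComplexShape.up ℤ))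
    (Groth.DerivedAdj.exists_good RgammaCompute.enoughKInj)
  Functor.hasRightDerivedFunctor_of_hasPointwiseRightDerivedFunctor _ _

variable {A : Type u} [CommRing A] [IsNoetherianRing A] {ω : Dual.D A} (hω : Dual.IsDualizing A ω)

theorem finite_hom (hω : Dual.IsDualizing A ω) (N : Type u) [AddCommGroup N] [Module A N] [Module.Finite A N]
    (i : ℤ) : Module.Finite A (Dual.inD A N ⟶ ω⟦i⟧) := by
  obtain ⟨a, ha⟩ := exists_isGE hω
  haveI : (Dual.inD A N).IsGE 0 := inferInstanceAs
    (((DerivedCategory.singleFunctor (ModuleCat.{u} A) 0).obj (ModuleCat.of A N)).IsGE 0)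
  haveI : (Dual.inD A N).IsLE 0 := inferInstanceAs
    (((DerivedCategory.singleFunctor (ModuleCat.{u} A) 0).obj (ModuleCat.of A N)).IsLE 0)
  refine finite_hom_bounded (Dual.inD A N) ω 0 0 a (fun j => ?_) hω.finite_cohomology i
  by_cases hj : j = 0
  · subst hj
    exact Module.Finite.equiv (Groth.DerComplete.HDinDEquiv N).symm
  · haveI := Groth.DerComplete.subsingleton_HD_inD (A := A) N hj
    exact Module.Finite.of_finite

theorem comap_mem_support {Q : PrimeSpectrum A} {N : Type u} [AddCommGroup N] [Module A N] [Module.Finite A N]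
    (P : PrimeSpectrum (Localization.AtPrime Q.asIdeal))
    (hP : P ∈ Module.support (Localization.AtPrime Q.asIdeal) (Localization.AtPrime Q.asIdeal ⊗[A] N)) :
    PrimeSpectrum.comap (algebraMap A _) P ∈ Module.support A N ∧ PrimeSpectrum.comap (algebraMap A _) P ≤ Q := by
  refine ⟨Module.mem_support_iff_of_finite.2 fun a ha => ?_,
    (Ideal.comap_mono (le_maximalIdeal P.2.ne_top)).trans_eq (IsLocalization.AtPrime.under_maximalIdeal _ Q.asIdeal)⟩
  refine Module.mem_support_iff_of_finite.1 hP ?_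
  rw [Module.mem_annihilator]
  intro x
  induction x using TensorProduct.induction_on with
  | zero => exact smul_zero _
  | tmul b n =>
    rw [algebraMap_smul, ← TensorProduct.tmul_smul, Module.mem_annihilator.1 ha n, TensorProduct.tmul_zero]
  | add x y hx hy => rw [smul_add, hx, hy, add_zero]

theorem supportDim_tensor_le {Q : PrimeSpectrum A} (N : Type u) [AddCommGroup N] [Module A N] [Module.Finite A N]
    (d : ℕ) (h : ∀ P ∈ Module.support A N, P ≤ Q → degree hω Q ≤ degree hω P + d) :
    Module.supportDim (Localization.AtPrime Q.asIdeal) (Localization.AtPrime Q.asIdeal ⊗[A] N) ≤ (d : ℕ) := by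
  refine iSup_le fun l => ?_
  have hmono : StrictMono fun x : Module.support (Localization.AtPrime Q.asIdeal)
      (Localization.AtPrime Q.asIdeal ⊗[A] N) => PrimeSpectrum.comap (algebraMap A _) x.1 := fun x y hxy =>
    lt_of_le_not_ge (Ideal.comap_mono hxy.le) fun hge => not_le_of_gt hxy (by
      show y.1.asIdeal ≤ x.1.asIdeal
      rw [← IsLocalization.map_under Q.asIdeal.primeCompl (Localization.AtPrime Q.asIdeal) y.1.asIdeal,
        ← IsLocalization.map_under Q.asIdeal.primeCompl (Localization.AtPrime Q.asIdeal) x.1.asIdeal]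
      exact Ideal.map_mono hge)
  have h1 := DualDegree.length_le hω _ hmono l
  obtain ⟨h2, h3⟩ := comap_mem_support l.head.1 l.head.2
  have h4 := h _ h2 h3
  have h5 := DualDegree.degree_mono hω (comap_mem_support l.last.1 l.last.2).2
  dsimp only at h1
  have h6 : l.length ≤ d := by exact_mod_cast (show (l.length : ℤ) ≤ d by omega)
  exact_mod_cast h6

/-- `Hom(N, ω⟦j⟧)` vanishes below the degrees in the support of `N`. -/
theorem subsingleton_hom_of_degree (N : Type u) [AddCommGroup N] [Module A N] [Module.Finite A N] (j : ℤ)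
    (h : ∀ P ∈ Module.support A N, j < degree hω P) : Subsingleton (Dual.inD A N ⟶ ω⟦j⟧) := by
  by_contra hne
  haveI := not_subsingleton_iff_nontrivial.1 hne
  haveI := finite_hom hω N j
  obtain ⟨Q, hQ⟩ := Module.nonempty_support_of_nontrivial (R := A) (M := Dual.inD A N ⟶ ω⟦j⟧)
  let B := Localization.AtPrime Q.asIdeal
  haveI : IsNoetherianRing B := IsLocalization.isNoetherianRing Q.asIdeal.primeCompl _ inferInstance
  let ω' := ((extD A B).obj ω)⟦degree hω Q⟧
  have hω' : Dual.IsDualizing B ω' := isDualizing_shift (isDualizing_atPrime Q.asIdeal hω) _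
  obtain ⟨a, ha⟩ := exists_isGE hω'
  have e1 := (nontrivial_localized_hom_iff Q.asIdeal hω N j).1 hQ
  rw [← nontrivial_shift_iff _ _ (degree hω Q) j (j - degree hω Q) (by omega)] at e1
  have hQN : Q ∈ Module.support A N := by
    by_contra hQN
    haveI : Subsingleton (B ⊗[A] N) := by
      rw [← not_nontrivial_iff_subsingleton]
      exact fun h' => hQN ((mem_support_iff_tensor Q.asIdeal N).2 h')
    exact not_subsingleton (Dual.inD B (B ⊗[A] N) ⟶ ω'⟦j - degree hω Q⟧)
      ⟨fun u v => (Functor.map_isZero (DerivedCategory.singleFunctor (ModuleCat.{u} B) 0)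
        (ModuleCat.isZero_of_subsingleton (ModuleCat.of B (B ⊗[A] N)))).eq_of_src u v⟩
  exact not_subsingleton _ (subsingleton_hom_of_supportDim ω' a hω'.finite_cohomology (isNormalized_degree hω Q)
    (supportDim_tensor_le hω N (degree hω Q - j - 1).toNat fun P hP _ => by
      have := h P hP; have := h Q hQN; omega) (j - degree hω Q)
    (Or.inl (by have := h Q hQN; omega)))

/-- Local bound: `(Hom(M, ω⟦q⟧))_P ≠ 0` forces `depth M_P ≤ deg P - q`. -/
theorem exists_depth_le (M : Type u) [AddCommGroup M] [Module A M] [Module.Finite A M] (P : PrimeSpectrum A) (q : ℤ)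
    (h : Nontrivial (LocalizedModule P.asIdeal.primeCompl (Dual.inD A M ⟶ ω⟦q⟧))) :
    ∃ δ : ℕ, q = degree hω P - δ ∧
      LocCoh.depth (Localization.AtPrime P.asIdeal) (LocalizedModule P.asIdeal.primeCompl M) ≤ δ := by
  let B := Localization.AtPrime P.asIdeal
  haveI : IsNoetherianRing B := IsLocalization.isNoetherianRing P.asIdeal.primeCompl _ inferInstance
  let ω' := ((extD A B).obj ω)⟦degree hω P⟧
  have hω' : Dual.IsDualizing B ω' := isDualizing_shift (isDualizing_atPrime P.asIdeal hω) _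
  have hn : Dual.IsNormalized B ω' := isNormalized_degree hω P
  have e1 := (nontrivial_localized_hom_iff P.asIdeal hω M q).1 h
  rw [← nontrivial_shift_iff _ _ (degree hω P) q (q - degree hω P) (by omega)] at e1
  obtain ⟨a, ha⟩ := exists_isGE hω'
  have hle : q - degree hω P ≤ 0 := by
    by_contra hc
    exact not_subsingleton _ (subsingleton_hom_of_pos ω' a hω'.finite_cohomology hn (B ⊗[A] M) (q - degree hω P)
      (by omega))
  refine ⟨(degree hω P - q).toNat, by omega, ?_⟩
  haveI : Nontrivial (B ⊗[A] M) := by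
    by_contra hc
    rw [not_nontrivial_iff_subsingleton] at hc
    refine not_subsingleton (Dual.inD B (B ⊗[A] M) ⟶ ω'⟦q - degree hω P⟧)
      ⟨fun u v => (Functor.map_isZero (DerivedCategory.singleFunctor (ModuleCat.{u} B) 0)
        (ModuleCat.isZero_of_subsingleton (ModuleCat.of B (B ⊗[A] M)))).eq_of_src u v⟩
  rw [depth_congr (M := LocalizedModule P.asIdeal.primeCompl M) (N := B ⊗[A] M)
    (LinearEquiv.extendScalarsOfIsLocalization P.asIdeal.primeCompl B
      (haveI : IsLocalizedModule P.asIdeal.primeCompl (TensorProduct.mk A B M 1) :=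
        (isLocalizedModule_iff_isBaseChange P.asIdeal.primeCompl B _).2 (TensorProduct.isBaseChange A M _)
       IsLocalizedModule.linearEquiv P.asIdeal.primeCompl (LocalizedModule.mkLinearMap P.asIdeal.primeCompl M)
        (TensorProduct.mk A B M 1)))]
  by_contra hlt
  rw [not_le] at hlt
  have hne : LocCoh.depth B (B ⊗[A] M) ≠ ⊤ := by
    obtain ⟨d, hd⟩ := exists_supportDim_eq B (B ⊗[A] M)
    obtain ⟨m, -, hm, rs, hlen, hreg, hmem⟩ :=
      exists_depth_witness ω' a hω'.finite_cohomology hn (nontrivial_end hω') d (B ⊗[A] M) hd.le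
    have : LocCoh.depth B (B ⊗[A] M) = m := (depth_eq_iff hω' hn (B ⊗[A] M) m).2
      ⟨fun δ hδ => subsingleton_hom_of_regular ω' a hω'.finite_cohomology hn rs _ hreg hmem _ (by omega), hm⟩
    rw [this]
    exact ENat.natCast_ne_top m
  obtain ⟨m, hm⟩ := ENat.ne_top_iff_exists.1 hne
  rw [← hm, Nat.cast_lt] at hlt
  have h2 := ((depth_eq_iff hω' hn (B ⊗[A] M) m).1 hm.symm).1 _ hlt
  rw [show (-(((degree hω P - q).toNat : ℕ) : ℤ)) = q - degree hω P by omega] at h2
  exact not_subsingleton _ h2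

theorem subsingleton_colimit {F : ℕᵒᵖᵒᵖ ⥤ ModuleCat.{u + 1} A} (h : ∀ j, Subsingleton (F.obj j)) :
    Subsingleton (colimit F : ModuleCat.{u + 1} A) := by
  refine ModuleCat.subsingleton_of_isZero ((IsZero.iff_id_eq_zero _).2 (colimit.hom_ext fun j => ?_))
  haveI := h j
  exact (ModuleCat.isZero_of_subsingleton (F.obj j)).eq_of_src _ _

/-- `RΓ_J ω` lives in the degrees of the primes containing `J`. -/
theorem subsingleton_HD_rgamma (J : Ideal A) [DRing.HasRgammaI J] (p : ℤ)
    (h : ∀ Q : PrimeSpectrum A, J ≤ Q.asIdeal → p < degree hω Q) (j : ℤ) (hj : j ≤ p) :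
    Subsingleton (Dual.HD A ((DRing.RgammaI J).obj ω) j) := by
  obtain ⟨e⟩ := RgammaHDI.nonempty_HD_equiv_HDI J ω j
  refine @Equiv.subsingleton _ _ e.toEquiv ?_
  refine subsingleton_colimit fun n => ?_
  refine subsingleton_hom_of_degree hω (A ⧸ J ^ n.unop.unop) j fun P hP => lt_of_le_of_lt hj ?_
  rw [Module.mem_support_iff_of_finite, Ideal.annihilator_quotient] at hP
  rcases Nat.eq_zero_or_pos n.unop.unop with h0 | h0
  · rw [h0, pow_zero, Ideal.one_eq_top] at hP
    exact absurd (top_le_iff.1 hP) P.2.ne_top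
  · exact h P ((Ideal.IsPrime.pow_le_iff h0.ne').1 hP)

/-- Killed by `y`-powers. -/
def PK (y : A) (E : Type*) [AddCommGroup E] [Module A E] : Prop := ∃ k : ℕ, ∀ e : E, y ^ k • e = 0

variable (I : Ideal A) [DRing.HasRgammaI I]

include hω in
/-- Vanishing below the degrees of `supp X ∩ V(I)`. -/
theorem subsingleton_hom_rgamma (X : Type u) [AddCommGroup X] [Module A X] [Module.Finite A X] (p : ℤ)
    (h : ∀ Q : PrimeSpectrum A, I ≤ Q.asIdeal → Module.annihilator A X ≤ Q.asIdeal → p < degree hω Q) :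
    Subsingleton (Dual.inD A X ⟶ ((DRing.RgammaI I).obj ω)⟦p⟧) := by
  set J := Module.annihilator A X
  haveI := hasRgammaI J
  haveI := hasRgammaI (I ⊔ J)
  let T : Dual.D A := (Dual.inD A X)⟦-p⟧
  haveI : T.IsLE p := RgammaDualizing.isLE_shift_inD X p
  have hT : ∀ i, LocCoh.IsPowerTorsion J (Dual.HD A T i) := RgammaDualizing.isPowerTorsion_shift J _
    (RgammaDualizing.isPowerTorsion_inD J X fun x => ⟨1, fun a ha => by
      rw [pow_one] at ha
      exact Module.mem_annihilator.1 ha x⟩) (-p)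
  obtain ⟨e⟩ := RgammaTorsion.nonempty_comp_iso I J ω
  haveI : ((DRing.RgammaI (I ⊔ J)).obj ω).IsGE (p + 1) := isGE_of_subsingleton _ _ fun j hj =>
    subsingleton_HD_rgamma hω (I ⊔ J) p (fun Q hQ => h Q (le_sup_left.trans hQ) (le_sup_right.trans hQ)) j
      (by omega)
  have h1 : Subsingleton (T ⟶ (DRing.RgammaI (I ⊔ J)).obj ω) := subsingleton_of_forall_eq 0 fun φ =>
    DerivedCategory.TStructure.t.zero_of_isLE_of_isGE φ p (p + 1) (by omega) inferInstance inferInstance
  have h2 : Subsingleton (T ⟶ (DRing.RgammaI J).obj ((DRing.RgammaI I).obj ω)) :=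
    ((Iso.refl T).homCongr e).subsingleton
  have h3 : Subsingleton (T ⟶ (DRing.RgammaI I).obj ω) :=
    (RgammaTorsion.comp_ε_bijective J T _ hT).2.subsingleton
  refine ⟨fun φ ψ => (shiftFunctor (Dual.D A) (-p)).map_injective ?_⟩
  exact (cancel_mono ((shiftFunctorCompIsoId (Dual.D A) p (-p) (add_neg_cancel p)).hom.app _)).1 (h3.elim _ _)

omit [IsNoetherianRing A] [DRing.HasRgammaI I] in
theorem smul_inDmap_id (c : A) (X : Type u) [AddCommGroup X] [Module A X] (hc : ∀ x : X, c • x = 0) :
    c • 𝟙 (Dual.inD A X) = 0 := by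
  rw [← CategoryTheory.Functor.map_id (DerivedCategory.singleFunctor (ModuleCat.{u} A) 0), ← Functor.map_smul]
  convert Functor.map_zero (DerivedCategory.singleFunctor (ModuleCat.{u} A) 0) (ModuleCat.of A X) (ModuleCat.of A X)
  ext x
  exact hc x

include hω in
/-- Away from `y` only the support matters. -/
theorem pk_hom_rgamma (y : A) (X : Type u) [AddCommGroup X] [Module A X] [Module.Finite A X] (p : ℤ)
    (h : ∀ P ∈ Module.support A X, y ∉ P.asIdeal → ∀ Q : PrimeSpectrum A, P ≤ Q → I ≤ Q.asIdeal → p < degree hω Q) :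
    PK y (Dual.inD A X ⟶ ((DRing.RgammaI I).obj ω)⟦p⟧) := by
  obtain ⟨k, hk⟩ : ∃ k : ℕ, ∀ x : DRing.torsionSub (Ideal.span {y}) X, y ^ k • x = 0 := by
    obtain ⟨k, hk⟩ := Groth.LocFinite.exists_pow_killing (Ideal.span {y}) (DRing.torsionSub (Ideal.span {y}) X).subtype fun x => x.2
    exact ⟨k, fun x => Subtype.ext
      (LinearMap.congr_fun (hk _ (Ideal.pow_mem_pow (Ideal.mem_span_singleton_self y) k)) x)⟩
  set Γ := DRing.torsionSub (Ideal.span {y}) X
  have h0 : DRing.torsionSub (Ideal.span {y}) (X ⧸ Γ) = ⊥ :=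
    Groth.LocCohBase.torsionSub_quotient_eq_bot (IsNoetherian.noetherian _) X
  haveI : Subsingleton (Dual.inD A (X ⧸ Γ) ⟶ ((DRing.RgammaI I).obj ω)⟦p⟧) := by
    refine subsingleton_hom_rgamma hω I (X ⧸ Γ) p fun Q hIQ hQ => ?_
    obtain ⟨P, hP, hPQ⟩ := Ideal.exists_minimalPrimes_le hQ
    have hass := Module.associatedPrimes.minimalPrimes_annihilator_subset_associatedPrimes A (X ⧸ Γ) hP
    obtain ⟨hPp, x, hx⟩ := isAssociatedPrime_iff.1 hass
    refine h ⟨P, hPp⟩ (Module.support_subset_of_surjective Γ.mkQ Γ.mkQ_surjective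
      (Module.mem_support_iff_of_finite.2 hP.1.2)) (fun hy => ?_) Q hPQ hIQ
    have hxmem : x ∈ DRing.torsionSub (Ideal.span {y}) (X ⧸ Γ) := ⟨1, fun a ha => by
      rw [pow_one] at ha
      have := (Ideal.span_singleton_le_iff_mem P).2 hy ha
      rwa [hx, Submodule.mem_colon_singleton, Submodule.mem_bot] at this⟩
    rw [h0, Submodule.mem_bot] at hxmem
    refine hPp.ne_top ?_
    rw [hx, hxmem]
    simp
  let S : ShortComplex (ModuleCat.{u} A) := ShortComplex.mk (ModuleCat.ofHom Γ.subtype) (ModuleCat.ofHom Γ.mkQ)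
    (by ext x; exact (Submodule.Quotient.mk_eq_zero Γ).2 x.2)
  have hS : S.ShortExact :=
    { exact := (ShortComplex.ShortExact.moduleCat_exact_iff_function_exact S).2 (LinearMap.exact_subtype_mkQ Γ)
      mono_f := (ModuleCat.mono_iff_injective _).2 Γ.injective_subtype
      epi_g := (ModuleCat.epi_iff_surjective _).2 Γ.mkQ_surjective }
  refine ⟨k, fun e => ?_⟩
  obtain ⟨w, hw⟩ := Triangle.yoneda_exact₂ hS.singleTriangle hS.singleTriangle_distinguished (y ^ k • e) (by
    show inDmap Γ.subtype ≫ (y ^ k • e) = 0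
    rw [Linear.comp_smul, ← Linear.smul_comp]
    have hz : y ^ k • inDmap Γ.subtype = 0 := by
      rw [← inDmap_smul]
      have : y ^ k • Γ.subtype = 0 := LinearMap.ext fun x => congrArg Subtype.val (hk x)
      rw [this]
      exact Functor.map_zero _ _ _
    rw [hz, zero_comp])
  rw [hw, Subsingleton.elim (α := Dual.inD A (X ⧸ Γ) ⟶ ((DRing.RgammaI I).obj ω)⟦p⟧) w 0]
  exact comp_zero

/-- Devissage of annihilation along cohomology. -/
theorem pk_hom_of_cohomology (y : A) (W : Dual.D A) : ∀ (n : ℕ) (X : Dual.D A) (b : ℤ), X.IsGE b → X.IsLE (b + n - 1) →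
    (∀ q : ℤ, PK y ((Dual.inD A (Dual.HD A X q))⟦-q⟧ ⟶ W)) → PK y (X ⟶ W) := by
  intro n
  induction n with
  | zero =>
    intro X b _ _ _
    refine ⟨0, fun φ => ?_⟩
    rw [(isZero_of_isGE_of_isLE X b (b + (0 : ℕ) - 1) (by omega)).eq_of_src φ 0, smul_zero]
  | succ n ih =>
    intro X b hGE hLE h
    obtain ⟨T, hT, h2, h1, h3⟩ := exists_trunc X (b + 1)
    haveI := h1
    haveI := h3
    obtain ⟨o₁, o₂, o₃, m₁, m₂, m₃⟩ := T
    obtain rfl : o₂ = _ := h2
    haveI : o₁.IsGE b := isGE_of_subsingleton o₁ b fun i hi => by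
      haveI := subsingleton_of_isGE o₂ b i hi
      exact (bijective_trunc₁ hT (b + 1) i (by omega)).1.subsingleton
    haveI : o₁.IsLE b := isLE_of_subsingleton o₁ b fun i hi => subsingleton_of_isLE o₁ (b + 1 - 1) i (by omega)
    obtain ⟨Y, ⟨e⟩⟩ := DerivedCategory.exists_iso_singleFunctor_obj_of_isGE_of_isLE o₁ b
    let e' : o₁ ≅ (Dual.inD A Y)⟦-b⟧ :=
      e ≪≫ ((((DerivedCategory.singleFunctors (ModuleCat.{u} A)).shiftIso (-b) b 0 (by omega))).app Y).symm
    obtain ⟨eY⟩ := RgammaDualizing.hdShift (Dual.inD A Y) (-b) b 0 (by omega)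
    let d : Y ≃ₗ[A] Dual.HD A o₂ b :=
      ((((DerivedCategory.homologyFunctor (ModuleCat.{u} A) b).mapIso e').toLinearEquiv.trans
        (eY.trans (Groth.DerComplete.HDinDEquiv Y)))).symm.trans
          (LinearEquiv.ofBijective _ (bijective_trunc₁ hT (b + 1) b (by omega)))
    let e'' : o₁ ≅ (Dual.inD A (Dual.HD A o₂ b))⟦-b⟧ :=
      e' ≪≫ (shiftFunctor _ (-b)).mapIso ((DerivedCategory.singleFunctor (ModuleCat.{u} A) 0).mapIso d.toModuleIso)
    have hk₁ : PK y (o₁ ⟶ W) := by
      obtain ⟨k, hk⟩ := h b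
      refine ⟨k, fun φ => ?_⟩
      have := hk (e''.inv ≫ φ)
      rwa [← Linear.comp_smul, Preadditive.IsIso.comp_left_eq_zero] at this
    have hk₃ : PK y (o₃ ⟶ W) := by
      refine ih o₃ (b + 1) h3 (isLE_of_subsingleton o₃ _ fun i hi => ?_) fun q => ?_
      · by_cases hib : b + 1 ≤ i
        · haveI := subsingleton_of_isLE o₂ (b + ↑(n + 1) - 1) i (by push_cast; omega)
          exact (bijective_trunc₃ hT (b + 1) i hib).2.subsingleton
        · exact subsingleton_of_isGE o₃ (b + 1) i (by omega)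
      · by_cases hq : b + 1 ≤ q
        · obtain ⟨k, hk⟩ := h q
          let u := (shiftFunctor (Dual.D A) (-q)).mapIso ((DerivedCategory.singleFunctor (ModuleCat.{u} A) 0).mapIso
            (LinearEquiv.ofBijective _ (bijective_trunc₃ hT (b + 1) q hq)).toModuleIso)
          refine ⟨k, fun φ => ?_⟩
          have := hk (u.hom ≫ φ)
          rwa [← Linear.comp_smul, Preadditive.IsIso.comp_left_eq_zero] at this
        · haveI := subsingleton_of_isGE o₃ (b + 1) q (by omega)
          refine ⟨0, fun φ => ?_⟩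
          rw [((shiftFunctor (Dual.D A) (-q)).map_isZero (Functor.map_isZero
            (DerivedCategory.singleFunctor (ModuleCat.{u} A) 0)
            (ModuleCat.isZero_of_subsingleton (ModuleCat.of A (Dual.HD A o₃ q))))).eq_of_src φ 0, smul_zero]
    obtain ⟨k, hk⟩ := hk₁
    obtain ⟨l, hl⟩ := hk₃
    refine ⟨l + k, fun φ => ?_⟩
    obtain ⟨w, hw⟩ := Triangle.yoneda_exact₂ _ hT (y ^ k • φ) (by
      show m₁ ≫ (y ^ k • φ) = 0
      rw [Linear.comp_smul]
      exact hk _)
    rw [pow_add, mul_smul, hw]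
    show y ^ l • (m₂ ≫ w) = 0
    rw [← Linear.comp_smul, hl w, comp_zero]

end Groth.LocCohTransform.DualVanishing
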