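import Groth.Agent.LocCohTransform.BridgeH
import Groth.Agent.LocCohTransform.DualVanishing
import Groth.Agent.DualCore.ModuleHom

/-!
Annihilation below a degree passes to the completion with a shift by the cohomological dimension.
-/

set_option autoImplicit false
set_option linter.style.haveILetI false
set_option linter.unusedSectionVars false

universe u

open CategoryTheory CategoryTheory.Limits CategoryTheory.Pretriangulated

attribute [local instance] HasDerivedCategory.standard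

namespace Groth.LocCohTransform.CompletionKilled

open CompletionFunctor CompletionAmplitude DualVanishing

variable {A : Type u} [CommRing A] [IsNoetherianRing A]

/-- A bounded below object with killed low cohomology: maps out of low objects are killed. -/
theorem pk_hom_le (y : A) (X : Dual.D A) [X.IsGE 0] (N : ℕ)
    (h : ∀ q : ℕ, q ≤ N → PK y (Dual.HD A X q)) :
    ∃ k : ℕ, ∀ (T : Dual.D A), T.IsLE N → ∀ φ : T ⟶ X, y ^ k • φ = 0 := by
  obtain ⟨T', hT, h2, h1, h3⟩ := exists_trunc X ((N : ℤ) + 1)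
  haveI := h1
  haveI := h3
  obtain ⟨o₁, o₂, o₃, m₁, m₂, m₃⟩ := T'
  obtain rfl : o₂ = _ := h2
  have hle : o₁.IsLE (((0 : ℤ) + ((N + 1 : ℕ) : ℤ)) - 1) := isLE_of_subsingleton o₁ _ fun i hi =>
    subsingleton_of_isLE o₁ ((N : ℤ) + 1 - 1) i (by push_cast at hi; omega)
  have hge : o₁.IsGE 0 := isGE_of_subsingleton o₁ 0 fun i hi => by
    haveI := subsingleton_of_isGE o₂ 0 i hi
    exact (bijective_trunc₁ hT ((N : ℤ) + 1) i (by omega)).1.subsingleton
  have hq : ∀ q : ℤ, PK y ((Dual.inD A (Dual.HD A o₁ q))⟦-q⟧ ⟶ o₂) := by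
    intro q
    by_cases hq : 0 ≤ q ∧ q ≤ N
    · obtain ⟨n, rfl⟩ := Int.eq_ofNat_of_zero_le hq.1
      obtain ⟨k, hk⟩ := h n (by omega)
      refine ⟨k, fun φ => ?_⟩
      have h0 : y ^ k • 𝟙 (Dual.inD A (Dual.HD A o₁ n)) = 0 := smul_inDmap_id _ _ fun x => by
        refine (bijective_trunc₁ hT ((N : ℤ) + 1) (n : ℤ) (by omega)).1 ?_
        rw [map_smul, hk, map_zero]
      have h1' : y ^ k • 𝟙 ((Dual.inD A (Dual.HD A o₁ n))⟦-(n : ℤ)⟧) = 0 := by
        rw [← CategoryTheory.Functor.map_id, ← Functor.map_smul, h0, Functor.map_zero]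
      calc y ^ k • φ = (y ^ k • 𝟙 _) ≫ φ := by rw [Linear.smul_comp, Category.id_comp]
        _ = 0 := by rw [h1', zero_comp]
    · haveI : Subsingleton (Dual.HD A o₁ q) := by
        rcases not_and_or.1 hq with hq | hq
        · exact subsingleton_of_isGE o₁ 0 q (by omega)
        · exact subsingleton_of_isLE o₁ ((N : ℤ) + 1 - 1) q (by omega)
      refine ⟨0, fun φ => ?_⟩
      rw [((shiftFunctor (Dual.D A) (-q)).map_isZero (Functor.map_isZero
        (DerivedCategory.singleFunctor (ModuleCat.{u} A) 0)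
          (ModuleCat.isZero_of_subsingleton (ModuleCat.of A (Dual.HD A o₁ q))))).eq_of_src φ 0, smul_zero]
  obtain ⟨k, hk⟩ := pk_hom_of_cohomology y o₂ (N + 1) o₁ 0 hge hle hq
  refine ⟨k, fun T hTLE φ => ?_⟩
  haveI := hTLE
  have hz : φ ≫ m₂ = 0 :=
    DerivedCategory.TStructure.t.zero_of_isLE_of_isGE _ (N : ℤ) ((N : ℤ) + 1) (by omega) inferInstance inferInstance
  obtain ⟨ψ, rfl⟩ := Pretriangulated.Triangle.coyoneda_exact₂ _ hT φ hz
  rw [← Linear.comp_smul]
  exact (congrArg (ψ ≫ ·) (hk m₁)).trans comp_zero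

variable (I : Ideal A) [DRing.HasDerivedCompletion I]

/-- Completion lowers the degree of annihilation by at most the cohomological dimension. -/
theorem exists_pow_killing (d : ℕ) (hd : LocCoh.CdLE A I d) (y : A) (X : Dual.D A) [X.IsGE 0] (N : ℕ)
    (h : ∀ q : ℕ, q ≤ N → PK y (Dual.HD A X q)) :
    ∃ k : ℕ, ∀ i : ℤ, i + d ≤ N → ∀ x : Dual.HD A ((comp I).obj X) i, y ^ k • x = 0 := by
  haveI := hasRgammaI I
  obtain ⟨k, hk⟩ := pk_hom_le y X N h
  refine ⟨k, fun i hi x => ?_⟩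
  obtain ⟨φ, rfl⟩ := (Groth.DualCore.homAEquiv ((comp I).obj X) i).surjective x
  suffices h0 : y ^ k • φ = 0 by rw [← map_smul, h0, map_zero]
  let U : Dual.D A := Dual.inD A A
  let ε := (DRing.RgammaIε I).app U
  let T : Dual.D A := (DRing.RgammaI I).obj U
  haveI : T.IsLE (d : ℤ) := BridgeH.isLE_rgamma_inD I A d hd
  haveI : (T⟦-i⟧).IsLE (d + i) := DerivedCategory.TStructure.t.isLE_shift T (d : ℤ) (-i) (d + i) (by omega)
  have hT : (T⟦-i⟧).IsLE (N : ℤ) := DerivedCategory.TStructure.t.isLE_of_le (T⟦-i⟧) (d + i) N (by omega)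
  have htor : ∀ n, LocCoh.IsPowerTorsion I (Dual.HD A (T⟦-i⟧) n) :=
    RgammaDualizing.isPowerTorsion_shift I T (RgammaTorsion.isPowerTorsion_rgamma I U) (-i)
  let φ' : U⟦-i⟧ ⟶ (comp I).obj X := (shiftFunctor (Dual.D A) (-i)).map φ ≫
    (shiftFunctorCompIsoId (Dual.D A) i (-i) (add_neg_cancel i)).hom.app _
  have hφ' : y ^ k • φ' = 0 := by
    haveI : IsIso ((comp I).map ε) := GreenleesMay.isIso_map_ε I U
    haveI : IsIso ((comp I).map (ε⟦-i⟧')) :=
      (NatIso.isIso_map_iff ((comp I).commShiftIso (-i)) ε).2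
        (by show IsIso (((comp I).map ε)⟦-i⟧'); infer_instance)
    have hinj : ∀ g : U⟦-i⟧ ⟶ (comp I).obj X, ε⟦-i⟧' ≫ g = 0 → g = 0 := by
      intro g hg
      obtain ⟨g', rfl⟩ := (precomp_bijective I _ (complete_comp I X)).2 g
      have h1 : (η I).app _ ≫ (comp I).map (ε⟦-i⟧') ≫ g' = 0 := by
        rw [← Category.assoc, ← (η I).naturality (ε⟦-i⟧'), Category.assoc]
        exact hg
      have h2 : (comp I).map (ε⟦-i⟧') ≫ g' = 0 :=
        (precomp_bijective I _ (complete_comp I X)).1 (h1.trans comp_zero.symm)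
      have h3 : g' = 0 := by
        rw [← cancel_epi ((comp I).map (ε⟦-i⟧')), h2, comp_zero]
      rw [h3]
      exact comp_zero
    refine hinj _ ?_
    obtain ⟨ψ, hψ⟩ := (GreenleesMay.comp_η_bijective I htor X).2 (ε⟦-i⟧' ≫ φ')
    rw [Linear.comp_smul, ← hψ]
    show y ^ k • (ψ ≫ (η I).app X) = 0
    rw [← Linear.smul_comp, hk _ hT ψ, zero_comp]
  rw [show y ^ k • φ' = (y ^ k • (shiftFunctor (Dual.D A) (-i)).map φ) ≫ _ from (Linear.smul_comp _ _ _ _ _ _).symm,
    Preadditive.IsIso.comp_right_eq_zero, ← Functor.map_smul] at hφ'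
  exact (shiftFunctor (Dual.D A) (-i)).map_injective (hφ'.trans (Functor.map_zero _ _ _).symm)

end Groth.LocCohTransform.CompletionKilled
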