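import Groth.Agent.LocCohTransform.AlgebraizeRHom
import Groth.Agent.LocCohTransform.CompletionCech
import Groth.Agent.LocCohTransform.BridgeH
import Groth.Agent.LocCohTransform.CompletionKilled

/-!
Vanishing of the completion of `RΓ_J` of finite complexes.
-/

set_option autoImplicit false
set_option linter.style.haveILetI false
set_option linter.unusedSectionVars false

universe u

open CategoryTheory CategoryTheory.Limits CategoryTheory.Pretriangulated
open Groth.DualCore Groth.LocCohTransform.RgammaCompute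

attribute [local instance] HasDerivedCategory.standard

namespace Groth.LocCohTransform.AlgebraizeVanish

open CompletionFunctor CompletionAmplitude

variable {A : Type u} [CommRing A] [IsNoetherianRing A] (J : Ideal A) [DRing.HasRgammaI J]

/-- `RΓ_J` commutes with shifts. -/
theorem nonempty_rgamma_shift (K : Dual.D A) (n : ℤ) :
    Nonempty ((DRing.RgammaI J).obj (K⟦n⟧) ≅ ((DRing.RgammaI J).obj K)⟦n⟧) := by
  obtain ⟨C, hC, -, ⟨e⟩⟩ := exists_iso K
  haveI := hC
  exact ⟨(DRing.RgammaI J).mapIso ((shiftFunctor (Dual.D A) n).mapIso e.symm ≪≫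
      ((DerivedCategory.Q.commShiftIso n).app C).symm) ≪≫ rgammaIso J (C⟦n⟧) ≪≫
    DerivedCategory.Q.mapIso (((gam J).commShiftIso n).app C) ≪≫
    (DerivedCategory.Q.commShiftIso n).app ((gam J).obj C) ≪≫
    (shiftFunctor (Dual.D A) n).mapIso ((rgammaIso J C).symm ≪≫ (DRing.RgammaI J).mapIso e)⟩

omit [IsNoetherianRing A] in
/-- `RΓ_J` preserves triangles. -/
theorem exists_distinguished (T : Triangle (Dual.D A)) (hT : T ∈ distTriang (Dual.D A)) :
    ∃ c, Triangle.mk ((DRing.RgammaI J).map T.mor₁) ((DRing.RgammaI J).map T.mor₂) c ∈ distTriang (Dual.D A) :=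
  Groth.DAlg.RFTriangle.exists_distinguished (DRing.gammaI J) (DRing.RgammaI J)
    ((DRing.gammaIKh J).totalRightDerivedUnit DerivedCategory.Qh
      (HomotopyCategory.quasiIso (ModuleCat.{u} A) (ComplexShape.up ℤ))) T hT

variable (I : Ideal A) [DRing.HasDerivedCompletion I]

/-- `H^j` of the completion of `RΓ_J`. -/
abbrev HC (Z : Dual.D A) (j : ℤ) : Type u := Dual.HD A ((comp I).obj ((DRing.RgammaI J).obj Z)) j

theorem subsingleton_HC_congr {X Y : Dual.D A} (e : X ≅ Y) (j : ℤ) (h : Subsingleton (HC J I X j)) :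
    Subsingleton (HC J I Y j) :=
  (((DerivedCategory.homologyFunctor (ModuleCat.{u} A) j).mapIso
    ((comp I).mapIso ((DRing.RgammaI J).mapIso e))).toLinearEquiv).symm.toEquiv.subsingleton

theorem subsingleton_HC_ext (T : Triangle (Dual.D A)) (hT : T ∈ distTriang (Dual.D A)) (j : ℤ)
    (h₁ : Subsingleton (HC J I T.obj₁ j)) (h₃ : Subsingleton (HC J I T.obj₃ j)) :
    Subsingleton (HC J I T.obj₂ j) := by
  obtain ⟨c, hc⟩ := exists_distinguished J T hT
  exact subsingleton₂ ((comp I).map_distinguished _ hc) j h₁ h₃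

theorem nonempty_HC_single (M : Type u) [AddCommGroup M] [Module A M] (n j : ℤ) :
    Nonempty (HC J I ((DerivedCategory.singleFunctor (ModuleCat.{u} A) n).obj (ModuleCat.of A M)) j ≃ₗ[A]
      HC J I (Dual.inD A M) (-n + j)) := by
  obtain ⟨e⟩ := nonempty_rgamma_shift J (Dual.inD A M) (-n)
  let e' : (DerivedCategory.singleFunctor (ModuleCat.{u} A) n).obj (ModuleCat.of A M) ≅ (Dual.inD A M)⟦-n⟧ :=
    (((DerivedCategory.singleFunctors (ModuleCat.{u} A)).shiftIso (-n) n 0 (by omega)).app (ModuleCat.of A M)).symm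
  obtain ⟨s⟩ := RgammaDualizing.hdShift ((comp I).obj ((DRing.RgammaI J).obj (Dual.inD A M))) (-n) j _ rfl
  exact ⟨(((DerivedCategory.homologyFunctor (ModuleCat.{u} A) j).mapIso
    ((comp I).mapIso ((DRing.RgammaI J).mapIso e' ≪≫ e) ≪≫
      ((comp I).commShiftIso (-n)).app _)).toLinearEquiv).trans s⟩

theorem subsingleton_HC_module (M : Type u) [AddCommGroup M] [Module A M] [Module.Finite A M] (j : ℤ) (hj : j < 0) :
    Subsingleton (HC J I (Dual.inD A M) j) := by
  obtain ⟨gens, hgens⟩ := (IsNoetherian.noetherian J : J.FG)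
  have hfs : Ideal.span {x | x ∈ gens.toList} = J := by
    rw [← hgens]; simp only [Finset.mem_toList]; rfl
  obtain ⟨e, -⟩ := CechTriangle.exists_extCech_iso J gens.toList hfs (ModuleCat.of A M)
  haveI := (completion_extCech I (IsNoetherian.noetherian I) (M := M) gens.toList (ModuleCat.of A M) (nice_self M)).1 j hj
  exact (((DerivedCategory.homologyFunctor (ModuleCat.{u} A) j).mapIso
    ((comp I).mapIso e)).toLinearEquiv).symm.toEquiv.subsingleton

/-- Completion of `RΓ_J` keeps the lower bound of finite complexes. -/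
theorem subsingleton_HC (Z : Dual.D A) (b c : ℤ) [Z.IsGE b] [Z.IsLE c] (hfin : ∀ i, Module.Finite A (Dual.HD A Z i))
    (j : ℤ) (hj : j < b) : Subsingleton (HC J I Z j) := by
  refine Groth.DualCore.devissage (fun X => Subsingleton (HC J I X j))
    (fun e h => subsingleton_HC_congr J I e j h) (fun X hX => ?_)
    (fun T hT h₁ h₃ => subsingleton_HC_ext J I T hT j h₁ h₃) b (fun M _ _ hM n hn => ?_) Z c hfin
  · obtain ⟨e⟩ := nonempty_HC_single J I (PUnit : Type u) b j
    haveI := subsingleton_HC_module J I (PUnit : Type u) (-b + j) (by omega)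
    exact subsingleton_HC_congr J I ((Functor.map_isZero (DerivedCategory.singleFunctor (ModuleCat.{u} A) b)
      (ModuleCat.isZero_of_subsingleton (ModuleCat.of A (PUnit : Type u)))).iso hX) j e.toEquiv.subsingleton
  · haveI := hM
    obtain ⟨e⟩ := nonempty_HC_single J I M n j
    haveI := subsingleton_HC_module J I M (-n + j) (by omega)
    exact e.toEquiv.subsingleton

/-- The bottom degree, by vanishing in all completed localizations. -/
theorem subsingleton_HC_bottom [IsAdicComplete I A] (Z : Dual.D A) (b c : ℤ) [Z.IsGE b] [Z.IsLE c]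
    (hfin : ∀ i, Module.Finite A (Dual.HD A Z i))
    (h : ∀ (s : Dual.HD A Z b) (J' : Ideal A), J ≤ (J' ⊔ I).radical → (∀ a ∈ J', a • s = 0) → s = 0) :
    Subsingleton (HC J I Z b) := by
  obtain ⟨T, hT, h2, h1, h3⟩ := exists_trunc Z (b + 1)
  haveI := h1
  haveI := h3
  obtain ⟨o₁, o₂, o₃, m₁, m₂, m₃⟩ := T
  obtain rfl : o₂ = _ := h2
  haveI : o₁.IsGE b := isGE_of_subsingleton o₁ b fun i hi => by
    haveI := subsingleton_of_isGE o₂ b i hi
    exact (bijective_trunc₁ hT (b + 1) i (by omega)).1.subsingleton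
  haveI : o₁.IsLE b := isLE_of_subsingleton o₁ b fun i hi => subsingleton_of_isLE o₁ (b + 1 - 1) i (by omega)
  haveI : o₃.IsLE c := isLE_of_subsingleton o₃ c fun i hi => by
    by_cases hi' : b + 1 ≤ i
    · haveI := subsingleton_of_isLE o₂ c i hi
      exact (bijective_trunc₃ hT (b + 1) i hi').2.subsingleton
    · exact subsingleton_of_isGE o₃ (b + 1) i (by omega)
  obtain ⟨hf₁, hf₃⟩ := finite_trunc hT (b + 1) hfin
  refine subsingleton_HC_ext J I _ hT b ?_ (subsingleton_HC J I o₃ (b + 1) c hf₃ b (by omega))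
  obtain ⟨Y, ⟨e⟩⟩ := DerivedCategory.exists_iso_singleFunctor_obj_of_isGE_of_isLE o₁ b
  refine subsingleton_HC_congr J I e.symm b ?_
  let d : Y ≃ₗ[A] Dual.HD A o₂ b :=
    ((((DerivedCategory.homologyFunctor (ModuleCat.{u} A) b).mapIso e).toLinearEquiv.trans
      ((DerivedCategory.singleFunctorCompHomologyFunctorIso (ModuleCat.{u} A) b).app Y).toLinearEquiv)).symm.trans
        (LinearEquiv.ofBijective _ (bijective_trunc₁ hT (b + 1) b (by omega)))
  haveI : Module.Finite A Y := Module.Finite.equiv d.symm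
  obtain ⟨e'⟩ := nonempty_HC_single J I Y b b
  refine @Equiv.subsingleton _ _ e'.toEquiv ?_
  rw [neg_add_cancel]
  obtain ⟨hinj, hrange⟩ := CompletionFunctor.main I J (Y : Type u)
  refine subsingleton_of_forall_eq 0 fun x => hinj ?_
  have hx : h0 I ((DRing.RgammaIε J).app (Dual.inD A Y)) x ∈
      Set.range (h0 I ((DRing.RgammaIε J).app (Dual.inD A Y))) := ⟨x, rfl⟩
  rw [hrange] at hx
  obtain ⟨s, ⟨J', -, hJ, n, hn⟩, hs⟩ := hx
  have hs0 : s = 0 := by
    refine d.injective ((h (d s) (J' ^ n) (fun a ha => ?_) fun a ha => by rw [← map_smul, hn a ha, map_zero]).trans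
      (map_zero d).symm)
    have h1 : (J' ⊔ I).radical ≤ (J' ^ n ⊔ I).radical := by
      refine Ideal.radical_le_radical_iff.2 (sup_le (fun a ha => ?_) fun a ha => Ideal.le_radical (Ideal.mem_sup_right ha))
      exact ⟨n, Ideal.mem_sup_left (Ideal.pow_mem_pow ha n)⟩
    exact h1 (hJ ha)
  rw [map_zero, ← hs, hs0]
  simp

end Groth.LocCohTransform.AlgebraizeVanish
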