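import Mathlib.RingTheory.Artinian.Module
import Mathlib.RingTheory.Finiteness.Basic
import Mathlib.RingTheory.HopkinsLevitzki
import Groth.Prelude.Def_W4bk5brsh16IT

/-!
Artinian criteria for torsion modules, and avoidance for Artinian modules over local rings.
-/

set_option autoImplicit false
universe u v
open Pointwise

namespace Groth.LocCohTransform

variable {R : Type u} [CommRing R]

/-- A module every element of which is killed by a power of `x` is Artinian as soon as the kernel of
`x` is. -/
theorem isArtinian_of_isArtinian_ker_smul {M : Type v} [AddCommGroup M] [Module R M] (x : R)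
    (hM : ∀ m : M, ∃ n : ℕ, x ^ n • m = 0)
    (hA : IsArtinian R (LinearMap.ker (LinearMap.lsmul R M x))) : IsArtinian R M := by
  refine monotone_stabilizes_iff_artinian.1 fun f => ?_
  let K := LinearMap.ker (LinearMap.lsmul R M x)
  -- the layers
  let L : ℕ → ℕ → Submodule R K := fun j k =>
    { carrier := {z | ∃ y ∈ OrderDual.ofDual (f k), x ^ j • y = (z : M)}
      add_mem' := by
        rintro a b ⟨y, hy, ha⟩ ⟨z, hz, hb⟩
        exact ⟨y + z, add_mem hy hz, by rw [smul_add, ha, hb]; rfl⟩
      zero_mem' := ⟨0, zero_mem _, by rw [smul_zero]; rfl⟩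
      smul_mem' := by
        rintro r a ⟨y, hy, ha⟩
        exact ⟨r • y, Submodule.smul_mem _ r hy, by rw [smul_comm, ha]; rfl⟩ }
  have hanti : ∀ j j' k k', j ≤ j' → k ≤ k' → L j' k' ≤ L j k := by
    rintro j j' k k' hj hk z ⟨y, hy, hz⟩
    obtain ⟨c, rfl⟩ := Nat.exists_eq_add_of_le hj
    exact ⟨x ^ c • y, Submodule.smul_mem _ _ (f.monotone hk hy), by rw [← mul_smul, ← pow_add, hz]⟩
  obtain ⟨_, ⟨⟨j₀, k₀⟩, rfl⟩, hmin'⟩ := (wellFounded_lt (α := Submodule R K)).has_min
    (Set.range fun p : ℕ × ℕ => L p.1 p.2) ⟨_, ⟨(0, 0), rfl⟩⟩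
  have hmin : ∀ q : ℕ × ℕ, ¬ L q.1 q.2 < L j₀ k₀ := fun q => hmin' _ ⟨q, rfl⟩
  have hfin : ∀ j, ∃ K₁, ∀ k, K₁ ≤ k → L j K₁ = L j k := fun j =>
    monotone_stabilizes_iff_artinian.2 hA
      ⟨fun k => OrderDual.toDual (L j k), fun _ _ h => hanti j j _ _ le_rfl h⟩
  choose K₁ hK₁ using hfin
  refine ⟨max k₀ ((Finset.range j₀).sup K₁), fun k hk => ?_⟩
  set N := max k₀ ((Finset.range j₀).sup K₁) with hN
  have hstab : ∀ j, L j N ≤ L j k := by
    intro j
    rcases lt_or_ge j j₀ with hj | hj
    · have hle : K₁ j ≤ N := le_max_of_le_right (Finset.le_sup (Finset.mem_range.2 hj))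
      rw [← hK₁ j N hle, hK₁ j k (hle.trans hk)]
    · have h1 : L j k = L j₀ k₀ :=
        ((hanti j₀ j k₀ k hj ((le_max_left _ _).trans hk)).eq_or_lt).resolve_right (hmin (j, k))
      rw [h1]
      exact hanti j₀ j k₀ N hj (le_max_left _ _)
  have key : ∀ (n : ℕ) (y : M), y ∈ OrderDual.ofDual (f N) → x ^ n • y = 0 →
      y ∈ OrderDual.ofDual (f k) := by
    intro n
    induction n with
    | zero =>
      intro y _ h
      rw [pow_zero, one_smul] at h
      rw [h]
      exact zero_mem _
    | succ n ih =>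
      intro y hy h
      have hmem : x ^ n • y ∈ K := by
        show x • x ^ n • y = 0
        rw [← mul_smul, ← pow_succ', h]
      obtain ⟨y', hy', he⟩ := hstab n (x := ⟨x ^ n • y, hmem⟩) ⟨y, hy, rfl⟩
      have := ih (y - y') (sub_mem hy (f.monotone hk hy')) (by rw [smul_sub, he, sub_self])
      simpa using add_mem this hy'
  refine le_antisymm (f.monotone hk) ?_
  intro y hy
  obtain ⟨n, hn⟩ := hM y
  exact key n y hy hn

/-- A torsion module with respect to a finitely generated ideal is Artinian as soon as the submodule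
killed by the ideal is. -/
theorem isArtinian_of_isArtinian_torsion {M : Type v} [AddCommGroup M] [Module R M] (s : Finset R)
    (hM : ∀ m : M, ∀ a ∈ s, ∃ n : ℕ, a ^ n • m = 0) :
    ∀ (T : Submodule R M), (∀ m, m ∈ T ↔ ∀ a ∈ s, a • m = 0) → IsArtinian R T → IsArtinian R M := by
  classical
  induction s using Finset.induction generalizing M with
  | empty =>
    intro T hT hA
    have : T = ⊤ := Submodule.eq_top_iff'.2 fun m => (hT m).2 (by simp)
    subst this
    exact isArtinian_of_linearEquiv Submodule.topEquiv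
  | insert x s _ ih =>
    intro T hT hA
    refine isArtinian_of_isArtinian_ker_smul x (fun m => hM m x (Finset.mem_insert_self _ _)) ?_
    let K := LinearMap.ker (LinearMap.lsmul R M x)
    let T' : Submodule R K := T.comap K.subtype
    refine ih (M := K) (fun m a ha => ?_) T' (fun m => ?_) ?_
    · obtain ⟨n, hn⟩ := hM (m : M) a (Finset.mem_insert_of_mem ha)
      exact ⟨n, Subtype.ext hn⟩
    · constructor
      · intro hm a ha
        exact Subtype.ext ((hT _).1 hm a (Finset.mem_insert_of_mem ha))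
      · intro hm
        refine (hT _).2 fun a ha => ?_
        rcases Finset.mem_insert.1 ha with rfl | ha
        · exact m.2
        · exact congrArg Subtype.val (hm a ha)
    · exact isArtinian_of_injective (LinearMap.restrict K.subtype (p := T') (q := T) fun m hm => hm)
        (fun a b h => Subtype.ext (Subtype.ext (congrArg (fun z : T => (z : M)) h)))

theorem isArtinian_of_isArtinian_torsionBy' {M : Type v} [AddCommGroup M] [Module R M] (a : Ideal R)
    (ha : a.FG) (hM : LocCoh.IsPowerTorsion a M) (hA : IsArtinian R (LocCoh.torsionBy a M)) :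
    IsArtinian R M := by
  obtain ⟨s, rfl⟩ := ha
  refine isArtinian_of_isArtinian_torsion s (fun m b hb => ?_) _ (fun m => ?_) hA
  · obtain ⟨n, hn⟩ := hM m
    exact ⟨n, hn _ (Ideal.pow_mem_pow (Submodule.subset_span hb) n)⟩
  · refine ⟨fun hm b hb => (Submodule.mem_torsionBySet_iff _ _).1 hm ⟨b, Submodule.subset_span hb⟩,
      fun hm => (Submodule.mem_torsionBySet_iff _ _).2 fun ⟨b, hb⟩ => ?_⟩
    show b • m = 0
    induction hb using Submodule.span_induction with
    | mem z hz => exact hm z hz
    | zero => rw [zero_smul]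
    | add p q _ _ hp hq => rw [add_smul, hp, hq, add_zero]
    | smul c p _ hp => rw [smul_eq_mul, mul_smul, hp, smul_zero]

/-- An Artinian module killed by a power of a maximal ideal is finite. -/
theorem finite_of_isArtinian_of_pow_smul_eq_zero [IsNoetherianRing R] {M : Type v} [AddCommGroup M]
    [Module R M] [IsArtinian R M] (m : Ideal R) [m.IsMaximal] (N : ℕ)
    (h : ∀ a ∈ m ^ N, ∀ x : M, a • x = 0) : Module.Finite R M := by
  have ht : Module.IsTorsionBySet R M (m ^ N : Ideal R) := fun x a => h a a.2 x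
  let := ht.module
  have hA : IsArtinianRing (R ⧸ m ^ N) := by
    rcases Nat.eq_zero_or_pos N with rfl | hN
    · have : Subsingleton (R ⧸ m ^ 0) := Ideal.Quotient.subsingleton_iff.2 (by simp)
      infer_instance
    · refine isArtinianRing_iff_krullDimLE_zero.2 (Ring.KrullDimLE.mk₀ fun P hP => ?_)
      have hle : m ≤ Ideal.comap (Ideal.Quotient.mk (m ^ N)) P := by
        refine (Ideal.IsPrime.pow_le_iff hN.ne').1 ?_
        exact fun a ha => by
          rw [Ideal.mem_comap, Ideal.Quotient.eq_zero_iff_mem.2 ha]; exact zero_mem _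
      have heq := (‹m.IsMaximal›).eq_of_le (Ideal.IsPrime.ne_top inferInstance) hle
      have := Ideal.map_comap_of_surjective _ Ideal.Quotient.mk_surjective P
      rw [← heq] at this
      exact (Ideal.map_eq_top_or_isMaximal_of_surjective _ Ideal.Quotient.mk_surjective
        ‹m.IsMaximal›).resolve_left (fun h' => hP.ne_top (this.symm.trans h')) |> (this ▸ ·)
  have : IsScalarTower R (R ⧸ m ^ N) M := ht.isScalarTower
  have : IsArtinian (R ⧸ m ^ N) M := isArtinian_of_tower R ‹IsArtinian R M›
  have : IsNoetherian (R ⧸ m ^ N) M :=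
    (IsSemiprimaryRing.isNoetherian_iff_isArtinian (R := R ⧸ m ^ N)).2 this
  exact Module.Finite.trans (R ⧸ m ^ N) M

/-- Avoidance for Artinian modules: away from finitely many non-maximal primes, `M / xM` is finite. -/
theorem exists_finset_avoid [IsNoetherianRing R] [IsLocalRing R] (M : Type v) [AddCommGroup M]
    [Module R M] [IsArtinian R M] :
    ∃ s : Finset (Ideal R), (∀ p ∈ s, p.IsPrime ∧ p ≠ IsLocalRing.maximalIdeal R) ∧
      ∀ x, (∀ p ∈ s, x ∉ p) → Module.Finite R (M ⧸ x • (⊤ : Submodule R M)) := by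
  classical
  suffices key : ∀ K : Submodule R M, ∃ (s : Finset (Ideal R)) (F : Submodule R M),
      (∀ p ∈ s, p.IsPrime ∧ p ≠ IsLocalRing.maximalIdeal R) ∧ F.FG ∧
      ∀ x, (∀ p ∈ s, x ∉ p) → K ≤ x • K ⊔ F by
    obtain ⟨s, F, hs, hF, h⟩ := key ⊤
    refine ⟨s, hs, fun x hx => ?_⟩
    have : Module.Finite R F := Module.Finite.iff_fg.2 hF
    refine Module.Finite.of_surjective ((x • (⊤ : Submodule R M)).mkQ ∘ₗ F.subtype) fun y => ?_
    obtain ⟨y, rfl⟩ := Submodule.Quotient.mk_surjective _ y
    obtain ⟨a, ha, b, hb, rfl⟩ := Submodule.mem_sup.1 (h x hx (Submodule.mem_top : y ∈ ⊤))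
    refine ⟨⟨b, hb⟩, ?_⟩
    show Submodule.Quotient.mk b = _
    rw [Submodule.Quotient.mk_add, (Submodule.Quotient.mk_eq_zero _).2 ha, zero_add]
  intro K
  induction K using WellFoundedLT.induction with
  | _ K ih =>
  by_cases hK : ∃ A B : Submodule R M, A < K ∧ B < K ∧ A ⊔ B = K
  · obtain ⟨A, B, hA, hB, rfl⟩ := hK
    obtain ⟨s, F, hs, hF, h⟩ := ih A hA
    obtain ⟨t, G, ht, hG, h'⟩ := ih B hB
    refine ⟨s ∪ t, F ⊔ G, fun p hp => (Finset.mem_union.1 hp).elim (hs p) (ht p), hF.sup hG,
      fun x hx => ?_⟩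
    rw [Submodule.smul_sup']
    refine sup_le ((h x fun p hp => hx p (Finset.mem_union_left _ hp)).trans ?_)
      ((h' x fun p hp => hx p (Finset.mem_union_right _ hp)).trans ?_)
    · exact sup_le_sup le_sup_left le_sup_left
    · exact sup_le_sup le_sup_right le_sup_right
  · have hirr : ∀ A B : Submodule R M, A ≤ K → B ≤ K → K ≤ A ⊔ B → A = K ∨ B = K := by
      intro A B hA hB hAB
      by_contra h
      push Not at h
      exact hK ⟨A, B, lt_of_le_of_ne hA h.1, lt_of_le_of_ne hB h.2,
        le_antisymm (sup_le hA hB) hAB⟩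
    by_cases hK0 : K = ⊥
    · exact ⟨∅, ⊥, by simp, Submodule.fg_bot, fun x _ => by simp [hK0]⟩
    -- each element is surjective or nilpotent on `K`
    have dich : ∀ x : R, x • K = K ∨ ∃ n : ℕ, ∀ y ∈ K, x ^ n • y = 0 := by
      intro x
      obtain ⟨n, hn⟩ := monotone_stabilizes_iff_artinian.2 ‹IsArtinian R M›
        ⟨fun j => OrderDual.toDual (x ^ j • K), monotone_nat_of_le_succ fun j => by
          show x ^ (j + 1) • K ≤ x ^ j • K
          rintro _ ⟨y, hy, rfl⟩
          refine ⟨x • y, K.smul_mem x hy, ?_⟩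
          show x ^ j • x • y = x ^ (j + 1) • y
          rw [← mul_smul, ← pow_succ]⟩
      have hn' : ∀ j, n ≤ j → x ^ n • K = x ^ j • K := hn
      let A := x ^ n • K
      let B := K ⊓ LinearMap.ker (LinearMap.lsmul R M (x ^ n))
      have hA : A ≤ K := by rintro _ ⟨y, hy, rfl⟩; exact K.smul_mem _ hy
      have hAB : K ≤ A ⊔ B := by
        intro y hy
        obtain ⟨z, hz, he⟩ := (hn' (n + n) (Nat.le_add_right _ _)).le ⟨y, hy, rfl⟩
        have he' : x ^ (n + n) • z = x ^ n • y := he
        refine Submodule.mem_sup.2 ⟨x ^ n • z, ⟨z, hz, rfl⟩, y - x ^ n • z,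
          ⟨sub_mem hy (K.smul_mem _ hz), ?_⟩, add_sub_cancel _ _⟩
        show x ^ n • (y - x ^ n • z) = 0
        rw [smul_sub, ← mul_smul, ← pow_add, he', sub_self]
      rcases hirr A B hA inf_le_left hAB with h | h
      · left
        refine le_antisymm (by rintro _ ⟨y, hy, rfl⟩; exact K.smul_mem _ hy) ?_
        calc K = x ^ (n + 1) • K := h.symm.trans (hn' (n + 1) (Nat.le_succ n))
          _ ≤ x • K := by
            rintro _ ⟨y, hy, rfl⟩
            refine ⟨x ^ n • y, K.smul_mem _ hy, ?_⟩
            show x • x ^ n • y = x ^ (n + 1) • y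
            rw [← mul_smul, ← pow_succ']
      · exact Or.inr ⟨n, fun y hy => (h.ge hy).2⟩
    let p : Ideal R :=
      { carrier := {x | ∃ n : ℕ, ∀ y ∈ K, x ^ n • y = 0}
        zero_mem' := ⟨1, fun y _ => by rw [pow_one, zero_smul]⟩
        add_mem' := by
          rintro a b ⟨n, hn⟩ ⟨m, hm⟩
          refine ⟨n + m, fun y hy => ?_⟩
          rw [add_pow, Finset.sum_smul]
          refine Finset.sum_eq_zero fun i hi => ?_
          rcases le_or_gt n i with hi' | hi'
          · obtain ⟨c, rfl⟩ := Nat.exists_eq_add_of_le hi'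
            rw [pow_add, show a ^ n * a ^ c * b ^ (n + m - (n + c)) * ((n + m).choose (n + c) : R) =
              (a ^ c * b ^ (n + m - (n + c)) * ((n + m).choose (n + c) : R)) * a ^ n by ring,
              mul_smul, hn y hy, smul_zero]
          · rw [show n + m - i = (n - i) + m by omega, pow_add,
              show a ^ i * (b ^ (n - i) * b ^ m) * ((n + m).choose i : R) =
              (a ^ i * b ^ (n - i) * ((n + m).choose i : R)) * b ^ m by ring,
              mul_smul, hm y hy, smul_zero]
        smul_mem' := by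
          rintro c a ⟨n, hn⟩
          exact ⟨n, fun y hy => by rw [smul_eq_mul, mul_pow, mul_smul, hn y hy, smul_zero]⟩ }
    have hnot : ∀ x, x ∉ p → x • K = K := fun x hx => (dich x).resolve_right hx
    have hone : (1 : R) ∉ p := by
      rintro ⟨n, hn⟩
      exact hK0 (eq_bot_iff.2 fun y hy => by
        have := hn y hy
        rwa [one_pow, one_smul] at this)
    have hpr : p.IsPrime := by
      refine ⟨fun h => hone (h ▸ Submodule.mem_top), fun {a b} hab => ?_⟩
      by_contra h
      push Not at h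
      obtain ⟨n, hn⟩ := hab
      refine hK0 (eq_bot_iff.2 fun y hy => ?_)
      have hsurj : ∀ j : ℕ, ∀ y ∈ K, ∃ z ∈ K, (a * b) ^ j • z = y := by
        intro j
        induction j with
        | zero => exact fun y hy => ⟨y, hy, by simp⟩
        | succ j ihj =>
          intro y hy
          obtain ⟨z, hz, rfl⟩ := ihj y hy
          rw [← hnot a h.1] at hz
          obtain ⟨w, hw, rfl⟩ := hz
          rw [← hnot b h.2] at hw
          obtain ⟨v, hv, rfl⟩ := hw
          refine ⟨v, hv, ?_⟩
          show (a * b) ^ (j + 1) • v = (a * b) ^ j • a • b • v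
          rw [pow_succ, mul_smul, mul_smul]
      obtain ⟨z, hz, rfl⟩ := hsurj n y hy
      exact hn z hz
    by_cases hpm : p = IsLocalRing.maximalIdeal R
    · obtain ⟨T, hT⟩ := IsNoetherian.noetherian (IsLocalRing.maximalIdeal R)
      have hex : ∀ a ∈ T, ∃ n : ℕ, ∀ y ∈ K, a ^ n • y = 0 := fun a ha => by
        have : a ∈ p := hpm ▸ hT ▸ Submodule.subset_span ha
        exact this
      obtain ⟨N, hN⟩ : ∃ N, (IsLocalRing.maximalIdeal R) ^ N ≤
          Submodule.annihilator K := by
        refine Ideal.exists_pow_le_of_le_radical_of_fg ?_ (IsNoetherian.noetherian _)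
        rw [← hT]
        refine Submodule.span_le.2 fun a ha => ?_
        obtain ⟨n, hn⟩ := hex a ha
        exact ⟨n, Submodule.mem_annihilator.2 hn⟩
      have : Module.Finite R K := finite_of_isArtinian_of_pow_smul_eq_zero
        (IsLocalRing.maximalIdeal R) N fun a ha y =>
          Subtype.ext (Submodule.mem_annihilator.1 (hN ha) y y.2)
      exact ⟨∅, K, by simp, Module.Finite.iff_fg.1 this, fun x _ => le_sup_right⟩
    · refine ⟨{p}, ⊥, fun q hq => ?_, Submodule.fg_bot, fun x hx => ?_⟩
      · rw [Finset.mem_singleton.1 hq]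
        exact ⟨hpr, hpm⟩
      · rw [sup_bot_eq, hnot x (hx p (Finset.mem_singleton_self _))]

end Groth.LocCohTransform
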