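import Groth.Agent.CohC3.Tower

/-!
The first derived limit of a tower of Artinian modules vanishes.
-/

set_option autoImplicit false
universe u

namespace Groth.LocCohTransform.ArtinianTower

open Groth.CohC3

variable {R : Type u} [CommRing R] (G : ℕ → Type u) [∀ n, AddCommGroup (G n)] [∀ n, Module R (G n)]
  (t : ∀ n, G (n + 1) →ₗ[R] G n)

theorem c_smul (i j : ℕ) (h : i ≤ j) (a : R) (x : G j) :
    Tower.c G (fun n => (t n).toAddMonoidHom) i j h (a • x) =
      a • Tower.c G (fun n => (t n).toAddMonoidHom) i j h x := by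
  induction j, h using Nat.le_induction with
  | base => simp
  | succ k hk ih =>
    rw [← Tower.c_comp G _ i k (k + 1) hk (Nat.le_succ k), ← Tower.c_comp G _ i k (k + 1) hk (Nat.le_succ k),
      Tower.c_succ, Tower.c_succ]
    refine (congrArg (Tower.c G (fun n => (t n).toAddMonoidHom) i k hk) ((t k).map_smul a x)).trans ?_
    exact ih _

theorem towerDiff_surjective [∀ n, IsArtinian R (G n)] :
    Function.Surjective (Formal2.towerDiff G fun n => (t n).toAddMonoidHom) := by
  let cl : ∀ i j, i ≤ j → (G j →ₗ[R] G i) := fun i j h =>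
    { Tower.c G (fun n => (t n).toAddMonoidHom) i j h with map_smul' := c_smul G t i j h }
  have hmono : ∀ i j k (h : i ≤ j) (h' : j ≤ k),
      LinearMap.range (cl i k (h.trans h')) ≤ LinearMap.range (cl i j h) := by
    rintro i j k h h' _ ⟨x, rfl⟩
    exact ⟨cl j k h' x, Tower.c_comp G _ i j k h h' x⟩
  have hstab : ∀ i, ∃ j, ∃ h : i ≤ j, ∀ k (h' : j ≤ k),
      LinearMap.range (cl i j h) = LinearMap.range (cl i k (h.trans h')) := fun i => by
    let f : ℕ →o (Submodule R (G i))ᵒᵈ :=
      ⟨fun d => OrderDual.toDual (LinearMap.range (cl i (i + d) (Nat.le_add_right i d))),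
        fun d e hde => hmono i (i + d) (i + e) _ (Nat.add_le_add_left hde i)⟩
    obtain ⟨d, hd⟩ := IsArtinian.monotone_stabilizes f
    refine ⟨i + d, Nat.le_add_right i d, fun k h' => ?_⟩
    obtain ⟨e, rfl⟩ := Nat.exists_eq_add_of_le ((Nat.le_add_right i d).trans h')
    exact hd e (Nat.le_of_add_le_add_left h')
  choose j hj hst using hstab
  refine Tower.towerDiff_surjective_of_subgroups G _
    (fun n => (LinearMap.range (cl n (j n) (hj n))).toAddSubgroup) (fun n s hs => ?_) (fun n s hs => ?_)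
    fun i => ⟨j i, hj i, fun z => ⟨z, rfl⟩⟩
  · let k := max (j n) (j (n + 1))
    have h0 : s ∈ LinearMap.range (cl n k ((hj n).trans (le_max_left _ _))) :=
      (hst n k (le_max_left _ _)).le hs
    obtain ⟨z, rfl⟩ := h0
    have hnk : n + 1 ≤ k := (hj (n + 1)).trans (le_max_right _ _)
    exact ⟨cl (n + 1) k hnk z, hmono (n + 1) (j (n + 1)) k (hj (n + 1)) (le_max_right _ _) ⟨z, rfl⟩,
      Tower.t_c G (fun n => (t n).toAddMonoidHom) n k hnk z⟩
  · let k := max (j n) (j (n + 1))
    have h0 : s ∈ LinearMap.range (cl (n + 1) k ((hj (n + 1)).trans (le_max_right _ _))) :=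
      (hst (n + 1) k (le_max_right _ _)).le hs
    obtain ⟨z, rfl⟩ := h0
    exact (hst n k (le_max_left _ _)).ge ⟨z, (Tower.t_c G _ n k _ z).symm⟩

end Groth.LocCohTransform.ArtinianTower
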