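import Groth.Prelude.Def_W4bk5brsh16IT
import Mathlib.RingTheory.Filtration
import Mathlib.Algebra.Category.ModuleCat.FilteredColimits
import Mathlib.CategoryTheory.Limits.ConcreteCategory.Basic

set_option autoImplicit false
universe u
open CategoryTheory CategoryTheory.Limits Opposite

namespace Groth.LocCohTransform

variable {R : Type u} [CommRing R]

section Colim

variable (F : ℕᵒᵖᵒᵖ ⥤ ModuleCat.{u} R ⥤ ModuleCat.{u} R) (X : ModuleCat.{u} R)

instance forget_preserves_small_filtered :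
    PreservesFilteredColimitsOfSize.{0, 0} (forget (ModuleCat.{u} R)) :=
  preservesFilteredColimitsOfSize_shrink.{0, u, 0, u} _

noncomputable def evalIsColimit : IsColimit (((evaluation _ _).obj X).mapCocone (colimit.cocone F)) :=
  isColimitOfPreserves _ (colimit.isColimit F)

lemma colim_app_exists_rep (x : (colimit F).obj X) :
    ∃ (n : ℕ) (y : (F.obj (op (op n))).obj X), ((colimit.ι F (op (op n))).app X).hom y = x := by
  obtain ⟨j, y, hy⟩ := Concrete.isColimit_exists_rep _ (evalIsColimit F X) x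
  exact ⟨unop (unop j), y, hy⟩

/-- The map of the doubly opposite index category attached to `m ≤ n`. -/
def stepHom {m n : ℕ} (h : m ≤ n) : op (op m) ⟶ op (op n) := (homOfLE h).op.op

lemma colim_app_step {m n : ℕ} (h : m ≤ n) (y : (F.obj (op (op m))).obj X) :
    ((colimit.ι F (op (op n))).app X).hom (((F.map (stepHom h)).app X).hom y) =
      ((colimit.ι F (op (op m))).app X).hom y := by
  rw [← colimit.w F (stepHom h)]
  rfl

lemma colim_app_eq_iff {n : ℕ} (y y' : (F.obj (op (op n))).obj X) :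
    ((colimit.ι F (op (op n))).app X).hom y = ((colimit.ι F (op (op n))).app X).hom y' ↔
      ∃ (m : ℕ) (h : n ≤ m), ((F.map (stepHom h)).app X).hom y = ((F.map (stepHom h)).app X).hom y' := by
  constructor
  · intro h
    obtain ⟨k, f, g, hfg⟩ :=
      Concrete.isColimit_exists_of_rep_eq _ (evalIsColimit F X) y y' h
    refine ⟨unop (unop k), f.unop.unop.down.down, ?_⟩
    rwa [Subsingleton.elim f (stepHom f.unop.unop.down.down),
      Subsingleton.elim g (stepHom f.unop.unop.down.down)] at hfg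
  · rintro ⟨m, h, e⟩
    rw [← colim_app_step F X h y, ← colim_app_step F X h y', e]

end Colim

section Elements

variable (I : Ideal R) {M N : Type u} [AddCommGroup M] [Module R M] [AddCommGroup N] [Module R N]

/-- The class in `DT I M` of a linear map `I ^ n →ₗ M`. -/
noncomputable def cls (n : ℕ) : ((I ^ n : Ideal R) →ₗ[R] M) →ₗ[R] LocCoh.DT I M :=
  ((colimit.ι (LocCoh.transformDiagram I) (op (op n))).app (ModuleCat.of R M)).hom ∘ₗ
    (ModuleCat.homLinearEquiv (S := R) (M := ModuleCat.of R (I ^ n : Ideal R))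
      (N := ModuleCat.of R M)).symm.toLinearMap

lemma cls_surjective (x : LocCoh.DT I M) :
    ∃ (n : ℕ) (f : (I ^ n : Ideal R) →ₗ[R] M), cls I n f = x := by
  obtain ⟨n, y, rfl⟩ := colim_app_exists_rep (LocCoh.transformDiagram I) (ModuleCat.of R M) x
  exact ⟨n, (ModuleCat.Hom.hom y : _), rfl⟩

lemma pow_le {n m : ℕ} (h : n ≤ m) : I ^ m ≤ I ^ n := Ideal.pow_le_pow_right h

lemma cls_restrict {n m : ℕ} (h : n ≤ m) (f : (I ^ n : Ideal R) →ₗ[R] M) :
    cls I m (f ∘ₗ Submodule.inclusion (pow_le I h)) = cls I n f := by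
  exact colim_app_step (LocCoh.transformDiagram I) (ModuleCat.of R M) h
    (ModuleCat.ofHom (X := (I ^ n : Ideal R)) f)

lemma cls_eq_zero_iff {n : ℕ} (f : (I ^ n : Ideal R) →ₗ[R] M) :
    cls I n f = 0 ↔ ∃ (m : ℕ) (h : n ≤ m), f ∘ₗ Submodule.inclusion (pow_le I h) = 0 := by
  constructor
  · intro h0
    obtain ⟨m, hm, e⟩ := (colim_app_eq_iff (LocCoh.transformDiagram I) (ModuleCat.of R M)
      (ModuleCat.ofHom (X := (I ^ n : Ideal R)) f) 0).1 (by rw [map_zero]; exact h0)
    refine ⟨m, hm, ?_⟩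
    rw [map_zero] at e
    exact congrArg ModuleCat.Hom.hom e
  · rintro ⟨m, h, e⟩
    rw [← cls_restrict I h f, e, map_zero]

lemma cls_eq_iff {n : ℕ} (f g : (I ^ n : Ideal R) →ₗ[R] M) :
    cls I n f = cls I n g ↔ ∃ (m : ℕ) (h : n ≤ m),
      f ∘ₗ Submodule.inclusion (pow_le I h) = g ∘ₗ Submodule.inclusion (pow_le I h) := by
  rw [← sub_eq_zero, ← map_sub, cls_eq_zero_iff]
  simp only [LinearMap.sub_comp, sub_eq_zero]

lemma map_cls (e : M →ₗ[R] N) {n : ℕ} (f : (I ^ n : Ideal R) →ₗ[R] M) :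
    ((LocCoh.idealTransform I).map (ModuleCat.ofHom e)).hom (cls I n f) = cls I n (e ∘ₗ f) := by
  exact (LinearMap.congr_fun (congrArg ModuleCat.Hom.hom
    ((colimit.ι (LocCoh.transformDiagram I) (op (op n))).naturality (ModuleCat.ofHom e)))
    (ModuleCat.ofHom (X := (I ^ n : Ideal R)) f)).symm

/-- Multiplication `r ↦ r • m` restricted to `I ^ n`. -/
def mulMap (n : ℕ) (m : M) : (I ^ n : Ideal R) →ₗ[R] M :=
  (LinearMap.toSpanSingleton R M m).domRestrict (I ^ n : Ideal R)

@[simp] lemma mulMap_apply (n : ℕ) (m : M) (r : (I ^ n : Ideal R)) :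
    mulMap I n m r = (r : R) • m := rfl

lemma toDT_eq_cls (n : ℕ) (m : M) : LocCoh.toDT I M m = cls I n (mulMap I n m) := by
  have h0 : LocCoh.toDT I M m = cls I 0 (mulMap I 0 m) := rfl
  rw [h0, ← cls_restrict I (Nat.zero_le n)]
  rfl

lemma map_toDT (e : M →ₗ[R] N) (m : M) :
    ((LocCoh.idealTransform I).map (ModuleCat.ofHom e)).hom (LocCoh.toDT I M m) =
      LocCoh.toDT I N (e m) := by
  rw [toDT_eq_cls I 0, map_cls, toDT_eq_cls I 0]
  congr 1
  ext r
  simp

lemma mem_torsionSub_iff {m : M} :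
    m ∈ DRing.torsionSub I M ↔ ∃ n : ℕ, ∀ a ∈ I ^ n, a • m = 0 := Iff.rfl

lemma toDT_eq_zero_iff (m : M) : LocCoh.toDT I M m = 0 ↔ m ∈ DRing.torsionSub I M := by
  rw [toDT_eq_cls I 0, cls_eq_zero_iff]
  constructor
  · rintro ⟨n, h, e⟩
    exact ⟨n, fun a ha => LinearMap.congr_fun e ⟨a, ha⟩⟩
  · rintro ⟨n, hn⟩
    exact ⟨n, Nat.zero_le n, LinearMap.ext fun a => hn a a.2⟩

lemma ker_toDT : LinearMap.ker (LocCoh.toDT I M) = DRing.torsionSub I M := by
  ext m
  rw [LinearMap.mem_ker, toDT_eq_zero_iff]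

/-- `a • [f] = η (f a)` for `a` in the domain of `f`. -/
lemma smul_cls {n : ℕ} (f : (I ^ n : Ideal R) →ₗ[R] M) (a : (I ^ n : Ideal R)) :
    (a : R) • cls I n f = LocCoh.toDT I M (f a) := by
  rw [← map_smul, toDT_eq_cls I n]
  congr 1
  refine LinearMap.ext fun r => ?_
  rw [LinearMap.smul_apply, mulMap_apply, ← map_smul, ← map_smul]
  congr 1
  apply Subtype.ext
  simp [mul_comm]

lemma isPowerTorsion_coker_toDT :
    LocCoh.IsPowerTorsion I (LocCoh.DT I M ⧸ LinearMap.range (LocCoh.toDT I M)) := by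
  intro x
  obtain ⟨y, rfl⟩ := Submodule.Quotient.mk_surjective _ x
  obtain ⟨n, f, rfl⟩ := cls_surjective I y
  refine ⟨n, fun a ha => ?_⟩
  rw [← Submodule.Quotient.mk_smul, Submodule.Quotient.mk_eq_zero, smul_cls I f ⟨a, ha⟩]
  exact LinearMap.mem_range_self _ _

lemma exists_pow_smul_mem_range (x : LocCoh.DT I M) :
    ∃ n : ℕ, ∀ a ∈ I ^ n, a • x ∈ LinearMap.range (LocCoh.toDT I M) := by
  obtain ⟨n, f, rfl⟩ := cls_surjective I x
  exact ⟨n, fun a ha => ⟨f ⟨a, ha⟩, (smul_cls I f ⟨a, ha⟩).symm⟩⟩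

/-- A linear map on `I ^ n` vanishes on a smaller power once a power of `I` kills its image. -/
lemma exists_restrict_eq_zero {n : ℕ} (f : (I ^ n : Ideal R) →ₗ[R] M) {k : ℕ}
    (hk : ∀ a ∈ I ^ k, ∀ r, a • f r = 0) :
    ∃ (m : ℕ) (h : n ≤ m), f ∘ₗ Submodule.inclusion (pow_le I h) = 0 := by
  refine ⟨n + k, Nat.le_add_right _ _, LinearMap.ext fun r => ?_⟩
  obtain ⟨r, hr⟩ := r
  have hr' : r ∈ I ^ k • (I ^ n : Ideal R) := by rwa [smul_eq_mul, mul_comm, ← pow_add]
  show f ⟨r, pow_le I (Nat.le_add_right n k) hr⟩ = 0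
  have key : ∀ s, s ∈ I ^ k • (I ^ n : Ideal R) → ∀ h : s ∈ I ^ n, f ⟨s, h⟩ = 0 := by
    intro s hs
    induction hs using Submodule.smul_induction_on' with
    | smul a ha b hb =>
      intro h
      have : (⟨a • b, h⟩ : (I ^ n : Ideal R)) = a • ⟨b, hb⟩ := rfl
      rw [this, map_smul]
      exact hk a ha _
    | add x hx y hy ihx ihy =>
      intro h
      have hx' : x ∈ I ^ n := Submodule.smul_le_right hx
      have hy' : y ∈ I ^ n := Submodule.smul_le_right hy
      have : (⟨x + y, h⟩ : (I ^ n : Ideal R)) = ⟨x, hx'⟩ + ⟨y, hy'⟩ := rfl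
      rw [this, map_add, ihx hx', ihy hy', add_zero]
  exact key r hr' _

end Elements

section Noetherian

variable [IsNoetherianRing R] (I : Ideal R) {M N : Type u} [AddCommGroup M] [Module R M]
  [AddCommGroup N] [Module R N]

omit [IsNoetherianRing R] in
lemma exists_uniform_killing (S : Submodule R M) (hS : S.FG)
    (h : ∀ x ∈ S, x ∈ DRing.torsionSub I M) : ∃ k : ℕ, ∀ a ∈ I ^ k, ∀ x ∈ S, a • x = 0 := by
  obtain ⟨T, rfl⟩ := hS
  classical
  induction T using Finset.induction with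
  | empty => exact ⟨0, fun a _ x hx => by simp at hx; simp [hx]⟩
  | insert y T hy ih =>
    obtain ⟨k, hk⟩ := ih fun x hx => h x (Submodule.span_mono (by simp) hx)
    obtain ⟨l, hl⟩ := h y (Submodule.subset_span (by simp))
    refine ⟨k + l, fun a ha x hx => ?_⟩
    rw [Finset.coe_insert, Submodule.mem_span_insert] at hx
    obtain ⟨c, z, hz, rfl⟩ := hx
    rw [smul_add, smul_comm, hl a (pow_le I (Nat.le_add_left l k) ha), smul_zero,
      hk a (pow_le I (Nat.le_add_right k l) ha) z hz, add_zero]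

lemma cls_eq_zero_of_range_le {n : ℕ} (f : (I ^ n : Ideal R) →ₗ[R] M)
    (hf : ∀ r, f r ∈ DRing.torsionSub I M) : cls I n f = 0 := by
  obtain ⟨k, hk⟩ := exists_uniform_killing I (LinearMap.range f)
    (Module.Finite.iff_fg.1 inferInstance) (by rintro x ⟨r, rfl⟩; exact hf r)
  exact (cls_eq_zero_iff I f).2 (exists_restrict_eq_zero I f fun a ha r => hk a ha _ ⟨r, rfl⟩)

lemma DT_subsingleton (hN : LocCoh.IsPowerTorsion I N) : Subsingleton (LocCoh.DT I N) := by
  refine subsingleton_of_forall_eq 0 fun x => ?_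
  obtain ⟨n, f, rfl⟩ := cls_surjective I x
  exact cls_eq_zero_of_range_le I f fun r => hN _

lemma mem_torsionSub_of_forall {m : M} {k : ℕ}
    (h : ∀ a ∈ I ^ k, a • m ∈ DRing.torsionSub I M) : m ∈ DRing.torsionSub I M := by
  obtain ⟨l, hl⟩ := exists_uniform_killing I
    (Submodule.map (LinearMap.toSpanSingleton R M m) (I ^ k : Ideal R))
    (Submodule.FG.map _ (IsNoetherian.noetherian _))
    (by rintro x ⟨a, ha, rfl⟩; exact h a ha)
  refine ⟨l + k, fun a ha => ?_⟩
  rw [pow_add] at ha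
  induction ha using Submodule.mul_induction_on' with
  | mem_mul_mem b hb c hc =>
    rw [mul_smul]
    exact hl b hb _ ⟨c, hc, rfl⟩
  | add x _ y _ ihx ihy => rw [add_smul, ihx, ihy, add_zero]

lemma torsionSub_DT : DRing.torsionSub I (LocCoh.DT I M) = ⊥ := by
  rw [eq_bot_iff]
  rintro x ⟨k, hk⟩
  obtain ⟨n, f, rfl⟩ := cls_surjective I x
  rw [Submodule.mem_bot]
  apply cls_eq_zero_of_range_le I f
  intro r
  refine mem_torsionSub_of_forall I (k := k) fun a ha => ?_
  rw [← toDT_eq_zero_iff, map_smul, ← smul_cls, smul_comm, hk a ha, smul_zero]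

end Noetherian

end Groth.LocCohTransform
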