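import Groth.Agent.LocCohTransform.PuncturedFunctor
import Groth.Agent.LocCohBase.Torsion
import Groth.Agent.CohTwo.TildeFlasque
import Groth.Agent.SiteCohomology.Flasque

/-!
`H^p(U, M~)` is a finite module when `H^(p+1)_I(M)` is, for the punctured open `U` of `I`.
-/

set_option autoImplicit false
set_option linter.style.haveILetI false
universe u

open CategoryTheory CategoryTheory.Limits AlgebraicGeometry Opposite TopologicalSpace

namespace Groth.LocCohTransform.Punct

variable {A : Type u} [CommRing A] (I : Ideal A)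

theorem toH0_injective (M : ModuleCat.{u} A) : Function.Injective (toH0 I M) := by
  intro s t h
  have h' : TildeSec.res (R := A) M (le_of_eq (LocCoh.puncturedOpen A I).ι_image_top) s =
      TildeSec.res (R := A) M (le_of_eq (LocCoh.puncturedOpen A I).ι_image_top) t :=
    (Sheaf.H.equiv₀ (Coh.toAb ((Φ I).obj M)) isTerminalTop).symm.injective h
  have h'' := congrArg (TildeSec.res (R := A) M (ge_of_eq (LocCoh.puncturedOpen A I).ι_image_top)) h'
  rwa [TildeSec.res_res, res_refl, TildeSec.res_res, res_refl] at h''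

/-- The map `M → H^0(U, M~)`. -/
noncomputable def γ (M : ModuleCat.{u} A) : M →ₗ[A] Coh.HH (UU I) ((Φ I).obj M) 0 :=
  (toH0ₗ I M).comp (tilde.toOpen (R := CommRingCat.of A) M (LocCoh.puncturedOpen A I)).hom

theorem γ_map {M N : ModuleCat.{u} A} (φ : M ⟶ N) (m : M) :
    γ I N (φ m) = Groth.EulerDeg.hMap A ((Φ I).map φ) 0 (γ I M m) :=
  toH0_toOpen_map I φ m

variable [IsNoetherianRing A]

theorem γ_eq_zero_iff (M : ModuleCat.{u} A) (m : M) :
    γ I M m = 0 ↔ m ∈ DRing.torsionSub I M := by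
  have h : γ I M m = 0 ↔ m ∈ LinearMap.ker
      (tilde.toOpen (R := CommRingCat.of A) M (LocCoh.puncturedOpen A I)).hom := by
    constructor
    · intro h0
      exact LinearMap.mem_ker.2 (toH0_injective I M (h0.trans (map_zero (toH0 I M)).symm))
    · intro h0
      change toH0 I M _ = 0
      rw [LinearMap.mem_ker.1 h0]
      exact map_zero _
  rw [h, TildeSec.ker_toOpen_eq M I, Submodule.mem_iSup_of_directed]
  · exact exists_congr fun n => by
      rw [LocCoh.torsionBy, Submodule.mem_torsionBySet_iff]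
      simp
  · exact Monotone.directed_le fun i j hij =>
      Submodule.torsionBySet_le_torsionBySet_of_subset (Ideal.pow_le_pow_right hij)

theorem γ_surjective_of_injective (E : ModuleCat.{u} A) [Module.Injective A E] :
    Function.Surjective (γ I E) := by
  intro h
  obtain ⟨s, rfl⟩ := toH0_surjective I E h
  haveI : IsNoetherianRing (CommRingCat.of A) := ‹IsNoetherianRing A›
  haveI : Module.Injective (CommRingCat.of A) E := ‹Module.Injective A E›
  obtain ⟨m, hm⟩ := Groth.CohTwo.TildeFlasque.exists_global (CommRingCat.of A) E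
    (LocCoh.puncturedOpen A I) s
  exact ⟨m, congrArg (toH0 I E) hm⟩

theorem subsingleton_HH_Φ_injective (E : ModuleCat.{u} A) [Module.Injective A E] (i : ℕ) :
    Subsingleton (Coh.HH (UU I) ((Φ I).obj E) (i + 1)) := by
  haveI : TopCat.Sheaf.IsFlasque (X := (UU I).toTopCat) (Coh.toAb ((Φ I).obj E)) := by
    refine (Groth.SiteCohomology.isFlasque_iff_surjective (X := (UU I).toTopCat) _).2 fun W V f => ?_
    exact Groth.CohTwo.TildeFlasque.restriction_surjective A E
      ((LocCoh.puncturedOpen A I).ι ''ᵁ V) ((LocCoh.puncturedOpen A I).ι ''ᵁ W)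
      (((LocCoh.puncturedOpen A I).ι.opensFunctor.map f).le)
  exact Groth.SiteCohomology.subsingleton_H_succ_of_flasque (X := (UU I).toTopCat) _ i

/-- `0 → M → E → Q → 0` with `E` injective. -/
noncomputable abbrev embSeq (M : ModuleCat.{u} A) : ShortComplex (ModuleCat.{u} A) :=
  ShortComplex.mk (Injective.ι M) (ModuleCat.ofHom (LinearMap.range (Injective.ι M).hom).mkQ) (by
    ext x; exact (Submodule.Quotient.mk_eq_zero _).2 ⟨x, rfl⟩)

omit [IsNoetherianRing A] in
theorem embSeq_shortExact (M : ModuleCat.{u} A) : (embSeq M).ShortExact where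
  exact := (ShortComplex.moduleCat_exact_iff _).2 fun x hx => (Submodule.Quotient.mk_eq_zero _).1 hx
  mono_f := inferInstanceAs (Mono (Injective.ι M))
  epi_g := (ModuleCat.epi_iff_surjective _).2 (Submodule.mkQ_surjective _)

instance injective_embSeq (M : ModuleCat.{u} A) : Injective (embSeq M).X₂ :=
  inferInstanceAs (Injective (Injective.under M))

instance moduleInjective_embSeq (M : ModuleCat.{u} A) : Module.Injective A (embSeq M).X₂ :=
  (Module.injective_iff_injective_object A _).2 (injective_embSeq M)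

section LES

variable {S : ShortComplex (ModuleCat.{u} A)} (hS : S.ShortExact)

omit [IsNoetherianRing A] in
include hS in
theorem exactΦ_mid (n : ℕ) :
    Function.Exact (Groth.EulerDeg.hMap A ((Φ I).map S.f) n) (Groth.EulerDeg.hMap A ((Φ I).map S.g) n) :=
  Groth.EulerDeg.exact_mid A (shortExact_Φ I hS) n

omit [IsNoetherianRing A] in
include hS in
theorem injectiveΦ_zero : Function.Injective (Groth.EulerDeg.hMap A ((Φ I).map S.f) 0) :=
  Groth.EulerDeg.injective_zero (X := UU I) A (S := S.map (Φ I)) (shortExact_Φ I hS)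

omit [IsNoetherianRing A] in
include hS in
theorem exists_deltaΦ (n : ℕ) :
    ∃ δ : Coh.HH (UU I) ((Φ I).obj S.X₃) n →ₗ[A] Coh.HH (UU I) ((Φ I).obj S.X₁) (n + 1),
      Function.Exact (Groth.EulerDeg.hMap A ((Φ I).map S.g) n) δ ∧
        Function.Exact δ (Groth.EulerDeg.hMap A ((Φ I).map S.f) (n + 1)) :=
  ⟨Groth.EulerDeg.hDelta A (shortExact_Φ I hS) n,
    Groth.EulerDeg.exact_right A (shortExact_Φ I hS) n,
    Groth.EulerDeg.exact_left A (shortExact_Φ I hS) n⟩

end LES

/-- `coker (M → H^0(U, M~))` is a subquotient of `H^1_I(M)`. -/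
theorem exists_surjective_coker_γ {S : ShortComplex (ModuleCat.{u} A)} (hS : S.ShortExact)
    [Module.Injective A S.X₂] :
    ∃ (N : Submodule A (LocCohBase.HH' I 1 S.X₁))
      (f : N →ₗ[A] Coh.HH (UU I) ((Φ I).obj S.X₁) 0 ⧸ LinearMap.range (γ I S.X₁)),
      Function.Surjective f := by
  let π : S.X₂ →ₗ[A] S.X₃ := S.g.hom
  let P : Submodule A S.X₂ := (DRing.torsionSub I S.X₃).comap π
  have hinj : Function.Injective (Groth.EulerDeg.hMap A ((Φ I).map S.f) 0) :=
    injectiveΦ_zero I hS
  have hex : ∀ e : P, γ I S.X₂ e ∈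
      LinearMap.range (Groth.EulerDeg.hMap A ((Φ I).map S.f) 0) := fun e => by
    obtain ⟨y, hy⟩ := (exactΦ_mid I hS 0 (γ I S.X₂ e)).1
      ((γ_map I S.g e).symm.trans ((γ_eq_zero_iff I _ _).2 e.2))
    exact ⟨y, hy⟩
  let up : P →ₗ[A] Coh.HH (UU I) ((Φ I).obj S.X₁) 0 :=
    (LinearEquiv.ofInjective _ hinj).symm.toLinearMap.comp
      (((γ I S.X₂).comp P.subtype).codRestrict _ hex)
  have hup : ∀ e : P, Groth.EulerDeg.hMap A ((Φ I).map S.f) 0 (up e) =
      γ I S.X₂ e := fun e =>
    congrArg Subtype.val ((LinearEquiv.ofInjective _ hinj).apply_symm_apply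
      (⟨γ I S.X₂ e, hex e⟩ : LinearMap.range _))
  let toC : P →ₗ[A] Coh.HH (UU I) ((Φ I).obj S.X₁) 0 ⧸ LinearMap.range (γ I S.X₁) :=
    (LinearMap.range (γ I S.X₁)).mkQ.comp up
  have hC : Function.Surjective toC := by
    intro c
    obtain ⟨s, rfl⟩ := Submodule.mkQ_surjective _ c
    obtain ⟨e, he⟩ := γ_surjective_of_injective I S.X₂
      (Groth.EulerDeg.hMap A ((Φ I).map S.f) 0 s)
    have heP : e ∈ P := (γ_eq_zero_iff I _ _).1 (by
      rw [γ_map I S.g, he]
      exact (exactΦ_mid I hS 0 _).2 ⟨s, rfl⟩)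
    exact ⟨⟨e, heP⟩, congrArg (LinearMap.range (γ I S.X₁)).mkQ (hinj ((hup ⟨e, heP⟩).trans he))⟩
  let κ : P →ₗ[A] LocCohBase.HH' I 1 S.X₁ :=
    (LocCohBase.δ (I := I) hS 0).comp
      ((LocCohBase.h0Equiv I S.X₃).symm.toLinearMap.comp (π.restrict fun _ he => he))
  have hker : LinearMap.ker κ ≤ LinearMap.ker toC := by
    intro e he
    obtain ⟨z, hz⟩ := (LocCohBase.exact₃ (I := I) hS 0 _).1 (LinearMap.mem_ker.1 he)
    have hz' : (π e.1) = π (LocCohBase.h0Map I S.X₂ z) := by
      refine Eq.trans ?_ (LocCohBase.h0Map_natural I S.g z)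
      refine Eq.trans ?_ (congrArg (LocCohBase.h0Map I S.X₃) hz).symm
      exact (congrArg Subtype.val ((LocCohBase.h0Equiv I S.X₃).apply_symm_apply
        ((π.restrict fun _ he => he : P →ₗ[A] DRing.torsionSub I S.X₃) e))).symm
    have htor : LocCohBase.h0Map I S.X₂ z ∈ DRing.torsionSub I S.X₂ := by
      rw [← LocCohBase.range_h0Map]
      exact ⟨z, rfl⟩
    obtain ⟨m, hm⟩ : ∃ m, S.f m = e.1 - LocCohBase.h0Map I S.X₂ z :=
      (ShortComplex.moduleCat_exact_iff _).1 hS.exact _ (by
        change π (_ - _) = 0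
        rw [map_sub, hz', sub_self])
    refine LinearMap.mem_ker.2 ((Submodule.Quotient.mk_eq_zero _).2 ⟨m, hinj ?_⟩)
    rw [hup, ← γ_map, hm, map_sub, (γ_eq_zero_iff I _ _).2 htor, sub_zero]
  refine ⟨LinearMap.range κ, (LinearMap.ker κ).liftQ toC hker ∘ₗ
      (LinearMap.quotKerEquivRange κ).symm.toLinearMap, fun c => ?_⟩
  obtain ⟨e, rfl⟩ := hC c
  exact ⟨LinearMap.quotKerEquivRange κ (Submodule.Quotient.mk e), by simp⟩

/-- `coker (M → H^0(U, M~))` is finite when `H^1_I(M)` is. -/
theorem finite_coker_γ {S : ShortComplex (ModuleCat.{u} A)} (hS : S.ShortExact)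
    [Module.Injective A S.X₂] (h : Module.Finite A (LocCohBase.HH' I 1 S.X₁)) :
    Module.Finite A (Coh.HH (UU I) ((Φ I).obj S.X₁) 0 ⧸ LinearMap.range (γ I S.X₁)) := by
  obtain ⟨N, f, hf⟩ := exists_surjective_coker_γ I hS
  exact Module.Finite.of_surjective f hf

/-- `M → H^0(U, M~)` is bijective when `H^0_I(M)` and `H^1_I(M)` vanish. -/
theorem γ_bijective (M : ModuleCat.{u} A) (h0 : Subsingleton (LocCohBase.HH' I 0 M))
    (h1 : Subsingleton (LocCohBase.HH' I 1 M)) : Function.Bijective (γ I M) := by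
  refine ⟨(injective_iff_map_eq_zero _).2 fun m hm => ?_, fun x => ?_⟩
  · have := (LocCohBase.subsingleton_H_zero_iff I M).1 h0
    exact (Submodule.eq_bot_iff _).1 this m ((γ_eq_zero_iff I M m).1 hm)
  · obtain ⟨N, f, hf⟩ := exists_surjective_coker_γ I (embSeq_shortExact M)
    have : Subsingleton (Coh.HH (UU I) ((Φ I).obj M) 0 ⧸ LinearMap.range (γ I M)) :=
      hf.subsingleton
    exact (Submodule.Quotient.mk_eq_zero (LinearMap.range (γ I M))).1 (Subsingleton.elim _ _)

/-- Dimension shift for local cohomology. -/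
theorem finite_H_X₃ {S : ShortComplex (ModuleCat.{u} A)} (hS : S.ShortExact)
    [Injective S.X₂] (i : ℕ)
    (h : Module.Finite A (LocCohBase.HH' I (i + 2) S.X₁)) :
    Module.Finite A (LocCohBase.HH' I (i + 1) S.X₃) := by
  refine Module.Finite.of_injective (LocCohBase.δ (I := I) hS (i + 1))
    ((injective_iff_map_eq_zero _).2 fun x hx => ?_)
  obtain ⟨y, rfl⟩ := (LocCohBase.exact₃ (I := I) hS (i + 1) x).1 hx
  haveI := LocCohBase.subsingleton_succ_of_injective (I := I) i S.X₂
  rw [Subsingleton.elim y 0, map_zero]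

/-- `H^(p+1)(U, M~)` is finite when `H^(p+2)_I(M)` is. -/
theorem finite_HH_Φ_succ : ∀ (p : ℕ) (M : ModuleCat.{u} A),
    Module.Finite A (LocCohBase.HH' I (p + 2) M) →
      Module.Finite A (Coh.HH (UU I) ((Φ I).obj M) (p + 1)) := by
  intro p
  induction p with
  | zero =>
    intro M h
    let S := embSeq M
    have hS : S.ShortExact := embSeq_shortExact M
    obtain ⟨δ, hr, hl⟩ := exists_deltaΦ I hS 0
    have := finite_coker_γ I (embSeq_shortExact S.X₃) (finite_H_X₃ I hS 0 h)
    have hk : LinearMap.range (γ I S.X₃) ≤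
        LinearMap.ker δ := by
      rintro _ ⟨q, rfl⟩
      obtain ⟨e, rfl⟩ := Submodule.mkQ_surjective _ q
      exact (congrArg δ (γ_map I S.g e)).trans
        ((hr _).2 ⟨_, rfl⟩)
    refine Module.Finite.of_surjective ((LinearMap.range (γ I S.X₃)).liftQ _ hk) fun x => ?_
    obtain ⟨y, rfl⟩ := (hl x).1
      (Subsingleton.elim (h := subsingleton_HH_Φ_injective I S.X₂ 0) _ _)
    exact ⟨Submodule.Quotient.mk y, rfl⟩
  | succ p ih =>
    intro M h
    let S := embSeq M
    have hS : S.ShortExact := embSeq_shortExact M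
    obtain ⟨δ, hr, hl⟩ := exists_deltaΦ I hS (p + 1)
    have := ih S.X₃ (finite_H_X₃ I hS (p + 1) h)
    refine Module.Finite.of_surjective δ fun x => ?_
    obtain ⟨y, rfl⟩ := (hl x).1
      (Subsingleton.elim (h := subsingleton_HH_Φ_injective I S.X₂ (p + 1)) _ _)
    exact ⟨y, rfl⟩

/-- `H^p(U, M~)` is finite when `M` and `H^(p+1)_I(M)` are. -/
theorem finite_HH_Φ (M : ModuleCat.{u} A) [Module.Finite A M] (p : ℕ)
    (h : Module.Finite A (LocCohBase.HH' I (p + 1) M)) :
    Module.Finite A (Coh.HH (UU I) ((Φ I).obj M) p) := by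
  cases p with
  | zero =>
    have := finite_coker_γ I (embSeq_shortExact M) h
    have : Module.Finite A (LinearMap.range (γ I M)) := Module.Finite.range _
    exact Module.Finite.of_submodule_quotient (LinearMap.range (γ I M))
  | succ p => exact finite_HH_Φ_succ I p M h

end Groth.LocCohTransform.Punct
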