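import Groth.Agent.LocCohTransform.ExtCechCompare
import Groth.Agent.LocCohTransform.SectionsFinite
import Groth.Agent.CohDev.TildeSections

/-!
The one-cocycles of the extended Čech complex are the sections of the tilde module on the
punctured open, naturally in the module.
-/

set_option autoImplicit false
set_option linter.style.haveILetI false
universe u

open CategoryTheory CategoryTheory.Limits AlgebraicGeometry HomologicalComplex
open Groth.CohDev

namespace Groth.LocCohTransform.CechSections

variable {A : Type u} [CommRing A] (fs : List A)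

/-- The one-cocycles. -/
noncomputable abbrev Z1 (M : ModuleCat.{u} A) : ModuleCat.{u} A := (DerCA.extCech M fs).cycles 1

/-- Functoriality of the cocycles. -/
noncomputable abbrev zmap {M N : ModuleCat.{u} A} (g : M ⟶ N) : Z1 fs M →ₗ[A] Z1 fs N :=
  (cyclesMap (cechMap fs g) 1).hom

/-- The punctured open of the list. -/
noncomputable abbrev U0 : TS.Op A := LocCoh.puncturedOpen A (Ideal.span {x | x ∈ fs})

theorem zmap_comp_apply {M N P : ModuleCat.{u} A} (g : M ⟶ N) (h : N ⟶ P) (z : Z1 fs M) :
    zmap fs h (zmap fs g z) = zmap fs (g ≫ h) z := by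
  change (cyclesMap (cechMap fs g) 1 ≫ cyclesMap (cechMap fs h) 1).hom z = _
  rw [← cyclesMap_comp, ← cechMap_comp]

theorem smap_comp_apply {M N P : ModuleCat.{u} A} (g : M ⟶ N) (h : N ⟶ P)
    (s : TS.Sec (A := A) M (U0 fs)) :
    TS.map h.hom (U0 fs) (TS.map g.hom (U0 fs) s) = TS.map (g ≫ h).hom (U0 fs) s := by
  rw [TS.map_comp_apply]
  rfl

theorem zmap_injective {S : ShortComplex (ModuleCat.{u} A)} (hS : S.ShortExact) :
    Function.Injective (zmap fs S.f) := by
  have : Mono (cechMap fs S.f) := (cechSeq_shortExact hS fs).mono_f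
  exact (ModuleCat.mono_iff_injective _).1 inferInstance

/-- The canonical map to cocycles. -/
noncomputable def toZ1 (M : ModuleCat.{u} A) : M →ₗ[A] Z1 fs M :=
  (toZ M fs).comp (LinearEquiv.ofBijective _ (eval0_bijective M fs)).symm.toLinearMap

theorem toZ1_natural {M N : ModuleCat.{u} A} (g : M ⟶ N) (m : M) :
    toZ1 fs N (g.hom m) = zmap fs g (toZ1 fs M m) := by
  obtain ⟨x, rfl⟩ := (eval0_bijective M fs).2 m
  have h1 : ∀ (P : ModuleCat.{u} A) (y : (DerCA.extCech P fs).X 0), toZ1 fs P (eval0 P fs y) = toZ P fs y :=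
    fun P y => congrArg (toZ P fs) ((LinearEquiv.ofBijective _ (eval0_bijective P fs)).symm_apply_apply y)
  rw [← eval0_natural, h1, h1]
  exact toZ_natural g fs x

variable [IsNoetherianRing A]

theorem of_eq_zero_iff (M : ModuleCat.{u} A) (m : M) :
    TS.of (A := A) (U0 fs) m = 0 ↔ toZ1 fs M m = 0 := by
  have h1 : toZ1 fs M m = 0 ↔ m ∈ DRing.torsionSub (Ideal.span {x | x ∈ fs}) M := by
    refine (toZ_eq_zero_iff M fs _).trans ?_
    rw [LinearEquiv.coe_coe, show eval0 M fs ((LinearEquiv.ofBijective _ (eval0_bijective M fs)).symm m) = m from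
      (LinearEquiv.ofBijective _ (eval0_bijective M fs)).apply_symm_apply m]
  rw [h1, ← Punct.γ_eq_zero_iff (Ideal.span {x | x ∈ fs}) M m]
  exact ⟨fun h => (congrArg (Punct.toH0 (Ideal.span {x | x ∈ fs}) M) h).trans (map_zero _),
    fun h => Punct.toH0_injective _ M (h.trans (map_zero _).symm)⟩

theorem exists_comparison_injective (E : ModuleCat.{u} A) [Module.Injective A E] :
    ∃ θ : Z1 fs E →ₗ[A] TS.Sec (A := A) E (U0 fs),
      Function.Bijective θ ∧ ∀ e, θ (toZ1 fs E e) = TS.of (U0 fs) e := by
  have ha : Function.Surjective (toZ1 fs E) :=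
    (toZ_surjective E fs).comp (LinearEquiv.surjective _)
  have hb : Function.Surjective (TS.of (A := A) (M := E) (U0 fs)) := fun s => by
    haveI : IsNoetherianRing (CommRingCat.of A) := ‹IsNoetherianRing A›
    haveI : Module.Injective (CommRingCat.of A) E := ‹Module.Injective A E›
    exact Groth.CohTwo.TildeFlasque.exists_global (CommRingCat.of A) E (U0 fs) s
  have hk : LinearMap.ker (toZ1 fs E) = LinearMap.ker (TS.of (A := A) (M := E) (U0 fs)) := by
    ext e
    exact (of_eq_zero_iff fs E e).symm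
  refine ⟨((toZ1 fs E).quotKerEquivOfSurjective ha).symm.trans
      ((Submodule.quotEquivOfEq _ _ hk).trans
        ((TS.of (A := A) (M := E) (U0 fs)).quotKerEquivOfSurjective hb)),
    LinearEquiv.bijective _, fun e => ?_⟩
  rw [LinearEquiv.coe_coe, LinearEquiv.trans_apply, LinearEquiv.trans_apply,
    show ((toZ1 fs E).quotKerEquivOfSurjective ha).symm (toZ1 fs E e) = Submodule.Quotient.mk e from
      (LinearEquiv.symm_apply_eq _).2 rfl]
  rfl

instance moduleInjective_under (M : ModuleCat.{u} A) : Module.Injective A (Injective.under M : ModuleCat.{u} A) :=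
  (Module.injective_iff_injective_object A _).2 (inferInstanceAs (Injective (Injective.under M)))

/-- The comparison on injective envelopes. -/
noncomputable def θinj (M : ModuleCat.{u} A) :
    Z1 fs (Injective.under M) →ₗ[A] TS.Sec (A := A) (Injective.under M : ModuleCat.{u} A) (U0 fs) :=
  (exists_comparison_injective fs (Injective.under M)).choose

theorem θinj_bijective (M : ModuleCat.{u} A) : Function.Bijective (θinj fs M) :=
  (exists_comparison_injective fs (Injective.under M)).choose_spec.1

theorem θinj_natural {M N : ModuleCat.{u} A} (ψ : Injective.under M ⟶ Injective.under N)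
    (z : Z1 fs (Injective.under M)) :
    θinj fs N (zmap fs ψ z) = TS.map ψ.hom (U0 fs) (θinj fs M z) := by
  obtain ⟨e, rfl⟩ : ∃ e, toZ1 fs (Injective.under M) e = z :=
    ((toZ_surjective _ fs).comp (LinearEquiv.surjective _) : Function.Surjective
      (toZ1 fs (Injective.under M))) z
  rw [← toZ1_natural]
  refine ((exists_comparison_injective fs (Injective.under N)).choose_spec.2 _).trans ?_
  rw [show θinj fs M (toZ1 fs _ e) = TS.of (U0 fs) e from
    (exists_comparison_injective fs (Injective.under M)).choose_spec.2 e, TS.map_of]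

theorem smap_ι_injective (M : ModuleCat.{u} A) :
    Function.Injective (TS.map (A := A) (Injective.ι M).hom (U0 fs)) :=
  TS.map_injective ((ModuleCat.mono_iff_injective _).1 inferInstance) _

theorem θinj_mem_range_iff (M : ModuleCat.{u} A) (w : Z1 fs (Injective.under M)) :
    w ∈ LinearMap.range (zmap fs (Injective.ι M)) ↔
      θinj fs M w ∈ LinearMap.range (TS.map (A := A) (Injective.ι M).hom (U0 fs)) := by
  let S := Punct.embSeq M
  have hS : S.ShortExact := Punct.embSeq_shortExact M
  let ψ : Injective.under M ⟶ Injective.under S.X₃ := S.g ≫ Injective.ι S.X₃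
  have hψ : ∀ w, θinj fs S.X₃ (zmap fs ψ w) = TS.map ψ.hom (U0 fs) (θinj fs M w) := θinj_natural fs ψ
  have h1 : ∀ w, zmap fs ψ w = 0 ↔ w ∈ LinearMap.range (zmap fs S.f) := fun w => by
    rw [← zmap_comp_apply, (injective_iff_map_eq_zero' _).1 (zmap_injective fs (Punct.embSeq_shortExact S.X₃))]
    have : Mono (cechSeq hS fs).f := (cechSeq_shortExact hS fs).mono_f
    have hex := (ShortComplex.moduleCat_exact_iff _).1
      (HomologicalComplex.cycles_left_exact (cechSeq hS fs) (cechSeq_shortExact hS fs).exact 1)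
    refine ⟨fun h => hex w h, ?_⟩
    rintro ⟨y, rfl⟩
    show (cyclesMap (cechSeq hS fs).f 1 ≫ cyclesMap (cechSeq hS fs).g 1).hom y = 0
    rw [← cyclesMap_comp, (cechSeq hS fs).zero, cyclesMap_zero]
    rfl
  have h2 : ∀ s, TS.map (A := A) ψ.hom (U0 fs) s = 0 ↔
      s ∈ LinearMap.range (TS.map (A := A) S.f.hom (U0 fs)) := fun s => by
    rw [← smap_comp_apply, (injective_iff_map_eq_zero' _).1 (smap_ι_injective fs S.X₃)]
    have hker : LinearMap.range S.f.hom = LinearMap.ker S.g.hom := hS.exact.moduleCat_range_eq_ker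
    refine ⟨fun h => TS.exists_map_eq ((ModuleCat.mono_iff_injective _).1 hS.mono_f) hker s h, ?_⟩
    rintro ⟨y, rfl⟩
    refine TS.sep_D fun g hg => ?_
    obtain ⟨k, m, hm⟩ := TS.exists_of_eq (TS.res hg y)
    refine (TS.pow_smul_bijective le_rfl k).1 ?_
    change g ^ k • TS.res hg _ = g ^ k • TS.res hg 0
    rw [← TS.map_res, ← TS.map_res, ← map_smul, ← map_smul, hm, TS.map_of, TS.map_of, map_zero, smul_zero,
      show S.g.hom (S.f.hom m) = 0 from LinearMap.mem_ker.1 (hker ▸ LinearMap.mem_range_self _ m), map_zero]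
  exact ((h1 w).symm.trans ((injective_iff_map_eq_zero' _).1 (θinj_bijective fs S.X₃).1 _).symm).trans
    ((hψ w).symm ▸ h2 _)

/-- The comparison. -/
noncomputable def θ (M : ModuleCat.{u} A) : Z1 fs M →ₗ[A] TS.Sec (A := A) M (U0 fs) :=
  (LinearEquiv.ofInjective _ (smap_ι_injective fs M)).symm.toLinearMap.comp
    (((θinj fs M).comp (zmap fs (Injective.ι M))).codRestrict _ fun _ =>
      (θinj_mem_range_iff fs M _).1 ⟨_, rfl⟩)

theorem smap_θ (M : ModuleCat.{u} A) (z : Z1 fs M) :
    TS.map (Injective.ι M).hom (U0 fs) (θ fs M z) = θinj fs M (zmap fs (Injective.ι M) z) :=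
  congrArg Subtype.val ((LinearEquiv.ofInjective _ (smap_ι_injective fs M)).apply_symm_apply _)

theorem θ_bijective (M : ModuleCat.{u} A) : Function.Bijective (θ fs M) := by
  refine ⟨(injective_iff_map_eq_zero _).2 fun z hz => ?_, fun s => ?_⟩
  · refine zmap_injective fs (Punct.embSeq_shortExact M) ((θinj_bijective fs M).1 ?_)
    refine (smap_θ fs M z).symm.trans ?_
    rw [hz, map_zero, map_zero, map_zero]
  · obtain ⟨w, hw⟩ := (θinj_bijective fs M).2 (TS.map (Injective.ι M).hom (U0 fs) s)
    obtain ⟨z, rfl⟩ := (θinj_mem_range_iff fs M w).2 (hw ▸ ⟨s, rfl⟩)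
    exact ⟨z, smap_ι_injective fs M ((smap_θ fs M z).trans hw)⟩

theorem θ_natural {M N : ModuleCat.{u} A} (φ : M ⟶ N) (z : Z1 fs M) :
    θ fs N (zmap fs φ z) = TS.map φ.hom (U0 fs) (θ fs M z) := by
  let ψ : Injective.under M ⟶ Injective.under N := Injective.factorThru (φ ≫ Injective.ι N) (Injective.ι M)
  have hψ : Injective.ι M ≫ ψ = φ ≫ Injective.ι N := Injective.comp_factorThru _ _
  refine smap_ι_injective fs N ((smap_θ fs N _).trans ?_)
  rw [zmap_comp_apply, ← hψ, ← zmap_comp_apply, θinj_natural, ← smap_θ, smap_comp_apply, hψ, ← smap_comp_apply]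

theorem θ_toZ1 (M : ModuleCat.{u} A) (m : M) : θ fs M (toZ1 fs M m) = TS.of (U0 fs) m := by
  refine smap_ι_injective fs M ((smap_θ fs M _).trans ?_)
  rw [← toZ1_natural, TS.map_of]
  exact (exists_comparison_injective fs (Injective.under M)).choose_spec.2 _

end Groth.LocCohTransform.CechSections
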