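import Groth.Agent.LocCohTransform.CompletionRlimMain
import Groth.Agent.LocCohTransform.CechSections
import Groth.Agent.LocCohTransform.CompletionAmplitude
import Groth.Agent.DerivedCoh.KInj.Products
import Groth.Agent.AdicLinTop.Adic
import Groth.Prelude.Def_Formal2

/-!
Algebraization of local cohomology gives algebraization of formal sections.
-/

set_option autoImplicit false
set_option linter.style.haveILetI false
set_option linter.unusedSectionVars false
universe u

open CategoryTheory CategoryTheory.Limits HomologicalComplex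
open Groth.CohDev

attribute [local instance] HasDerivedCategory.standard

namespace Groth.LocCohTransform.FormalSectionsDerived

open CompletionFunctor RlimModules CechTriangle CompletionRlim

variable {A : Type u} [CommRing A] [IsNoetherianRing A] (I : Ideal A)

theorem hasProduct_nat (K : ℕ → Dual.D A) : HasProduct K := by
  have := Groth.DerivedCoh.KInjRes.hasProducts (A := ModuleCat.{u} A)
  have : HasLimitsOfShape (Discrete ℕ) (DerivedCategory (ModuleCat.{u} A)) :=
    hasLimitsOfShape_of_equivalence (Discrete.equivalence (Equiv.ulift.{u} (α := ℕ)))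
  infer_instance

omit [IsNoetherianRing A] in
theorem isZero_extCech_X_neg (M : ModuleCat.{u} A) : ∀ (fs : List A) (k : ℤ), k < 0 →
    IsZero ((DerCA.extCech M fs).X k)
  | [], k, hk => isZero_single_obj_X (ComplexShape.up ℤ) 0 M k (by omega)
  | f :: fs, k, hk => by
    refine IsZero.of_iso ?_ (DerCA.mappingCoconeXIso _ k)
    exact (biprod_isZero_iff _ _).2 ⟨isZero_extCech_X_neg M fs k hk,
      Functor.map_isZero (DerCA.locFunctor (Submonoid.powers f)) (isZero_extCech_X_neg M fs (k - 1) (by omega))⟩

/-- The termwise completion computes the derived completion. -/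
theorem bijective_homologyMap_toChatCx [DRing.HasDerivedCompletion I] (M : Type u) [AddCommGroup M]
    [Module A M] [Module.Finite A M] (J : Ideal A) [DRing.HasRgammaI J] (fs : List A)
    (hfs : Ideal.span {x | x ∈ fs} = J) (i : ℤ)
    (h : Function.Bijective (CompletionAmplitude.hmap
      ((η I).app ((DRing.RgammaI J).obj (Dual.inD A M))) i)) :
    Function.Bijective (homologyMap (toChatCx I (DerCA.extCech (ModuleCat.of A M) fs)) i).hom := by
  have hI : I.FG := IsNoetherian.noetherian I
  haveI := hasProduct_nat (A := A)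
  let E := DerCA.extCech (ModuleCat.of A M) fs
  let En : ℕ → DRing.Cx A := fun n => ((qF I n).mapHomologicalComplex (ComplexShape.up ℤ)).obj E
  let tn : ∀ n, En (n + 1) ⟶ En n := fun n => (NatTrans.mapHomologicalComplex (qT I n) (ComplexShape.up ℤ)).app E
  have hcl : ∀ n, DRing.IsDerivedComplete I (DerivedCategory.Q.obj (En n)) := fun n =>
    GreenleesMay.complete_of_killed I (N := n) fun i x a ha => by
      apply (RgammaTorsion.hdEquiv (En n) i).injective
      rw [map_smul, map_zero]
      have h0 : a • 𝟙 (En n) = 0 := HomologicalComplex.hom_ext _ _ fun k =>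
        ModuleCat.hom_ext (Submodule.linearMap_qext _ (LinearMap.ext fun y =>
          (Submodule.Quotient.mk_eq_zero (I ^ n • ⊤ : Submodule A (E.X k))).2
            (Submodule.smul_mem_smul ha trivial)))
      have h1 := homologyMap_smul_id (En n) a i
      rw [h0, homologyMap_zero] at h1
      exact (congr(($h1).hom (RgammaTorsion.hdEquiv (En n) i x))).symm
  have ht : ∀ n k, Function.Surjective ((tn n).f k).hom := fun n k => qT_surjective I n (E.X k)
  have hclim := complete_lim En tn ht hcl
  let eC : lim En tn ≅ (chatCx I).obj E :=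
    HomologicalComplex.Hom.isoOfComponents (fun k => Iso.refl _) (fun i j _ => by
      simp only [Iso.refl_hom, Category.id_comp, Category.comp_id]
      rfl)
  have hP : IsIso ((comp I).map (DerivedCategory.Q.map (toChatCx I E))) := P_of_iso I
    (HomologicalComplex.Hom.isoOfComponents (fun k => Iso.refl _) (fun i j _ => by
      simp only [Iso.refl_hom, Category.id_comp, Category.comp_id]))
    (P_extCech I hI (M := M) fs (ModuleCat.of A M) (nice_self M) (𝟭 _) fun N' h => h)
  have hη := isIso_η_of_complete I hclim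
  have hη' : IsIso ((η I).app (DerivedCategory.Q.obj ((chatCx I).obj E))) := by
    have e := (η I).naturality (DerivedCategory.Q.map eC.hom)
    have h1 : IsIso (DerivedCategory.Q.map eC.hom ≫ (η I).app (DerivedCategory.Q.obj ((chatCx I).obj E))) := by
      rw [show DerivedCategory.Q.map eC.hom ≫ (η I).app (DerivedCategory.Q.obj ((chatCx I).obj E)) = _ from e]
      infer_instance
    exact @IsIso.of_isIso_comp_left _ _ _ _ _ (DerivedCategory.Q.map eC.hom) _ inferInstance h1
  obtain ⟨e, -⟩ := exists_extCech_iso J fs hfs (ModuleCat.of A M)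
  have hE : Function.Bijective (CompletionAmplitude.hmap ((η I).app (DerivedCategory.Q.obj E)) i) := by
    have hn : e.hom ≫ (η I).app ((DRing.RgammaI J).obj (Dual.inD A M)) =
        (η I).app (DerivedCategory.Q.obj E) ≫ (comp I).map e.hom := (η I).naturality e.hom
    have h1 := h.comp (CompletionAmplitude.hmap_iso e.hom i)
    have h2 : ⇑(CompletionAmplitude.hmap ((η I).app ((DRing.RgammaI J).obj (Dual.inD A M))) i) ∘
        ⇑(CompletionAmplitude.hmap e.hom i) =
        ⇑(CompletionAmplitude.hmap ((comp I).map e.hom) i) ∘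
          ⇑(CompletionAmplitude.hmap ((η I).app (DerivedCategory.Q.obj E)) i) := funext fun x => by
      refine (CompletionAmplitude.hmap_comp _ _ i x).symm.trans ?_
      rw [hn]
      exact CompletionAmplitude.hmap_comp _ _ i x
    rw [h2] at h1
    exact ((CompletionAmplitude.hmap_iso ((comp I).map e.hom) i).of_comp_iff' _).1 h1
  have hφ : Function.Bijective (CompletionAmplitude.hmap (DerivedCategory.Q.map (toChatCx I E)) i) := by
    have hn : DerivedCategory.Q.map (toChatCx I E) ≫ (η I).app (DerivedCategory.Q.obj ((chatCx I).obj E)) =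
        (η I).app (DerivedCategory.Q.obj E) ≫ (comp I).map (DerivedCategory.Q.map (toChatCx I E)) :=
      (η I).naturality _
    have h2 : ⇑(CompletionAmplitude.hmap ((η I).app (DerivedCategory.Q.obj ((chatCx I).obj E))) i) ∘
        ⇑(CompletionAmplitude.hmap (DerivedCategory.Q.map (toChatCx I E)) i) =
        ⇑(CompletionAmplitude.hmap ((comp I).map (DerivedCategory.Q.map (toChatCx I E))) i) ∘
          ⇑(CompletionAmplitude.hmap ((η I).app (DerivedCategory.Q.obj E)) i) := funext fun x => by
      refine (CompletionAmplitude.hmap_comp _ _ i x).symm.trans ?_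
      rw [hn]
      exact CompletionAmplitude.hmap_comp _ _ i x
    refine ((CompletionAmplitude.hmap_iso
      ((η I).app (DerivedCategory.Q.obj ((chatCx I).obj E))) i).of_comp_iff' _).1 ?_
    rw [h2]
    exact (CompletionAmplitude.hmap_iso _ i).comp hE
  have hnat : ∀ x, RgammaTorsion.hdEquiv ((chatCx I).obj E) i
      (CompletionAmplitude.hmap (DerivedCategory.Q.map (toChatCx I E)) i x) =
      (homologyMap (toChatCx I E) i).hom (RgammaTorsion.hdEquiv E i x) := fun x =>
    congr(($((DerivedCategory.homologyFunctorFactors (ModuleCat.{u} A) i).hom.naturality (toChatCx I E))).hom x)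
  refine ((RgammaTorsion.hdEquiv E i).bijective.of_comp_iff _).1 ?_
  rw [show ⇑(homologyMap (toChatCx I E) i).hom ∘ ⇑(RgammaTorsion.hdEquiv E i) =
    ⇑(RgammaTorsion.hdEquiv ((chatCx I).obj E) i) ∘
      ⇑(CompletionAmplitude.hmap (DerivedCategory.Q.map (toChatCx I E)) i) from funext fun x => (hnat x).symm]
  exact (LinearEquiv.bijective _).comp hφ

section Sections

variable [IsAdicComplete I A] (M : Type u) [AddCommGroup M] [Module A M] [Module.Finite A M] (fs : List A)

theorem toChat_zero_bijective :
    Function.Bijective ((toChat I).app ((DerCA.extCech (ModuleCat.of A M) fs).X 0)).hom := by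
  let X0 := (DerCA.extCech (ModuleCat.of A M) fs).X 0
  haveI : Module.Finite A X0 :=
    Module.Finite.equiv (LinearEquiv.ofBijective _ (eval0_bijective (ModuleCat.of A M) fs)).symm
  haveI := Groth.AdicLinTop.Adic.isAdicComplete_of_finite (I := I) (M := X0)
  refine ⟨(injective_iff_map_eq_zero _).2 fun x hx =>
    IsHausdorff.haus (I := I) (M := X0) inferInstance x fun n => SModEq.zero.2 ?_, fun y => ?_⟩
  · exact (Submodule.Quotient.mk_eq_zero _).1 (congrFun (congrArg Subtype.val hx) n)
  · choose f hf using fun n => Submodule.Quotient.mk_surjective _ (y.1 n)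
    have hc : ∀ {m n : ℕ}, m ≤ n → f m ≡ f n [SMOD (I ^ m • ⊤ : Submodule A X0)] := by
      intro m n hmn
      induction n, hmn using Nat.le_induction with
      | base => rfl
      | succ n hn ih =>
        refine ih.trans ?_
        refine (SModEq.sub_mem.2 ?_)
        have h1 := (mem_chatSub I).1 y.2 n
        rw [← hf, ← hf] at h1
        have h2 := (Submodule.Quotient.eq _).1 h1.symm
        exact Submodule.smul_mono (Ideal.pow_le_pow_right hn) le_rfl h2
    obtain ⟨L, hL⟩ := IsPrecomplete.prec (I := I) (M := X0) inferInstance (f := f) hc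
    exact ⟨L, Subtype.ext (funext fun n => ((hf n).symm.trans (hL n)).symm)⟩

theorem eq_bd_of_π_eq_zero {C : DRing.Cx A} (j k : ℤ) (hjk : (ComplexShape.up ℤ).prev k = j) (z : C.cycles k)
    (h : (C.homologyπ k).hom z = 0) : ∃ w : C.X j, (C.toCycles j k).hom w = z := by
  have hex : (ShortComplex.mk _ _ (C.toCycles_comp_homologyπ j k)).Exact :=
    ShortComplex.exact_of_g_is_cokernel _ (C.homologyIsCokernel j k hjk)
  exact (ShortComplex.moduleCat_exact_iff _).1 hex z h

theorem homology_zero_aux {C D : DRing.Cx A} (φ : C ⟶ D)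
    (h0 : Function.Bijective (φ.f 0).hom)
    (hH0 : Function.Surjective (homologyMap φ 0).hom)
    (hH1 : Function.Bijective (homologyMap φ 1).hom)
    (hneg : Subsingleton (D.X (-1))) : Function.Bijective (cyclesMap φ 1).hom := by
  have hπ : ∀ (k : ℤ) (z : C.cycles k), (homologyMap φ k).hom ((C.homologyπ k).hom z) =
      (D.homologyπ k).hom ((cyclesMap φ k).hom z) := fun k z =>
    congr(($(homologyπ_naturality φ k)).hom z)
  have hi : ∀ (k : ℤ) (z : C.cycles k), (D.iCycles k).hom ((cyclesMap φ k).hom z) = (φ.f k).hom ((C.iCycles k).hom z) :=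
    fun k z => congr(($(cyclesMap_i φ k)).hom z)
  have hd : ∀ (w : C.X 0), (φ.f 1).hom ((C.d 0 1).hom w) = (D.d 0 1).hom ((φ.f 0).hom w) := fun w =>
    (congr(($(φ.comm 0 1)).hom w)).symm
  have hmono : ∀ (C : DRing.Cx A) (k : ℤ), Function.Injective (C.iCycles k).hom := fun C k =>
    (ModuleCat.mono_iff_injective (C.iCycles k)).1 inferInstance
  have hti : ∀ (C : DRing.Cx A) (w : C.X 0), (C.iCycles 1).hom ((C.toCycles 0 1).hom w) = (C.d 0 1).hom w :=
    fun C w => congr(($(C.toCycles_i 0 1)).hom w)
  refine ⟨(injective_iff_map_eq_zero _).2 fun z hz => ?_, fun z' => ?_⟩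
  · have h1 : (C.homologyπ 1).hom z = 0 :=
      hH1.1 (((hπ 1 z).trans ((congrArg _ hz).trans (map_zero _))).trans (map_zero _).symm)
    obtain ⟨w, rfl⟩ := eq_bd_of_π_eq_zero 0 1 (by simp) z h1
    have hcyc : (D.d 0 (0 + 1)).hom ((φ.f 0).hom w) = 0 := by
      change (D.d 0 1).hom ((φ.f 0).hom w) = 0
      rw [← hd, ← hti, ← hi, hz, map_zero]
    obtain ⟨u, hu⟩ := exists_cycle (k := 0) ((φ.f 0).hom w) hcyc
    obtain ⟨v, hv⟩ := hH0 ((D.homologyπ 0).hom u)
    obtain ⟨v, rfl⟩ := homology_surj v
    rw [hπ, ← sub_eq_zero, ← map_sub] at hv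
    obtain ⟨r, hr⟩ := eq_bd_of_π_eq_zero (-1) 0 (by simp) _ hv
    have hr0 : r = 0 := @Subsingleton.elim _ hneg _ _
    rw [hr0, map_zero, eq_comm, sub_eq_zero] at hr
    have hwv : (C.iCycles 0).hom v = w := h0.1 (((hi 0 v).symm.trans (congrArg _ hr)).trans hu)
    apply hmono C 1
    rw [hti, map_zero, ← hwv]
    exact congr(($(C.iCycles_d 0 1)).hom v)
  · obtain ⟨c, hc⟩ := hH1.2 ((D.homologyπ 1).hom z')
    obtain ⟨z, rfl⟩ := homology_surj c
    rw [hπ, ← sub_eq_zero, ← map_sub] at hc
    obtain ⟨w', hw'⟩ := eq_bd_of_π_eq_zero 0 1 (by simp) _ hc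
    obtain ⟨w, rfl⟩ := h0.2 w'
    refine ⟨z - (C.toCycles 0 1).hom w, hmono D 1 ?_⟩
    rw [hi, map_sub, map_sub, hti, hd, ← hti, hw', map_sub, hi, sub_sub_cancel]

/-- The cocycle form of the comparison. -/
theorem exists_unique_cocycle [DRing.HasDerivedCompletion I] (J : Ideal A) [DRing.HasRgammaI J]
    (hfs : Ideal.span {x | x ∈ fs} = J)
    (h : ∀ i : ℤ, i ≤ 1 → Function.Bijective (CompletionAmplitude.hmap
      ((η I).app ((DRing.RgammaI J).obj (Dual.inD A M))) i)) :
    Function.Bijective (cyclesMap (toChatCx I (DerCA.extCech (ModuleCat.of A M) fs)) 1).hom := by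
  refine homology_zero_aux _ (toChat_zero_bijective I M fs)
    (bijective_homologyMap_toChatCx I M J fs hfs 0 (h 0 (by norm_num))).2
    (bijective_homologyMap_toChatCx I M J fs hfs 1 (h 1 le_rfl)) ⟨fun a b => Subtype.ext (funext fun n => ?_)⟩
  haveI : Subsingleton ((DerCA.extCech (ModuleCat.of A M) fs).X (-1)) := ModuleCat.subsingleton_of_isZero (isZero_extCech_X_neg (ModuleCat.of A M) fs (-1) (by norm_num))
  haveI : Subsingleton ((qF I n).obj ((DerCA.extCech (ModuleCat.of A M) fs).X (-1))) :=
    (Submodule.Quotient.mk_surjective _).subsingleton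
  exact Subsingleton.elim _ _

/-- Formal sections come from sections. -/
theorem bijective_sections [DRing.HasDerivedCompletion I] (J : Ideal A) [DRing.HasRgammaI J]
    (hfs : Ideal.span {x | x ∈ fs} = J)
    (h : ∀ i : ℤ, i ≤ 1 → Function.Bijective (CompletionAmplitude.hmap
      ((η I).app ((DRing.RgammaI J).obj (Dual.inD A M))) i)) :
    (∀ x : TS.Sec (A := A) M (CechSections.U0 fs),
      (∀ n, TS.map (Formal2.quotPowπ A I M n) (CechSections.U0 fs) x = 0) → x = 0) ∧
    ∀ y : ∀ n, TS.Sec (A := A) (Formal2.quotPow A I M n) (CechSections.U0 fs),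
      (∀ n, TS.map (Formal2.quotPowTrans A I M n) (CechSections.U0 fs) (y (n + 1)) = y n) →
        ∃ x, ∀ n, TS.map (Formal2.quotPowπ A I M n) (CechSections.U0 fs) x = y n := by
  have hbij := exists_unique_cocycle I M fs J hfs h
  let E := DerCA.extCech (ModuleCat.of A M) fs
  let φ := toChatCx I E
  have hmono : ∀ (C : DRing.Cx A) (k : ℤ), Function.Injective (C.iCycles k).hom := fun C k =>
    (ModuleCat.mono_iff_injective (C.iCycles k)).1 inferInstance
  have hwinj : ∀ n k, Function.Injective ((w I n M fs).f k).hom := fun n k =>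
    ((ConcreteCategory.isIso_iff_bijective ((w I n M fs).f k)).1 inferInstance).1
  have hkey : ∀ (z : E.cycles 1) (n : ℕ),
      ((w I n M fs).f 1).hom ((((chatCx I).obj E).iCycles 1).hom ((cyclesMap φ 1).hom z) |>.1 n) =
        ((DerCA.extCech _ fs).iCycles 1).hom (CechSections.zmap fs (mq I n M) z) := fun z n => by
    rw [show (((chatCx I).obj E).iCycles 1).hom ((cyclesMap φ 1).hom z) = (φ.f 1).hom ((E.iCycles 1).hom z) from
      congr(($(cyclesMap_i φ 1)).hom z)]
    exact (congr(($(cyclesMap_i (cechMap fs (mq I n M)) 1)).hom z)).symm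
  refine ⟨fun x hx => ?_, fun y hy => ?_⟩
  · obtain ⟨z, rfl⟩ := (CechSections.θ_bijective fs (ModuleCat.of A M)).2 x
    have hz : z = 0 := hbij.1 (hmono _ 1 (Subtype.ext (funext fun n => hwinj n 1 ?_)))
    · rw [hz]; exact map_zero _
    rw [hkey, map_zero, map_zero]
    change _ = ((w I n M fs).f 1).hom 0
    rw [map_zero]
    have hsub : ∀ m, CechSections.zmap fs (mq I (m + 1) M) z = 0 := fun m =>
      (CechSections.θ_bijective fs _).1 (((CechSections.θ_natural fs (mq I (m + 1) M) z).trans (hx m)).trans
        (map_zero _).symm)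
    cases n with
    | zero =>
      have e : CechSections.zmap fs (mq I 0 M) z =
          CechSections.zmap fs (tq I 0 M) (CechSections.zmap fs (mq I 1 M) z) := by
        rw [CechSections.zmap_comp_apply]; rfl
      rw [e, hsub 0, map_zero, map_zero]
    | succ m => rw [hsub m, map_zero]
  · choose z hz using fun n => (CechSections.θ_bijective fs
      (ModuleCat.of A (Formal2.quotPow A I M n))).2 (y n)
    let z' : ∀ n, CechSections.Z1 fs (ModuleCat.of A (M ⧸ (I ^ n • ⊤ : Submodule A M))) := fun n =>
      match n with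
      | 0 => CechSections.zmap fs (tq I 0 M) (z 0)
      | m + 1 => z m
    have hz' : ∀ n, CechSections.zmap fs (tq I n M) (z' (n + 1)) = z' n := by
      intro n
      cases n with
      | zero => rfl
      | succ m =>
        refine (CechSections.θ_bijective fs _).1 ((CechSections.θ_natural fs _ _).trans ?_)
        exact (congrArg _ (hz (m + 1))).trans ((hy m).trans (hz m).symm)
    choose x hx using fun n => ((ConcreteCategory.isIso_iff_bijective ((w I n M fs).f 1)).1 inferInstance).2
      (((DerCA.extCech _ fs).iCycles 1).hom (z' n))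
    have hxc : ∀ n, ((qT I n).app (E.X 1)).hom (x (n + 1)) = x n := fun n => hwinj n 1 (by
      refine ((congr(($(congr_hom (w_natural I n M fs) 1)).hom (x (n + 1)))).symm).trans ?_
      change ((cechMap fs (tq I n M)).f 1).hom (((w I (n + 1) M fs).f 1).hom (x (n + 1))) = _
      refine (congrArg _ (hx (n + 1))).trans ?_
      refine ((congr(($(cyclesMap_i (cechMap fs (tq I n M)) 1)).hom (z' (n + 1)))).symm).trans ?_
      refine (congrArg _ (hz' n)).trans (hx n).symm)
    let xx : ((chatCx I).obj E).X 1 := ⟨x, (mem_chatSub I).2 hxc⟩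
    have hdx : (((chatCx I).obj E).d 1 (1 + 1)).hom xx = 0 := Subtype.ext (funext fun n => hwinj n (1 + 1) (by
      refine Eq.trans ?_ (map_zero _).symm
      refine ((congr(($((w I n M fs).comm 1 (1 + 1))).hom (x n))).symm).trans ?_
      refine (congrArg _ (hx n)).trans ?_
      exact congr(($((DerCA.extCech _ fs).iCycles_d 1 (1 + 1))).hom (z' n))))
    obtain ⟨c, hc⟩ := exists_cycle xx hdx
    obtain ⟨Z, rfl⟩ := hbij.2 c
    refine ⟨CechSections.θ fs (ModuleCat.of A M) Z, fun n => ?_⟩
    rw [← hz n]
    refine (CechSections.θ_natural fs (mq I (n + 1) M) Z).symm.trans (congrArg _ (hmono _ 1 ?_))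
    exact (hkey Z (n + 1)).symm.trans ((congrArg (fun e => ((w I (n + 1) M fs).f 1).hom (e.1 (n + 1))) hc).trans
      (hx (n + 1)))

end Sections

end Groth.LocCohTransform.FormalSectionsDerived
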