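import Groth.Agent.LocCohTransform.CechSections
import Groth.Agent.LocCohTransform.FormalSectionsDerived
import Groth.Agent.CohC3.FullyFaithful

/-!
The higher cohomology of the extended Čech complex is the cohomology of the punctured open,
naturally in the module.
-/

set_option autoImplicit false
set_option linter.style.haveILetI false
universe u

open CategoryTheory CategoryTheory.Limits AlgebraicGeometry HomologicalComplex
open Groth.CohC3

namespace Groth.LocCohTransform.CechHigher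

open CechSections Punct
open Groth.CohDev

variable {A : Type u} [CommRing A] [IsNoetherianRing A] (fs : List A)

/-- The ideal of the list. -/
noncomputable abbrev JI : Ideal A := Ideal.span {x : A | x ∈ fs}

/-- Cohomology of the extended Čech complex. -/
noncomputable abbrev C (k : ℤ) (M : ModuleCat.{u} A) : ModuleCat.{u} A := (DerCA.extCech M fs).homology k

/-- Its functoriality. -/
noncomputable abbrev cm (k : ℤ) {M N : ModuleCat.{u} A} (g : M ⟶ N) : C fs k M →ₗ[A] C fs k N :=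
  (homologyMap (cechMap fs g) k).hom

/-- Cohomology of the punctured open. -/
abbrev D (p : ℕ) (M : ModuleCat.{u} A) : Type u := Coh.HH (UU (JI fs)) ((Φ (JI fs)).obj M) p

/-- Its functoriality. -/
noncomputable abbrev dm (p : ℕ) {M N : ModuleCat.{u} A} (g : M ⟶ N) : D fs p M →+ D fs p N :=
  Groth.CohC3.hmap A ((Φ (JI fs)).map g) p

/-- The lift of a homomorphism to the chosen presentations. -/
noncomputable def lift {M N : ModuleCat.{u} A} (g : M ⟶ N) : embSeq M ⟶ embSeq N :=
  let ψ : Injective.under M ⟶ Injective.under N := Injective.factorThru (g ≫ Injective.ι N) (Injective.ι M)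
  { τ₁ := g
    τ₂ := ψ
    τ₃ := ModuleCat.ofHom (Submodule.mapQ _ _ ψ.hom (by
      rintro _ ⟨m, rfl⟩
      exact ⟨g.hom m, (congr(($(Injective.comp_factorThru (g ≫ Injective.ι N) (Injective.ι M))).hom m)).symm⟩))
    comm₁₂ := (Injective.comp_factorThru _ _).symm
    comm₂₃ := by ext x; rfl }

omit [IsNoetherianRing A] in
theorem cechδ_natural {S T : ShortComplex (ModuleCat.{u} A)} (hS : S.ShortExact) (hT : T.ShortExact)
    (φ : S ⟶ T) (n m : ℤ) (h : n + 1 = m) (x : C fs n S.X₃) :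
    cm fs m φ.τ₁ (cechδ hS fs n m h x) = cechδ hT fs n m h (cm fs n φ.τ₃ x) := by
  let ψ : cechSeq hS fs ⟶ cechSeq hT fs :=
    { τ₁ := cechMap fs φ.τ₁
      τ₂ := cechMap fs φ.τ₂
      τ₃ := cechMap fs φ.τ₃
      comm₁₂ := by
        change cechMap fs φ.τ₁ ≫ cechMap fs T.f = cechMap fs S.f ≫ cechMap fs φ.τ₂
        rw [← cechMap_comp, ← cechMap_comp, φ.comm₁₂]
      comm₂₃ := by
        change cechMap fs φ.τ₂ ≫ cechMap fs T.g = cechMap fs S.g ≫ cechMap fs φ.τ₃
        rw [← cechMap_comp, ← cechMap_comp, φ.comm₂₃] }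
  exact congr(($(HomologySequence.δ_naturality ψ (cechSeq_shortExact hS fs)
    (cechSeq_shortExact hT fs) n m h)).hom x)

/-- The connecting map. -/
noncomputable abbrev dδ {S : ShortComplex (ModuleCat.{u} A)} (hS : S.ShortExact) (p : ℕ) :
    D fs p S.X₃ →+ D fs (p + 1) S.X₁ :=
  hdelta (shortExact_Φ (JI fs) hS) p

omit [IsNoetherianRing A] in
theorem dδ_natural {S T : ShortComplex (ModuleCat.{u} A)} (hS : S.ShortExact) (hT : T.ShortExact)
    (φ : S ⟶ T) (p : ℕ) (x : D fs p S.X₃) :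
    dm fs (p + 1) φ.τ₁ (dδ fs hS p x) = dδ fs hT p (dm fs p φ.τ₃ x) :=
  hdelta_naturality (A := A) (shortExact_Φ (JI fs) hS) (shortExact_Φ (JI fs) hT) ((Φ (JI fs)).mapShortComplex.map φ) x

omit [IsNoetherianRing A] in
theorem dδ_zero_iff {S : ShortComplex (ModuleCat.{u} A)} (hS : S.ShortExact) (p : ℕ) (x : D fs p S.X₃) :
    dδ fs hS p x = 0 ↔ ∃ y, dm fs p S.g y = x := by
  refine ⟨fun h => exists_of_hdelta_eq_zero (A := A) (shortExact_Φ (JI fs) hS) x h, ?_⟩
  rintro ⟨y, rfl⟩
  exact (Groth.EulerDeg.exact_right A (shortExact_Φ (JI fs) hS) p _).2 ⟨y, rfl⟩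

theorem dδ_surjective (M : ModuleCat.{u} A) (p : ℕ) :
    Function.Surjective (dδ fs (embSeq_shortExact M) p) := fun x =>
  (Groth.EulerDeg.exact_left A (shortExact_Φ (JI fs) (embSeq_shortExact M)) p x).1
    (Subsingleton.elim (h := subsingleton_HH_Φ_injective (JI fs) _ p) _ _)

/-- Cocycles as degree zero cohomology. -/
noncomputable def s0 (M : ModuleCat.{u} A) : Z1 fs M →+ D fs 0 M :=
  (toH0 (JI fs) M).comp (θ fs M).toAddMonoidHom

theorem s0_bijective (M : ModuleCat.{u} A) : Function.Bijective (s0 fs M) := by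
  have h1 : Function.Bijective (θ fs M) := θ_bijective fs M
  exact ⟨(toH0_injective (JI fs) M).comp h1.1, (toH0_surjective (JI fs) M).comp h1.2⟩

theorem s0_natural {M N : ModuleCat.{u} A} (g : M ⟶ N) (z : Z1 fs M) :
    s0 fs N (zmap fs g z) = dm fs 0 g (s0 fs M z) := by
  change toH0 (JI fs) N (θ fs N (zmap fs g z)) = _
  rw [θ_natural]
  exact toH0_map (JI fs) g _

/-- The class of a cocycle of the cokernel, in the Čech complex. -/
noncomputable def tC (M : ModuleCat.{u} A) : Z1 fs (embSeq M).X₃ →ₗ[A] C fs 2 M :=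
  (cechδ (embSeq_shortExact M) fs 1 2 rfl).comp ((DerCA.extCech (embSeq M).X₃ fs).homologyπ 1).hom

/-- The class of a cocycle of the cokernel, on the punctured open. -/
noncomputable def tD (M : ModuleCat.{u} A) : Z1 fs (embSeq M).X₃ →+ D fs 1 M :=
  (dδ fs (embSeq_shortExact M) 0).comp (s0 fs (embSeq M).X₃)

theorem tC_surjective (M : ModuleCat.{u} A) : Function.Surjective (tC fs M) := fun x => by
  obtain ⟨y, rfl⟩ := (cechδ_exact₁ (embSeq_shortExact M) fs 1 2 rfl x).1
    ((subsingleton_cech_of_injective (embSeq M).X₂ fs 2 (by norm_num)).elim _ _)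
  obtain ⟨z, rfl⟩ := RlimModules.homology_surj y
  exact ⟨z, rfl⟩

theorem tD_surjective (M : ModuleCat.{u} A) : Function.Surjective (tD fs M) := fun x => by
  obtain ⟨y, rfl⟩ := dδ_surjective fs M 0 x
  obtain ⟨z, rfl⟩ := (s0_bijective fs (embSeq M).X₃).2 y
  exact ⟨z, rfl⟩

theorem tC_eq_zero_iff (M : ModuleCat.{u} A) (z : Z1 fs (embSeq M).X₃) :
    tC fs M z = 0 ↔ tD fs M z = 0 := by
  let S := embSeq M
  have hS := embSeq_shortExact M
  have hD : tD fs M z = 0 ↔ ∃ w, zmap fs S.g w = z := by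
    refine (dδ_zero_iff fs hS 0 _).trans ⟨?_, ?_⟩
    · rintro ⟨y, hy⟩
      obtain ⟨w, rfl⟩ := (s0_bijective fs S.X₂).2 y
      exact ⟨w, (s0_bijective fs S.X₃).1 ((s0_natural fs S.g w).trans hy)⟩
    · rintro ⟨w, rfl⟩
      exact ⟨_, (s0_natural fs S.g w).symm⟩
  rw [hD]
  constructor
  · intro h
    have hinj : Function.Injective (cechδ hS fs 1 2 rfl) := (injective_iff_map_eq_zero _).2 fun y hy => by
      obtain ⟨w, rfl⟩ := (cechδ_exact₃ hS fs 1 2 rfl y).1 hy
      rw [(subsingleton_cech_of_injective S.X₂ fs 1 le_rfl).elim w 0, map_zero]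
    have hz : ((DerCA.extCech S.X₃ fs).homologyπ 1).hom z = 0 := hinj (h.trans (map_zero _).symm)
    obtain ⟨y, rfl⟩ := FormalSectionsDerived.eq_bd_of_π_eq_zero 0 1 (by simp) z hz
    haveI : Epi (cechMap fs S.g) := (cechSeq_shortExact hS fs).epi_g
    obtain ⟨w, rfl⟩ := (ModuleCat.epi_iff_surjective ((cechMap fs S.g).f 0)).1 inferInstance y
    refine ⟨((DerCA.extCech S.X₂ fs).toCycles 0 1).hom w, ?_⟩
    have e : (DerCA.extCech S.X₂ fs).toCycles 0 1 ≫ cyclesMap (cechMap fs S.g) 1 =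
        (cechMap fs S.g).f 0 ≫ (DerCA.extCech S.X₃ fs).toCycles 0 1 := by
      rw [← cancel_mono ((DerCA.extCech S.X₃ fs).iCycles 1)]; simp
    exact congr(($e).hom w)
  · rintro ⟨w, rfl⟩
    change cechδ hS fs 1 2 rfl _ = 0
    rw [show ((DerCA.extCech S.X₃ fs).homologyπ 1).hom (zmap fs S.g w) =
        cm fs 1 S.g (((DerCA.extCech S.X₂ fs).homologyπ 1).hom w) from
      congr(($(homologyπ_naturality (cechMap fs S.g) 1)).hom w).symm]
    exact (cechδ_exact₃ hS fs 1 2 rfl _).2 ⟨_, rfl⟩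

omit [IsNoetherianRing A] in
theorem tC_natural {M N : ModuleCat.{u} A} (g : M ⟶ N) (z : Z1 fs (embSeq M).X₃) :
    tC fs N (zmap fs (lift g).τ₃ z) = cm fs 2 g (tC fs M z) := by
  refine Eq.trans ?_ (cechδ_natural fs (embSeq_shortExact M) (embSeq_shortExact N) (lift g) 1 2 rfl _).symm
  exact congrArg (cechδ (embSeq_shortExact N) fs 1 2 rfl)
    (congr(($(homologyπ_naturality (cechMap fs (lift g).τ₃) 1)).hom z)).symm

theorem tD_natural {M N : ModuleCat.{u} A} (g : M ⟶ N) (z : Z1 fs (embSeq M).X₃) :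
    tD fs N (zmap fs (lift g).τ₃ z) = dm fs 1 g (tD fs M z) := by
  refine Eq.trans ?_ (dδ_natural fs (embSeq_shortExact M) (embSeq_shortExact N) (lift g) 0 _).symm
  exact congrArg (dδ fs (embSeq_shortExact N) 0) (s0_natural fs _ z)

theorem exists_base : ∃ e : ∀ M : ModuleCat.{u} A, C fs 2 M ≃+ D fs 1 M,
    ∀ {M N : ModuleCat.{u} A} (g : M ⟶ N) (x : C fs 2 M), e N (cm fs 2 g x) = dm fs 1 g (e M x) := by
  let e := fun M : ModuleCat.{u} A =>
    (QuotientAddGroup.quotientKerEquivOfSurjective (tC fs M).toAddMonoidHom (tC_surjective fs M)).symm.trans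
      ((QuotientAddGroup.quotientAddEquivOfEq (show (tC fs M).toAddMonoidHom.ker = (tD fs M).ker by
        ext z; exact tC_eq_zero_iff fs M z)).trans
        (QuotientAddGroup.quotientKerEquivOfSurjective (tD fs M) (tD_surjective fs M)))
  have he : ∀ M z, e M (tC fs M z) = tD fs M z := fun M z => by
    have h1 : (QuotientAddGroup.quotientKerEquivOfSurjective (tC fs M).toAddMonoidHom (tC_surjective fs M)).symm
        (tC fs M z) = (z : Z1 fs (embSeq M).X₃ ⧸ (tC fs M).toAddMonoidHom.ker) := by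
      rw [AddEquiv.symm_apply_eq]; rfl
    simp only [e, AddEquiv.trans_apply, h1]
    rfl
  refine ⟨e, fun {M N} g x => ?_⟩
  obtain ⟨z, rfl⟩ := tC_surjective fs M x
  rw [← tC_natural, he, he, tD_natural]

theorem exists_equiv : ∀ p : ℕ, ∃ e : ∀ M : ModuleCat.{u} A, C fs ((p : ℤ) + 2) M ≃+ D fs (p + 1) M,
    ∀ {M N : ModuleCat.{u} A} (g : M ⟶ N) (x : C fs ((p : ℤ) + 2) M),
      e N (cm fs ((p : ℤ) + 2) g x) = dm fs (p + 1) g (e M x) := by
  intro p
  induction p with
  | zero => exact exists_base fs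
  | succ p ih =>
    obtain ⟨e, he⟩ := ih
    have h : ((p : ℤ) + 2) + 1 = ((p + 1 : ℕ) : ℤ) + 2 := by push_cast; ring
    have hbC : ∀ M, Function.Bijective (cechδ (embSeq_shortExact M) fs ((p : ℤ) + 2) _ h) := fun M => by
      refine ⟨(injective_iff_map_eq_zero _).2 fun y hy => ?_, fun x => ?_⟩
      · obtain ⟨z, rfl⟩ := (cechδ_exact₃ (embSeq_shortExact M) fs _ _ h y).1 hy
        rw [(subsingleton_cech_of_injective (embSeq M).X₂ fs _ (by omega)).elim z 0, map_zero]
      · exact (cechδ_exact₁ (embSeq_shortExact M) fs _ _ h x).1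
          ((subsingleton_cech_of_injective (embSeq M).X₂ fs _ (by omega)).elim _ _)
    have hbD : ∀ M, Function.Bijective (dδ fs (embSeq_shortExact M) (p + 1)) := fun M => by
      refine ⟨(injective_iff_map_eq_zero _).2 fun y hy => ?_, dδ_surjective fs M (p + 1)⟩
      obtain ⟨z, rfl⟩ := (dδ_zero_iff fs (embSeq_shortExact M) (p + 1) y).1 hy
      rw [Subsingleton.elim (h := subsingleton_HH_Φ_injective (JI fs) _ p) z 0, map_zero]
    refine ⟨fun M => (AddEquiv.ofBijective (cechδ (embSeq_shortExact M) fs _ _ h).toAddMonoidHom (hbC M)).symm.trans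
      ((e _).trans (AddEquiv.ofBijective _ (hbD M))), fun {M N} g x => ?_⟩
    obtain ⟨y, rfl⟩ := (hbC M).2 x
    rw [show cm fs _ g (cechδ (embSeq_shortExact M) fs ((p : ℤ) + 2) _ h y) =
        cechδ (embSeq_shortExact N) fs ((p : ℤ) + 2) _ h (cm fs _ (lift g).τ₃ y) from
      cechδ_natural fs (embSeq_shortExact M) (embSeq_shortExact N) (lift g) _ _ h y]
    simp only [AddEquiv.trans_apply]
    rw [show ∀ (P : ModuleCat.{u} A) y, (AddEquiv.ofBijective
        (cechδ (embSeq_shortExact P) fs ((p : ℤ) + 2) _ h).toAddMonoidHom (hbC P)).symm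
          (cechδ (embSeq_shortExact P) fs ((p : ℤ) + 2) _ h y) = y from fun P y =>
      (AddEquiv.ofBijective _ (hbC P)).symm_apply_apply y]
    rw [show ∀ (P : ModuleCat.{u} A) y, (AddEquiv.ofBijective
        (cechδ (embSeq_shortExact P) fs ((p : ℤ) + 2) _ h).toAddMonoidHom (hbC P)).symm
          (cechδ (embSeq_shortExact P) fs ((p : ℤ) + 2) _ h y) = y from fun P y =>
      (AddEquiv.ofBijective _ (hbC P)).symm_apply_apply y, he]
    exact (dδ_natural fs (embSeq_shortExact M) (embSeq_shortExact N) (lift g) (p + 1) _).symm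

end Groth.LocCohTransform.CechHigher
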