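import Groth.Agent.LocCohTransform.DualTransfer
import Mathlib.RingTheory.Spectrum.Prime.Noetherian

/-!
An element outside a given prime annihilating low local cohomology (annihilator theorem with a dualizing complex).
-/

set_option autoImplicit false
set_option linter.style.haveILetI false
set_option linter.unusedSectionVars false

universe u

open CategoryTheory CategoryTheory.Limits
open Groth.DualCore

attribute [local instance] HasDerivedCategory.standard

namespace Groth.LocCohTransform.DualAvoid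

variable {A : Type u} [CommRing A] [IsNoetherianRing A] {ω : Dual.D A} (hω : Dual.IsDualizing A ω)
  (M : Type u) [AddCommGroup M] [Module A M] [Module.Finite A M]

include hω in
/-- Only finitely many degrees carry `Hom(M, ω⟦q⟧)`. -/
theorem exists_degree_bounds : ∃ a b : ℤ, ∀ q : ℤ, q ∉ Set.Icc a b → Subsingleton (Dual.inD A M ⟶ ω⟦q⟧) := by
  obtain ⟨a, b, hab⟩ := hω.finite_injective_dimension
  obtain ⟨r⟩ := exists_injRep ω a b hab
  refine ⟨r.a, r.b, fun q hq => ?_⟩
  have hX : IsZero ((r.DC M).X q) := by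
    rcases not_and_or.1 hq with hq | hq
    · haveI := r.hGE
      haveI : Subsingleton (r.I.X q) :=
        ModuleCat.isZero_iff_subsingleton.1 (CochainComplex.isZero_of_isStrictlyGE r.I r.a q (by omega))
      exact ModuleCat.isZero_of_subsingleton (ModuleCat.of A (M →ₗ[A] r.I.X q))
    · exact DualTransfer.isStrictlyLE_DC M r q (by omega)
  haveI := ModuleCat.subsingleton_of_isZero ((HomologicalComplex.exactAt_iff_isZero_homology _ _).1
    (ShortComplex.exact_of_isZero_X₂ ((r.DC M).sc q) hX))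
  haveI : Subsingleton (Dual.HD A (DerivedCategory.Q.obj (r.DC M)) q) :=
    (RgammaTorsion.hdEquiv (r.DC M) q).toEquiv.subsingleton
  exact (r.HDEquiv M q).symm.toEquiv.subsingleton

variable (p : PrimeSpectrum A) (K : Ideal A) (N : ℕ)

include hω in
/-- Avoidance: only the primes under `p` matter. -/
theorem exists_notMem_pk_of [DRing.HasRgammaI K]
    (h : ∀ (q : ℤ) (P : PrimeSpectrum A), P ≤ p →
      Nontrivial (LocalizedModule P.asIdeal.primeCompl (Dual.inD A M ⟶ ω⟦q⟧)) →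
        ∀ Q : PrimeSpectrum A, P ≤ Q → K ≤ Q.asIdeal → (N : ℤ) + q < degree hω Q) :
    ∃ f : A, f ∉ p.asIdeal ∧ ∀ i : ℤ, i ≤ N →
      DualVanishing.PK f (Dual.HD A ((DRing.RgammaI K).obj (Dual.inD A M)) i) := by
  obtain ⟨a, b, hab⟩ := exists_degree_bounds hω M
  let S : Set (Ideal A) := {P | P.IsPrime ∧ ¬ P ≤ p.asIdeal ∧
    ∃ q ∈ Set.Icc a b, P ∈ (Module.annihilator A (Dual.inD A M ⟶ ω⟦q⟧)).minimalPrimes}
  have hS : S.Finite := ((Set.finite_Icc a b).biUnion fun q _ =>
    Ideal.finite_minimalPrimes_of_isNoetherianRing A (Module.annihilator A (Dual.inD A M ⟶ ω⟦q⟧))).subset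
      fun P hP => by
        obtain ⟨-, -, q, hq, hPq⟩ := hP
        exact Set.mem_biUnion hq hPq
  have hnot : ¬ (hS.toFinset.inf id) ≤ p.asIdeal := fun hle => by
    obtain ⟨P, hP, hPp⟩ := (Ideal.IsPrime.inf_le' p.2).1 hle
    exact (hS.mem_toFinset.1 hP).2.1 hPp
  obtain ⟨f, hf, hfp⟩ := SetLike.not_le_iff_exists.1 hnot
  refine ⟨f, hfp, fun i hi => DualTransfer.pk_HD_rgamma hω M K f i fun q P hfP hnt Q hPQ hKQ => ?_⟩
  haveI := DualVanishing.finite_hom hω M q
  have hq : q ∈ Set.Icc a b := by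
    by_contra hq
    haveI := hab q hq
    haveI : Subsingleton (LocalizedModule P.asIdeal.primeCompl (Dual.inD A M ⟶ ω⟦q⟧)) := by
      rw [LocalizedModule.subsingleton_iff]
      exact fun x => ⟨1, P.asIdeal.primeCompl.one_mem, Subsingleton.elim _ _⟩
    exact not_subsingleton _ ‹_›
  obtain ⟨P₀, hP₀, hP₀P⟩ := Ideal.exists_minimalPrimes_le
    (Module.mem_support_iff_of_finite.1 ((Module.mem_support_iff).2 hnt))
  haveI hP₀p : P₀.IsPrime := hP₀.1.1
  have hle : P₀ ≤ p.asIdeal := by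
    by_contra hle
    exact hfP (hP₀P (Finset.inf_le (f := id) (hS.mem_toFinset.2 ⟨hP₀p, hle, q, hq, hP₀⟩) hf))
  have hnt₀ : Nontrivial (LocalizedModule P₀.primeCompl (Dual.inD A M ⟶ ω⟦q⟧)) :=
    (Module.mem_support_iff (p := ⟨P₀, hP₀p⟩)).1 (Module.mem_support_iff_of_finite.2 hP₀.1.2)
  have hPQ₀ : (⟨P₀, hP₀p⟩ : PrimeSpectrum A) ≤ Q := le_trans (show P₀ ≤ P.asIdeal from hP₀P) hPQ
  have := h q ⟨P₀, hP₀p⟩ hle hnt₀ Q hPQ₀ hKQ
  omega

include hω in
/-- An element outside `p` killing the cohomology of `RΓ_K M` up to degree `N`. -/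
theorem exists_notMem_pk [DRing.HasRgammaI K]
    (h : ∀ P : PrimeSpectrum A, P ≤ p → ∀ Q : PrimeSpectrum A, P ≤ Q → K ≤ Q.asIdeal →
      ((N : ℕ∞) : WithBot ℕ∞) < ((LocCoh.depth (Localization.AtPrime P.asIdeal)
        (LocalizedModule P.asIdeal.primeCompl M) : ℕ∞) : WithBot ℕ∞) + Formal2.dimBetween A P.asIdeal Q.asIdeal) :
    ∃ f : A, f ∉ p.asIdeal ∧ ∀ i : ℤ, i ≤ N →
      DualVanishing.PK f (Dual.HD A ((DRing.RgammaI K).obj (Dual.inD A M)) i) := by
  refine exists_notMem_pk_of hω M p K N fun q P hP hnt Q hPQ hKQ => ?_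
  obtain ⟨δ, hδ, hdepth⟩ := DualVanishing.exists_depth_le hω M P q hnt
  obtain ⟨n, hn⟩ := DualDegree.exists_degree_eq hω hPQ
  have h1 := h P hP Q hPQ hKQ
  rw [DualDegree.dimBetween hω hPQ hn] at h1
  have h2 := lt_of_lt_of_le h1 (add_le_add (WithBot.coe_le_coe.2 hdepth) le_rfl)
  have h3 : N < δ + n := by exact_mod_cast h2
  omega

include hω in
/-- With a closed point: only `p` and the maximal ideal matter. -/
theorem exists_notMem_pk_maximal [IsLocalRing A] [DRing.HasRgammaI K] (hK : IsLocalRing.maximalIdeal A ≤ K)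
    (h : ((N : ℕ∞) : WithBot ℕ∞) < ((LocCoh.depth (Localization.AtPrime p.asIdeal)
      (LocalizedModule p.asIdeal.primeCompl M) : ℕ∞) : WithBot ℕ∞) + ringKrullDim (A ⧸ p.asIdeal)) :
    ∃ f : A, f ∉ p.asIdeal ∧ ∀ i : ℤ, i ≤ N →
      DualVanishing.PK f (Dual.HD A ((DRing.RgammaI K).obj (Dual.inD A M)) i) := by
  refine exists_notMem_pk_of hω M p K N fun q P hP hnt Q hPQ hKQ => ?_
  have hQ : Q.asIdeal = IsLocalRing.maximalIdeal A :=
    ((IsLocalRing.maximalIdeal.isMaximal A).eq_of_le Q.2.ne_top (hK.trans hKQ)).symm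
  haveI := DualVanishing.finite_hom hω M q
  have hnt' : Nontrivial (LocalizedModule p.asIdeal.primeCompl (Dual.inD A M ⟶ ω⟦q⟧)) :=
    Module.mem_support_iff.1 (Module.mem_support_mono hP (Module.mem_support_iff.2 hnt))
  obtain ⟨δ, hδ, hdepth⟩ := DualVanishing.exists_depth_le hω M p q hnt'
  have hpQ : p ≤ Q := by
    show p.asIdeal ≤ Q.asIdeal
    rw [hQ]
    exact IsLocalRing.le_maximalIdeal p.2.ne_top
  obtain ⟨n, hn⟩ := DualDegree.exists_degree_eq hω hpQ
  have hIcc : ringKrullDim (A ⧸ p.asIdeal) = ((n : ℕ∞) : WithBot ℕ∞) := by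
    rw [← DualDegree.krullDim_Icc hω hpQ hn, ringKrullDim_quotient]
    have : (PrimeSpectrum.zeroLocus (p.asIdeal : Set A)) = Set.Icc p Q := by
      ext x
      rw [PrimeSpectrum.mem_zeroLocus, SetLike.coe_subset_coe, Set.mem_Icc]
      exact ⟨fun hx => ⟨hx, by show x.asIdeal ≤ Q.asIdeal; rw [hQ]; exact IsLocalRing.le_maximalIdeal x.2.ne_top⟩,
        fun hx => hx.1⟩
    rw [this]
  rw [hIcc] at h
  have h2 := lt_of_lt_of_le h (add_le_add (WithBot.coe_le_coe.2 hdepth) le_rfl)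
  have h3 : N < δ + n := by exact_mod_cast h2
  omega

end Groth.LocCohTransform.DualAvoid
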