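import Groth.Agent.LocCohTransform.CompletionKilled
import Groth.Agent.LocCohTransform.DualAvoid

/-!
Annihilation of low cohomology of the completion of `RΓ_J M`.
-/

set_option autoImplicit false
set_option linter.style.haveILetI false
set_option linter.unusedSectionVars false

universe u

open CategoryTheory CategoryTheory.Limits

attribute [local instance] HasDerivedCategory.standard

namespace Groth.LocCohTransform.CompletionAnnihilation

open CompletionFunctor CompletionAmplitude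

variable {A : Type u} [CommRing A] [IsNoetherianRing A] (I J : Ideal A) [DRing.HasRgammaI J]
  [DRing.HasDerivedCompletion I] (M : Type u) [AddCommGroup M] [Module A M]

/-- `(RΓ_J M)^ = (RΓ_{J + I} M)^`. -/
theorem nonempty_iso [DRing.HasRgammaI (J ⊔ I)] (K : Dual.D A) :
    Nonempty ((comp I).obj ((DRing.RgammaI J).obj K) ≅ (comp I).obj ((DRing.RgammaI (J ⊔ I)).obj K)) := by
  haveI := DualVanishing.hasRgammaI I
  haveI := GreenleesMay.isIso_map_ε I ((DRing.RgammaI J).obj K)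
  obtain ⟨e⟩ := RgammaTorsion.nonempty_comp_iso J I K
  exact ⟨(asIso ((comp I).map ((DRing.RgammaIε I).app ((DRing.RgammaI J).obj K)))).symm ≪≫ (comp I).mapIso e⟩

/-- Powers killing `RΓ_{J + I} M` up to `d + s` give powers killing the completion of `RΓ_J M` up to `s`. -/
theorem exists_notMem_of_pk [DRing.HasRgammaI (J ⊔ I)] (p : PrimeSpectrum A) (s d : ℕ) (hd : LocCoh.CdLE A I d)
    (h : ∃ f : A, f ∉ p.asIdeal ∧ ∀ i : ℤ, i ≤ (d + s : ℕ) →
      DualVanishing.PK f (Dual.HD A ((DRing.RgammaI (J ⊔ I)).obj (Dual.inD A M)) i)) :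
    ∃ f : A, f ∉ p.asIdeal ∧ ∀ i : ℤ, i ≤ s →
      ∀ x : Dual.HD A ((DRing.derivedCompletion I).obj ((DRing.RgammaI J).obj (Dual.inD A M))).obj i, f • x = 0 := by
  obtain ⟨f, hf, hk⟩ := h
  haveI := BridgeH.isGE_rgamma_inD (J ⊔ I) M
  obtain ⟨k, hk'⟩ := CompletionKilled.exists_pow_killing I d hd f ((DRing.RgammaI (J ⊔ I)).obj (Dual.inD A M))
    (d + s) fun q hq => hk q (by exact_mod_cast hq)
  obtain ⟨e⟩ := nonempty_iso I J (Dual.inD A M)
  refine ⟨f ^ k, fun hfk => hf (p.2.mem_of_pow_mem k hfk), fun i hi x => (hmap_iso e.hom i).1 ?_⟩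
  exact (map_smul _ _ _).trans ((hk' i (by push_cast; omega) _).trans (map_zero _).symm)

/-- An element outside `p` killing the completion of `RΓ_J M` up to degree `s`. -/
theorem exists_notMem [Module.Finite A M] {ω : Dual.D A} (hω : Dual.IsDualizing A ω) (p : PrimeSpectrum A)
    (s d : ℕ) (hd : LocCoh.CdLE A I d)
    (h : ∀ P : PrimeSpectrum A, P ≤ p → ∀ Q : PrimeSpectrum A, P ≤ Q → J ⊔ I ≤ Q.asIdeal →
      (((d + s : ℕ) : ℕ∞) : WithBot ℕ∞) < ((LocCoh.depth (Localization.AtPrime P.asIdeal)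
        (LocalizedModule P.asIdeal.primeCompl M) : ℕ∞) : WithBot ℕ∞) + Formal2.dimBetween A P.asIdeal Q.asIdeal) :
    ∃ f : A, f ∉ p.asIdeal ∧ ∀ i : ℤ, i ≤ s →
      ∀ x : Dual.HD A ((DRing.derivedCompletion I).obj ((DRing.RgammaI J).obj (Dual.inD A M))).obj i, f • x = 0 := by
  haveI := DualVanishing.hasRgammaI (J ⊔ I)
  exact exists_notMem_of_pk I J M p s d hd (DualAvoid.exists_notMem_pk hω M p (J ⊔ I) (d + s) h)

/-- The case of the closed point. -/
theorem exists_notMem_maximal [IsLocalRing A] [DRing.HasRgammaI (IsLocalRing.maximalIdeal A)] [Module.Finite A M]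
    {ω : Dual.D A} (hω : Dual.IsDualizing A ω) (p : PrimeSpectrum A) (s d : ℕ) (hd : LocCoh.CdLE A I d)
    (h : (((d + s : ℕ) : ℕ∞) : WithBot ℕ∞) < ((LocCoh.depth (Localization.AtPrime p.asIdeal)
      (LocalizedModule p.asIdeal.primeCompl M) : ℕ∞) : WithBot ℕ∞) + ringKrullDim (A ⧸ p.asIdeal)) :
    ∃ f : A, f ∉ p.asIdeal ∧ ∀ i : ℤ, i ≤ s →
      ∀ x : Dual.HD A ((DRing.derivedCompletion I).obj
        ((DRing.RgammaI (IsLocalRing.maximalIdeal A)).obj (Dual.inD A M))).obj i, f • x = 0 := by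
  haveI := DualVanishing.hasRgammaI (IsLocalRing.maximalIdeal A ⊔ I)
  exact exists_notMem_of_pk I (IsLocalRing.maximalIdeal A) M p s d hd
    (DualAvoid.exists_notMem_pk_maximal hω M p (IsLocalRing.maximalIdeal A ⊔ I) (d + s) le_sup_left h)

end Groth.LocCohTransform.CompletionAnnihilation
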