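import Mathlib
import Groth.Agent.Calg1.CompletionExact

/-!
The adic completion of a flat module over a Noetherian ring is flat.
-/

set_option autoImplicit false
universe u

namespace Groth.LocCohTransform.CompletionFlat

open Groth.Calg1
open scoped BigOperators

variable {A : Type u} [CommRing A] {N : Type u} [AddCommGroup N] [Module A N]

/-- Linear relations in a flat module come from relations in the ring. -/
theorem exists_factor [Module.Flat A N] {κ ι : Type u} [Fintype κ] [Fintype ι]
    (B : κ → ι → A) (u : ι → N) (h : ∀ i, ∑ j, B i j • u j = 0) :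
    ∃ (k : ℕ) (T : ι → Fin k → A) (z : Fin k → N),
      (∀ j, u j = ∑ t, T j t • z t) ∧ ∀ i t, ∑ j, B i j * T j t = 0 := by
  classical
  have hxf : Fintype.linearCombination A u ∘ₗ Fintype.linearCombination A B = 0 :=
    LinearMap.pi_ext' fun i => LinearMap.ext_ring (by
      simpa [Fintype.linearCombination_apply_single, Fintype.linearCombination_apply] using h i)
  obtain ⟨k, a, y, hxy, haf⟩ := Module.Flat.exists_factorization_of_comp_eq_zero_of_free hxf
  refine ⟨k, fun j t => a (Pi.single j 1) t, fun t => y (Finsupp.single t 1), fun j => ?_, fun i t => ?_⟩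
  · have h1 := LinearMap.congr_fun hxy (Pi.single j 1)
    rw [Fintype.linearCombination_apply_single, one_smul, LinearMap.comp_apply] at h1
    rw [h1]
    conv_lhs => rw [← Finsupp.univ_sum_single (a (Pi.single j 1)), map_sum]
    refine Finset.sum_congr rfl fun t _ => ?_
    rw [← map_smul, Finsupp.smul_single, smul_eq_mul, mul_one]
  · have h2 := LinearMap.congr_fun haf (Pi.single i 1)
    rw [LinearMap.comp_apply, Fintype.linearCombination_apply_single, one_smul, LinearMap.zero_apply,
      pi_eq_sum_univ' (B i), map_sum] at h2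
    have h3 := DFunLike.congr_fun h2 t
    simpa [Finsupp.finsetSum_apply, map_smul] using h3

theorem exists_rep {J : Ideal A} (s : Finset A) (hs : Ideal.span (s : Set A) = J) {y : N}
    (hy : y ∈ (J • ⊤ : Submodule A N)) : ∃ w : s → N, y = ∑ a : s, (a : A) • w a := by
  classical
  have hle : (J • ⊤ : Submodule A N) ≤
      LinearMap.range (∑ a : s, ((a : A) • (LinearMap.proj a : (s → N) →ₗ[A] N))) := by
    rw [← hs]
    refine Submodule.smul_le.2 fun r hr x _ => ?_
    refine Submodule.span_induction (p := fun r _ => r • x ∈ LinearMap.range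
      (∑ a : s, ((a : A) • (LinearMap.proj a : (s → N) →ₗ[A] N)))) ?_ ?_ ?_ ?_ hr
    · intro a ha
      refine ⟨Pi.single ⟨a, ha⟩ x, ?_⟩
      simp only [LinearMap.sum_apply, LinearMap.smul_apply, LinearMap.proj_apply]
      rw [Finset.sum_eq_single (⟨a, ha⟩ : s) (fun b _ hb => by simp [Pi.single_eq_of_ne hb]) (by simp)]
      simp
    · rw [zero_smul]; exact zero_mem _
    · intro p q _ _ hp hq; rw [add_smul]; exact add_mem hp hq
    · intro p q _ hq; rw [smul_eq_mul, mul_smul]; exact Submodule.smul_mem _ _ hq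
  obtain ⟨w, hw⟩ := hle hy
  exact ⟨w, by simpa using hw.symm⟩

/-- Artin–Rees for matrices acting on a flat module. -/
theorem exists_artinRees_flat [IsNoetherianRing A] [Module.Flat A N] (I : Ideal A) {l m : ℕ}
    (B : Fin l → Fin m → A) :
    ∃ c, ∀ n, ∀ u : Fin m → N, (∀ i, applyMat B u i ∈ (I ^ (n + c) • ⊤ : Submodule A N)) →
      ∃ u' : Fin m → N, (∀ j, u' j ∈ (I ^ n • ⊤ : Submodule A N)) ∧ applyMat B u' = applyMat B u := by
  classical
  obtain ⟨c, hc⟩ := exists_artinRees I B
  refine ⟨c, fun n u hu => ?_⟩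
  obtain ⟨s, hs⟩ := (IsNoetherian.noetherian (I ^ (n + c)) : (I ^ (n + c)).FG)
  choose w hw using fun i => exists_rep s hs (hu i)
  let B' : ULift.{u} (Fin l) → (ULift.{u} (Fin m) ⊕ (Fin l × s)) → A := fun i =>
    Sum.elim (fun j => B i.down j.down) (fun p => if p.1 = i.down then -(p.2 : A) else 0)
  let u₁ : (ULift.{u} (Fin m) ⊕ (Fin l × s)) → N := Sum.elim (fun j => u j.down) (fun p => w p.1 p.2)
  have hrel : ∀ i, ∑ j, B' i j • u₁ j = 0 := by
    intro i
    rw [Fintype.sum_sum_type, Fintype.sum_prod_type_right]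
    simp only [B', u₁, Sum.elim_inl, Sum.elim_inr, ite_smul, zero_smul,
      Finset.sum_ite_eq', Finset.mem_univ, if_true, neg_smul, Finset.sum_neg_distrib]
    rw [← sub_eq_add_neg, sub_eq_zero, ← hw i.down]
    exact Fintype.sum_equiv Equiv.ulift _ _ fun j => rfl
  obtain ⟨k, T, z, hT, hT'⟩ := exists_factor B' u₁ hrel
  have hmem : ∀ (t : Fin k) (i : Fin l), applyMat B (fun j => T (Sum.inl ⟨j⟩) t) i ∈ I ^ (n + c) := by
    intro t i
    have h := hT' ⟨i⟩ t
    rw [Fintype.sum_sum_type, Fintype.sum_prod_type_right] at h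
    simp only [B', Sum.elim_inl, Sum.elim_inr, ite_mul, zero_mul,
      Finset.sum_ite_eq', Finset.mem_univ, if_true, neg_mul, Finset.sum_neg_distrib] at h
    rw [← sub_eq_add_neg, sub_eq_zero] at h
    have he : applyMat B (fun j => T (Sum.inl ⟨j⟩) t) i = ∑ j : ULift.{u} (Fin m), B i j.down * T (Sum.inl j) t :=
      (Fintype.sum_equiv Equiv.ulift _ _ fun j => rfl).symm
    rw [he, h, ← hs]
    exact Ideal.sum_mem _ fun a _ => Ideal.mul_mem_right _ _ (Ideal.subset_span a.2)
  choose U hU hU' using fun t => hc n (fun j => T (Sum.inl ⟨j⟩) t) (hmem t)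
  refine ⟨fun j => ∑ t, U t j • z t, fun j => Submodule.sum_mem _ fun t _ =>
    Submodule.smul_mem_smul (hU t j) trivial, funext fun i => ?_⟩
  have hu' : ∀ j, u j = ∑ t, T (Sum.inl ⟨j⟩) t • z t := fun j => hT (Sum.inl ⟨j⟩)
  simp only [applyMat, hu', Finset.smul_sum, smul_smul]
  rw [Finset.sum_comm]
  conv_rhs => rw [Finset.sum_comm]
  refine Finset.sum_congr rfl fun t _ => ?_
  rw [← Finset.sum_smul, ← Finset.sum_smul]
  exact congrArg (· • z t) (by simpa [applyMat] using congrFun (hU' t) i)

theorem eval_applyMat (I : Ideal A) {l m : ℕ} (B : Fin l → Fin m → A) (y : Fin m → AdicCompletion I N)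
    (w : Fin m → N) (n : ℕ) (h : ∀ j, (y j).val n = Submodule.Quotient.mk (w j)) (i : Fin l) :
    (applyMat B y i).val n = Submodule.Quotient.mk (applyMat B w i) := by
  show AdicCompletion.eval I _ n (∑ j, B i j • y j) =
    Submodule.mkQ (I ^ n • ⊤ : Submodule A N) (∑ j, B i j • w j)
  rw [map_sum, map_sum]
  refine Finset.sum_congr rfl fun j _ => ?_
  rw [map_smul, map_smul]
  exact congrArg _ (h j)

theorem applyMat_sub {l m : ℕ} (B : Fin l → Fin m → A) (u v : Fin m → N) (i : Fin l) :
    applyMat B (fun j => u j - v j) i = applyMat B u i - applyMat B v i := by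
  simp [applyMat, smul_sub, Finset.sum_sub_distrib]

/-- A vector in the completion of a flat module which is levelwise in the image of a matrix is in the image. -/
theorem exists_applyMat_eq_flat [IsNoetherianRing A] [Module.Flat A N] (I : Ideal A) {l m : ℕ}
    (B : Fin l → Fin m → A) (x : Fin l → AdicCompletion I N)
    (hw : ∀ n, ∃ w : Fin m → N, ∀ i, (x i).val n = Submodule.Quotient.mk (applyMat B w i)) :
    ∃ y : Fin m → AdicCompletion I N, applyMat B y = x := by
  classical
  obtain ⟨d, hd⟩ := exists_artinRees_flat (N := N) I B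
  choose w hw using hw
  have step : ∀ n (p : Fin m → N), (∀ i, (x i).val (n + d) = Submodule.Quotient.mk (applyMat B p i)) →
      ∃ p' : Fin m → N, (∀ j, p' j - p j ∈ (I ^ n • ⊤ : Submodule A N)) ∧
        ∀ i, (x i).val (n + 1 + d) = Submodule.Quotient.mk (applyMat B p' i) := by
    intro n p hp
    have hd' : ∀ i, applyMat B (fun j => w (n + 1 + d) j - p j) i ∈ (I ^ (n + d) • ⊤ : Submodule A N) := by
      intro i
      have h1 : (x i).val (n + d) = Submodule.Quotient.mk (applyMat B (w (n + 1 + d)) i) := by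
        rw [← (x i).property (show n + d ≤ n + 1 + d by omega), hw]; rfl
      rw [applyMat_sub, ← Submodule.Quotient.eq, ← h1, ← hp]
    obtain ⟨e, he, hee⟩ := hd n _ hd'
    refine ⟨fun j => p j + e j, fun j => by simpa using he j, fun i => ?_⟩
    rw [hw (n + 1 + d) i]
    congr 1
    have := congrFun hee i
    rw [applyMat_sub] at this
    simp only [applyMat, smul_add, Finset.sum_add_distrib] at this ⊢
    rw [this, add_sub_cancel]
  choose nx hnx1 hnx2 using step
  let P : (n : ℕ) → {p : Fin m → N //
      ∀ i, (x i).val (n + d) = Submodule.Quotient.mk (applyMat B p i)} := fun n =>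
    Nat.rec ⟨w (0 + d), hw (0 + d)⟩ (fun n p => ⟨nx n p.1 p.2, hnx2 n p.1 p.2⟩) n
  let y : Fin m → AdicCompletion I N := fun j =>
    AdicCompletion.mk I _ (AdicCompletion.AdicCauchySequence.mk I _ (fun n => (P n).1 j) fun n => by
      rw [SModEq.sub_mem, ← neg_mem_iff, neg_sub]
      exact hnx1 n (P n).1 (P n).2 j)
  refine ⟨y, funext fun i => AdicCompletion.ext fun n => ?_⟩
  rw [eval_applyMat I B y (P n).1 n (fun j => rfl) i, ← (x i).property (show n ≤ n + d by omega), (P n).2 i]
  rfl

/-- The completion of a flat module over a Noetherian ring is flat. -/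
theorem flat_completion [IsNoetherianRing A] [Module.Flat A N] (I : Ideal A) :
    Module.Flat A (AdicCompletion I N) := by
  classical
  refine Module.Flat.of_forall_isTrivialRelation fun {l f x} hfx => ?_
  let φ : (Fin l → A) →ₗ[A] A := Fintype.linearCombination A f
  obtain ⟨m, g, hg⟩ := Submodule.fg_iff_exists_fin_generating_family.mp
    (IsNoetherian.noetherian (LinearMap.ker φ))
  let B : Fin l → Fin m → A := fun i j => g j i
  let f' : Fin 1 → Fin l → A := fun _ i => f i
  obtain ⟨c, hc⟩ := exists_artinRees_flat (N := N) I f'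
  -- levelwise preimages
  have hw : ∀ n, ∃ w : Fin m → N, ∀ i, (x i).val n = Submodule.Quotient.mk (applyMat B w i) := by
    intro n
    choose v hv using fun i => Submodule.Quotient.mk_surjective _ ((x i).val (n + c))
    have h0 : applyMat f' v 0 ∈ (I ^ (n + c) • ⊤ : Submodule A N) := by
      have h1 := eval_applyMat I f' x v (n + c) (fun i => (hv i).symm) 0
      rw [show applyMat f' x 0 = 0 from hfx] at h1
      exact (Submodule.Quotient.mk_eq_zero _).mp h1.symm
    obtain ⟨v', hv', he⟩ := hc n v fun i => by rw [Subsingleton.elim i 0]; exact h0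
    obtain ⟨k, T, z, hT, hT'⟩ := exists_factor (κ := PUnit.{u+1}) (ι := ULift.{u} (Fin l))
      (fun _ i => f i.down) (fun i => v i.down - v' i.down) fun _ => by
        have h2 := applyMat_sub f' v v' 0
        rw [congrFun he 0, sub_self] at h2
        exact (Fintype.sum_equiv Equiv.ulift _ _ fun j => rfl).trans h2
    have hker : ∀ t, (fun i : Fin l => T ⟨i⟩ t) ∈ LinearMap.range (Fintype.linearCombination A g) := by
      intro t
      rw [Fintype.range_linearCombination, hg, LinearMap.mem_ker]
      refine (Fintype.linearCombination_apply A f _).trans ?_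
      refine Eq.trans ?_ (hT' PUnit.unit t)
      exact (Fintype.sum_equiv Equiv.ulift (fun j : ULift.{u} (Fin l) => f j.down * T j t) _
        fun j => mul_comm (f j.down) (T j t)).symm
    choose e he' using fun t => LinearMap.mem_range.mp (hker t)
    refine ⟨fun j => ∑ t, e t j • z t, fun i => ?_⟩
    rw [← (x i).property (Nat.le_add_right n c), ← hv i]
    refine (Submodule.Quotient.eq _).2 ?_
    have h3 : applyMat B (fun j => ∑ t, e t j • z t) i = v i - v' i := by
      rw [hT ⟨i⟩]
      simp only [applyMat, B, Finset.smul_sum, smul_smul]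
      rw [Finset.sum_comm]
      refine Finset.sum_congr rfl fun t _ => ?_
      rw [← Finset.sum_smul]
      refine congrArg (· • z t) ?_
      have h4 := congrFun (he' t) i
      simpa [Fintype.linearCombination_apply, mul_comm] using h4
    rw [h3]
    simpa using hv' i
  obtain ⟨y, hy⟩ := exists_applyMat_eq_flat I B x hw
  refine ⟨m, B, y, fun i => (congrFun hy i).symm, fun j => ?_⟩
  have : φ (g j) = 0 := LinearMap.mem_ker.mp (hg ▸ Submodule.subset_span ⟨j, rfl⟩)
  simpa [φ, Fintype.linearCombination_apply, B, mul_comm] using this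

section Tensor

open TensorProduct

variable [IsNoetherianRing A] [Module.Flat A N] (I : Ideal A)
  (M : Type u) [AddCommGroup M] [Module A M] [Module.Finite A M]

/-- Completion commutes with tensoring a flat module by a finite module. -/
theorem exists_tensorEquiv : ∃ e : AdicCompletion I N ⊗[A] M ≃ₗ[A] AdicCompletion I (N ⊗[A] M),
    ∀ z : N ⊗[A] M, e ((AdicCompletion.of I N).rTensor M z) = AdicCompletion.of I (N ⊗[A] M) z := by
  classical
  obtain ⟨l, q, hq⟩ := Module.Finite.exists_fin' A M
  obtain ⟨m, g, hg⟩ := Submodule.fg_iff_exists_fin_generating_family.mp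
    (IsNoetherian.noetherian (LinearMap.ker q))
  let B : Fin l → Fin m → A := fun i j => g j i
  let ε : Fin l → M := fun i => q (Pi.single i 1)
  let mk1 : M → (N →ₗ[A] N ⊗[A] M) := fun m => (TensorProduct.mk A N M).flip m
  let lev : ∀ n, (N ⊗[A] M) →ₗ[A] (N ⊗[A] M) ⧸ (I ^ n • ⊤ : Submodule A (N ⊗[A] M)) := fun n =>
    (I ^ n • ⊤ : Submodule A (N ⊗[A] M)).mkQ
  have hmap : ∀ (m : M) (x : AdicCompletion I N) (v : N) (n : ℕ), x.val n = Submodule.Quotient.mk v →
      (AdicCompletion.map I (mk1 m) x).val n = lev n (v ⊗ₜ[A] m) := fun m x v n h => by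
    rw [AdicCompletion.map_val_apply, h]
    rfl
  let ψ : AdicCompletion I N ⊗[A] M →ₗ[A] AdicCompletion I (N ⊗[A] M) :=
    TensorProduct.lift <| LinearMap.mk₂ A (fun x m => AdicCompletion.map I (mk1 m) x)
      (fun x y m => map_add _ x y)
      (fun c x m => LinearMap.map_smul_of_tower _ c x)
      (fun x m m' => AdicCompletion.ext fun n => by
        obtain ⟨v, hv⟩ := Submodule.Quotient.mk_surjective _ (x.val n)
        show _ = (AdicCompletion.map I (mk1 m) x).val n + (AdicCompletion.map I (mk1 m') x).val n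
        rw [hmap _ _ v n hv.symm, hmap _ _ v n hv.symm, hmap _ _ v n hv.symm, TensorProduct.tmul_add, map_add])
      (fun c x m => AdicCompletion.ext fun n => by
        obtain ⟨v, hv⟩ := Submodule.Quotient.mk_surjective _ (x.val n)
        show _ = c • (AdicCompletion.map I (mk1 m) x).val n
        rw [hmap _ _ v n hv.symm, hmap _ _ v n hv.symm, TensorProduct.tmul_smul, map_smul])
  have hψ : ∀ x m, ψ (x ⊗ₜ[A] m) = AdicCompletion.map I (mk1 m) x := fun _ _ => rfl
  have hψ' : ∀ (x : Fin l → AdicCompletion I N) (v : Fin l → N) (n : ℕ),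
      (∀ i, (x i).val n = Submodule.Quotient.mk (v i)) →
      (ψ (∑ i, x i ⊗ₜ[A] ε i)).val n = lev n (∑ i, v i ⊗ₜ[A] ε i) := by
    intro x v n h
    show AdicCompletion.eval I _ n (ψ (∑ i, x i ⊗ₜ[A] ε i)) = _
    rw [map_sum, map_sum, map_sum]
    exact Finset.sum_congr rfl fun i _ => by rw [hψ]; exact hmap _ _ _ n (h i)
  have hgen : ∀ (P : Type u) [AddCommGroup P] [Module A P] (z : P ⊗[A] M),
      ∃ x : Fin l → P, z = ∑ i, x i ⊗ₜ[A] ε i := by
    intro P _ _ z
    induction z using TensorProduct.induction_on with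
    | zero => exact ⟨0, by simp⟩
    | add a b ha hb =>
      obtain ⟨x, rfl⟩ := ha
      obtain ⟨y, rfl⟩ := hb
      exact ⟨x + y, by simp [TensorProduct.add_tmul, Finset.sum_add_distrib]⟩
    | tmul p m =>
      obtain ⟨c, rfl⟩ := hq m
      refine ⟨fun i => c i • p, ?_⟩
      conv_lhs => rw [pi_eq_sum_univ' c, map_sum, TensorProduct.tmul_sum]
      exact Finset.sum_congr rfl fun i _ => by rw [map_smul, TensorProduct.smul_tmul]
  have hB : ∀ j, ∑ i, B i j • ε i = 0 := fun j => by
    have : q (g j) = 0 := LinearMap.mem_ker.mp (hg ▸ Submodule.subset_span ⟨j, rfl⟩)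
    conv_rhs => rw [← this, pi_eq_sum_univ' (g j), map_sum]
    exact Finset.sum_congr rfl fun i _ => (map_smul _ _ _).symm
  have hzero : ∀ (P : Type u) [AddCommGroup P] [Module A P] (y : Fin m → P),
      ∑ i, applyMat B y i ⊗ₜ[A] ε i = 0 := by
    intro P _ _ y
    simp only [applyMat, TensorProduct.sum_tmul, TensorProduct.smul_tmul]
    rw [Finset.sum_comm]
    exact Finset.sum_eq_zero fun j _ => by rw [← TensorProduct.tmul_sum, hB, TensorProduct.tmul_zero]
  -- exactness of the presentation after tensoring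
  have hexact : ∀ v : Fin l → N, ∑ i, v i ⊗ₜ[A] ε i = 0 → ∃ w : Fin m → N, applyMat B w = v := by
    intro v hv
    let G : (Fin m → A) →ₗ[A] (Fin l → A) := Fintype.linearCombination A g
    have hGq : Function.Exact G q := LinearMap.exact_iff.2 (by rw [← hg, Fintype.range_linearCombination])
    let eF : ∀ r, N ⊗[A] (Fin r → A) ≃ₗ[A] (Fin r → N) := fun r => TensorProduct.piScalarRight A A N (Fin r)
    have hsum : (∑ i, v i ⊗ₜ[A] (Pi.single i 1 : Fin l → A)) = (eF l).symm v := by
      rw [LinearEquiv.eq_symm_apply, map_sum]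
      conv_rhs => rw [← Finset.univ_sum_single v]
      refine Finset.sum_congr rfl fun i _ => funext fun k => ?_
      by_cases h : k = i
      · subst h; simp [eF]
      · simp [eF, Pi.single_eq_of_ne h]
    have h0 : q.lTensor N ((eF l).symm v) = 0 := by
      rw [← hsum, map_sum]; exact hv
    obtain ⟨u, hu⟩ := (lTensor_exact N hGq hq _).1 h0
    refine ⟨eF m u, ?_⟩
    have hnat : ∀ u, eF l (G.lTensor N u) = applyMat B (eF m u) := by
      intro u
      induction u using TensorProduct.induction_on with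
      | zero => funext i; simp [applyMat]
      | add a b ha hb => funext i; simp [ha, hb, applyMat, Finset.sum_add_distrib, smul_add]
      | tmul p c =>
        funext i
        simp [eF, applyMat, G, B, Fintype.linearCombination_apply, Finset.sum_smul, smul_smul, mul_comm]
    rw [← hnat, hu, LinearEquiv.apply_symm_apply]
  have hsurj : Function.Surjective ψ := by
    intro w
    let π : (Fin l → N) →ₗ[A] N ⊗[A] M := ∑ i, (mk1 (ε i)) ∘ₗ LinearMap.proj i
    have hπ : ∀ v, π v = ∑ i, v i ⊗ₜ[A] ε i := fun v => by simp [π, mk1]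
    have hπs : Function.Surjective π := fun z => by
      obtain ⟨x, hx⟩ := hgen N z
      exact ⟨x, (hπ x).trans hx.symm⟩
    obtain ⟨y, rfl⟩ := AdicCompletion.map_surjective I hπs w
    refine ⟨∑ i, AdicCompletion.map I (LinearMap.proj i : (Fin l → N) →ₗ[A] N) y ⊗ₜ[A] ε i,
      AdicCompletion.ext fun n => ?_⟩
    obtain ⟨v, hv⟩ := Submodule.Quotient.mk_surjective _ (y.val n)
    rw [hψ' _ v n fun i => by rw [AdicCompletion.map_val_apply, ← hv]; rfl, AdicCompletion.map_val_apply, ← hv,
      ← hπ]
    rfl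
  have hinj : Function.Injective ψ := by
    refine (injective_iff_map_eq_zero _).2 fun z hz => ?_
    obtain ⟨x, rfl⟩ := hgen _ z
    obtain ⟨y, hy⟩ := exists_applyMat_eq_flat I B x fun n => by
      choose v hv using fun i => Submodule.Quotient.mk_surjective _ ((x i).val n)
      have h1 := hψ' x v n fun i => (hv i).symm
      rw [hz] at h1
      have h2 : (∑ i, v i ⊗ₜ[A] ε i) ∈ (I ^ n • ⊤ : Submodule A (N ⊗[A] M)) :=
        (Submodule.Quotient.mk_eq_zero _).1 h1.symm
      have h3 : ∃ v' : Fin l → N, (∀ i, v' i ∈ (I ^ n • ⊤ : Submodule A N)) ∧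
          ∑ i, v i ⊗ₜ[A] ε i = ∑ i, v' i ⊗ₜ[A] ε i := by
        refine Submodule.smul_induction_on h2 (fun a ha t _ => ?_) fun s t hs ht => ?_
        · obtain ⟨x', rfl⟩ := hgen N t
          exact ⟨fun i => a • x' i, fun i => Submodule.smul_mem_smul ha trivial,
            by simp [Finset.smul_sum, TensorProduct.smul_tmul']⟩
        · obtain ⟨s', h1, rfl⟩ := hs
          obtain ⟨t', h2, rfl⟩ := ht
          exact ⟨s' + t', fun i => add_mem (h1 i) (h2 i),
            by simp [TensorProduct.add_tmul, Finset.sum_add_distrib]⟩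
      obtain ⟨v', hv', he⟩ := h3
      obtain ⟨w, hw⟩ := hexact (fun i => v i - v' i) (by
        simp [TensorProduct.sub_tmul, Finset.sum_sub_distrib, he])
      exact ⟨w, fun i => by rw [← hv i, hw, Submodule.Quotient.eq]; simpa using hv' i⟩
    rw [← hy]
    exact hzero _ y
  refine ⟨LinearEquiv.ofBijective ψ ⟨hinj, hsurj⟩, fun z => ?_⟩
  show ψ _ = _
  induction z using TensorProduct.induction_on with
  | zero => simp only [map_zero]
  | add a b ha hb => simp only [map_add, ha, hb]
  | tmul p m =>
    rw [LinearMap.rTensor_tmul, hψ]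
    refine AdicCompletion.ext fun n => ?_
    rw [hmap m _ p n (AdicCompletion.eval_of I N n p)]
    rfl

end Tensor

end Groth.LocCohTransform.CompletionFlat
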