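import Groth.Agent.LocCohTransform.CompletionFunctor
import Mathlib.RingTheory.Flat.Basic
import Mathlib.RingTheory.Flat.Stability
import Mathlib.LinearAlgebra.TensorProduct.RightExactness
import Mathlib.RingTheory.AdicCompletion.AsTensorProduct
import Mathlib.RingTheory.AdicCompletion.Completeness
import Mathlib.RingTheory.Localization.Away.Basic

/-!
Derived completion of modules: flat comparison maps and finite modules over Noetherian rings.
-/

set_option autoImplicit false
set_option linter.style.haveILetI false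
set_option linter.unusedSectionVars false

universe u

open CategoryTheory CategoryTheory.Limits CategoryTheory.Pretriangulated TensorProduct

attribute [local instance] HasDerivedCategory.standard

namespace Groth.LocCohTransform.CompletionFunctor

variable {A : Type u} [CommRing A] (I : Ideal A) [DRing.HasDerivedCompletion I]

/-- A linear map becoming invertible after derived completion. -/
def CIso {M N : Type u} [AddCommGroup M] [Module A M] [AddCommGroup N] [Module A N] (f : M →ₗ[A] N) : Prop :=
  IsIso ((comp I).map ((DerivedCategory.singleFunctor (ModuleCat.{u} A) 0).map (ModuleCat.ofHom f)))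

variable {M₁ M₂ M₃ N₁ N₂ N₃ : Type u} [AddCommGroup M₁] [Module A M₁] [AddCommGroup M₂] [Module A M₂]
  [AddCommGroup M₃] [Module A M₃] [AddCommGroup N₁] [Module A N₁] [AddCommGroup N₂] [Module A N₂]
  [AddCommGroup N₃] [Module A N₃]

theorem cIso_of_bijective {f : M₁ →ₗ[A] N₁} (h : Function.Bijective f) : CIso I f := by
  have : IsIso (ModuleCat.ofHom f) := (ConcreteCategory.isIso_iff_bijective _).2 h
  rw [CIso]; infer_instance

theorem cIso_of_smul_bijective {f : A} (hf : f ∈ I) (φ : M₁ →ₗ[A] N₁)
    (hM : Function.Bijective fun x : M₁ => f • x) (hN : Function.Bijective fun x : N₁ => f • x) : CIso I φ :=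
  ⟨0, (isZero_inD_of_bijective I hf hM).eq_of_src _ _, (isZero_inD_of_bijective I hf hN).eq_of_src _ _⟩

section Rows

variable {a : M₁ →ₗ[A] M₂} {b : M₂ →ₗ[A] M₃} {a' : N₁ →ₗ[A] N₂} {b' : N₂ →ₗ[A] N₃}
  {φ₁ : M₁ →ₗ[A] N₁} {φ₂ : M₂ →ₗ[A] N₂} {φ₃ : M₃ →ₗ[A] N₃}
  (h : Function.Exact a b) (ha : Function.Injective a) (hb : Function.Surjective b)
  (h' : Function.Exact a' b') (ha' : Function.Injective a') (hb' : Function.Surjective b')
  (c₁ : φ₂ ∘ₗ a = a' ∘ₗ φ₁) (c₂ : φ₃ ∘ₗ b = b' ∘ₗ φ₂)

/-- The short complex. -/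
noncomputable abbrev row : ShortComplex (ModuleCat.{u} A) :=
  ShortComplex.mk (ModuleCat.ofHom a) (ModuleCat.ofHom b)
    (ModuleCat.hom_ext (LinearMap.ext h.apply_apply_eq_zero))

include ha hb in
theorem row_shortExact : (row h).ShortExact where
  exact := (ShortComplex.ShortExact.moduleCat_exact_iff_function_exact _).2 h
  mono_f := (ModuleCat.mono_iff_injective _).2 ha
  epi_g := (ModuleCat.epi_iff_surjective _).2 hb

include h ha hb h' ha' hb' c₁ c₂ in
theorem exists_triangle_map :
    ∃ (T T' : Triangle (Dual.D A)) (φ : T ⟶ T'), T ∈ distTriang _ ∧ T' ∈ distTriang _ ∧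
      (IsIso φ.hom₁ ↔ CIso I φ₁) ∧ (IsIso φ.hom₂ ↔ CIso I φ₂) ∧ (IsIso φ.hom₃ ↔ CIso I φ₃) := by
  let f : row h ⟶ row h' :=
    { τ₁ := ModuleCat.ofHom φ₁
      τ₂ := ModuleCat.ofHom φ₂
      τ₃ := ModuleCat.ofHom φ₃
      comm₁₂ := ModuleCat.hom_ext c₁.symm
      comm₂₃ := ModuleCat.hom_ext c₂.symm }
  exact ⟨_, _, (comp I).mapTriangle.map (ShortComplex.ShortExact.singleTriangle.map
      (row_shortExact h ha hb) (row_shortExact h' ha' hb') f),
    (comp I).map_distinguished _ (ShortComplex.ShortExact.singleTriangle_distinguished _),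
    (comp I).map_distinguished _ (ShortComplex.ShortExact.singleTriangle_distinguished _),
    Iff.rfl, Iff.rfl, Iff.rfl⟩

include h ha hb h' ha' hb' c₁ c₂ in
theorem cIso₂ (h₁ : CIso I φ₁) (h₃ : CIso I φ₃) : CIso I φ₂ := by
  obtain ⟨T, T', φ, hT, hT', e₁, e₂, e₃⟩ := exists_triangle_map I h ha hb h' ha' hb' c₁ c₂
  exact e₂.1 (isIso₂_of_isIso₁₃ φ hT hT' (e₁.2 h₁) (e₃.2 h₃))

include h ha hb h' ha' hb' c₁ c₂ in
theorem cIso₁ (h₂ : CIso I φ₂) (h₃ : CIso I φ₃) : CIso I φ₁ := by
  obtain ⟨T, T', φ, hT, hT', e₁, e₂, e₃⟩ := exists_triangle_map I h ha hb h' ha' hb' c₁ c₂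
  exact e₁.1 (isIso₁_of_isIso₂₃ φ hT hT' (e₂.2 h₂) (e₃.2 h₃))

end Rows

section Flat

variable {S R : Type u} [AddCommGroup S] [Module A S] [AddCommGroup R] [Module A R] (j : S →ₗ[A] R)
  (hsurj : ∀ r : R, ∃ s : S, r - j s ∈ I • (⊤ : Submodule A R))
  (hinj : ∀ s : S, j s ∈ I • (⊤ : Submodule A R) → s ∈ I • (⊤ : Submodule A S))

omit [DRing.HasDerivedCompletion I] in
theorem tmul_eq_zero_of_killed {X M : Type u} [AddCommGroup X] [Module A X] [AddCommGroup M] [Module A M]
    (hM : ∀ a ∈ I, ∀ m : M, a • m = 0) {x : X} (hx : x ∈ I • (⊤ : Submodule A X)) (m : M) :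
    x ⊗ₜ[A] m = 0 := by
  refine Submodule.smul_induction_on hx (fun a ha y _ => ?_) fun y z hy hz => ?_
  · rw [TensorProduct.smul_tmul, hM a ha, TensorProduct.tmul_zero]
  · rw [TensorProduct.add_tmul, hy, hz, add_zero]

include hsurj hinj in
omit [DRing.HasDerivedCompletion I] in
theorem bijective_of_killed {M : Type u} [AddCommGroup M] [Module A M] (hM : ∀ a ∈ I, ∀ m : M, a • m = 0) :
    Function.Bijective (j.rTensor M) := by
  classical
  let jq : (S ⧸ I • (⊤ : Submodule A S)) →ₗ[A] (R ⧸ I • (⊤ : Submodule A R)) :=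
    Submodule.mapQ _ _ j (Submodule.map_le_iff_le_comap.1 (by
      rw [Submodule.map_smul'']; exact Submodule.smul_mono le_rfl le_top))
  have hjq : Function.Bijective jq := by
    refine ⟨(injective_iff_map_eq_zero _).2 fun x hx => ?_, fun y => ?_⟩
    · obtain ⟨s, rfl⟩ := Submodule.Quotient.mk_surjective _ x
      rw [Submodule.mapQ_apply, Submodule.Quotient.mk_eq_zero] at hx
      exact (Submodule.Quotient.mk_eq_zero _).2 (hinj s hx)
    · obtain ⟨r, rfl⟩ := Submodule.Quotient.mk_surjective _ y
      obtain ⟨s, hs⟩ := hsurj r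
      refine ⟨Submodule.Quotient.mk s, ?_⟩
      rw [Submodule.mapQ_apply]
      exact ((Submodule.Quotient.eq _).2 hs).symm
  have desc : ∀ (X : Type u) [AddCommGroup X] [Module A X],
      ∃ ψ : (X ⧸ I • (⊤ : Submodule A X)) →ₗ[A] M →ₗ[A] X ⊗[A] M,
        ∀ x m, ψ (Submodule.Quotient.mk x) m = x ⊗ₜ[A] m := fun X _ _ =>
    ⟨Submodule.liftQ _ (TensorProduct.mk A X M) fun x hx =>
      LinearMap.ext fun m => tmul_eq_zero_of_killed I hM hx m, fun _ _ => rfl⟩
  obtain ⟨ψ, hψ⟩ := desc S
  let e := LinearEquiv.ofBijective jq hjq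
  let back : R ⊗[A] M →ₗ[A] S ⊗[A] M :=
    TensorProduct.lift (ψ ∘ₗ e.symm.toLinearMap ∘ₗ (I • (⊤ : Submodule A R)).mkQ)
  have h1 : back ∘ₗ j.rTensor M = LinearMap.id := by
    refine TensorProduct.ext' fun s m => ?_
    show back (j s ⊗ₜ[A] m) = _
    simp only [back, TensorProduct.lift.tmul, LinearMap.comp_apply, LinearMap.id_apply]
    rw [show (e.symm.toLinearMap ((I • (⊤ : Submodule A R)).mkQ (j s))) = Submodule.Quotient.mk s from
      e.symm_apply_eq.2 rfl, hψ]
  refine ⟨Function.LeftInverse.injective (g := back) fun x => LinearMap.congr_fun h1 x, fun y => ?_⟩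
  induction y using TensorProduct.induction_on with
  | zero => exact ⟨0, map_zero _⟩
  | add p q hp hq =>
    obtain ⟨p', rfl⟩ := hp
    obtain ⟨q', rfl⟩ := hq
    exact ⟨p' + q', map_add _ _ _⟩
  | tmul r m =>
    obtain ⟨s, hs⟩ := hsurj r
    refine ⟨s ⊗ₜ[A] m, ?_⟩
    rw [LinearMap.rTensor_tmul, ← sub_eq_zero, ← TensorProduct.sub_tmul]
    exact tmul_eq_zero_of_killed I hM (by rw [← neg_sub]; exact Submodule.neg_mem _ hs) m

omit [DRing.HasDerivedCompletion I] in
theorem natural {M N : Type u} [AddCommGroup M] [Module A M] [AddCommGroup N] [Module A N] (g : M →ₗ[A] N) :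
    j.rTensor N ∘ₗ g.lTensor S = g.lTensor R ∘ₗ j.rTensor M :=
  TensorProduct.ext' fun _ _ => rfl

variable [Module.Flat A S] [Module.Flat A R]

include hsurj hinj in
omit [DRing.HasDerivedCompletion I] in
theorem bijective_of_pow_killed : ∀ (n : ℕ) {M : Type u} [AddCommGroup M] [Module A M],
    (∀ a ∈ I ^ n, ∀ m : M, a • m = 0) → Function.Bijective (j.rTensor M) := by
  intro n
  induction n with
  | zero =>
    intro M _ _ hM
    refine bijective_of_killed I j hsurj hinj fun a ha m => hM a ?_ m
    rw [pow_zero, Ideal.one_eq_top]; trivial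
  | succ n ih =>
    intro M _ _ hM
    let P : Submodule A M := I • ⊤
    have h1 : Function.Bijective (j.rTensor P) := ih fun a ha x => by
      refine Subtype.ext ?_
      show a • (x : M) = 0
      refine Submodule.smul_induction_on x.2 (fun b hb y _ => ?_) fun y z hy hz => ?_
      · rw [smul_smul]; exact hM _ (pow_succ I n ▸ Ideal.mul_mem_mul ha hb) y
      · rw [smul_add, hy, hz, add_zero]
    have h3 : Function.Bijective (j.rTensor (M ⧸ P)) := bijective_of_killed I j hsurj hinj fun a ha x => by
      obtain ⟨y, rfl⟩ := Submodule.Quotient.mk_surjective _ x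
      rw [← Submodule.Quotient.mk_smul, Submodule.Quotient.mk_eq_zero]
      exact Submodule.smul_mem_smul ha trivial
    have hex : ∀ (X : Type u) [AddCommGroup X] [Module A X],
        Function.Exact (P.subtype.lTensor X) (P.mkQ.lTensor X) := fun X _ _ =>
      lTensor_exact X (LinearMap.exact_subtype_mkQ P) P.mkQ_surjective
    constructor
    · refine (injective_iff_map_eq_zero _).2 fun x hx => ?_
      have h0 : P.mkQ.lTensor S x = 0 := h3.1 (by
        rw [map_zero, ← LinearMap.comp_apply, natural, LinearMap.comp_apply, hx, map_zero])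
      obtain ⟨y, rfl⟩ := (hex S x).1 h0
      rw [← LinearMap.comp_apply, natural, LinearMap.comp_apply] at hx
      rw [h1.1 ((Module.Flat.lTensor_preserves_injective_linearMap (M := R) P.subtype P.subtype_injective
        (hx.trans (map_zero _).symm)).trans (map_zero _).symm), map_zero]
    · intro y
      obtain ⟨x₃, hx₃⟩ := h3.2 (P.mkQ.lTensor R y)
      obtain ⟨x, rfl⟩ := LinearMap.lTensor_surjective S P.mkQ_surjective x₃
      obtain ⟨z, hz⟩ := (hex R (y - j.rTensor M x)).1 (by
        rw [map_sub, sub_eq_zero, ← hx₃, ← LinearMap.comp_apply, natural, LinearMap.comp_apply])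
      obtain ⟨w, rfl⟩ := h1.2 z
      refine ⟨x + P.subtype.lTensor S w, ?_⟩
      rw [map_add, ← LinearMap.comp_apply (j.rTensor M) (P.subtype.lTensor S), natural, LinearMap.comp_apply,
        hz, add_sub_cancel]

omit [DRing.HasDerivedCompletion I] in
theorem exists_torsion_rep {X M : Type u} [AddCommGroup X] [Module A X] [AddCommGroup M] [Module A M]
    (hM : ∀ m : M, ∃ n : ℕ, ∀ a ∈ I ^ n, a • m = 0) (z : X ⊗[A] M) :
    ∃ n : ℕ, z ∈ LinearMap.range ((Submodule.torsionBySet A M (I ^ n : Ideal A)).subtype.lTensor X) := by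
  have mono : ∀ {n m : ℕ}, n ≤ m →
      LinearMap.range ((Submodule.torsionBySet A M (I ^ n : Ideal A)).subtype.lTensor X) ≤
        LinearMap.range ((Submodule.torsionBySet A M (I ^ m : Ideal A)).subtype.lTensor X) := by
    intro n m h
    rintro _ ⟨w, rfl⟩
    refine ⟨(Submodule.inclusion (Submodule.torsionBySet_le_torsionBySet_of_subset
      (Ideal.pow_le_pow_right h))).lTensor X w, ?_⟩
    rw [← LinearMap.comp_apply, ← LinearMap.lTensor_comp]
    rfl
  induction z using TensorProduct.induction_on with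
  | zero => exact ⟨0, zero_mem _⟩
  | add p q hp hq =>
    obtain ⟨n, hn⟩ := hp
    obtain ⟨m, hm⟩ := hq
    exact ⟨max n m, add_mem (mono (le_max_left n m) hn) (mono (le_max_right n m) hm)⟩
  | tmul x m =>
    obtain ⟨n, hn⟩ := hM m
    exact ⟨n, x ⊗ₜ[A] ⟨m, (Submodule.mem_torsionBySet_iff _ _).2 fun a => hn a a.2⟩, rfl⟩

include hsurj hinj in
omit [DRing.HasDerivedCompletion I] in
theorem bijective_of_torsion {M : Type u} [AddCommGroup M] [Module A M]
    (hM : ∀ m : M, ∃ n : ℕ, ∀ a ∈ I ^ n, a • m = 0) : Function.Bijective (j.rTensor M) := by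
  have hb : ∀ n : ℕ, Function.Bijective (j.rTensor (Submodule.torsionBySet A M (I ^ n : Ideal A))) := fun n =>
    bijective_of_pow_killed I j hsurj hinj n fun a ha x => Subtype.ext ((Submodule.mem_torsionBySet_iff _ _).1 x.2 ⟨a, ha⟩)
  constructor
  · refine (injective_iff_map_eq_zero _).2 fun z hz => ?_
    obtain ⟨n, w, rfl⟩ := exists_torsion_rep I hM z
    rw [← LinearMap.comp_apply, natural, LinearMap.comp_apply] at hz
    have := (hb n).1 ((Module.Flat.lTensor_preserves_injective_linearMap (M := R) _ (Submodule.subtype_injective _)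
      (hz.trans (map_zero _).symm)).trans (map_zero _).symm)
    rw [this, map_zero]
  · intro y
    obtain ⟨n, w, rfl⟩ := exists_torsion_rep I hM y
    obtain ⟨v, rfl⟩ := (hb n).2 w
    exact ⟨_, LinearMap.congr_fun (natural j _) v⟩

include hsurj hinj in
/-- A map of flat modules which is bijective modulo `I` becomes invertible after completion, with any coefficients. -/
theorem cIso_rTensor (hI : I.FG) (M : Type u) [AddCommGroup M] [Module A M] : CIso I (j.rTensor M) := by
  classical
  obtain ⟨gens, hgens⟩ := hI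
  suffices H : ∀ t : Finset A, t ⊆ gens → ∀ (M : Type u) [AddCommGroup M] [Module A M],
      (∀ g ∈ gens, g ∉ t → ∀ m : M, ∃ k : ℕ, g ^ k • m = 0) → CIso I (j.rTensor M) from
    H gens subset_rfl M fun g hg hg' => absurd hg hg'
  intro t
  induction t using Finset.induction with
  | empty =>
    intro _ M _ _ hM
    refine cIso_of_bijective I (bijective_of_torsion I j hsurj hinj fun m => ?_)
    have hle : I ≤ Ideal.radical (LinearMap.ker (LinearMap.toSpanSingleton A M m)) := hgens ▸
      Ideal.span_le.2 fun g hg => hM g hg (Finset.notMem_empty g) m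
    obtain ⟨n, hn⟩ := Ideal.exists_pow_le_of_le_radical_of_fg hle ⟨gens, hgens⟩
    exact ⟨n, fun a ha => hn ha⟩
  | @insert f t hft ih =>
    intro hsub M _ _ hM
    have hf : f ∈ gens := hsub (Finset.mem_insert_self f t)
    have hfI : f ∈ I := hgens ▸ Ideal.subset_span hf
    have ih' := ih (fun x hx => hsub (Finset.mem_insert_of_mem hx))
    let L := LocalizedModule (Submonoid.powers f) M
    let l : M →ₗ[A] L := LocalizedModule.mkLinearMap (Submonoid.powers f) M
    have hL : ∀ g ∈ gens, g ∉ insert f t → ∀ x : L, ∃ k : ℕ, g ^ k • x = 0 := by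
      intro g hg hg' x
      induction x using LocalizedModule.induction_on with
      | h m s =>
        obtain ⟨k, hk⟩ := hM g hg hg' m
        exact ⟨k, by rw [LocalizedModule.smul'_mk, hk, LocalizedModule.zero_mk]⟩
    have hT : CIso I (j.rTensor (LinearMap.ker l)) := ih' _ fun g hg hg' x => by
      by_cases h : g = f
      · subst h
        have hx : (x : M) ∈ LinearMap.ker l := x.2
        obtain ⟨⟨_, k, rfl⟩, hk⟩ := (IsLocalizedModule.eq_zero_iff (Submonoid.powers g) l).1 hx
        exact ⟨k, Subtype.ext hk⟩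
      · obtain ⟨k, hk⟩ := hM g hg (fun h' => (Finset.mem_insert.1 h').elim h hg') x
        exact ⟨k, Subtype.ext hk⟩
    have hQ : CIso I (j.rTensor (L ⧸ LinearMap.range l)) := ih' _ fun g hg hg' x => by
      obtain ⟨y, rfl⟩ := Submodule.Quotient.mk_surjective _ x
      by_cases h : g = f
      · subst h
        obtain ⟨⟨m, ⟨_, k, rfl⟩⟩, hy⟩ := IsLocalizedModule.surj (Submonoid.powers g) l y
        exact ⟨k, by rw [← Submodule.Quotient.mk_smul, Submodule.Quotient.mk_eq_zero]; exact ⟨m, hy.symm⟩⟩
      · obtain ⟨k, hk⟩ := hL g hg (fun h' => (Finset.mem_insert.1 h').elim h hg') y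
        exact ⟨k, by rw [← Submodule.Quotient.mk_smul, hk, Submodule.Quotient.mk_zero]⟩
    have hbij : ∀ (X : Type u) [AddCommGroup X] [Module A X],
        Function.Bijective fun x : X ⊗[A] L => f • x := by
      intro X _ _
      have hb : Function.Bijective (LinearMap.lsmul A L f) :=
        (Module.End.isUnit_iff _).1 (IsLocalizedModule.map_units (S := Submonoid.powers f) l
          ⟨f, Submonoid.mem_powers f⟩)
      let e := TensorProduct.congr (LinearEquiv.refl A X) (LinearEquiv.ofBijective _ hb)
      have he : (fun x : X ⊗[A] L => f • x) = e := by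
        funext x
        induction x using TensorProduct.induction_on with
        | zero => rw [smul_zero, map_zero]
        | add p q hp hq => rw [smul_add, map_add, hp, hq]
        | tmul p q => exact (TensorProduct.tmul_smul f p q).symm
      rw [he]; exact e.bijective
    have hL' : CIso I (j.rTensor L) := cIso_of_smul_bijective I hfI _ (hbij S) (hbij R)
    have hflat : ∀ {N P : Type u} [AddCommGroup N] [Module A N] [AddCommGroup P] [Module A P] (g : N →ₗ[A] P)
        (X : Type u) [AddCommGroup X] [Module A X] [Module.Flat A X], Function.Injective g →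
        Function.Injective (g.lTensor X) := fun g X _ _ _ hg =>
      Module.Flat.lTensor_preserves_injective_linearMap g hg
    have hR : CIso I (j.rTensor (LinearMap.range l)) :=
      cIso₁ I (lTensor_exact S (LinearMap.exact_subtype_mkQ _) (Submodule.mkQ_surjective _))
        (hflat _ S (Submodule.subtype_injective _)) (LinearMap.lTensor_surjective S (Submodule.mkQ_surjective _))
        (lTensor_exact R (LinearMap.exact_subtype_mkQ _) (Submodule.mkQ_surjective _))
        (hflat _ R (Submodule.subtype_injective _)) (LinearMap.lTensor_surjective R (Submodule.mkQ_surjective _))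
        (natural j _) (natural j _) hL' hQ
    have hex : Function.Exact (LinearMap.ker l).subtype l.rangeRestrict := fun x =>
      ⟨fun hx => ⟨⟨x, congrArg Subtype.val hx⟩, rfl⟩, fun ⟨k, hk⟩ => hk ▸ Subtype.ext k.2⟩
    exact cIso₂ I (lTensor_exact S hex l.surjective_rangeRestrict)
      (hflat _ S (Submodule.subtype_injective _)) (LinearMap.lTensor_surjective S l.surjective_rangeRestrict)
      (lTensor_exact R hex l.surjective_rangeRestrict)
      (hflat _ R (Submodule.subtype_injective _)) (LinearMap.lTensor_surjective R l.surjective_rangeRestrict)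
      (natural j _) (natural j _) hT hR

end Flat

section Finite

variable (B : Type u) [CommRing B] [Algebra A B]

/-- The completion of an algebra along `I`. -/
abbrev Bhat : Type u := AdicCompletion (I.map (algebraMap A B)) B

/-- The completion map as a linear map. -/
noncomputable def toBhat : B →ₗ[A] Bhat I B :=
  (AdicCompletion.of (I.map (algebraMap A B)) B).restrictScalars A

omit [DRing.HasDerivedCompletion I] in
theorem smul_top_eq (X : Type u) [AddCommGroup X] [Module A X] [Module B X] [IsScalarTower A B X] :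
    (I.map (algebraMap A B) • (⊤ : Submodule B X)).restrictScalars A = I • (⊤ : Submodule A X) := by
  refine le_antisymm (fun x hx => ?_) (Submodule.smul_le.2 fun a ha x _ => ?_)
  · rw [Submodule.restrictScalars_mem] at hx
    refine Submodule.smul_induction_on hx (fun b hb y _ => ?_) fun y z hy hz => add_mem hy hz
    refine Submodule.span_induction (p := fun b _ => ∀ y : X, b • y ∈ I • (⊤ : Submodule A X)) ?_ ?_ ?_ ?_ hb y
    · rintro _ ⟨a, ha, rfl⟩ y
      rw [algebraMap_smul]
      exact Submodule.smul_mem_smul ha trivial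
    · intro y; rw [zero_smul]; exact zero_mem _
    · intro p q _ _ hp hq y; rw [add_smul]; exact add_mem (hp y) (hq y)
    · intro r p _ hp y; rw [smul_eq_mul, mul_comm, mul_smul]; exact hp _
  · rw [Submodule.restrictScalars_mem, ← algebraMap_smul B a x]
    exact Submodule.smul_mem_smul (Ideal.mem_map_of_mem _ ha) trivial

variable [IsNoetherianRing B]

omit [DRing.HasDerivedCompletion I] in
theorem bhat_surj (r : Bhat I B) : ∃ s : B, r - toBhat I B s ∈ I • (⊤ : Submodule A (Bhat I B)) := by
  obtain ⟨s, hs⟩ := Submodule.Quotient.mk_surjective _ (AdicCompletion.eval (I.map (algebraMap A B)) B 1 r)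
  refine ⟨s, ?_⟩
  rw [← smul_top_eq I B (Bhat I B), Submodule.restrictScalars_mem]
  have h := AdicCompletion.pow_smul_top_eq_ker_eval (I := I.map (algebraMap A B)) (M := B) (n := 1)
    (IsNoetherian.noetherian _)
  have hh : r - toBhat I B s ∈ ((I.map (algebraMap A B)) ^ 1 • (⊤ : Submodule B (Bhat I B))) := by
    rw [h, LinearMap.mem_ker, map_sub, sub_eq_zero, ← hs]
    rfl
  exact (congrArg (· • (⊤ : Submodule B (Bhat I B))) (pow_one (I.map (algebraMap A B)))).le hh

omit [DRing.HasDerivedCompletion I] in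
theorem bhat_inj (s : B) (h : toBhat I B s ∈ I • (⊤ : Submodule A (Bhat I B))) :
    s ∈ I • (⊤ : Submodule A B) := by
  rw [← smul_top_eq I B (Bhat I B), Submodule.restrictScalars_mem] at h
  rw [← smul_top_eq I B B, Submodule.restrictScalars_mem]
  have h' := AdicCompletion.pow_smul_top_eq_ker_eval (I := I.map (algebraMap A B)) (M := B) (n := 1)
    (IsNoetherian.noetherian _)
  have hh : toBhat I B s ∈ ((I.map (algebraMap A B)) ^ 1 • (⊤ : Submodule B (Bhat I B))) :=
    (congrArg (· • (⊤ : Submodule B (Bhat I B))) (pow_one (I.map (algebraMap A B)))).ge h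
  rw [h', LinearMap.mem_ker] at hh
  have h2 : (Submodule.Quotient.mk s : B ⧸ ((I.map (algebraMap A B)) ^ 1 • ⊤ : Submodule B B)) = 0 := hh
  rw [Submodule.Quotient.mk_eq_zero, pow_one] at h2
  exact h2

variable [Module.Flat A B]

instance flat_bhat : Module.Flat A (Bhat I B) := Module.Flat.trans A B (Bhat I B)

/-- The completion map on tensor products. -/
theorem cIso_toBhat (hI : I.FG) (M : Type u) [AddCommGroup M] [Module A M] :
    CIso I ((toBhat I B).rTensor M) :=
  cIso_rTensor I (toBhat I B) (bhat_surj I B) (bhat_inj I B) hI M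

theorem complete_bhat_tensor (M : Type u) [AddCommGroup M] [Module A M] [Module.Finite A M] :
    DRing.IsDerivedComplete I (Dual.inD A (Bhat I B ⊗[A] M)) := by
  rw [Groth.DerComplete.isDerivedComplete_inD_iff]
  intro f hf
  have hc : IsAdicComplete (I.map (algebraMap A B)) (AdicCompletion (I.map (algebraMap A B)) (B ⊗[A] M)) :=
    AdicCompletion.isAdicComplete (IsNoetherian.noetherian _)
  have h : Groth.DerComplete.DC (algebraMap A B f) (AdicCompletion (I.map (algebraMap A B)) (B ⊗[A] M)) :=
    Groth.DerComplete.dc_of_isAdicComplete (I.map (algebraMap A B)) (Ideal.mem_map_of_mem (algebraMap A B) hf)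
  let e : AdicCompletion (I.map (algebraMap A B)) (B ⊗[A] M) ≃+ Bhat I B ⊗[A] M :=
    ((AdicCompletion.ofTensorProductEquivOfFiniteNoetherian (I.map (algebraMap A B)) (B ⊗[A] M)).symm.restrictScalars B ≪≫ₗ
      (TensorProduct.AlgebraTensorModule.cancelBaseChange A B B (Bhat I B) M)).toAddEquiv
  refine h.of_addEquiv e fun x => ?_
  show e (algebraMap A B f • x) = f • e x
  rw [← algebraMap_smul B f (e x)]
  exact map_smul ((AdicCompletion.ofTensorProductEquivOfFiniteNoetherian (I.map (algebraMap A B)) (B ⊗[A] M)).symm.restrictScalars B ≪≫ₗ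
      (TensorProduct.AlgebraTensorModule.cancelBaseChange A B B (Bhat I B) M)) _ _

omit [DRing.HasDerivedCompletion I] [Module.Flat A B] in
/-- The kernel of completion (Krull). -/
theorem exists_of_tensor_eq_zero (M : Type u) [AddCommGroup M] [Module A M] [Module.Finite A M]
    {x : B ⊗[A] M} (hx : (toBhat I B).rTensor M x = 0) : ∃ r ∈ I.map (algebraMap A B), r • x = x := by
  let J := I.map (algebraMap A B)
  let E := (AdicCompletion.ofTensorProductEquivOfFiniteNoetherian J (B ⊗[A] M)).restrictScalars B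
  let c := TensorProduct.AlgebraTensorModule.cancelBaseChange A B B (Bhat I B) M
  have key : ∀ y : B ⊗[A] M, E (c.symm ((toBhat I B).rTensor M y)) = AdicCompletion.of J (B ⊗[A] M) y := by
    intro y
    induction y using TensorProduct.induction_on with
    | zero => simp only [map_zero]
    | add p q hp hq => simp only [map_add, hp, hq]
    | tmul b m =>
      have h1 : c.symm ((toBhat I B).rTensor M (b ⊗ₜ[A] m)) =
          (AdicCompletion.of J B b : Bhat I B) ⊗ₜ[B] ((1 : B) ⊗ₜ[A] m) := by
        rw [LinearMap.rTensor_tmul, TensorProduct.AlgebraTensorModule.cancelBaseChange_symm_tmul]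
        rfl
      rw [h1]
      show AdicCompletion.ofTensorProductEquivOfFiniteNoetherian J (B ⊗[A] M) _ = _
      rw [AdicCompletion.ofTensorProductEquivOfFiniteNoetherian_apply, AdicCompletion.ofTensorProduct_tmul]
      have hb : (AdicCompletion.of J B b : AdicCompletion J B) = algebraMap B (AdicCompletion J B) b := by
        rw [AdicCompletion.algebraMap_apply]; rfl
      rw [hb, algebraMap_smul, ← map_smul, TensorProduct.smul_tmul', smul_eq_mul, mul_one]
  have h0 : AdicCompletion.of J (B ⊗[A] M) x = 0 := by rw [← key, hx, map_zero, map_zero]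
  have h1 : x ∈ (⨅ n : ℕ, J ^ n • (⊤ : Submodule B (B ⊗[A] M))) := by
    rw [Submodule.mem_iInf]
    intro n
    have h2 := congrArg (AdicCompletion.eval J (B ⊗[A] M) n) h0
    rw [map_zero, AdicCompletion.eval_of] at h2
    exact (Submodule.Quotient.mk_eq_zero _).1 h2
  obtain ⟨⟨r, hr⟩, hrx⟩ := (Ideal.mem_iInf_smul_pow_eq_bot_iff J x).1 h1
  exact ⟨r, hr, hrx⟩

end Finite

end Groth.LocCohTransform.CompletionFunctor
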