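import Groth.Agent.LocCohTransform.CompletionFlat
import Groth.Agent.LocCohTransform.CompletionModule

/-!
The derived completion of the tensor product of a finite and a flat module is its adic completion.
-/

set_option autoImplicit false
set_option linter.style.haveILetI false
set_option linter.unusedSectionVars false

universe u

open CategoryTheory CategoryTheory.Limits CategoryTheory.Pretriangulated TensorProduct

attribute [local instance] HasDerivedCategory.standard

namespace Groth.LocCohTransform.CompletionFlatModule

open CompletionFunctor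

variable {A : Type u} [CommRing A] (I : Ideal A) [DRing.HasDerivedCompletion I]

/-- If `X → X^` is invertible after completion, completion is computed by `X^`. -/
theorem main_of_cIso (hI : I.FG) (X : Type u) [AddCommGroup X] [Module A X]
    (h : CIso I (AdicCompletion.of I X)) :
    (∀ i : ℤ, i ≠ 0 → Subsingleton (Dual.HD A ((comp I).obj (Dual.inD A X)) i)) ∧
      ∃ e : Dual.HD A ((comp I).obj (Dual.inD A X)) 0 ≃ₗ[A] AdicCompletion I X,
        ∀ x : X,
          e ((((DerivedCategory.singleFunctorCompHomologyFunctorIso (ModuleCat.{u} A) 0).inv.app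
                (ModuleCat.of A X)) ≫
              (DerivedCategory.homologyFunctor (ModuleCat.{u} A) 0).map ((η I).app (Dual.inD A X))).hom x) =
            AdicCompletion.of I X x := by
  have hc : DRing.IsDerivedComplete I (Dual.inD A (AdicCompletion I X)) := by
    rw [Groth.DerComplete.isDerivedComplete_inD_iff]
    intro f hf
    have := AdicCompletion.isAdicComplete (I := I) (M := X) hI
    exact Groth.DerComplete.dc_of_isAdicComplete I hf
  have hη := isIso_η_of_complete I hc
  let g := (DerivedCategory.singleFunctor (ModuleCat.{u} A) 0).map (ModuleCat.ofHom (AdicCompletion.of I X))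
  have hg : IsIso ((comp I).map g) := h
  let i : (comp I).obj (Dual.inD A X) ≅ Dual.inD A (AdicCompletion I X) :=
    asIso ((comp I).map g) ≪≫ (asIso ((η I).app (Dual.inD A (AdicCompletion I X)))).symm
  have hi : (η I).app (Dual.inD A X) ≫ i.hom = g := by
    show (η I).app _ ≫ (comp I).map g ≫ inv ((η I).app _) = g
    exact (Category.assoc _ _ _).symm.trans
      ((congrArg (· ≫ _) ((η I).naturality g).symm).trans
        ((Category.assoc _ _ _).trans ((congrArg (g ≫ ·) (IsIso.hom_inv_id _)).trans (Category.comp_id _))))
  refine ⟨fun n hn => ?_, ?_⟩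
  · have := Groth.DerComplete.subsingleton_HD_inD (A := A) (AdicCompletion I X) hn
    exact ((DerivedCategory.homologyFunctor (ModuleCat.{u} A) n).mapIso i).toLinearEquiv.toEquiv.subsingleton
  · let H := DerivedCategory.homologyFunctor (ModuleCat.{u} A) 0
    let φ := DerivedCategory.singleFunctorCompHomologyFunctorIso (ModuleCat.{u} A) 0
    refine ⟨((H.mapIso i) ≪≫ φ.app (ModuleCat.of A (AdicCompletion I X))).toLinearEquiv, fun x => ?_⟩
    have h1 : (φ.inv.app (ModuleCat.of A X) ≫ H.map ((η I).app (Dual.inD A X))) ≫
        H.map i.hom ≫ φ.hom.app (ModuleCat.of A (AdicCompletion I X)) = ModuleCat.ofHom (AdicCompletion.of I X) := by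
      rw [Category.assoc, ← Category.assoc (H.map _), ← Functor.map_comp, hi]
      exact ((φ.app (ModuleCat.of A X)).inv_comp_eq).2 (φ.hom.naturality (ModuleCat.ofHom (AdicCompletion.of I X)))
    exact congr(($h1).hom x)

theorem of_surj (hI : I.FG) (N : Type u) [AddCommGroup N] [Module A N] (r : AdicCompletion I N) :
    ∃ s : N, r - AdicCompletion.of I N s ∈ I • (⊤ : Submodule A (AdicCompletion I N)) := by
  obtain ⟨s, hs⟩ := Submodule.Quotient.mk_surjective _ (AdicCompletion.eval I N 1 r)
  refine ⟨s, ?_⟩
  have hh : r - AdicCompletion.of I N s ∈ (I ^ 1 • ⊤ : Submodule A (AdicCompletion I N)) := by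
    rw [AdicCompletion.pow_smul_top_eq_ker_eval hI, LinearMap.mem_ker, map_sub, AdicCompletion.eval_of, Submodule.mkQ_apply, hs, sub_self]
  exact (congrArg (· • (⊤ : Submodule A (AdicCompletion I N))) (pow_one I)).le hh

theorem of_inj (hI : I.FG) (N : Type u) [AddCommGroup N] [Module A N] (s : N)
    (h : AdicCompletion.of I N s ∈ I • (⊤ : Submodule A (AdicCompletion I N))) :
    s ∈ I • (⊤ : Submodule A N) := by
  have hh := (congrArg (· • (⊤ : Submodule A (AdicCompletion I N))) (pow_one I)).ge h
  rw [AdicCompletion.pow_smul_top_eq_ker_eval hI, LinearMap.mem_ker, AdicCompletion.eval_of, Submodule.mkQ_apply,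
    Submodule.Quotient.mk_eq_zero, pow_one] at hh
  exact hh

theorem cIso_of [IsNoetherianRing A] (M N : Type u) [AddCommGroup M] [Module A M] [Module.Finite A M]
    [AddCommGroup N] [Module A N] [Module.Flat A N] : CIso I (AdicCompletion.of I (M ⊗[A] N)) := by
  have hI : I.FG := IsNoetherian.noetherian I
  have hflat := CompletionFlat.flat_completion (N := N) I
  obtain ⟨e, he⟩ := CompletionFlat.exists_tensorEquiv (N := N) I M
  have h := cIso_rTensor I (AdicCompletion.of I N) (of_surj I hI N) (of_inj I hI N) hI M
  let c := TensorProduct.comm A M N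
  let e' : AdicCompletion I N ⊗[A] M ≃ₗ[A] AdicCompletion I (M ⊗[A] N) :=
    e.trans (((AdicCompletion.congr I c.symm)).restrictScalars A)
  have heq : ModuleCat.ofHom (AdicCompletion.of I (M ⊗[A] N)) =
      c.toModuleIso.hom ≫ ModuleCat.ofHom ((AdicCompletion.of I N).rTensor M) ≫ e'.toModuleIso.hom := by
    refine ModuleCat.hom_ext (LinearMap.ext fun x => ?_)
    show AdicCompletion.of I (M ⊗[A] N) x = AdicCompletion.congr I c.symm (e ((AdicCompletion.of I N).rTensor M (c x)))
    rw [he]
    refine AdicCompletion.ext fun n => ?_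
    show _ = Submodule.Quotient.mk (c.symm (c x))
    rw [c.symm_apply_apply]
    rfl
  have : IsIso ((comp I).map ((DerivedCategory.singleFunctor (ModuleCat.{u} A) 0).map
      (ModuleCat.ofHom ((AdicCompletion.of I N).rTensor M)))) := h
  show IsIso ((comp I).map ((DerivedCategory.singleFunctor (ModuleCat.{u} A) 0).map
    (ModuleCat.ofHom (AdicCompletion.of I (M ⊗[A] N)))))
  rw [heq, Functor.map_comp, Functor.map_comp, Functor.map_comp, Functor.map_comp]
  infer_instance

end Groth.LocCohTransform.CompletionFlatModule
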