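import Groth.Agent.LocCohTransform.RlimModules
import Groth.Agent.LocCohTransform.CompletionCech
import Mathlib.Algebra.Homology.HomotopyCategory.DegreewiseSplit

/-!
The completion of a Čech complex of a finite module is its termwise adic completion.
-/

set_option autoImplicit false
set_option linter.style.haveILetI false
set_option linter.unusedSectionVars false

universe u

open CategoryTheory CategoryTheory.Limits CategoryTheory.Pretriangulated TensorProduct HomologicalComplex

attribute [local instance] HasDerivedCategory.standard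

namespace Groth.LocCohTransform.CompletionRlim

open CompletionFunctor RlimModules

variable {A : Type u} [CommRing A] (I : Ideal A)

theorem smulTop_le_comap {X Y : Type u} [AddCommGroup X] [Module A X] [AddCommGroup Y] [Module A Y]
    (J : Ideal A) (f : X →ₗ[A] Y) : (J • ⊤ : Submodule A X) ≤ (J • ⊤ : Submodule A Y).comap f := by
  rw [← Submodule.map_le_iff_le_comap, Submodule.map_smul'']
  exact Submodule.smul_mono le_rfl le_top

/-- `N ↦ N / Iⁿ N`. -/
noncomputable def qF (n : ℕ) : ModuleCat.{u} A ⥤ ModuleCat.{u} A where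
  obj N := ModuleCat.of A (N ⧸ (I ^ n • ⊤ : Submodule A N))
  map f := ModuleCat.ofHom (Submodule.mapQ _ _ f.hom (smulTop_le_comap _ f.hom))
  map_id N := by
    refine ModuleCat.hom_ext (Submodule.linearMap_qext _ (LinearMap.ext fun x => rfl))
  map_comp f g := by
    refine ModuleCat.hom_ext (Submodule.linearMap_qext _ (LinearMap.ext fun x => rfl))

instance (n : ℕ) : (qF I n).Additive where
  map_add {X Y f g} := ModuleCat.hom_ext (Submodule.linearMap_qext _ (LinearMap.ext fun x => rfl))

/-- `N / Iⁿ⁺¹ N → N / Iⁿ N`. -/
noncomputable def qT (n : ℕ) : qF I (n + 1) ⟶ qF I n where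
  app N := ModuleCat.ofHom (Submodule.mapQ (I ^ (n + 1) • ⊤ : Submodule A N) (I ^ n • ⊤ : Submodule A N)
    LinearMap.id (Submodule.smul_mono (Ideal.pow_le_pow_right (Nat.le_succ n)) le_rfl))
  naturality X Y f := ModuleCat.hom_ext (Submodule.linearMap_qext _ (LinearMap.ext fun x => rfl))

theorem qT_surjective (n : ℕ) (N : ModuleCat.{u} A) : Function.Surjective ((qT I n).app N).hom := by
  intro y
  obtain ⟨x, rfl⟩ := Submodule.Quotient.mk_surjective _ y
  exact ⟨Submodule.Quotient.mk x, rfl⟩

/-- Compatible families in the tower `N / Iⁿ N`. -/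
noncomputable def chatSub (N : ModuleCat.{u} A) : Submodule A (∀ n, (qF I n).obj N) :=
  ⨅ n : ℕ, LinearMap.eqLocus (((qT I n).app N).hom ∘ₗ LinearMap.proj (n + 1)) (LinearMap.proj n)

theorem mem_chatSub {N : ModuleCat.{u} A} {x : ∀ n, (qF I n).obj N} :
    x ∈ chatSub I N ↔ ∀ n, ((qT I n).app N).hom (x (n + 1)) = x n := by
  simp [chatSub]

/-- The adic completion as a functor on `A`-modules. -/
noncomputable def chat : ModuleCat.{u} A ⥤ ModuleCat.{u} A where
  obj N := ModuleCat.of A (chatSub I N)
  map {X Y} f := ModuleCat.ofHom ((LinearMap.pi fun n =>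
      ((qF I n).map f).hom ∘ₗ (LinearMap.proj n : (∀ m, (qF I m).obj X) →ₗ[A] (qF I n).obj X)).restrict
    (p := chatSub I X) (q := chatSub I Y) fun x hx => (mem_chatSub I).2 fun n => by
      refine Eq.trans ?_ (congrArg ((qF I n).map f).hom ((mem_chatSub I).1 hx n))
      exact congr(($((qT I n).naturality f)).hom (x (n + 1))))
  map_id X := ModuleCat.hom_ext (LinearMap.ext fun x => Subtype.ext (funext fun n =>
    congr(($((qF I n).map_id X)).hom (x.1 n))))
  map_comp f g := ModuleCat.hom_ext (LinearMap.ext fun x => Subtype.ext (funext fun n =>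
    congr(($((qF I n).map_comp f g)).hom (x.1 n))))

instance : (chat I).Additive where
  map_add {X Y f g} := ModuleCat.hom_ext (LinearMap.ext fun x => Subtype.ext (funext fun n =>
    congr(($((qF I n).map_add (f := f) (g := g))).hom (x.1 n))))

/-- The completion map. -/
noncomputable def toChat : 𝟭 (ModuleCat.{u} A) ⟶ chat I where
  app N := ModuleCat.ofHom (LinearMap.codRestrict (chatSub I N)
    (LinearMap.pi fun n => (I ^ n • ⊤ : Submodule A N).mkQ) fun x => (mem_chatSub I).2 fun n => rfl)
  naturality X Y f := ModuleCat.hom_ext (LinearMap.ext fun x => Subtype.ext (funext fun n => rfl))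

/-- Termwise completion. -/
noncomputable abbrev chatCx : DRing.Cx A ⥤ DRing.Cx A := (chat I).mapHomologicalComplex (ComplexShape.up ℤ)

/-- The termwise completion map. -/
noncomputable def toChatCx (E : DRing.Cx A) : E ⟶ (chatCx I).obj E where
  f i := (toChat I).app (E.X i)
  comm' i j _ := ((toChat I).naturality (E.d i j)).symm

theorem toChatCx_naturality {E E' : DRing.Cx A} (g : E ⟶ E') :
    g ≫ toChatCx I E' = toChatCx I E ≫ (chatCx I).map g :=
  HomologicalComplex.hom_ext _ _ fun i => (toChat I).naturality (g.f i)

variable [DRing.HasDerivedCompletion I]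

/-- The completion of `E` is computed termwise. -/
def P (E : DRing.Cx A) : Prop := IsIso ((comp I).map (DerivedCategory.Q.map (toChatCx I E)))

theorem P_of_iso {E E' : DRing.Cx A} (e : E ≅ E') (h : P I E) : P I E' := by
  have := (show IsIso ((comp I).map (DerivedCategory.Q.map (toChatCx I E))) from h)
  have e' : toChatCx I E' = e.inv ≫ toChatCx I E ≫ (chatCx I).map e.hom := by
    rw [← toChatCx_naturality, Iso.inv_hom_id_assoc]
  show IsIso ((comp I).map (DerivedCategory.Q.map (toChatCx I E')))
  rw [e', Functor.map_comp, Functor.map_comp, Functor.map_comp, Functor.map_comp]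
  infer_instance

theorem P_shift (E : DRing.Cx A) (a : ℤ) (h : P I E) : P I (E⟦a⟧) := by
  have := (show IsIso ((comp I).map (DerivedCategory.Q.map (toChatCx I E))) from h)
  have e' : toChatCx I (E⟦a⟧) ≫ (((chat I).mapHomologicalComplex (ComplexShape.up ℤ)).commShiftIso a).hom.app E =
      (toChatCx I E)⟦a⟧' := HomologicalComplex.hom_ext _ _ fun i =>
    Category.comp_id ((toChat I).app (E.X (i + a)))
  show IsIso ((comp I).map (DerivedCategory.Q.map (toChatCx I (E⟦a⟧))))
  have h1 : IsIso ((DerivedCategory.Q ⋙ comp I).map ((toChatCx I E)⟦a⟧')) :=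
    (NatIso.isIso_map_iff ((DerivedCategory.Q ⋙ comp I).commShiftIso a) (toChatCx I E)).2
      (by show IsIso (((comp I).map (DerivedCategory.Q.map (toChatCx I E)))⟦a⟧'); infer_instance)
  rw [← e', Functor.map_comp] at h1
  exact @IsIso.of_isIso_comp_right _ _ _ _ _ ((DerivedCategory.Q ⋙ comp I).map (toChatCx I (E⟦a⟧)))
    ((DerivedCategory.Q ⋙ comp I).map
    ((((chat I).mapHomologicalComplex (ComplexShape.up ℤ)).commShiftIso a).hom.app E)) inferInstance h1

theorem P_of_split (T : ShortComplex (DRing.Cx A)) (σ : ∀ n, (T.map (eval _ _ n)).Splitting)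
    (h₁ : P I T.X₁) (h₃ : P I T.X₃) : P I T.X₂ := by
  have hT : T.ShortExact := shortExact_of_degreewise_shortExact _ fun n => (σ n).shortExact
  have hT' : (T.map (chatCx I)).ShortExact :=
    shortExact_of_degreewise_shortExact _ fun n => ((σ n).map (chat I)).shortExact
  let φ : T ⟶ T.map (chatCx I) :=
    ShortComplex.homMk (toChatCx I T.X₁) (toChatCx I T.X₂) (toChatCx I T.X₃)
      (toChatCx_naturality I T.f).symm (toChatCx_naturality I T.g).symm
  exact isIso₂_of_isIso₁₃ ((comp I).mapTriangle.map (DerivedCategory.triangleOfSES.map hT hT' φ))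
    ((comp I).map_distinguished _ (DerivedCategory.triangleOfSES_distinguished hT))
    ((comp I).map_distinguished _ (DerivedCategory.triangleOfSES_distinguished hT')) h₁ h₃

/-- A module whose completion is its adic completion. -/
def G (N : ModuleCat.{u} A) : Prop :=
  IsIso ((comp I).map ((DerivedCategory.singleFunctor (ModuleCat.{u} A) 0).map ((toChat I).app N)))

theorem P_single {N : ModuleCat.{u} A} (h : G I N) : P I (single0 N) := by
  let c := (HomologicalComplex.singleMapHomologicalComplex (chat I) (ComplexShape.up ℤ) 0).app N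
  have e : toChatCx I (single0 N) ≫ c.hom =
      (HomologicalComplex.single (ModuleCat.{u} A) (ComplexShape.up ℤ) 0).map ((toChat I).app N) := by
    refine from_single_hom_ext ?_
    rw [comp_f, show c.hom.f 0 = _ from singleMapHomologicalComplex_hom_app_self (chat I) (ComplexShape.up ℤ) 0 N,
      single_map_f_self]
    exact (Category.assoc _ _ _).symm.trans
      ((congrArg (· ≫ _) ((toChat I).naturality (singleObjXSelf (ComplexShape.up ℤ) 0 N).hom).symm).trans
        (Category.assoc _ _ _))
  have h1 : IsIso ((comp I).map (DerivedCategory.Q.map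
      ((HomologicalComplex.single (ModuleCat.{u} A) (ComplexShape.up ℤ) 0).map ((toChat I).app N)))) :=
    (NatIso.isIso_map_iff (Functor.isoWhiskerRight (DerivedCategory.singleFunctorIsoCompQ (ModuleCat.{u} A) 0) (comp I))
      ((toChat I).app N)).1 h
  rw [← e, Functor.map_comp, Functor.map_comp] at h1
  exact IsIso.of_isIso_comp_right _ ((comp I).map (DerivedCategory.Q.map c.hom))

theorem G_of_iso {N N' : ModuleCat.{u} A} (e : N ≅ N') (h : G I N) : G I N' := by
  have := (show IsIso ((comp I).map ((DerivedCategory.singleFunctor (ModuleCat.{u} A) 0).map ((toChat I).app N))) from h)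
  have e' : (toChat I).app N' = e.inv ≫ (toChat I).app N ≫ (chat I).map e.hom := by
    rw [← (toChat I).naturality e.hom]
    exact (Iso.inv_hom_id_assoc e _).symm
  show IsIso ((comp I).map ((DerivedCategory.singleFunctor (ModuleCat.{u} A) 0).map ((toChat I).app N')))
  rw [e', Functor.map_comp, Functor.map_comp, Functor.map_comp, Functor.map_comp]
  infer_instance

section Finite

variable (B : Type u) [CommRing B] [Algebra A B]

omit [DRing.HasDerivedCompletion I] in
theorem of_tensor [IsNoetherianRing B] (M : Type u) [AddCommGroup M] [Module A M] [Module.Finite A M] (x : B ⊗[A] M) :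
    ((((AdicCompletion.ofTensorProductEquivOfFiniteNoetherian (I.map (algebraMap A B)) (B ⊗[A] M)).restrictScalars B).symm ≪≫ₗ
      (TensorProduct.AlgebraTensorModule.cancelBaseChange A B B (Bhat I B) M)).restrictScalars A).symm
        ((toBhat I B).rTensor M x) = AdicCompletion.of (I.map (algebraMap A B)) (B ⊗[A] M) x := by
  induction x using TensorProduct.induction_on with
  | zero => simp only [map_zero]
  | add p q hp hq => simp only [map_add, hp, hq]
  | tmul b m =>
    show AdicCompletion.ofTensorProductEquivOfFiniteNoetherian (I.map (algebraMap A B)) (B ⊗[A] M)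
      ((TensorProduct.AlgebraTensorModule.cancelBaseChange A B B (Bhat I B) M).symm
        ((toBhat I B b) ⊗ₜ[A] m)) = _
    rw [TensorProduct.AlgebraTensorModule.cancelBaseChange_symm_tmul,
      AdicCompletion.ofTensorProductEquivOfFiniteNoetherian_apply, AdicCompletion.ofTensorProduct_tmul]
    have hb : toBhat I B b = algebraMap B (AdicCompletion (I.map (algebraMap A B)) B) b := by
      rw [AdicCompletion.algebraMap_apply]; rfl
    rw [hb, algebraMap_smul, ← map_smul, TensorProduct.smul_tmul', smul_eq_mul, mul_one]

omit [DRing.HasDerivedCompletion I] in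
theorem pow_smul_top_eq (X : Type u) [AddCommGroup X] [Module A X] [Module B X] [IsScalarTower A B X] (n : ℕ) :
    ((I.map (algebraMap A B)) ^ n • (⊤ : Submodule B X)).restrictScalars A = I ^ n • (⊤ : Submodule A X) := by
  rw [← Ideal.map_pow]
  exact smul_top_eq (I ^ n) B X

variable [IsNoetherianRing B] [Module.Flat A B]

theorem G_tensor (hI : I.FG) (M : Type u) [AddCommGroup M] [Module A M] [Module.Finite A M] :
    G I (ModuleCat.of A (B ⊗[A] M)) := by
  let X := B ⊗[A] M
  let J := I.map (algebraMap A B)
  let e : ∀ n, (X ⧸ (J ^ n • ⊤ : Submodule B X)) ≃ₗ[A] (X ⧸ (I ^ n • ⊤ : Submodule A X)) := fun n =>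
    (Submodule.Quotient.restrictScalarsEquiv A (J ^ n • ⊤ : Submodule B X)).symm.trans
      (Submodule.quotEquivOfEq _ _ (pow_smul_top_eq I B X n))
  have he : ∀ n x, e n (Submodule.Quotient.mk x) = Submodule.Quotient.mk x := fun n x => rfl
  have het : ∀ n y, ((qT I n).app (ModuleCat.of A X)).hom (e (n + 1) y) =
      e n (AdicCompletion.transitionMap J X (Nat.le_succ n) y) := fun n y => by
    obtain ⟨x, rfl⟩ := Submodule.Quotient.mk_surjective _ y
    rfl
  let ψ : AdicCompletion J X →ₗ[A] chatSub I (ModuleCat.of A X) :=
    LinearMap.codRestrict _ (LinearMap.pi fun n =>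
      (e n).toLinearMap ∘ₗ (AdicCompletion.eval J X n).restrictScalars A) fun x => (mem_chatSub I).2 fun n => by
        refine (het n _).trans (congrArg (e n) ?_)
        exact x.2 (Nat.le_succ n)
  have hψ : Function.Bijective ψ := by
    constructor
    · intro x y h
      exact AdicCompletion.ext fun n => (e n).injective (congrFun (congrArg Subtype.val h) n)
    · rintro ⟨y, hy⟩
      have hc : ∀ {m n : ℕ} (hmn : m ≤ n), AdicCompletion.transitionMap J X hmn ((e n).symm (y n)) = (e m).symm (y m) := by
        intro m n hmn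
        induction n, hmn using Nat.le_induction with
        | base =>
          obtain ⟨x, hx⟩ := Submodule.Quotient.mk_surjective _ ((e m).symm (y m))
          rw [← hx]; rfl
        | succ n hmn ih =>
          rw [← ih]
          have h := (mem_chatSub I).1 hy n
          rw [← (e (n + 1)).apply_symm_apply (y (n + 1)), het] at h
          rw [show (e n).symm (y n) = AdicCompletion.transitionMap J X (Nat.le_succ n) ((e (n + 1)).symm (y (n + 1)))
            from (e n).symm_apply_eq.2 h.symm]
          obtain ⟨x, hx⟩ := Submodule.Quotient.mk_surjective _ ((e (n + 1)).symm (y (n + 1)))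
          rw [← hx]; rfl
      exact ⟨⟨fun n => (e n).symm (y n), fun hmn => hc hmn⟩, Subtype.ext (funext fun n => (e n).apply_symm_apply (y n))⟩
  let E : AdicCompletion J X ≃ₗ[A] Bhat I B ⊗[A] M :=
    (((AdicCompletion.ofTensorProductEquivOfFiniteNoetherian J X).restrictScalars B).symm ≪≫ₗ
      (TensorProduct.AlgebraTensorModule.cancelBaseChange A B B (Bhat I B) M)).restrictScalars A
  let W : Bhat I B ⊗[A] M ≃ₗ[A] chatSub I (ModuleCat.of A X) := E.symm.trans (LinearEquiv.ofBijective ψ hψ)
  have key : ∀ x : X, W ((toBhat I B).rTensor M x) = ((toChat I).app (ModuleCat.of A X)).hom x := by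
    intro x
    have hx : E.symm ((toBhat I B).rTensor M x) = AdicCompletion.of J X x := of_tensor I B M x
    refine Subtype.ext (funext fun n => ?_)
    show e n (AdicCompletion.eval J X n (E.symm ((toBhat I B).rTensor M x))) = Submodule.Quotient.mk x
    rw [hx, AdicCompletion.eval_of]
    exact he n x
  have heq : (toChat I).app (ModuleCat.of A X) = ModuleCat.ofHom ((toBhat I B).rTensor M) ≫ W.toModuleIso.hom :=
    ModuleCat.hom_ext (LinearMap.ext fun x => (key x).symm)
  show IsIso ((comp I).map ((DerivedCategory.singleFunctor (ModuleCat.{u} A) 0).map ((toChat I).app (ModuleCat.of A X))))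
  have := cIso_toBhat I B hI M
  have : IsIso ((comp I).map ((DerivedCategory.singleFunctor (ModuleCat.{u} A) 0).map
    (ModuleCat.ofHom ((toBhat I B).rTensor M)))) := cIso_toBhat I B hI M
  have h2 : IsIso ((comp I).map ((DerivedCategory.singleFunctor (ModuleCat.{u} A) 0).map
      (ModuleCat.ofHom ((toBhat I B).rTensor M) ≫ W.toModuleIso.hom))) := by
    rw [Functor.map_comp, Functor.map_comp]; infer_instance
  exact heq ▸ h2

end Finite

theorem G_nice (hI : I.FG) {M : Type u} [AddCommGroup M] [Module A M] [Module.Finite A M]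
    {N : ModuleCat.{u} A} (h : Nice M N) : G I N := by
  obtain ⟨B, _, _, hB, hflat, ⟨e⟩⟩ := h
  haveI := hB
  haveI := hflat
  exact G_of_iso I (N := ModuleCat.of A (B ⊗[A] M)) e.symm.toModuleIso (G_tensor I B hI M)

/-- Termwise completion computes the completion of the Čech complex. -/
theorem P_extCech (hI : I.FG) {M : Type u} [AddCommGroup M] [Module A M] [Module.Finite A M] :
    ∀ (fs : List A) (N : ModuleCat.{u} A), Nice M N → ∀ (F : ModuleCat.{u} A ⥤ ModuleCat.{u} A) [F.Additive],
      (∀ N', Nice M N' → Nice M (F.obj N')) → P I ((F.mapHomologicalComplex (ComplexShape.up ℤ)).obj (DerCA.extCech N fs))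
  | [], N, hN, F, _, hF => P_of_iso I ((singleMapHomologicalComplex F (ComplexShape.up ℤ) 0).app N).symm
      (P_single I (G_nice I hI (hF N hN)))
  | f :: fs, N, hN, F, _, hF => by
    let FC := F.mapHomologicalComplex (ComplexShape.up ℤ)
    let S := Submonoid.powers f
    let E := DerCA.extCech N fs
    have hE : P I (FC.obj E) := P_extCech hI fs N hN F hF
    have hL : P I (FC.obj ((DerCA.locCx S).obj E)) :=
      P_of_iso I (HomologicalComplex.Hom.isoOfComponents (fun i => Iso.refl _) (fun i j _ => by
          simp only [Iso.refl_hom, Category.id_comp, Category.comp_id]))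
        (P_extCech hI fs N hN (DerCA.locFunctor S ⋙ F) fun N' h' => hF _ (h'.loc f))
    let φ := DerCA.locCxUnit S E
    let T := (CochainComplex.mappingCone.triangleRotateShortComplex φ).map FC
    have hcone : P I (FC.obj (CochainComplex.mappingCone φ)) :=
      P_of_split I T (fun n => (CochainComplex.mappingCone.triangleRotateShortComplexSplitting φ n).map F) hL
        (P_of_iso I ((FC.commShiftIso (1 : ℤ)).app E).symm (P_shift I _ 1 hE))
    exact P_of_iso I ((FC.commShiftIso (-1 : ℤ)).app (CochainComplex.mappingCone φ)).symm (P_shift I _ (-1) hcone)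

end Groth.LocCohTransform.CompletionRlim
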