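import Groth.Agent.LocCohTransform.CompletionRlim
import Groth.Agent.LocCohTransform.GreenleesMay

/-!
The derived completion of `RΓ_J(M)` is the derived limit of `RΓ_J(M / Iⁿ M)`.
-/

set_option autoImplicit false
set_option linter.style.haveILetI false
set_option linter.unusedSectionVars false

universe u

open CategoryTheory CategoryTheory.Limits CategoryTheory.Pretriangulated HomologicalComplex

attribute [local instance] HasDerivedCategory.standard

namespace Groth.LocCohTransform.CompletionRlim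

open CompletionFunctor RlimModules CechTriangle

variable {A : Type u} [CommRing A] (I : Ideal A) (n : ℕ)

theorem ker_preConeMap (f : A) {K L : DRing.Cx A} (a : K ⟶ L)
    (h : ∀ k, LinearMap.ker (a.f k).hom ≤ (I ^ n • ⊤ : Submodule A (K.X k))) (k : ℤ) :
    LinearMap.ker ((preConeMap f a).f k).hom ≤
      (I ^ n • ⊤ : Submodule A ((CochainComplex.mappingCone (DerCA.locCxUnit (Submonoid.powers f) K)).X k)) := by
  let S := Submonoid.powers f
  intro x hx
  rw [LinearMap.mem_ker] at hx
  have hy : ((CochainComplex.mappingCone.fst (DerCA.locCxUnit S K)).1.v k (k + 1) rfl).hom x ∈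
      (I ^ n • ⊤ : Submodule A (K.X (k + 1))) := by
    refine h (k + 1) (LinearMap.mem_ker.2 ?_)
    refine (LinearMap.congr_fun (congrArg ModuleCat.Hom.hom (preConeMap_fst f a k (k + 1) rfl)) x).symm.trans ?_
    exact (congrArg ((CochainComplex.mappingCone.fst (DerCA.locCxUnit S L)).1.v k (k + 1) rfl).hom hx).trans
      (map_zero ((CochainComplex.mappingCone.fst (DerCA.locCxUnit S L)).1.v k (k + 1) rfl).hom)
  have key : ∀ z : LocalizedModule S (K.X k),
      IsLocalizedModule.map S (LocalizedModule.mkLinearMap S (K.X k)) (LocalizedModule.mkLinearMap S (L.X k))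
        (a.f k).hom z = 0 → z ∈ (I ^ n • ⊤ : Submodule A (LocalizedModule S (K.X k))) := by
    intro z h0
    let l := LocalizedModule.mkLinearMap S (K.X k)
    obtain ⟨⟨e, s⟩, hs⟩ := IsLocalizedModule.surj S l z
    have hs0 : s • z = l e := hs
    have h1 : LocalizedModule.mkLinearMap S (L.X k) ((a.f k).hom e) = 0 := by
      rw [← IsLocalizedModule.map_apply S l (LocalizedModule.mkLinearMap S (L.X k)) (a.f k).hom e, ← hs0,
        Submonoid.smul_def]
      refine (map_smul (IsLocalizedModule.map S l (LocalizedModule.mkLinearMap S (L.X k)) (a.f k).hom) (s : A) z).trans ?_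
      exact (congrArg ((s : A) • ·) h0).trans (smul_zero (s : A))
    obtain ⟨s', hs'⟩ := (IsLocalizedModule.eq_zero_iff S (LocalizedModule.mkLinearMap S (L.X k))).1 h1
    have he : s' • e ∈ (I ^ n • ⊤ : Submodule A (K.X k)) :=
      h k (LinearMap.mem_ker.2 ((map_smul _ (s' : A) e).trans hs'))
    have hl : (s' * s : S) • z ∈ (I ^ n • ⊤ : Submodule A (LocalizedModule S (K.X k))) := by
      rw [mul_smul, hs0]
      exact (map_smul l (s' : A) e) ▸ (smulTop_le_comap _ l he)
    obtain ⟨u, hu⟩ := IsLocalizedModule.map_units (S := S) l (s' * s)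
    have hzu : z = (↑u⁻¹ : Module.End A (LocalizedModule S (K.X k))) ((s' * s : S) • z) := by
      have h3 : (s' * s : S) • z = (u : Module.End A (LocalizedModule S (K.X k))) z := by rw [hu]; rfl
      rw [h3, ← Module.End.mul_apply, Units.inv_mul]
      rfl
    rw [hzu]
    exact smulTop_le_comap _ _ hl
  have hz : ((CochainComplex.mappingCone.snd (DerCA.locCxUnit S K)).v k k (add_zero k)).hom x ∈
      (I ^ n • ⊤ : Submodule A (((DerCA.locCx S).obj K).X k)) :=
    key _ ((LinearMap.congr_fun (congrArg ModuleCat.Hom.hom (preConeMap_snd f a k)) x).symm.trans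
        ((congrArg ((CochainComplex.mappingCone.snd (DerCA.locCxUnit S L)).v k k (add_zero k)).hom hx).trans
          (map_zero ((CochainComplex.mappingCone.snd (DerCA.locCxUnit S L)).v k k (add_zero k)).hom)))
  have hid := LinearMap.congr_fun (congrArg ModuleCat.Hom.hom
    (CochainComplex.mappingCone.id_X (DerCA.locCxUnit S K) k (k + 1) rfl)) x
  simp only [ModuleCat.hom_add, ModuleCat.hom_comp, LinearMap.add_apply, LinearMap.comp_apply,
    ModuleCat.hom_id, LinearMap.id_apply] at hid
  rw [← hid]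
  exact add_mem (smulTop_le_comap _ _ hy) (smulTop_le_comap _ _ hz)

theorem ker_cechMap {M N : ModuleCat.{u} A} (g : M ⟶ N)
    (h : LinearMap.ker g.hom ≤ (I ^ n • ⊤ : Submodule A M)) :
    ∀ (fs : List A) (k : ℤ), LinearMap.ker ((cechMap fs g).f k).hom ≤ (I ^ n • ⊤ : Submodule A ((DerCA.extCech M fs).X k))
  | [], k => by
    intro x hx
    rw [LinearMap.mem_ker] at hx
    by_cases hk : k = 0
    · subst hk
      let eM := (singleObjXSelf (ComplexShape.up ℤ) 0 M).toLinearEquiv
      let eN := (singleObjXSelf (ComplexShape.up ℤ) 0 N).toLinearEquiv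
      have h1 : g.hom (eM x) = 0 := by
        have h2 := congr(($(single_map_f_self (ComplexShape.up ℤ) 0 g)).hom x)
        have h3 : eN.symm (g.hom (eM x)) = 0 := h2.symm.trans hx
        exact eN.symm.injective (h3.trans (map_zero _).symm)
      have h4 := smulTop_le_comap (I ^ n) eM.symm.toLinearMap (h (LinearMap.mem_ker.2 h1))
      have h5 := Submodule.mem_comap.1 h4
      rw [LinearEquiv.coe_coe, LinearEquiv.symm_apply_apply] at h5
      exact h5
    · have := ModuleCat.subsingleton_of_isZero (isZero_single_obj_X (ComplexShape.up ℤ) 0 M k hk)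
      rw [show x = 0 from @Subsingleton.elim _ this x 0]
      exact zero_mem _
  | f :: fs, k => ker_preConeMap I n f _ (ker_cechMap g h fs) (k + -1)

variable (M : Type u) [AddCommGroup M] [Module A M] (fs : List A)

/-- `M → M / Iⁿ M`. -/
noncomputable abbrev mq : ModuleCat.of A M ⟶ ModuleCat.of A (M ⧸ (I ^ n • ⊤ : Submodule A M)) :=
  ModuleCat.ofHom (I ^ n • ⊤ : Submodule A M).mkQ

theorem cechMap_mq_surjective (k : ℤ) : Function.Surjective ((cechMap fs (mq I n M)).f k).hom := by
  let T := ShortComplex.mk (ModuleCat.ofHom (I ^ n • ⊤ : Submodule A M).subtype) (mq I n M)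
    (by ext x; exact (Submodule.Quotient.mk_eq_zero _).2 x.2)
  have hT : T.ShortExact :=
    { exact := (ShortComplex.moduleCat_exact_iff _).2 fun x hx => ⟨⟨x, (Submodule.Quotient.mk_eq_zero _).1 hx⟩, rfl⟩
      mono_f := (ModuleCat.mono_iff_injective _).2 Subtype.val_injective
      epi_g := (ModuleCat.epi_iff_surjective _).2 (Submodule.mkQ_surjective _) }
  exact (ModuleCat.epi_iff_surjective _).1
    ((cechSeq_shortExact hT fs).map_of_exact (eval (ModuleCat.{u} A) (ComplexShape.up ℤ) k)).epi_g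

theorem smul_cech_eq_zero {a : A} (ha : a ∈ I ^ n) (k : ℤ)
    (x : (DerCA.extCech (ModuleCat.of A (M ⧸ (I ^ n • ⊤ : Submodule A M))) fs).X k) : a • x = 0 := by
  let N := ModuleCat.of A (M ⧸ (I ^ n • ⊤ : Submodule A M))
  have h : a • 𝟙 N = (0 : A) • 𝟙 N := by
    refine ModuleCat.hom_ext (LinearMap.ext fun y => ?_)
    obtain ⟨m, rfl⟩ := Submodule.Quotient.mk_surjective _ y
    show a • (Submodule.Quotient.mk m : M ⧸ (I ^ n • ⊤ : Submodule A M)) =
      (0 : A) • (Submodule.Quotient.mk m : M ⧸ (I ^ n • ⊤ : Submodule A M))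
    rw [zero_smul, ← Submodule.Quotient.mk_smul, Submodule.Quotient.mk_eq_zero]
    exact Submodule.smul_mem_smul ha trivial
  have h2 := congr(($(congrArg (fun g => cechMap fs g) h)).f k)
  simp only [cechMap_smul] at h2
  exact congr(($h2).hom x).trans (zero_smul A x)

/-- The comparison `E / Iⁿ E → extCech (M / Iⁿ M)`. -/
noncomputable def w : ((qF I n).mapHomologicalComplex (ComplexShape.up ℤ)).obj (DerCA.extCech (ModuleCat.of A M) fs) ⟶
    DerCA.extCech (ModuleCat.of A (M ⧸ (I ^ n • ⊤ : Submodule A M))) fs where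
  f k := ModuleCat.ofHom (Submodule.liftQ _ ((cechMap fs (mq I n M)).f k).hom (Submodule.smul_le.2 fun a ha x _ =>
    LinearMap.mem_ker.2 ((map_smul _ a x).trans (smul_cech_eq_zero I n M fs ha k _))))
  comm' i j _ := ModuleCat.hom_ext (Submodule.linearMap_qext _ (LinearMap.ext fun x =>
    congr(($((cechMap fs (mq I n M)).comm i j)).hom x)))

instance isIso_w : IsIso (w I n M fs) := by
  have : ∀ k, IsIso ((w I n M fs).f k) := fun k => by
    refine (ConcreteCategory.isIso_iff_bijective _).2 ⟨?_, ?_⟩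
    · refine (injective_iff_map_eq_zero ((w I n M fs).f k).hom).2 fun x hx => ?_
      obtain ⟨y, rfl⟩ := Submodule.Quotient.mk_surjective _ x
      exact (Submodule.Quotient.mk_eq_zero _).2 (ker_cechMap I n (mq I n M) (fun m hm =>
        (Submodule.Quotient.mk_eq_zero _).1 hm) fs k hx)
    · intro y
      obtain ⟨x, hx⟩ := cechMap_mq_surjective I n M fs k y
      exact ⟨Submodule.Quotient.mk x, hx⟩
  exact HomologicalComplex.Hom.isIso_of_components _

/-- `M / Iⁿ⁺¹ M → M / Iⁿ M`. -/
noncomputable abbrev tq : ModuleCat.of A (M ⧸ (I ^ (n + 1) • ⊤ : Submodule A M)) ⟶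
    ModuleCat.of A (M ⧸ (I ^ n • ⊤ : Submodule A M)) :=
  ModuleCat.ofHom (Submodule.mapQ (I ^ (n + 1) • ⊤ : Submodule A M) (I ^ n • ⊤ : Submodule A M) LinearMap.id
    (Submodule.smul_mono (Ideal.pow_le_pow_right (Nat.le_succ n)) le_rfl))

theorem w_natural :
    w I (n + 1) M fs ≫ cechMap fs (tq I n M) =
      (NatTrans.mapHomologicalComplex (qT I n) (ComplexShape.up ℤ)).app (DerCA.extCech (ModuleCat.of A M) fs) ≫
        w I n M fs := by
  refine HomologicalComplex.hom_ext _ _ fun k => ModuleCat.hom_ext (Submodule.linearMap_qext _ (LinearMap.ext fun x => ?_))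
  have h : cechMap fs (mq I (n + 1) M) ≫ cechMap fs (tq I n M) = cechMap fs (mq I n M) := by
    rw [← cechMap_comp]; rfl
  exact congr(($(congr_hom h k)).hom x)

theorem isRlim_of_iso {K K' : ℕ → Dual.D A} {t : ∀ n, K (n + 1) ⟶ K n} {t' : ∀ n, K' (n + 1) ⟶ K' n}
    [HasProduct K] [HasProduct K'] {L L' : Dual.D A} (e : ∀ n, K n ≅ K' n)
    (he : ∀ n, (e (n + 1)).hom ≫ t' n = t n ≫ (e n).hom) (eL : L ≅ L') (h : DCoh.IsRlim K t L) :
    DCoh.IsRlim K' t' L' := by
  obtain ⟨a, c, hd⟩ := h
  let P : ∏ᶜ K ≅ ∏ᶜ K' :=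
    { hom := Pi.lift fun n => Pi.π K n ≫ (e n).hom
      inv := Pi.lift fun n => Pi.π K' n ≫ (e n).inv
      hom_inv_id := Limits.Pi.hom_ext _ _ fun n => by simp
      inv_hom_id := Limits.Pi.hom_ext _ _ fun n => by simp }
  have hP : ∀ n, P.hom ≫ Pi.π K' n = Pi.π K n ≫ (e n).hom := fun n => Pi.lift_π _ _
  refine ⟨eL.inv ≫ a ≫ P.hom, P.inv ≫ c ≫ eL.hom⟦(1 : ℤ)⟧', isomorphic_distinguished _ hd _
    (Triangle.isoMk _ _ eL.symm P.symm P.symm ?_ ?_ ?_)⟩
  · show (eL.inv ≫ a ≫ P.hom) ≫ P.inv = eL.inv ≫ a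
    simp
  · show Pi.lift _ ≫ P.inv = P.inv ≫ Pi.lift _
    rw [Iso.comp_inv_eq, Category.assoc, Iso.eq_inv_comp]
    refine Limits.Pi.hom_ext _ _ fun n => ?_
    simp only [Category.assoc, hP, Pi.lift_π, Preadditive.comp_sub, reassoc_of% hP, Pi.lift_π_assoc,
      Preadditive.sub_comp, he]
  · show (P.inv ≫ c ≫ eL.hom⟦(1 : ℤ)⟧') ≫ eL.inv⟦(1 : ℤ)⟧' = P.inv ≫ c
    rw [Category.assoc, Category.assoc, ← Functor.map_comp, eL.hom_inv_id, CategoryTheory.Functor.map_id,
      Category.comp_id]

theorem main_rlim [IsNoetherianRing A] (J : Ideal A) [DRing.HasRgammaI J] [DRing.HasDerivedCompletion I]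
    [∀ K : ℕ → Dual.D A, HasProduct K] [Module.Finite A M] :
    DCoh.IsRlim (fun n : ℕ => (DRing.RgammaI J).obj (Dual.inD A (M ⧸ (I ^ n • ⊤ : Submodule A M))))
      (fun n : ℕ => (DRing.RgammaI J).map ((DerivedCategory.singleFunctor (ModuleCat.{u} A) 0).map (tq I n M)))
      ((comp I).obj ((DRing.RgammaI J).obj (Dual.inD A M))) ∧
    ∀ i : ℤ, i < 0 → Subsingleton (Dual.HD A ((comp I).obj ((DRing.RgammaI J).obj (Dual.inD A M))) i) := by
  have hI : I.FG := IsNoetherian.noetherian I
  obtain ⟨gens, hgens⟩ := (IsNoetherian.noetherian J : J.FG)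
  have hfs : Ideal.span {x | x ∈ gens.toList} = J := by
    rw [← hgens]; simp only [Finset.mem_toList]; rfl
  let fs := gens.toList
  let E := DerCA.extCech (ModuleCat.of A M) fs
  let En : ℕ → DRing.Cx A := fun n => ((qF I n).mapHomologicalComplex (ComplexShape.up ℤ)).obj E
  let tn : ∀ n, En (n + 1) ⟶ En n := fun n => (NatTrans.mapHomologicalComplex (qT I n) (ComplexShape.up ℤ)).app E
  have ht : ∀ n k, Function.Surjective ((tn n).f k).hom := fun n k => qT_surjective I n (E.X k)
  choose e he using fun N : ModuleCat.{u} A => exists_extCech_iso J fs hfs N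
  have hcl : ∀ n, DRing.IsDerivedComplete I (DerivedCategory.Q.obj (En n)) := fun n =>
    GreenleesMay.complete_of_killed I (N := n) fun i x a ha => by
      apply (RgammaTorsion.hdEquiv (En n) i).injective
      rw [map_smul, map_zero]
      have h0 : a • 𝟙 (En n) = 0 := HomologicalComplex.hom_ext _ _ fun k =>
        ModuleCat.hom_ext (Submodule.linearMap_qext _ (LinearMap.ext fun y =>
          (Submodule.Quotient.mk_eq_zero (I ^ n • ⊤ : Submodule A (E.X k))).2
            (Submodule.smul_mem_smul ha trivial)))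
      have h1 := homologyMap_smul_id (En n) a i
      rw [h0, homologyMap_zero] at h1
      exact (congr(($h1).hom (RgammaTorsion.hdEquiv (En n) i x))).symm
  have hlim := isRlim En tn ht
  have hclim := complete_lim En tn ht hcl
  let eC : lim En tn ≅ (chatCx I).obj E :=
    HomologicalComplex.Hom.isoOfComponents (fun k => Iso.refl _) (fun i j _ => by
      simp only [Iso.refl_hom, Category.id_comp, Category.comp_id]
      rfl)
  have hP : P I E := P_of_iso I
    (HomologicalComplex.Hom.isoOfComponents (fun k => Iso.refl _) (fun i j _ => by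
      simp only [Iso.refl_hom, Category.id_comp, Category.comp_id]))
    (P_extCech I hI (M := M) fs (ModuleCat.of A M) (nice_self M) (𝟭 _) fun N' h => h)
  have := (show IsIso ((comp I).map (DerivedCategory.Q.map (toChatCx I E))) from hP)
  have := isIso_η_of_complete I hclim
  let eL : DerivedCategory.Q.obj (lim En tn) ≅ (comp I).obj ((DRing.RgammaI J).obj (Dual.inD A M)) :=
    asIso ((η I).app (DerivedCategory.Q.obj (lim En tn))) ≪≫ (comp I).mapIso (DerivedCategory.Q.mapIso eC) ≪≫
      (asIso ((comp I).map (DerivedCategory.Q.map (toChatCx I E)))).symm ≪≫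
      (comp I).mapIso (e (ModuleCat.of A M))
  refine ⟨isRlim_of_iso (fun n => DerivedCategory.Q.mapIso (asIso (w I n M fs)) ≪≫ e _) (fun n => ?_) eL hlim, ?_⟩
  · have hsq : (e _).hom ≫ (DRing.RgammaI J).map ((DerivedCategory.singleFunctor (ModuleCat.{u} A) 0).map (tq I n M)) =
        DerivedCategory.Q.map (cechMap fs (tq I n M)) ≫ (e _).hom := by
      refine (RgammaTorsion.comp_ε_bijective J _ _ (isPowerTorsion_extCech J fs hfs _)).1 ?_
      show (_ ≫ _) ≫ (DRing.RgammaIε J).app _ = (_ ≫ _) ≫ (DRing.RgammaIε J).app _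
      rw [Category.assoc, Category.assoc, he, CompletionFunctor.aug_natural]
      have hnat := (DRing.RgammaIε J).naturality ((DerivedCategory.singleFunctor (ModuleCat.{u} A) 0).map (tq I n M))
      refine (congrArg ((e _).hom ≫ ·) hnat).trans ?_
      exact (Category.assoc _ _ _).symm.trans (congrArg (· ≫ _) (he _))
    show (DerivedCategory.Q.map (w I (n + 1) M fs) ≫ (e _).hom) ≫ _ =
      DerivedCategory.Q.map (tn n) ≫ DerivedCategory.Q.map (w I n M fs) ≫ (e _).hom
    refine (Category.assoc _ _ _).trans ((congrArg (_ ≫ ·) hsq).trans ?_)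
    rw [← Category.assoc, ← Functor.map_comp, w_natural, Functor.map_comp, Category.assoc]
  · intro i hi
    have := (completion_extCech I hI (M := M) fs (ModuleCat.of A M) (nice_self M)).1 i hi
    exact ((DerivedCategory.homologyFunctor (ModuleCat.{u} A) i).mapIso
      ((comp I).mapIso (e (ModuleCat.of A M)))).toLinearEquiv.symm.toEquiv.subsingleton

end Groth.LocCohTransform.CompletionRlim
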