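import Groth.Agent.LocCohTransform.ExtCechCompare
import Mathlib.RingTheory.Derivation.Basic

/-!
Derivation operators on the extended Čech complex and on local cohomology.
-/

set_option autoImplicit false
universe u
open CategoryTheory CategoryTheory.Limits HomologicalComplex CochainComplex CochainComplex.HomComplex

namespace Groth.LocCohTransform.DerCech

variable {R : Type u} [CommRing R] (θ : Derivation ℤ R R)

/-- `D` satisfies the Leibniz rule over `θ`. -/
def IsDOp {M : Type u} [AddCommGroup M] [Module R M] (D : M →+ M) : Prop :=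
  ∀ (a : R) (m : M), D (a • m) = θ a • m + a • D m

section Loc

variable {θ} {S : Submonoid R} {M L L' : Type u} [AddCommGroup M] [Module R M] [AddCommGroup L]
  [Module R L] [AddCommGroup L'] [Module R L']

theorem smul_inj (ι : M →ₗ[R] L) [IsLocalizedModule S ι] (s : S) {y y' : L}
    (h : (s : R) • y = (s : R) • y') : y = y' :=
  ((Module.End.isUnit_iff _).1 (IsLocalizedModule.map_units ι s)).1 h

/-- Operators on a localization are determined by their restriction. -/
theorem loc_ext {M' : Type u} [AddCommGroup M'] [Module R M'] (ι : M →ₗ[R] L) [IsLocalizedModule S ι]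
    (ι' : M' →ₗ[R] L') [IsLocalizedModule S ι']
    (g : L →ₗ[R] L') {D : L →+ L} (hD : IsDOp θ D) {D' : L' →+ L'} (hD' : IsDOp θ D')
    (h : ∀ m, D' (g (ι m)) = g (D (ι m))) (q : L) : D' (g q) = g (D q) := by
  obtain ⟨⟨m, s⟩, hs⟩ := IsLocalizedModule.surj S ι q
  have hs' : (s : R) • q = ι m := hs
  apply smul_inj (S := S) ι' s
  have e1 : D' (g ((s : R) • q)) = g (D ((s : R) • q)) := by rw [hs']; exact h m
  rw [map_smul, hD', hD, map_add, map_smul, map_smul] at e1
  exact add_left_cancel e1

/-- An operator extends to the localization. -/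
theorem exists_loc (ι : M →ₗ[R] L) [IsLocalizedModule S ι] {D : M →+ M} (hD : IsDOp θ D) :
    ∃ D' : L →+ L, IsDOp θ D' ∧ ∀ m, D' (ι m) = ι (D m) := by
  classical
  have key : ∀ q : L, ∃ y : L, ∀ (m : M) (s : S), (s : R) • q = ι m →
      (s : R) • y = ι (D m) - θ (s : R) • q := by
    intro q
    obtain ⟨⟨m₀, s₀⟩, hs₀⟩ := IsLocalizedModule.surj S ι q
    have hs₀' : (s₀ : R) • q = ι m₀ := hs₀
    obtain ⟨y, hy⟩ := ((Module.End.isUnit_iff _).1 (IsLocalizedModule.map_units ι s₀)).2
      (ι (D m₀) - θ (s₀ : R) • q)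
    have hy' : (s₀ : R) • y = ι (D m₀) - θ (s₀ : R) • q := hy
    refine ⟨y, fun m s hs => ?_⟩
    have h1 : ι ((s₀ : R) • m) = ι ((s : R) • m₀) := by
      rw [map_smul, map_smul, ← hs, ← hs₀', smul_comm]
    obtain ⟨u, hu⟩ := (IsLocalizedModule.eq_iff_exists S ι).1 h1
    have hu' : (u : R) • ((s₀ : R) • m) = (u : R) • ((s : R) • m₀) := hu
    rw [smul_smul, smul_smul] at hu'
    have h2 := congrArg (fun x => ι (D x)) hu'
    simp only [hD _ _, map_add, map_smul, θ.leibniz, smul_eq_mul, ← hs, ← hs₀'] at h2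
    apply smul_inj (S := S) ι (u * s₀)
    rw [Submonoid.coe_mul]
    linear_combination (norm := module) ((u : R) * (s : R)) • hy' - h2
  choose D' hD' using key
  have hι : ∀ m, D' (ι m) = ι (D m) := fun m => by
    have := hD' (ι m) m 1 (by simp)
    simpa using this
  refine ⟨⟨⟨D', ?_⟩, ?_⟩, ?_, hι⟩
  · simpa using hι 0
  · intro q q'
    obtain ⟨⟨m, s⟩, hs⟩ := IsLocalizedModule.surj S ι q
    obtain ⟨⟨m', s'⟩, hs'⟩ := IsLocalizedModule.surj S ι q'
    have hs1 : (s : R) • q = ι m := hs
    have hs2 : (s' : R) • q' = ι m' := hs'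
    have h := hD' (q + q') ((s' : R) • m + (s : R) • m') (s * s') (by
      rw [map_add, map_smul, map_smul, ← hs1, ← hs2, Submonoid.coe_mul]; module)
    have e1 := hD' q m s hs1
    have e2 := hD' q' m' s' hs2
    simp only [Submonoid.coe_mul, map_add, map_smul, hD _ _, θ.leibniz, smul_eq_mul, ← hs1, ← hs2] at h e1 e2
    apply smul_inj (S := S) ι (s * s')
    rw [Submonoid.coe_mul, smul_add]
    linear_combination (norm := module) h - (s' : R) • e1 - (s : R) • e2
  · intro a q
    obtain ⟨⟨m, s⟩, hs⟩ := IsLocalizedModule.surj S ι q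
    have hs1 : (s : R) • q = ι m := hs
    have h := hD' (a • q) (a • m) s (by rw [map_smul, ← hs1, smul_comm])
    have e1 := hD' q m s hs1
    simp only [hD _ _, map_add, map_smul, ← hs1] at h e1
    apply smul_inj (S := S) ι s
    change (s : R) • D' (a • q) = (s : R) • (θ a • q + a • D' q)
    linear_combination (norm := module) h - a • e1

end Loc

/-- A complex carrying a compatible derivation operator. -/
def HasDOp (K : DRing.Cx R) : Prop :=
  ∃ D : ∀ p, K.X p →+ K.X p, (∀ p, IsDOp θ (D p)) ∧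
    ∀ p q, ∀ x : K.X p, (K.d p q).hom (D p x) = D q ((K.d p q).hom x)

variable {θ}

theorem hasDOp_single : HasDOp θ (single0 (ModuleCat.of R R)) := by
  classical
  let e := (singleObjXSelf (ComplexShape.up ℤ) (0 : ℤ) (ModuleCat.of R R)).toLinearEquiv
  refine ⟨fun p => if h : p = 0 then by
    subst h
    exact e.symm.toAddMonoidHom.comp ((AddMonoidHom.mk' (fun a : R => θ a) θ.map_add).comp e.toAddMonoidHom)
    else 0, fun p => ?_, fun p q x => ?_⟩
  · by_cases h : p = 0
    · subst h
      intro a m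
      simp only [↓reduceDIte]
      change e.symm (θ (e (a • m))) = θ a • m + a • e.symm (θ (e m))
      rw [map_smul, smul_eq_mul, θ.leibniz]
      apply e.injective
      simp only [map_add, map_smul, LinearEquiv.apply_symm_apply, smul_eq_mul]
      ring
    · have := (isZero_single_obj_X (ComplexShape.up ℤ) (0 : ℤ) (ModuleCat.of R R) p h)
      have : Subsingleton ((single0 (ModuleCat.of R R)).X p) := ModuleCat.subsingleton_of_isZero this
      intro a m
      exact Subsingleton.elim _ _
  · simp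

/-- An operator on a complex extends to the mapping cone of a compatible map. -/
theorem exists_cone {K L : DRing.Cx R} (φ : K ⟶ L)
    (DK : ∀ p, K.X p →+ K.X p) (hK : ∀ p, IsDOp θ (DK p))
    (hKd : ∀ p q, ∀ x : K.X p, (K.d p q).hom (DK p x) = DK q ((K.d p q).hom x))
    (DL : ∀ p, L.X p →+ L.X p) (hL : ∀ p, IsDOp θ (DL p))
    (hLd : ∀ p q, ∀ x : L.X p, (L.d p q).hom (DL p x) = DL q ((L.d p q).hom x))
    (hφ : ∀ p, ∀ x : K.X p, (φ.f p).hom (DK p x) = DL p ((φ.f p).hom x)) :
    HasDOp θ (mappingCone φ) := by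
  let fs : ∀ n, (mappingCone φ).X n →ₗ[R] K.X (n + 1) := fun n =>
    ((mappingCone.fst φ).1.v n (n + 1) rfl).hom
  let sn : ∀ n, (mappingCone φ).X n →ₗ[R] L.X n := fun n =>
    ((mappingCone.snd φ).v n n (add_zero n)).hom
  let il : ∀ n, K.X (n + 1) →ₗ[R] (mappingCone φ).X n := fun n =>
    ((mappingCone.inl φ).v (n + 1) n (by omega)).hom
  let ir : ∀ n, L.X n →ₗ[R] (mappingCone φ).X n := fun n => ((mappingCone.inr φ).f n).hom
  have hid : ∀ n x, il n (fs n x) + ir n (sn n x) = x := fun n x =>
    LinearMap.congr_fun (congrArg ModuleCat.Hom.hom (mappingCone.id_X φ n (n + 1) rfl)) x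
  let D : ∀ n, (mappingCone φ).X n →+ (mappingCone φ).X n := fun n =>
    (il n).toAddMonoidHom.comp ((DK (n + 1)).comp (fs n).toAddMonoidHom) +
      (ir n).toAddMonoidHom.comp ((DL n).comp (sn n).toAddMonoidHom)
  have hD : ∀ n x, D n x = il n (DK (n + 1) (fs n x)) + ir n (DL n (sn n x)) := fun n x => rfl
  have hl1 : ∀ n a, fs n (il n a) = a := fun n a =>
    LinearMap.congr_fun (congrArg ModuleCat.Hom.hom (mappingCone.inl_v_fst_v φ (n + 1) n rfl)) a
  have hl2 : ∀ n a, sn n (il n a) = 0 := fun n a =>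
    LinearMap.congr_fun (congrArg ModuleCat.Hom.hom
      (mappingCone.inl_v_snd_v φ (n + 1) n (by omega))) a
  have hr1 : ∀ n b, fs n (ir n b) = 0 := fun n b =>
    LinearMap.congr_fun (congrArg ModuleCat.Hom.hom (mappingCone.inr_f_fst_v φ n (n + 1) rfl)) b
  have hr2 : ∀ n b, sn n (ir n b) = b := fun n b =>
    LinearMap.congr_fun (congrArg ModuleCat.Hom.hom (mappingCone.inr_f_snd_v φ n)) b
  have hDl : ∀ n a, D n (il n a) = il n (DK (n + 1) a) := fun n a => by
    rw [hD, hl1, hl2, map_zero, map_zero, add_zero]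
  have hDr : ∀ n b, D n (ir n b) = ir n (DL n b) := fun n b => by
    rw [hD, hr1, hr2, map_zero, map_zero, zero_add]
  refine ⟨D, fun n a x => ?_, fun p q x => ?_⟩
  · rw [hD, map_smul (fs n), map_smul (sn n), hK (n + 1) a, hL n a, map_add, map_add, map_smul, map_smul,
      map_smul, map_smul, hD n x, smul_add]
    conv_rhs => rw [← hid n x]
    simp only [smul_add]
    rw [hid n x]
    abel
  · by_cases hpq : p + 1 = q
    · subst hpq
      have hdl : ∀ a, ((mappingCone φ).d p (p + 1)).hom (il p a) =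
          ir (p + 1) ((φ.f (p + 1)).hom a) - il (p + 1) ((K.d (p + 1) (p + 1 + 1)).hom a) := fun a =>
        LinearMap.congr_fun (congrArg ModuleCat.Hom.hom
          (mappingCone.inl_v_d φ (p + 1) p (p + 1 + 1) (by omega) (by omega))) a
      have hdr : ∀ b, ((mappingCone φ).d p (p + 1)).hom (ir p b) = ir (p + 1) ((L.d p (p + 1)).hom b) :=
        fun b => LinearMap.congr_fun (congrArg ModuleCat.Hom.hom (mappingCone.inr_f_d φ p (p + 1))) b
      rw [← hid p x]
      simp only [map_add, hDl, hDr, hdl, hdr, map_sub]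
      rw [hKd, hLd, hφ]
    · rw [(mappingCone φ).shape p q hpq]
      simp

theorem hasDOp_shift {K : DRing.Cx R} (h : HasDOp θ K) (k : ℤ) : HasDOp θ (K⟦k⟧) := by
  obtain ⟨D, h1, h2⟩ := h
  refine ⟨fun p => D (p + k), fun p => h1 _, fun p q x => ?_⟩
  change (k.negOnePow • K.d (p + k) (q + k)).hom (D (p + k) x) = D (q + k) ((k.negOnePow • K.d (p + k) (q + k)).hom x)
  rw [Units.smul_def]
  simp only [ModuleCat.hom_zsmul, LinearMap.smul_apply, map_zsmul, h2]

theorem hasDOp_extCech : ∀ fs : List R, HasDOp θ (DerCA.extCech (ModuleCat.of R R) fs)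
  | [] => hasDOp_single
  | f :: fs => by
    change HasDOp θ (cone (DerCA.extCech (ModuleCat.of R R) fs) f)
    have h := hasDOp_extCech fs
    revert h
    generalize DerCA.extCech (ModuleCat.of R R) fs = K
    rintro ⟨D, hD, hDd⟩
    let S := Submonoid.powers f
    have key : ∀ p, ∃ D' : ((DerCA.locCx S).obj K).X p →+ ((DerCA.locCx S).obj K).X p,
        IsDOp θ D' ∧ ∀ m, D' (LocalizedModule.mkLinearMap S (K.X p) m) =
          LocalizedModule.mkLinearMap S (K.X p) (D p m) := fun p =>
      exists_loc (S := S) (M := K.X p) (L := LocalizedModule S (K.X p)) (LocalizedModule.mkLinearMap S (K.X p)) (hD p)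
    choose D' hD' hι using key
    have hd' : ∀ p q, ∀ x : ((DerCA.locCx S).obj K).X p,
        (((DerCA.locCx S).obj K).d p q).hom (D' p x) =
          D' q ((((DerCA.locCx S).obj K).d p q).hom x) := by
      intro p q x
      refine (loc_ext (S := S) (M := K.X p) (M' := K.X q) (L := LocalizedModule S (K.X p)) (L' := LocalizedModule S (K.X q))
        (LocalizedModule.mkLinearMap S (K.X p)) (LocalizedModule.mkLinearMap S (K.X q))
        (((DerCA.locCx S).obj K).d p q).hom (hD' p) (hD' q) (fun m => ?_) x).symm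
      have e : ∀ m, (((DerCA.locCx S).obj K).d p q).hom (LocalizedModule.mkLinearMap S (K.X p) m) =
          LocalizedModule.mkLinearMap S (K.X q) ((K.d p q).hom m) := fun m =>
        LinearMap.congr_fun (congrArg ModuleCat.Hom.hom
          ((DerCA.locUnit S).naturality (K.d p q)).symm) m
      exact ((congrArg (D' q) (e m)).trans (hι q _)).trans
        ((congrArg _ (hDd p q m).symm).trans ((e (D p m)).symm.trans (congrArg _ (hι p m).symm)))
    exact hasDOp_shift (exists_cone (DerCA.locCxUnit S K) D hD hDd D' hD' hd'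
      (fun p x => (hι p x).symm)) (-1)

theorem exists_dOp_homology {K : DRing.Cx R} (h : HasDOp θ K) (n : ℤ) :
    ∃ D : K.homology n →+ K.homology n, IsDOp θ D := by
  obtain ⟨D, hD, hd⟩ := h
  let T := K.sc n
  let Dz : LinearMap.ker T.g.hom →+ LinearMap.ker T.g.hom :=
    AddMonoidHom.codRestrict ((D n).comp (LinearMap.ker T.g.hom).subtype.toAddMonoidHom)
      (LinearMap.ker T.g.hom).toAddSubmonoid fun z => by
        change (K.d n _).hom (D n z.1) = 0
        rw [hd]
        exact (congrArg _ z.2).trans (map_zero _)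
  have hz : ∀ z, ((Dz z : LinearMap.ker T.g.hom) : T.X₂) = D n z.1 := fun z => rfl
  let B := (LinearMap.range T.moduleCatToCycles).toAddSubgroup
  let Dq : (LinearMap.ker T.g.hom ⧸ LinearMap.range T.moduleCatToCycles) →+
      (LinearMap.ker T.g.hom ⧸ LinearMap.range T.moduleCatToCycles) :=
    QuotientAddGroup.map B B Dz (by
      rintro _ ⟨x, rfl⟩
      exact ⟨D _ x, Subtype.ext (hd _ _ x)⟩)
  have hDq : IsDOp θ Dq := by
    intro a x
    obtain ⟨z, rfl⟩ := Submodule.Quotient.mk_surjective _ x
    change Submodule.Quotient.mk (Dz (a • z)) = θ a • Submodule.Quotient.mk z + a • Submodule.Quotient.mk (Dz z)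
    rw [← Submodule.Quotient.mk_smul, ← Submodule.Quotient.mk_smul, ← Submodule.Quotient.mk_add]
    congr 1
    exact Subtype.ext (hD n a z.1)
  let e : T.homology ≃ₗ[R] (LinearMap.ker T.g.hom ⧸ LinearMap.range T.moduleCatToCycles) := T.moduleCatHomologyIso.toLinearEquiv
  suffices h : ∃ D' : T.homology →+ T.homology, IsDOp θ D' from h
  refine ⟨e.symm.toAddMonoidHom.comp (Dq.comp e.toAddMonoidHom), fun a x => ?_⟩
  change e.symm (Dq (e (a • x))) = θ a • x + a • e.symm (Dq (e x))
  rw [map_smul e, hDq a (e x), map_add, map_smul, map_smul, LinearEquiv.symm_apply_apply]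

end Groth.LocCohTransform.DerCech
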