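import Mathlib.Algebra.Homology.ShortComplex.ModuleCat
import Mathlib.Algebra.Homology.ShortComplex.HomologicalComplex
import Mathlib.Algebra.Category.ModuleCat.Abelian

set_option autoImplicit false
universe u
open CategoryTheory CategoryTheory.Limits HomologicalComplex

namespace Groth.LocCohTransform

variable {R : Type u} [CommRing R] {K L : CochainComplex (ModuleCat.{u} R) ℕ} {i : ℕ}

/-- The cycle attached to an element killed by the differential. -/
noncomputable def mkCycle (x : K.X i) (hx : (K.d i (i + 1)).hom x = 0) : K.cycles i :=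
  (K.liftCycles (ModuleCat.ofHom (LinearMap.toSpanSingleton R (K.X i) x)) (i + 1) (by simp)
    (by ext; simp [hx])).hom (1 : R)

lemma iCycles_mkCycle (x : K.X i) (hx : (K.d i (i + 1)).hom x = 0) :
    (K.iCycles i).hom (mkCycle x hx) = x := by
  have h := LinearMap.congr_fun (congrArg ModuleCat.Hom.hom
    (K.liftCycles_i (ModuleCat.ofHom (LinearMap.toSpanSingleton R (K.X i) x)) (i + 1) (by simp)
      (by ext; simp [hx]))) (1 : R)
  exact h.trans (one_smul R x)

lemma iCycles_inj {z w : K.cycles i} (h : (K.iCycles i).hom z = (K.iCycles i).hom w) : z = w :=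
  (ModuleCat.mono_iff_injective (K.iCycles i)).1 inferInstance h

/-- The class of a cocycle. -/
noncomputable def hcls (x : K.X i) (hx : (K.d i (i + 1)).hom x = 0) : K.homology i :=
  (K.homologyπ i).hom (mkCycle x hx)

lemma hcls_congr {x y : K.X i} (h : x = y) (hx : (K.d i (i + 1)).hom x = 0)
    (hy : (K.d i (i + 1)).hom y = 0) : hcls x hx = hcls y hy := by
  subst h; rfl

lemma hcls_add (x y : K.X i) (hx : (K.d i (i + 1)).hom x = 0) (hy : (K.d i (i + 1)).hom y = 0) :
    hcls (x + y) (by rw [map_add, hx, hy, add_zero]) = hcls x hx + hcls y hy := by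
  refine Eq.trans ?_ (map_add (K.homologyπ i).hom (mkCycle x hx) (mkCycle y hy))
  exact congrArg _ (iCycles_inj (((iCycles_mkCycle _ _).trans (congrArg₂ (· + ·) (iCycles_mkCycle x hx).symm
    (iCycles_mkCycle y hy).symm)).trans (map_add (K.iCycles i).hom _ _).symm))

lemma hcls_smul (r : R) (x : K.X i) (hx : (K.d i (i + 1)).hom x = 0) :
    hcls (r • x) (by rw [map_smul, hx, smul_zero]) = r • hcls x hx := by
  refine Eq.trans ?_ (map_smul (K.homologyπ i).hom r (mkCycle x hx))
  exact congrArg _ (iCycles_inj (((iCycles_mkCycle _ _).trans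
    (congrArg (r • ·) (iCycles_mkCycle x hx).symm)).trans (map_smul (K.iCycles i).hom r _).symm))

lemma hcls_zero : hcls (K := K) (i := i) 0 (map_zero _) = 0 := by
  refine Eq.trans ?_ (map_zero (K.homologyπ i).hom)
  exact congrArg _ (iCycles_inj ((iCycles_mkCycle _ _).trans (map_zero (K.iCycles i).hom).symm))

lemma exists_hcls (h : K.homology i) :
    ∃ (x : K.X i) (hx : (K.d i (i + 1)).hom x = 0), hcls x hx = h := by
  obtain ⟨z, rfl⟩ := (ModuleCat.epi_iff_surjective (K.homologyπ i)).1 inferInstance h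
  have hz : (K.d i (i + 1)).hom ((K.iCycles i).hom z) = 0 := by
    rw [← LinearMap.comp_apply, ← ModuleCat.hom_comp, K.iCycles_d]; rfl
  exact ⟨_, hz, congrArg _ (iCycles_inj (iCycles_mkCycle _ hz))⟩

lemma homologyπ_eq_zero_iff (z : K.cycles i) :
    (K.homologyπ i).hom z = 0 ↔
      ∃ w, (K.toCycles ((ComplexShape.up ℕ).prev i) i).hom w = z := by
  have hex : (ShortComplex.mk _ _ (K.toCycles_comp_homologyπ
      ((ComplexShape.up ℕ).prev i) i)).Exact :=
    ShortComplex.exact_of_g_is_cokernel _ (K.homologyIsCokernel _ _ rfl)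
  constructor
  · exact fun h => (ShortComplex.moduleCat_exact_iff _).1 hex z h
  · rintro ⟨w, rfl⟩
    rw [← LinearMap.comp_apply, ← ModuleCat.hom_comp, K.toCycles_comp_homologyπ]
    rfl

lemma hcls_eq_zero_iff_succ (x : K.X (i + 1)) (hx : (K.d (i + 1) (i + 1 + 1)).hom x = 0) :
    hcls x hx = 0 ↔ ∃ w : K.X i, (K.d i (i + 1)).hom w = x := by
  have key : ∀ w, (K.iCycles (i + 1)).hom ((K.toCycles i (i + 1)).hom w) = (K.d i (i + 1)).hom w :=
    fun w => by rw [← LinearMap.comp_apply, ← ModuleCat.hom_comp, K.toCycles_i]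
  have hp : (ComplexShape.up ℕ).prev (i + 1) = i := by simp
  rw [hcls, homologyπ_eq_zero_iff, hp]
  exact ⟨fun ⟨w, hw⟩ => ⟨w, by rw [← key, hw, iCycles_mkCycle]⟩,
    fun ⟨w, hw⟩ => ⟨w, iCycles_inj (by rw [key, hw, iCycles_mkCycle])⟩⟩

lemma hcls_eq_zero_iff_zero (x : K.X 0) (hx : (K.d 0 (0 + 1)).hom x = 0) :
    hcls x hx = 0 ↔ x = 0 := by
  constructor
  · intro h
    rw [hcls, homologyπ_eq_zero_iff] at h
    obtain ⟨w, hw⟩ := h
    have h2 := iCycles_mkCycle x hx
    rw [← hw, K.toCycles_eq_zero (by simp)] at h2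
    rw [← h2]
    exact map_zero _
  · rintro rfl
    exact hcls_zero

lemma homologyMap_hcls (ψ : K ⟶ L) (x : K.X i) (hx : (K.d i (i + 1)).hom x = 0) :
    (homologyMap ψ i).hom (hcls x hx) = hcls ((ψ.f i).hom x) (by
      rw [← LinearMap.comp_apply, ← ModuleCat.hom_comp, ψ.comm, ModuleCat.hom_comp,
        LinearMap.comp_apply, hx, map_zero]) := by
  have h := LinearMap.congr_fun (congrArg ModuleCat.Hom.hom (homologyπ_naturality ψ i)) (mkCycle x hx)
  refine h.trans ?_
  exact congrArg (L.homologyπ i).hom (iCycles_inj (((LinearMap.congr_fun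
    (congrArg ModuleCat.Hom.hom (cyclesMap_i ψ i)) (mkCycle x hx)).trans
      (congrArg (ψ.f i).hom (iCycles_mkCycle x hx))).trans (iCycles_mkCycle _ _).symm))

end Groth.LocCohTransform
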