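import Groth.Agent.LocCohBase.Basic
import Groth.Agent.LocCohTransform.Basic
import Groth.Agent.LocCohTransform.Homology
import Mathlib.CategoryTheory.Abelian.Injective.Ext
import Mathlib.CategoryTheory.Abelian.RightDerived
import Mathlib.Algebra.Category.ModuleCat.EnoughInjectives

/-!
For a diagram `N : ℕᵒᵖ ⥤ ModuleCat R`, the right derived functors of `M ↦ colim_n Hom(N_n, M)` are
`M ↦ colim_n Ext^i(N_n, M)`.
-/

set_option autoImplicit false
universe u
open CategoryTheory CategoryTheory.Limits Opposite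

namespace Groth.LocCohTransform

open Groth.LocCohBase (extBifunctor extIso)

variable {R : Type u} [CommRing R] (N : ℕᵒᵖ ⥤ ModuleCat.{u} R)

/-- `M ↦ colim_n Hom(N_n, M)`. -/
noncomputable def homColim : ModuleCat.{u} R ⥤ ModuleCat.{u} R :=
  colimit (N.op ⋙ linearCoyoneda R (ModuleCat.{u} R))

/-- `M ↦ colim_n Ext^i(N_n, M)`. -/
noncomputable def extColim (i : ℕ) : ModuleCat.{u} R ⥤ ModuleCat.{u} R :=
  colimit (N.op ⋙ extBifunctor i)

instance homColim_level_additive (j : ℕᵒᵖᵒᵖ) :
    ((N.op ⋙ linearCoyoneda R (ModuleCat.{u} R)).obj j).Additive := by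
  dsimp; infer_instance

instance homColim_additive : (homColim N).Additive where
  map_add {X Y f g} := by
    unfold homColim
    rw [← cancel_epi (colimitObjIsoColimitCompEvaluation (N.op ⋙ linearCoyoneda R (ModuleCat.{u} R)) X).inv]
    apply colimit.hom_ext
    intro j
    simp only [colimitObjIsoColimitCompEvaluation_ι_inv_assoc, Preadditive.comp_add]
    erw [← NatTrans.naturality, ← NatTrans.naturality, ← NatTrans.naturality]
    rw [Functor.map_add, Preadditive.add_comp]

/-- The transition map `N_m ⟶ N_n` for `n ≤ m`. -/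
noncomputable def tr {n m : ℕ} (h : n ≤ m) : N.obj (op m) ⟶ N.obj (op n) :=
  N.map (homOfLE h).op

lemma tr_comp {n m k : ℕ} (h : n ≤ m) (h' : m ≤ k) : tr N h' ≫ tr N h = tr N (h.trans h') := by
  rw [tr, tr, tr, ← N.map_comp]
  rfl

variable {M M' : ModuleCat.{u} R} {i : ℕ}

/-- The class of a map `N_n ⟶ M`. -/
noncomputable def fι (n : ℕ) : (N.obj (op n) ⟶ M) →ₗ[R] (homColim N).obj M :=
  ((colimit.ι (N.op ⋙ linearCoyoneda R (ModuleCat.{u} R)) (op (op n))).app M).hom

/-- The class of an extension. -/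
noncomputable def eι (i n : ℕ) : Abelian.Ext (N.obj (op n)) M i →ₗ[R] (extColim N i).obj M :=
  ((colimit.ι (N.op ⋙ extBifunctor i) (op (op n))).app M).hom

lemma fι_surjective (x : (homColim N).obj M) : ∃ (n : ℕ) (f : N.obj (op n) ⟶ M), fι N n f = x :=
  colim_app_exists_rep (N.op ⋙ linearCoyoneda R (ModuleCat.{u} R)) M x

lemma eι_surjective (x : (extColim N i).obj M) :
    ∃ (n : ℕ) (α : Abelian.Ext (N.obj (op n)) M i), eι N i n α = x :=
  colim_app_exists_rep (N.op ⋙ extBifunctor i) M x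

lemma fι_tr {n m : ℕ} (h : n ≤ m) (f : N.obj (op n) ⟶ M) :
    fι N m (tr N h ≫ f) = fι N n f :=
  colim_app_step (N.op ⋙ linearCoyoneda R (ModuleCat.{u} R)) M h f

lemma eι_tr {n m : ℕ} (h : n ≤ m) (α : Abelian.Ext (N.obj (op n)) M i) :
    eι N i m ((Abelian.Ext.mk₀ (tr N h)).comp α (zero_add i)) = eι N i n α :=
  colim_app_step (N.op ⋙ extBifunctor i) M h α

lemma fι_eq_zero_iff {n : ℕ} (f : N.obj (op n) ⟶ M) :
    fι N n f = 0 ↔ ∃ (m : ℕ) (h : n ≤ m), tr N h ≫ f = 0 := by
  constructor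
  · intro h0
    obtain ⟨m, h, e⟩ := (colim_app_eq_iff (N.op ⋙ linearCoyoneda R (ModuleCat.{u} R)) M f 0).1
      (h0.trans (map_zero _).symm)
    exact ⟨m, h, e.trans (map_zero _)⟩
  · rintro ⟨m, h, e⟩
    rw [← fι_tr N h, e, map_zero]

lemma eι_eq_zero_iff {n : ℕ} (α : Abelian.Ext (N.obj (op n)) M i) :
    eι N i n α = 0 ↔
      ∃ (m : ℕ) (h : n ≤ m), (Abelian.Ext.mk₀ (tr N h)).comp α (zero_add i) = 0 := by
  constructor
  · intro h0
    obtain ⟨m, h, e⟩ := (colim_app_eq_iff (N.op ⋙ extBifunctor i) M α 0).1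
      (h0.trans (map_zero _).symm)
    exact ⟨m, h, e.trans (map_zero _)⟩
  · rintro ⟨m, h, e⟩
    rw [← eι_tr N h, e, map_zero]

lemma map_fι (g : M ⟶ M') {n : ℕ} (f : N.obj (op n) ⟶ M) :
    ((homColim N).map g).hom (fι N n f) = fι N n (f ≫ g) :=
  (LinearMap.congr_fun (congrArg ModuleCat.Hom.hom
    ((colimit.ι (N.op ⋙ linearCoyoneda R (ModuleCat.{u} R)) (op (op n))).naturality g)) f).symm

lemma map_eι (g : M ⟶ M') {n : ℕ} (α : Abelian.Ext (N.obj (op n)) M i) :
    ((extColim N i).map g).hom (eι N i n α) =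
      eι N i n (α.comp (Abelian.Ext.mk₀ g) (add_zero i)) :=
  (LinearMap.congr_fun (congrArg ModuleCat.Hom.hom
    ((colimit.ι (N.op ⋙ extBifunctor i) (op (op n))).naturality g)) α).symm

lemma exists_desc_eι {T : Type u} [AddCommGroup T] [Module R T]
    (φ : ∀ n, Abelian.Ext (N.obj (op n)) M i →ₗ[R] T)
    (hφ : ∀ {n m : ℕ} (h : n ≤ m) (α : Abelian.Ext (N.obj (op n)) M i),
      φ m ((Abelian.Ext.mk₀ (tr N h)).comp α (zero_add i)) = φ n α) :
    ∃ Φ : (extColim N i).obj M →ₗ[R] T, ∀ n α, Φ (eι N i n α) = φ n α := by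
  let G := (N.op ⋙ extBifunctor i) ⋙ (evaluation (ModuleCat.{u} R) (ModuleCat.{u} R)).obj M
  let s : Cocone G :=
    { pt := ModuleCat.of R T
      ι :=
        { app := fun j => ModuleCat.ofHom (φ j.unop.unop)
          naturality := fun j k w => by
            ext α
            exact hφ w.unop.unop.down.down α } }
  refine ⟨((evalIsColimit (N.op ⋙ extBifunctor i) M).desc s).hom, fun n α => ?_⟩
  exact LinearMap.congr_fun (congrArg ModuleCat.Hom.hom
    ((evalIsColimit (N.op ⋙ extBifunctor i) M).fac s (op (op n)))) α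

section Compare

variable (J : InjectiveResolution M)

lemma extMk_zero_deg_eq_zero' {X : ModuleCat.{u} R} (f : X ⟶ J.cocomplex.X 0)
    (hf : f ≫ J.cocomplex.d 0 1 = 0) (h : J.extMk f 1 rfl hf = 0) : f = 0 := by
  simp only [← J.extEquivCohomologyClass.apply_eq_iff_eq,
    InjectiveResolution.extEquivCohomologyClass_extMk,
    InjectiveResolution.extEquivCohomologyClass_zero,
    CochainComplex.HomComplex.CohomologyClass.mk_eq_zero_iff] at h
  rw [CochainComplex.HomComplex.Cocycle.fromSingleMk_mem_coboundaries_iff _ _ _ _ _ (-1) (by lia)] at h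
  obtain ⟨g, hg⟩ := h
  have : IsZero (J.cochainComplex.X (-1)) := J.cochainComplex.isZero_of_isStrictlyGE 0 (-1) (by lia)
  rw [this.eq_of_tgt g 0, zero_comp] at hg
  rw [← cancel_mono (J.cochainComplexXIso ((0 : ℕ) : ℤ) 0 rfl).inv]
  simpa using hg.symm

/-- `(F J)`. -/
noncomputable abbrev homCplx : CochainComplex (ModuleCat.{u} R) ℕ :=
  ((homColim N).mapHomologicalComplex _).obj J.cocomplex

lemma homCplx_d (j k : ℕ) {n : ℕ} (f : N.obj (op n) ⟶ J.cocomplex.X j) :
    ((homCplx N J).d j k).hom (fι N n f) = fι N n (f ≫ J.cocomplex.d j k) :=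
  map_fι N (J.cocomplex.d j k) f

lemma cls_cond {n : ℕ} (f : N.obj (op n) ⟶ J.cocomplex.X i)
    (hf : f ≫ J.cocomplex.d i (i + 1) = 0) :
    ((homCplx N J).d i (i + 1)).hom (fι N n f) = 0 := by
  rw [homCplx_d, hf]
  exact map_zero _

/-- The class in `H^i(F J)` of a cocycle `N_n ⟶ J^i`. -/
noncomputable def cl {n : ℕ} (f : N.obj (op n) ⟶ J.cocomplex.X i)
    (hf : f ≫ J.cocomplex.d i (i + 1) = 0) : (homCplx N J).homology i :=
  hcls (fι N n f) (cls_cond N J f hf)

lemma cl_eq_zero_of_extMk {n : ℕ} (f : N.obj (op n) ⟶ J.cocomplex.X i)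
    (hf : f ≫ J.cocomplex.d i (i + 1) = 0) (h : J.extMk f (i + 1) rfl hf = 0) :
    cl N J f hf = 0 := by
  rcases i with _ | p
  · obtain rfl := extMk_zero_deg_eq_zero' J f hf h
    exact (hcls_congr (map_zero _) _ (map_zero _)).trans hcls_zero
  · obtain ⟨g, hg⟩ := (J.extMk_eq_zero_iff f _ rfl hf p rfl).1 h
    exact (hcls_eq_zero_iff_succ _ _).2 ⟨fι N n g, by rw [homCplx_d, hg]⟩

lemma cl_congr {n : ℕ} {f g : N.obj (op n) ⟶ J.cocomplex.X i}
    (hf : f ≫ J.cocomplex.d i (i + 1) = 0) (hg : g ≫ J.cocomplex.d i (i + 1) = 0)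
    (h : J.extMk f (i + 1) rfl hf = J.extMk g (i + 1) rfl hg) : cl N J f hf = cl N J g hg := by
  have h1 := cl_eq_zero_of_extMk N J (f - g) (by rw [Preadditive.sub_comp, hf, hg, sub_zero])
    (by rw [← J.sub_extMk f g _ _ hf hg, h, sub_self])
  rw [cl, cl]
  refine Eq.trans ?_ ((congrArg (· + _) h1).trans (zero_add _))
  refine Eq.trans ?_ (hcls_add _ _ _ _)
  exact hcls_congr ((congrArg (· + fι N n g) (map_sub (fι N n) f g)).trans (sub_add_cancel _ _)).symm _ _

/-- The comparison at level `n`. -/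
noncomputable def levelMap (i n : ℕ) :
    Abelian.Ext (N.obj (op n)) M i →ₗ[R] (homCplx N J).homology i where
  toFun α := cl N J (J.extMk_surjective α (i + 1) rfl).choose
    (J.extMk_surjective α (i + 1) rfl).choose_spec.choose
  map_add' α β := by
    obtain ⟨f, hf, rfl⟩ := J.extMk_surjective α (i + 1) rfl
    obtain ⟨g, hg, rfl⟩ := J.extMk_surjective β (i + 1) rfl
    rw [cl_congr N J _ hf (J.extMk_surjective _ (i + 1) rfl).choose_spec.choose_spec,
      cl_congr N J _ hg (J.extMk_surjective _ (i + 1) rfl).choose_spec.choose_spec,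
      cl_congr N J _ (by rw [Preadditive.add_comp, hf, hg, add_zero] :
        (f + g) ≫ J.cocomplex.d i (i + 1) = 0)
        ((J.extMk_surjective _ (i + 1) rfl).choose_spec.choose_spec.trans (J.add_extMk f g _ _ hf hg))]
    exact (hcls_congr (map_add _ _ _) _ _).trans (hcls_add _ _ (cls_cond N J f hf) (cls_cond N J g hg))
  map_smul' r α := by
    obtain ⟨f, hf, rfl⟩ := J.extMk_surjective α (i + 1) rfl
    have h2 : r • J.extMk f (i + 1) rfl hf =
        J.extMk (r • f) (i + 1) rfl (by rw [Linear.smul_comp, hf, smul_zero]) := by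
      have h3 : r • J.extMk f (i + 1) rfl hf =
          (Abelian.Ext.mk₀ (r • 𝟙 (N.obj (op n)))).comp (J.extMk f (i + 1) rfl hf) (zero_add i) := by
        simp [Abelian.Ext.mk₀_smul]
      rw [h3, J.mk₀_comp_extMk]
      congr 1
      simp
    rw [RingHom.id_apply,
      cl_congr N J _ hf (J.extMk_surjective _ (i + 1) rfl).choose_spec.choose_spec,
      cl_congr N J _ (by rw [Linear.smul_comp, hf, smul_zero] :
        (r • f) ≫ J.cocomplex.d i (i + 1) = 0)
        ((J.extMk_surjective _ (i + 1) rfl).choose_spec.choose_spec.trans h2)]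
    exact (hcls_congr (map_smul _ _ _) _ _).trans (hcls_smul r _ (cls_cond N J f hf))

lemma levelMap_extMk {n : ℕ} (f : N.obj (op n) ⟶ J.cocomplex.X i)
    (hf : f ≫ J.cocomplex.d i (i + 1) = 0) :
    levelMap N J i n (J.extMk f (i + 1) rfl hf) = cl N J f hf :=
  cl_congr N J _ hf (J.extMk_surjective _ (i + 1) rfl).choose_spec.choose_spec

lemma exists_comparison (i : ℕ) : ∃ Φ : (extColim N i).obj M →ₗ[R] (homCplx N J).homology i,
    ∀ n α, Φ (eι N i n α) = levelMap N J i n α := by
  refine exists_desc_eι N (levelMap N J i) fun {n m} h α => ?_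
  obtain ⟨f, hf, rfl⟩ := J.extMk_surjective α (i + 1) rfl
  rw [J.mk₀_comp_extMk, levelMap_extMk, levelMap_extMk]
  exact hcls_congr (fι_tr N h f) _ _

/-- `colim Ext^i(N_n, M) → H^i(F J)`. -/
noncomputable def comparison (i : ℕ) : (extColim N i).obj M →ₗ[R] (homCplx N J).homology i :=
  (exists_comparison N J i).choose

lemma comparison_eι {n : ℕ} (f : N.obj (op n) ⟶ J.cocomplex.X i)
    (hf : f ≫ J.cocomplex.d i (i + 1) = 0) :
    comparison N J i (eι N i n (J.extMk f (i + 1) rfl hf)) = cl N J f hf :=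
  ((exists_comparison N J i).choose_spec n _).trans (levelMap_extMk N J f hf)

lemma comparison_bijective (i : ℕ) : Function.Bijective (comparison N J i) := by
  constructor
  · refine (injective_iff_map_eq_zero _).2 fun x hx => ?_
    obtain ⟨n, α, rfl⟩ := eι_surjective N x
    obtain ⟨f, hf, rfl⟩ := J.extMk_surjective α (i + 1) rfl
    rw [comparison_eι, cl] at hx
    rcases i with _ | p
    · obtain ⟨m, h, e⟩ := (fι_eq_zero_iff N f).1 ((hcls_eq_zero_iff_zero _ _).1 hx)
      rw [← eι_tr N h, J.mk₀_comp_extMk]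
      simp [e]
    · obtain ⟨w, hw⟩ := (hcls_eq_zero_iff_succ _ _).1 hx
      obtain ⟨l, g, rfl⟩ := fι_surjective N w
      have hw' : fι N l (g ≫ J.cocomplex.d p (p + 1)) = fι N n f :=
        (homCplx_d N J p (p + 1) g).symm.trans hw
      rw [← fι_tr N (le_max_left l n), ← fι_tr N (le_max_right l n) f,
        ← sub_eq_zero, ← map_sub, fι_eq_zero_iff] at hw'
      obtain ⟨m, h, e⟩ := hw'
      rw [← eι_tr N ((le_max_right l n).trans h), J.mk₀_comp_extMk]
      rw [(J.extMk_eq_zero_iff _ _ rfl _ p rfl).2 ⟨tr N h ≫ tr N (le_max_left l n) ≫ g, ?_⟩, map_zero]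
      rw [Preadditive.comp_sub, sub_eq_zero] at e
      rw [Category.assoc, Category.assoc, e, ← Category.assoc, tr_comp]
  · intro x
    obtain ⟨y, hy, rfl⟩ := exists_hcls x
    obtain ⟨n, f, rfl⟩ := fι_surjective N y
    have hy' : fι N n (f ≫ J.cocomplex.d i (i + 1)) = 0 :=
      (homCplx_d N J i (i + 1) f).symm.trans hy
    obtain ⟨m, h, e⟩ := (fι_eq_zero_iff N _).1 hy'
    exact ⟨eι N i m (J.extMk (tr N h ≫ f) (i + 1) rfl (by rw [Category.assoc, e])),
      (comparison_eι N J _ _).trans (hcls_congr (fι_tr N h f) _ _)⟩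

end Compare

/-- The comparison isomorphism at a module. -/
noncomputable def derivedIsoApp (M : ModuleCat.{u} R) (i : ℕ) :
    ((homColim N).rightDerived i).obj M ≅ (extColim N i).obj M :=
  (InjectiveResolution.of M).isoRightDerivedObj (homColim N) i ≪≫
    (LinearEquiv.ofBijective (comparison N (InjectiveResolution.of M) i)
      (comparison_bijective N _ i)).toModuleIso.symm

/-- The right derived functors of `colim Hom(N_n, -)` are `colim Ext^i(N_n, -)`. -/
noncomputable def derivedIso (i : ℕ) : (homColim N).rightDerived i ≅ extColim N i :=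
  NatIso.ofComponents (fun M => derivedIsoApp N M i) (fun {M M'} g => by
    obtain ⟨φ⟩ : Nonempty (InjectiveResolution.Hom (InjectiveResolution.of M)
        (InjectiveResolution.of M') g) :=
      ⟨⟨InjectiveResolution.desc g _ _, InjectiveResolution.desc_commutes_zero g _ _⟩⟩
    refine Groth.LocCohBase.square_comp
      (InjectiveResolution.isoRightDerivedObj_hom_naturality g (InjectiveResolution.of M)
        (InjectiveResolution.of M') φ.hom φ.ι_f_zero_comp_hom_f_zero (homColim N) i) ?_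
    ext x
    let E := LinearEquiv.ofBijective (comparison N (InjectiveResolution.of M) i)
      (comparison_bijective N (InjectiveResolution.of M) i)
    let E' := LinearEquiv.ofBijective (comparison N (InjectiveResolution.of M') i)
      (comparison_bijective N (InjectiveResolution.of M') i)
    obtain ⟨x, rfl⟩ := E.surjective x
    change E'.symm ((HomologicalComplex.homologyMap
        (((homColim N).mapHomologicalComplex _).map φ.hom) i).hom (E x)) =
      ((extColim N i).map g).hom (E.symm (E x))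
    rw [LinearEquiv.symm_apply_apply, LinearEquiv.symm_apply_eq]
    obtain ⟨n, α, rfl⟩ := eι_surjective N x
    obtain ⟨f, hf, rfl⟩ := (InjectiveResolution.of M).extMk_surjective α (i + 1) rfl
    rw [map_eι, InjectiveResolution.extMk_comp_mk₀ _ _ _ hf φ]
    simp only [E, E', LinearEquiv.ofBijective_apply]
    rw [comparison_eι, comparison_eι]
    exact (homologyMap_hcls (K := homCplx N (InjectiveResolution.of M))
      (L := homCplx N (InjectiveResolution.of M')) _ _ (cls_cond N _ f hf)).trans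
        (hcls_congr (map_fι N (φ.hom.f i) f) _ _))

/-- Old `Ext` version of `extColim`. -/
noncomputable def extColimIso (i : ℕ) :
    colimit (N.op ⋙ Ext R (ModuleCat.{u} R) i) ≅ extColim N i :=
  HasColimit.isoOfNatIso (Functor.isoWhiskerLeft N.op (extIso i))

end Groth.LocCohTransform
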