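import Groth.Agent.DualCore.AtPrime
import Groth.Prelude.Def_Formal2
import Mathlib.RingTheory.Ideal.KrullsHeightTheorem
import Mathlib.RingTheory.KrullDimension.Basic

/-!
Lengths of intervals of primes in a ring with a dualizing complex.
-/

set_option autoImplicit false
set_option linter.style.haveILetI false
set_option linter.unusedSectionVars false

universe u

open CategoryTheory IsLocalRing

attribute [local instance] HasDerivedCategory.standard

namespace Groth.LocCohTransform.DualDegree

open Groth.DualCore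

variable {A : Type u} [CommRing A] [IsNoetherianRing A]

theorem wellFoundedLT_primeSpectrum : WellFoundedLT (PrimeSpectrum A) :=
  StrictMono.wellFoundedLT (f := fun p : PrimeSpectrum A => p.asIdeal.height.toNat) fun p q h => by
    have hlt : p.asIdeal.height < q.asIdeal.height :=
      Ideal.height_strict_mono_of_isPrime_of_isPrime h
    obtain ⟨a, ha⟩ := ENat.ne_top_iff_exists.1 (Ideal.height_ne_top (I := p.asIdeal) p.2.ne_top)
    obtain ⟨b, hb⟩ := ENat.ne_top_iff_exists.1 (Ideal.height_ne_top (I := q.asIdeal) q.2.ne_top)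
    show p.asIdeal.height.toNat < q.asIdeal.height.toNat
    rw [← ha, ← hb] at hlt ⊢
    simpa using hlt

theorem exists_covBy {p q : PrimeSpectrum A} (h : p < q) : ∃ r, p ≤ r ∧ r ⋖ q := by
  have hne : ((fun r : PrimeSpectrum A => r.asIdeal) '' {r | p ≤ r ∧ r < q}).Nonempty :=
    ⟨p.asIdeal, p, ⟨le_rfl, h⟩, rfl⟩
  obtain ⟨_, ⟨r, ⟨hr₁, hr₂⟩, rfl⟩, hmax⟩ :=
    (wellFounded_gt (α := Ideal A)).has_min _ hne
  exact ⟨r, hr₁, hr₂, fun c hc₁ hc₂ => hmax c.asIdeal ⟨c, ⟨hr₁.trans hc₁.le, hc₂⟩, rfl⟩ hc₁⟩

variable {ω : Dual.D A} (hω : Dual.IsDualizing A ω)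

theorem degree_mono {p q : PrimeSpectrum A} (h : p ≤ q) : degree hω p ≤ degree hω q := by
  induction q using (wellFoundedLT_primeSpectrum (A := A)).induction with
  | ind q ih =>
    rcases h.eq_or_lt with rfl | hlt
    · exact le_rfl
    · obtain ⟨r, hr, hrq⟩ := exists_covBy hlt
      have h1 := ih r hrq.lt hr
      have h2 := degree_covBy hω r q hrq
      omega

theorem degree_strictMono {p q : PrimeSpectrum A} (h : p < q) : degree hω p < degree hω q := by
  obtain ⟨r, hr, hrq⟩ := exists_covBy h
  have h1 := degree_mono hω hr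
  have h2 := degree_covBy hω r q hrq
  omega

theorem exists_degree_eq {p q : PrimeSpectrum A} (h : p ≤ q) : ∃ n : ℕ, degree hω q = degree hω p + n :=
  ⟨(degree hω q - degree hω p).toNat, by have := degree_mono hω h; omega⟩

theorem length_le {ι : Type*} [Preorder ι] (g : ι → PrimeSpectrum A) (hg : StrictMono g) (l : LTSeries ι) :
    (l.length : ℤ) ≤ degree hω (g l.last) - degree hω (g l.head) := by
  have : ∀ (k : ℕ) (hk : k < l.length + 1), (k : ℤ) ≤ degree hω (g (l ⟨k, hk⟩)) - degree hω (g l.head) := by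
    intro k
    induction k with
    | zero => intro hk; simp [RelSeries.head]
    | succ k ih =>
      intro hk
      have h1 := ih (by omega)
      have h2 := degree_strictMono hω (hg (l.strictMono (show (⟨k, by omega⟩ : Fin (l.length + 1)) < ⟨k + 1, hk⟩ from
        Fin.mk_lt_mk.2 k.lt_succ_self)))
      push_cast
      omega
  exact this l.length (by omega)

include hω in
/-- The height of `q` in the primes above `p` is the difference of degrees. -/
theorem height_Ici {p q : PrimeSpectrum A} (h : p ≤ q) {n : ℕ} (hn : degree hω q = degree hω p + n) :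
    Order.height (⟨q, h⟩ : Set.Ici p) = n := by
  refine le_antisymm ?_ ?_
  · refine Order.height_le fun l hl => ?_
    have h1 := length_le hω (fun x : Set.Ici p => x.1) (fun _ _ hxy => hxy) l
    have h2 := degree_mono hω l.head.2
    rw [hl] at h1
    dsimp only at h1
    exact_mod_cast (show (l.length : ℤ) ≤ n by omega)
  · induction q using (wellFoundedLT_primeSpectrum (A := A)).induction generalizing n with
    | ind q ih =>
      rcases h.eq_or_lt with rfl | hlt
      · obtain rfl : n = 0 := by omega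
        simp
      · obtain ⟨r, hr, hrq⟩ := exists_covBy hlt
        obtain ⟨m, hm⟩ := exists_degree_eq hω hr
        have h2 := degree_covBy hω r q hrq
        have h3 : (⟨r, hr⟩ : Set.Ici p) < ⟨q, h⟩ := hrq.lt
        refine le_trans ?_ (Order.height_add_one_le h3)
        obtain rfl : n = m + 1 := by omega
        push_cast
        exact add_le_add (ih r hrq.lt hr hm) le_rfl

theorem krullDim_Icc_eq_height {p q : PrimeSpectrum A} (h : p ≤ q) :
    Order.krullDim (Set.Icc p q) = ((Order.height (⟨q, h⟩ : Set.Ici p) : ℕ∞) : WithBot ℕ∞) := by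
  refine le_antisymm (iSup_le fun l => ?_) ?_
  · let l' : LTSeries (Set.Ici p) := l.map (fun x => ⟨x.1, x.2.1⟩) fun _ _ hxy => hxy
    exact WithBot.coe_le_coe.2 (Order.length_le_height (p := l') (show l'.last ≤ ⟨q, h⟩ from by
      rw [LTSeries.last_map]; exact l.last.2.2))
  · rw [Order.height_eq_iSup_last_eq, WithBot.coe_iSup (OrderTop.bddAbove _)]
    refine iSup_le fun l => ?_
    by_cases hl : l.last = ⟨q, h⟩
    · rw [iSup_pos hl]
      let l' : LTSeries (Set.Icc p q) :=
        LTSeries.mk l.length (fun i => ⟨(l i).1, (l i).2, (Subtype.coe_le_coe.2 (l.monotone (Fin.le_last i))).trans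
          (le_of_eq (congrArg Subtype.val hl))⟩) fun i j hij => l.strictMono hij
      exact le_iSup (fun s : LTSeries (Set.Icc p q) => (s.length : WithBot ℕ∞)) l'
    · rw [iSup_neg hl]
      simp only [bot_eq_zero', WithBot.coe_zero]
      exact le_iSup_of_le (RelSeries.singleton _ (⟨q, h, le_rfl⟩ : Set.Icc p q)) (by simp)

/-- `dim (A/p)_q` is the length of the interval. -/
theorem dimBetween_eq {p q : PrimeSpectrum A} (h : p ≤ q) :
    Formal2.dimBetween A p.asIdeal q.asIdeal = Order.krullDim (Set.Icc p q) := by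
  show ringKrullDim _ = _
  rw [ringKrullDim_quotient]
  let Aq := Localization.AtPrime q.asIdeal
  let φ := algebraMap A Aq
  have hle : ∀ x : PrimeSpectrum Aq, PrimeSpectrum.comap φ x ≤ q := fun x =>
    (Ideal.comap_mono (le_maximalIdeal x.2.ne_top)).trans_eq (IsLocalization.AtPrime.under_maximalIdeal Aq q.asIdeal)
  have hmono : StrictMono (PrimeSpectrum.comap φ) := fun x y hxy =>
    lt_of_le_not_ge (Ideal.comap_mono hxy.le) fun hge => not_le_of_gt hxy (by
      show y.asIdeal ≤ x.asIdeal
      rw [← IsLocalization.map_under q.asIdeal.primeCompl Aq y.asIdeal,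
        ← IsLocalization.map_under q.asIdeal.primeCompl Aq x.asIdeal]
      exact Ideal.map_mono hge)
  refine le_antisymm ?_ ?_
  · exact Order.krullDim_le_of_strictMono
      (fun x : PrimeSpectrum.zeroLocus ((p.asIdeal.map φ : Ideal Aq) : Set Aq) =>
        (⟨PrimeSpectrum.comap φ x.1, Ideal.map_le_iff_le_comap.1 x.2, hle x.1⟩ : Set.Icc p q))
      fun _ _ hxy => hmono hxy
  · have hdisj : ∀ x : Set.Icc p q, Disjoint (q.asIdeal.primeCompl : Set A) x.1.asIdeal := fun x =>
      Set.disjoint_left.2 fun a ha hax => ha (x.2.2 hax)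
    refine Order.krullDim_le_of_strictMono
      (fun x : Set.Icc p q => (⟨⟨x.1.asIdeal.map φ,
        IsLocalization.isPrime_of_isPrime_disjoint q.asIdeal.primeCompl Aq _ x.1.2 (hdisj x)⟩,
        Ideal.map_mono x.2.1⟩ : PrimeSpectrum.zeroLocus ((p.asIdeal.map φ : Ideal Aq) : Set Aq))) fun x y hxy => ?_
    refine lt_of_le_not_ge (Ideal.map_mono hxy.le) fun hge => not_le_of_gt hxy ?_
    have hc : Ideal.under A (y.1.asIdeal.map (algebraMap A Aq)) ≤ Ideal.under A (x.1.asIdeal.map (algebraMap A Aq)) :=
      Ideal.comap_mono hge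
    rw [IsLocalization.under_map_of_isPrime_disjoint q.asIdeal.primeCompl Aq x.1.2 (hdisj x),
      IsLocalization.under_map_of_isPrime_disjoint q.asIdeal.primeCompl Aq y.1.2 (hdisj y)] at hc
    exact hc

theorem krullDim_Icc {p q : PrimeSpectrum A} (h : p ≤ q) {n : ℕ} (hn : degree hω q = degree hω p + n) :
    Order.krullDim (Set.Icc p q) = ((n : ℕ∞) : WithBot ℕ∞) := by
  rw [krullDim_Icc_eq_height h, height_Ici hω h hn]

theorem dimBetween {p q : PrimeSpectrum A} (h : p ≤ q) {n : ℕ} (hn : degree hω q = degree hω p + n) :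
    Formal2.dimBetween A p.asIdeal q.asIdeal = ((n : ℕ∞) : WithBot ℕ∞) := by
  rw [dimBetween_eq h, krullDim_Icc hω h hn]

end Groth.LocCohTransform.DualDegree
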