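import Groth.Agent.LocCohTransform.ExtCech
import Groth.Agent.LocCohTransform.ExactTransform

/-!
The extended Čech complex computes local cohomology; its one-cocycles compute the ideal transform.
-/

set_option autoImplicit false
universe u v
open CategoryTheory CategoryTheory.Limits HomologicalComplex

namespace Groth.LocCohTransform

open Groth.LocCohBase (HH' δ)

variable {R : Type u} [CommRing R]

/-- Cokernels of corresponding maps correspond. -/
theorem nonempty_equiv_of_rows {A B C A' B' C' : Type v} [AddCommGroup A] [Module R A]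
    [AddCommGroup B] [Module R B] [AddCommGroup C] [Module R C] [AddCommGroup A'] [Module R A']
    [AddCommGroup B'] [Module R B'] [AddCommGroup C'] [Module R C']
    (g : A →ₗ[R] B) (d : B →ₗ[R] C) (hd : Function.Surjective d) (hex : Function.Exact g d)
    (g' : A' →ₗ[R] B') (d' : B' →ₗ[R] C') (hd' : Function.Surjective d') (hex' : Function.Exact g' d')
    (β : B ≃ₗ[R] B') (h : (LinearMap.range g).map β.toLinearMap = LinearMap.range g') :
    Nonempty (C ≃ₗ[R] C') :=
  ⟨(d.quotKerEquivOfSurjective hd).symm.trans
    ((Submodule.Quotient.equiv _ _ β (by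
      rw [hex.linearMap_ker_eq, hex'.linearMap_ker_eq]; exact h)).trans
      (d'.quotKerEquivOfSurjective hd'))⟩

section Complexes

variable {T : ShortComplex (ModuleCat.{u} R)} (hT : T.ShortExact) (fs : List R)

/-- The sequence of extended Čech complexes. -/
noncomputable def cechSeq : ShortComplex (DRing.Cx R) :=
  ShortComplex.mk (cechMap fs T.f) (cechMap fs T.g) (exists_cech_shortExact hT fs).choose

lemma cechSeq_shortExact : (cechSeq hT fs).ShortExact := (exists_cech_shortExact hT fs).choose_spec

/-- The connecting map in Čech cohomology. -/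
noncomputable def cechδ (n m : ℤ) (h : n + 1 = m) :
    (DerCA.extCech T.X₃ fs).homology n →ₗ[R] (DerCA.extCech T.X₁ fs).homology m :=
  ((cechSeq_shortExact hT fs).δ n m h).hom

lemma cechδ_exact₃ (n m : ℤ) (h : n + 1 = m) :
    Function.Exact (homologyMap (cechMap fs T.g) n).hom (cechδ hT fs n m h) := by
  have h' := (cechSeq_shortExact hT fs).homology_exact₃ n m h
  rw [ShortComplex.ShortExact.moduleCat_exact_iff_function_exact] at h'
  exact h'

lemma cechδ_exact₁ (n m : ℤ) (h : n + 1 = m) :
    Function.Exact (cechδ hT fs n m h) (homologyMap (cechMap fs T.f) m).hom := by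
  have h' := (cechSeq_shortExact hT fs).homology_exact₁ n m h
  rw [ShortComplex.ShortExact.moduleCat_exact_iff_function_exact] at h'
  exact h'

end Complexes

section Compare

variable (fs : List R)

/-- In degree zero both are the torsion submodule. -/
noncomputable def cechZeroEquiv (M : ModuleCat.{u} R) :
    (DerCA.extCech M fs).homology 0 ≃ₗ[R] HH' (Ideal.span {x | x ∈ fs}) 0 M :=
  (LinearEquiv.ofInjective (cechH0 M fs) (cechH0_injective M fs)).trans
    ((LinearEquiv.ofEq _ _ ((range_cechH0 M fs).trans (range_h0Val _ M).symm)).trans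
      (LinearEquiv.ofInjective (h0Val _ M) (h0Val_injective _ M)).symm)

lemma h0Val_cechZeroEquiv (M : ModuleCat.{u} R) (x : (DerCA.extCech M fs).homology 0) :
    h0Val _ M (cechZeroEquiv fs M x) = cechH0 M fs x := by
  have h := (LinearEquiv.ofInjective (h0Val (Ideal.span {x | x ∈ fs}) M) (h0Val_injective _ M)).apply_symm_apply
    (LinearEquiv.ofEq _ _ ((range_cechH0 M fs).trans (range_h0Val _ M).symm)
      (LinearEquiv.ofInjective (cechH0 M fs) (cechH0_injective M fs) x))
  exact congrArg Subtype.val h

lemma cechZeroEquiv_natural {M N : ModuleCat.{u} R} (g : M ⟶ N)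
    (x : (DerCA.extCech M fs).homology 0) :
    cechZeroEquiv fs N ((homologyMap (cechMap fs g) 0).hom x) =
      ((localCohomology _ 0).map g).hom (cechZeroEquiv fs M x) := by
  apply h0Val_injective
  rw [h0Val_cechZeroEquiv, cechH0_natural, h0Val_naturality, h0Val_cechZeroEquiv]

variable [IsNoetherianRing R]

theorem nonempty_cech_equiv : ∀ (i : ℕ) (M : ModuleCat.{u} R),
    Nonempty ((DerCA.extCech M fs).homology (i : ℤ) ≃ₗ[R] HH' (Ideal.span {x | x ∈ fs}) i M) := by
  intro i
  induction i with
  | zero => exact fun M => ⟨cechZeroEquiv fs M⟩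
  | succ i ih =>
    intro M
    let I := Ideal.span {x | x ∈ fs}
    let p := (EnoughInjectives.presentation M).some
    have hT := p.shortExact_shortComplex
    let T := p.shortComplex
    have : Module.Injective R (T.X₂ : Type u) :=
      @Module.injective_module_of_injective_object R (p.J : Type u) _ _ _ p.injective
    have hcast : ((i : ℤ) + 1) = ((i + 1 : ℕ) : ℤ) := by push_cast; rfl
    have hEc := fun (q : ℤ) (hq : 1 ≤ q) => subsingleton_cech_of_injective T.X₂ fs q hq
    have hEl := fun k : ℕ => Groth.LocCohBase.subsingleton_succ_of_injective (I := I) k p.J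
    have hd : Function.Surjective (cechδ hT fs (i : ℤ) ((i + 1 : ℕ) : ℤ) hcast) := fun x =>
      (cechδ_exact₁ hT fs _ _ hcast x).1 ((hEc _ (by omega)).elim _ _)
    have hd' : Function.Surjective (δ (I := I) hT i) := fun x =>
      (Groth.LocCohBase.exact₁ (I := I) hT i x).1 ((hEl i).elim _ _)
    cases i with
    | zero =>
      exact nonempty_equiv_of_rows _ (cechδ hT fs (0 : ℕ) (1 : ℕ) hcast) hd
        (cechδ_exact₃ hT fs _ _ hcast)
        ((localCohomology I 0).map T.g).hom (δ (I := I) hT 0) hd'
        (Groth.LocCohBase.exact₃ (I := I) hT 0) (cechZeroEquiv fs T.X₃) (by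
          rw [← LinearMap.range_comp]
          refine le_antisymm ?_ ?_
          · rintro _ ⟨x, rfl⟩
            exact ⟨cechZeroEquiv fs T.X₂ x, (cechZeroEquiv_natural fs T.g x).symm⟩
          · rintro _ ⟨x, rfl⟩
            refine ⟨(cechZeroEquiv fs T.X₂).symm x, ?_⟩
            refine (cechZeroEquiv_natural fs T.g _).trans ?_
            rw [LinearEquiv.apply_symm_apply])
    | succ i =>
      obtain ⟨e⟩ := ih T.X₃
      have hbij : Function.Bijective (cechδ hT fs ((i + 1 : ℕ) : ℤ) ((i + 1 + 1 : ℕ) : ℤ) hcast) := by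
        refine ⟨(injective_iff_map_eq_zero _).2 fun y hy => ?_, hd⟩
        obtain ⟨z, rfl⟩ := (cechδ_exact₃ hT fs _ _ hcast y).1 hy
        exact (congrArg _ ((hEc _ (by omega)).elim z 0)).trans (map_zero _)
      have hbij' : Function.Bijective (δ (I := I) hT (i + 1)) := by
        refine ⟨(injective_iff_map_eq_zero _).2 fun y hy => ?_, hd'⟩
        obtain ⟨z, rfl⟩ := (Groth.LocCohBase.exact₃ (I := I) hT (i + 1) y).1 hy
        exact (congrArg _ ((hEl i).elim z 0)).trans (map_zero _)
      exact ⟨(LinearEquiv.ofBijective _ hbij).symm.trans (e.trans (LinearEquiv.ofBijective _ hbij'))⟩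

end Compare

section Cocycles

lemma isZero_X_of_neg (M : ModuleCat.{u} R) : ∀ (fs : List R) (p : ℤ), p < 0 →
    Subsingleton ((DerCA.extCech M fs).X p)
  | [], p, hp => ModuleCat.subsingleton_of_isZero
      (HomologicalComplex.isZero_single_obj_X (ComplexShape.up ℤ) 0 M p hp.ne)
  | f :: fs, p, hp => by
    let φ := DerCA.locCxUnit (Submonoid.powers f) (DerCA.extCech M fs)
    have h1 := isZero_X_of_neg M fs p hp
    have h2 : Subsingleton (((DerCA.locCx (Submonoid.powers f)).obj (DerCA.extCech M fs)).X (p - 1)) := by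
      have := isZero_X_of_neg M fs (p - 1) (by omega)
      show Subsingleton (LocalizedModule (Submonoid.powers f) ((DerCA.extCech M fs).X (p - 1)))
      refine subsingleton_of_forall_eq 0 fun z => ?_
      induction z using LocalizedModule.induction_on with
      | h a s => rw [Subsingleton.elim a 0, LocalizedModule.zero_mk]
    refine subsingleton_of_forall_eq 0 fun x => ?_
    have h := LinearMap.congr_fun (congrArg ModuleCat.Hom.hom
      (CochainComplex.mappingCocone.id_X φ p (p - 1) (by omega))) x
    refine h.symm.trans ?_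
    show ((CochainComplex.mappingCocone.inl φ).v p p (add_zero p)).hom
        (((CochainComplex.mappingCocone.fst φ).f p).hom x) +
      ((CochainComplex.mappingCocone.inr φ).1.v (p - 1) p (by omega)).hom
        (((CochainComplex.mappingCocone.snd φ).v p (p - 1) (by omega)).hom x) = 0
    rw [h1.elim (((CochainComplex.mappingCocone.fst φ).f p).hom x) 0,
      h2.elim (((CochainComplex.mappingCocone.snd φ).v p (p - 1) (by omega)).hom x) 0, map_zero,
      map_zero, add_zero]

lemma cechε_f_zero_bijective (M : ModuleCat.{u} R) : ∀ fs : List R,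
    Function.Bijective ((cechε M fs).f 0).hom
  | [] => Function.bijective_id
  | f :: fs => by
    let φ := DerCA.locCxUnit (Submonoid.powers f) (DerCA.extCech M fs)
    have h2 : Subsingleton (((DerCA.locCx (Submonoid.powers f)).obj (DerCA.extCech M fs)).X (-1)) := by
      have := isZero_X_of_neg M fs (-1) (by omega)
      show Subsingleton (LocalizedModule (Submonoid.powers f) ((DerCA.extCech M fs).X (-1)))
      refine subsingleton_of_forall_eq 0 fun z => ?_
      induction z using LocalizedModule.induction_on with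
      | h a s => rw [Subsingleton.elim a 0, LocalizedModule.zero_mk]
    have hb : Function.Bijective ((CochainComplex.mappingCocone.fst φ).f 0).hom := by
      constructor
      · refine (injective_iff_map_eq_zero _).2 fun x hx => ?_
        have h := LinearMap.congr_fun (congrArg ModuleCat.Hom.hom
          (CochainComplex.mappingCocone.id_X φ 0 (-1) (by omega))) x
        refine h.symm.trans ?_
        show ((CochainComplex.mappingCocone.inl φ).v 0 0 (add_zero 0)).hom
            (((CochainComplex.mappingCocone.fst φ).f 0).hom x) +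
          ((CochainComplex.mappingCocone.inr φ).1.v (-1) 0 (by omega)).hom
            (((CochainComplex.mappingCocone.snd φ).v 0 (-1) (by omega)).hom x) = 0
        rw [hx, h2.elim (((CochainComplex.mappingCocone.snd φ).v 0 (-1) (by omega)).hom x) 0, map_zero,
          map_zero, add_zero]
      · exact fun y => ⟨((CochainComplex.mappingCocone.inl φ).v 0 0 (add_zero 0)).hom y,
          LinearMap.congr_fun (congrArg ModuleCat.Hom.hom
            (CochainComplex.mappingCocone.inl_v_fst_f φ 0)) y⟩
    exact (cechε_f_zero_bijective M fs).comp hb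

/-- The identification of the degree zero term with the module. -/
noncomputable def eval0 (M : ModuleCat.{u} R) (fs : List R) : (DerCA.extCech M fs).X 0 →ₗ[R] M :=
  ((cechε M fs).f 0 ≫ (singleObjXSelf (ComplexShape.up ℤ) 0 M).hom).hom

lemma eval0_bijective (M : ModuleCat.{u} R) (fs : List R) : Function.Bijective (eval0 M fs) :=
  (singleObjXSelf (ComplexShape.up ℤ) 0 M).toLinearEquiv.bijective.comp (cechε_f_zero_bijective M fs)

lemma eval0_natural {M N : ModuleCat.{u} R} (g : M ⟶ N) (fs : List R)
    (x : (DerCA.extCech M fs).X 0) :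
    eval0 N fs (((cechMap fs g).f 0).hom x) = g.hom (eval0 M fs x) := by
  refine LinearMap.congr_fun (congrArg ModuleCat.Hom.hom
    (show (cechMap fs g).f 0 ≫ (cechε N fs).f 0 ≫ (singleObjXSelf (ComplexShape.up ℤ) 0 N).hom =
      ((cechε M fs).f 0 ≫ (singleObjXSelf (ComplexShape.up ℤ) 0 M).hom) ≫ g from ?_)) x
  rw [← Category.assoc, ← HomologicalComplex.comp_f, cechε_natural, HomologicalComplex.comp_f,
    HomologicalComplex.single_map_f_self]
  simp

lemma cechH0_homologyπ (M : ModuleCat.{u} R) (fs : List R) (z : (DerCA.extCech M fs).cycles 0) :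
    cechH0 M fs (((DerCA.extCech M fs).homologyπ 0).hom z) =
      eval0 M fs (((DerCA.extCech M fs).iCycles 0).hom z) := by
  refine LinearMap.congr_fun (congrArg ModuleCat.Hom.hom
    (show (DerCA.extCech M fs).homologyπ 0 ≫ homologyMap (cechε M fs) 0 ≫
        (singleObjHomologySelfIso (ComplexShape.up ℤ) 0 M).hom =
      (DerCA.extCech M fs).iCycles 0 ≫ (cechε M fs).f 0 ≫
        (singleObjXSelf (ComplexShape.up ℤ) 0 M).hom from ?_)) z
  rw [homologyπ_naturality_assoc, homologyπ_singleObjHomologySelfIso_hom, singleObjCyclesSelfIso_hom,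
    cyclesMap_i_assoc]

/-- `X^0 → Z^1`. -/
noncomputable def toZ (M : ModuleCat.{u} R) (fs : List R) :
    (DerCA.extCech M fs).X 0 →ₗ[R] (DerCA.extCech M fs).cycles 1 :=
  ((DerCA.extCech M fs).toCycles 0 1).hom

lemma toZ_natural {M N : ModuleCat.{u} R} (g : M ⟶ N) (fs : List R)
    (x : (DerCA.extCech M fs).X 0) :
    toZ N fs (((cechMap fs g).f 0).hom x) =
      (cyclesMap (cechMap fs g) 1).hom (toZ M fs x) := by
  refine LinearMap.congr_fun (congrArg ModuleCat.Hom.hom
    (show (cechMap fs g).f 0 ≫ (DerCA.extCech N fs).toCycles 0 1 =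
      (DerCA.extCech M fs).toCycles 0 1 ≫ cyclesMap (cechMap fs g) 1 from ?_)) x
  rw [← cancel_mono ((DerCA.extCech N fs).iCycles 1)]
  simp

lemma toZ_eq_zero_iff (M : ModuleCat.{u} R) (fs : List R) (x : (DerCA.extCech M fs).X 0) :
    toZ M fs x = 0 ↔ eval0 M fs x ∈ DRing.torsionSub (Ideal.span {a | a ∈ fs}) M := by
  let K := DerCA.extCech M fs
  have hti : (K.iCycles 1).hom (toZ M fs x) = (K.d 0 1).hom x :=
    LinearMap.congr_fun (congrArg ModuleCat.Hom.hom (K.toCycles_i 0 1)) x
  rw [← range_cechH0]
  constructor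
  · intro hx
    have hd : (K.d 0 1).hom x = 0 := by rw [← hti, hx, map_zero]
    let z : K.cycles 0 := (K.liftCycles (ModuleCat.ofHom (LinearMap.toSpanSingleton R (K.X 0) x)) 1
      (by simp) (by ext; simp [hd])).hom (1 : R)
    have hz : (K.iCycles 0).hom z = x :=
      (LinearMap.congr_fun (congrArg ModuleCat.Hom.hom (K.liftCycles_i
        (ModuleCat.ofHom (LinearMap.toSpanSingleton R (K.X 0) x)) 1 (by simp)
        (by ext; simp [hd]))) (1 : R)).trans (one_smul R x)
    exact ⟨(K.homologyπ 0).hom z, (cechH0_homologyπ M fs z).trans (congrArg _ hz)⟩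
  · rintro ⟨c, hc⟩
    obtain ⟨z, rfl⟩ := (ModuleCat.epi_iff_surjective (K.homologyπ 0)).1 inferInstance c
    have hz : (K.iCycles 0).hom z = x :=
      (eval0_bijective M fs).1 ((cechH0_homologyπ M fs z).symm.trans hc)
    apply (ModuleCat.mono_iff_injective (K.iCycles 1)).1 inferInstance
    show (K.iCycles 1).hom (toZ M fs x) = (K.iCycles 1).hom 0
    rw [hti, map_zero, ← hz, ← LinearMap.comp_apply, ← ModuleCat.hom_comp, K.iCycles_d]
    rfl

variable [IsNoetherianRing R]

lemma toZ_surjective (E : ModuleCat.{u} R) [Module.Injective R E] (fs : List R) :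
    Function.Surjective (toZ E fs) := by
  intro z
  let K := DerCA.extCech E fs
  have hex : (ShortComplex.mk _ _ (K.toCycles_comp_homologyπ 0 1)).Exact :=
    ShortComplex.exact_of_g_is_cokernel _ (K.homologyIsCokernel 0 1 (by simp))
  exact (ShortComplex.moduleCat_exact_iff _).1 hex z
    ((subsingleton_cech_of_injective E fs 1 le_rfl).elim _ _)

theorem nonempty_cycles_one_equiv_DT (M : ModuleCat.{u} R) (fs : List R) :
    Nonempty ((DerCA.extCech M fs).cycles 1 ≃ₗ[R]
      (LocCoh.idealTransform (Ideal.span {x | x ∈ fs})).obj M) := by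
  let I := Ideal.span {x | x ∈ fs}
  let D := homColim (nIdeal I)
  let p := (EnoughInjectives.presentation M).some
  let T := p.shortComplex
  have hT : T.ShortExact := p.shortExact_shortComplex
  let p' := (EnoughInjectives.presentation T.X₃).some
  have hT' := p'.shortExact_shortComplex
  have hE : Module.Injective R (T.X₂ : Type u) :=
    @Module.injective_module_of_injective_object R (p.J : Type u) _ _ _ p.injective
  have hE' : Module.Injective R (p'.J : Type u) :=
    @Module.injective_module_of_injective_object R (p'.J : Type u) _ _ _ p'.injective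
  -- the comparison on injective modules
  have θ : ∀ (E : ModuleCat.{u} R), Module.Injective R E →
      ∃ θ : (DerCA.extCech E fs).cycles 1 ≃ₗ[R] D.obj E,
        ∀ x, θ (toZ E fs x) = LocCoh.toDT I E (eval0 E fs x) := by
    intro E hEinj
    let q : (DerCA.extCech E fs).X 0 →ₗ[R] D.obj E := LocCoh.toDT I E ∘ₗ eval0 E fs
    have hq : Function.Surjective q := by
      intro y
      obtain ⟨e⟩ := exists_coker_equiv I (E : Type u)
      have : Subsingleton (LocCoh.H I 1 (E : Type u)) :=
        @Groth.LocCohBase.subsingleton_succ_of_injective R _ I 0 E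
          (have := hEinj; Module.injective_object_of_injective_module R (E : Type u))
      have := e.toEquiv.subsingleton
      rw [Submodule.Quotient.subsingleton_iff, LinearMap.range_eq_top] at this
      obtain ⟨e', he'⟩ := this y
      obtain ⟨x, rfl⟩ := (eval0_bijective E fs).2 e'
      exact ⟨x, he'⟩
    have hker : LinearMap.ker (toZ E fs) = LinearMap.ker q := by
      ext x
      rw [LinearMap.mem_ker, LinearMap.mem_ker, toZ_eq_zero_iff]
      exact (toDT_eq_zero_iff I _).symm
    refine ⟨((toZ E fs).quotKerEquivOfSurjective (toZ_surjective E fs)).symm.trans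
      ((Submodule.quotEquivOfEq _ _ hker).trans (q.quotKerEquivOfSurjective hq)), fun x => ?_⟩
    rw [LinearEquiv.trans_apply, LinearEquiv.trans_apply,
      show ((toZ E fs).quotKerEquivOfSurjective (toZ_surjective E fs)).symm (toZ E fs x) =
        Submodule.Quotient.mk x from (LinearEquiv.symm_apply_eq _).2 rfl]
    rfl
  obtain ⟨θ₀, h₀⟩ := θ T.X₂ hE
  obtain ⟨θ₁, h₁⟩ := θ p'.J hE'
  let π := T.g ≫ p'.f
  let Zπ := (cyclesMap (cechMap fs π) 1).hom
  let Dπ := (D.map π).hom
  have hsq : ∀ z, θ₁ (Zπ z) = Dπ (θ₀ z) := by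
    intro z
    obtain ⟨x, rfl⟩ := toZ_surjective T.X₂ fs z
    refine (congrArg θ₁ (toZ_natural π fs x).symm).trans ?_
    rw [h₁, eval0_natural, h₀]
    exact (toDT_natural I π.hom _).symm
  -- the two kernels
  have hmono : ∀ {S : ShortComplex (ModuleCat.{u} R)} (hS : S.ShortExact),
      Function.Injective (cyclesMap (cechMap fs S.f) 1).hom := by
    intro S hS
    have : Mono (cechMap fs S.f) := (cechSeq_shortExact hS fs).mono_f
    exact (ModuleCat.mono_iff_injective _).1 inferInstance
  have hcomp : ∀ z, Zπ z = (cyclesMap (cechMap fs p'.f) 1).hom ((cyclesMap (cechMap fs T.g) 1).hom z) := by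
    intro z
    show (cyclesMap (cechMap fs (T.g ≫ p'.f)) 1).hom z = _
    rw [cechMap_comp, cyclesMap_comp]
    rfl
  have hZker : LinearMap.ker Zπ = LinearMap.range (cyclesMap (cechMap fs T.f) 1).hom := by
    have : Mono (cechSeq hT fs).f := (cechSeq_shortExact hT fs).mono_f
    have hex := (ShortComplex.moduleCat_exact_iff _).1
      (HomologicalComplex.cycles_left_exact (cechSeq hT fs) (cechSeq_shortExact hT fs).exact 1)
    refine le_antisymm (fun z hz => ?_) ?_
    · exact hex z (hmono hT' (((hcomp z).symm.trans hz).trans (map_zero _).symm))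
    · rintro _ ⟨y, rfl⟩
      refine (hcomp _).trans ((congrArg _ ?_).trans (map_zero _))
      show (cyclesMap (cechMap fs T.f) 1 ≫ cyclesMap (cechMap fs T.g) 1).hom y = 0
      rw [← cyclesMap_comp, ← cechMap_comp, T.zero,
        show cechMap fs (0 : T.X₁ ⟶ T.X₃) = 0 from by
          rw [show (0 : T.X₁ ⟶ T.X₃) = ((0 : R) • 𝟙 T.X₁) ≫ (0 : T.X₁ ⟶ T.X₃) by simp, cechMap_comp,
            cechMap_smul]
          simp, cyclesMap_zero]
      rfl
  have hDker : LinearMap.ker Dπ = LinearMap.range (D.map T.f).hom := by
    have hc : ∀ y, Dπ y = (D.map p'.f).hom ((D.map T.g).hom y) := fun y => by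
      show (D.map (T.g ≫ p'.f)).hom y = _
      rw [D.map_comp]; rfl
    refine le_antisymm (fun y hy => ?_) ?_
    · exact (idealTransform_exact_map I hT y).1
        (idealTransform_mono_map I hT' (((hc y).symm.trans hy).trans (map_zero _).symm))
    · rintro _ ⟨x, rfl⟩
      refine (hc _).trans ((congrArg _ ?_).trans (map_zero _))
      exact (idealTransform_exact_map I hT _).2 ⟨x, rfl⟩
  have hker : (LinearMap.ker Zπ).map θ₀.toLinearMap = LinearMap.ker Dπ := by
    ext y
    rw [Submodule.mem_map_equiv, LinearMap.mem_ker, LinearMap.mem_ker, ← θ₁.map_eq_zero_iff, hsq,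
      LinearEquiv.apply_symm_apply]
  exact ⟨(LinearEquiv.ofInjective (cyclesMap (cechMap fs T.f) 1).hom (hmono hT)).trans
    ((LinearEquiv.ofEq _ _ hZker.symm).trans ((θ₀.submoduleMap _).trans
      ((LinearEquiv.ofEq _ _ (hker.trans hDker)).trans
        (LinearEquiv.ofInjective (D.map T.f).hom (idealTransform_mono_map I hT)).symm)))⟩

end Cocycles

end Groth.LocCohTransform
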