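import Groth.Agent.LocCohTransform.ExtCechBase
import Mathlib.Algebra.Homology.HomologicalComplexAbelian
import Mathlib.Algebra.Homology.Linear

/-!
Functoriality of the extended Čech complex in the module.
-/

set_option autoImplicit false
universe u
open CategoryTheory CategoryTheory.Limits HomologicalComplex CochainComplex CochainComplex.HomComplex

namespace Groth.LocCohTransform

variable {R : Type u} [CommRing R]

lemma locCxUnit_natural (S : Submonoid R) {K L : DRing.Cx R} (a : K ⟶ L) :
    DerCA.locCxUnit S K ≫ (DerCA.locCx S).map a = a ≫ DerCA.locCxUnit S L :=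
  HomologicalComplex.hom_ext _ _ fun i => ((DerCA.locUnit S).naturality (a.f i)).symm

/-- The map of mapping cones. -/
noncomputable def preConeMap (f : R) {K L : DRing.Cx R} (a : K ⟶ L) :
    mappingCone (DerCA.locCxUnit (Submonoid.powers f) K) ⟶
      mappingCone (DerCA.locCxUnit (Submonoid.powers f) L) :=
  mappingCone.map _ _ a ((DerCA.locCx (Submonoid.powers f)).map a) (locCxUnit_natural _ a)

/-- The map of one step of the extended Čech complex. -/
noncomputable def coneMap (f : R) {K L : DRing.Cx R} (a : K ⟶ L) : cone K f ⟶ cone L f :=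
  (CategoryTheory.shiftFunctor (DRing.Cx R) (-1 : ℤ)).map (preConeMap f a)

lemma preConeMap_id (f : R) (K : DRing.Cx R) : preConeMap f (𝟙 K) = 𝟙 _ := by
  unfold preConeMap
  simp only [CategoryTheory.Functor.map_id]
  exact mappingCone.map_id _

lemma preConeMap_comp (f : R) {K L P : DRing.Cx R} (a : K ⟶ L) (b : L ⟶ P) :
    preConeMap f (a ≫ b) = preConeMap f a ≫ preConeMap f b := by
  unfold preConeMap
  simp only [Functor.map_comp]
  exact mappingCone.map_comp _ _ _ _ _ _ _ _ _

lemma coneMap_id (f : R) (K : DRing.Cx R) : coneMap f (𝟙 K) = 𝟙 _ := by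
  unfold coneMap
  rw [preConeMap_id, CategoryTheory.Functor.map_id]
  rfl

lemma coneMap_comp (f : R) {K L P : DRing.Cx R} (a : K ⟶ L) (b : L ⟶ P) :
    coneMap f (a ≫ b) = coneMap f a ≫ coneMap f b := by
  unfold coneMap
  rw [preConeMap_comp, Functor.map_comp]
  rfl

lemma preConeMap_fst (f : R) {K L : DRing.Cx R} (a : K ⟶ L) (n m : ℤ) (h : n + 1 = m) :
    (preConeMap f a).f n ≫
        (mappingCone.fst (DerCA.locCxUnit (Submonoid.powers f) L)).1.v n m h =
      (mappingCone.fst (DerCA.locCxUnit (Submonoid.powers f) K)).1.v n m h ≫ a.f m := by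
  subst h
  simp [preConeMap, mappingCone.ext_from_iff _ (n + 1) n rfl, mappingCone.map]

lemma preConeMap_snd (f : R) {K L : DRing.Cx R} (a : K ⟶ L) (n : ℤ) :
    (preConeMap f a).f n ≫
        (mappingCone.snd (DerCA.locCxUnit (Submonoid.powers f) L)).v n n (add_zero n) =
      (mappingCone.snd (DerCA.locCxUnit (Submonoid.powers f) K)).v n n (add_zero n) ≫
        ((DerCA.locCx (Submonoid.powers f)).map a).f n := by
  simp [preConeMap, mappingCone.ext_from_iff _ (n + 1) n rfl, mappingCone.map, -Functor.mapHomologicalComplex_map_f]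

lemma neg_neg_id_comp_apply {A B : ModuleCat.{u} R} (g : A ⟶ B) (x : A) :
    (-(-(𝟙 A ≫ g))).hom x = g.hom x := by
  simp

lemma coneMap_fst (f : R) {K L : DRing.Cx R} (a : K ⟶ L) :
    coneMap f a ≫ mappingCocone.fst (DerCA.locCxUnit (Submonoid.powers f) L) =
      mappingCocone.fst (DerCA.locCxUnit (Submonoid.powers f) K) ≫ a := by
  ext1 p
  simp only [coneMap, mappingCocone.fst, HomologicalComplex.comp_f, HomologicalComplex.neg_f_apply,
    Cocycle.homOf_f, Cocycle.leftShift_coe,
    Cochain.leftShift_v (n := 1) _ _ _ _ _ p _ (p + -1) (by lia)]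
  refine ModuleCat.hom_ext (LinearMap.ext fun x => ?_)
  have h := LinearMap.congr_fun (congrArg ModuleCat.Hom.hom (preConeMap_fst f a (p + -1) p (by omega))) x
  simp at h ⊢
  refine Eq.trans ?_ (Eq.trans h (congrArg (a.f p).hom (neg_neg_id_comp_apply
    ((mappingCone.fst (DerCA.locCxUnit (Submonoid.powers f) K)).1.v (p + -1) p (by omega)) x).symm))
  exact neg_neg_id_comp_apply _ _

lemma preConeMap_smul (f r : R) (K : DRing.Cx R) : preConeMap f (r • 𝟙 K) = r • 𝟙 _ := by
  ext1 n
  have hl : ∀ m, (DerCA.locFunctor (Submonoid.powers f)).map (r • 𝟙 (K.X m)) =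
      r • 𝟙 ((DerCA.locFunctor (Submonoid.powers f)).obj (K.X m)) := by
    intro m
    refine ModuleCat.hom_ext ?_
    show IsLocalizedModule.map (Submonoid.powers f)
      (LocalizedModule.mkLinearMap (Submonoid.powers f) (K.X m))
      (LocalizedModule.mkLinearMap (Submonoid.powers f) (K.X m)) (r • LinearMap.id) = r • LinearMap.id
    rw [map_smul, IsLocalizedModule.map_id]
  simp [preConeMap, mappingCone.ext_from_iff _ (n + 1) n rfl, mappingCone.map, hl]
  refine ModuleCat.hom_ext (LinearMap.ext fun x => ?_)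
  exact map_smul ((mappingCone.inr (DerCA.locCxUnit (Submonoid.powers f) K)).f n).hom r x

lemma coneMap_smul (f r : R) (K : DRing.Cx R) : coneMap f (r • 𝟙 K) = r • 𝟙 _ := by
  unfold coneMap
  rw [preConeMap_smul]
  rfl

lemma preConeMap_shortExact (f : R) (T : ShortComplex (DRing.Cx R)) (hT : T.ShortExact) :
    (ShortComplex.mk (preConeMap f T.f) (preConeMap f T.g)
      (by rw [← preConeMap_comp, T.zero]; unfold preConeMap; ext1 n
          simp [mappingCone.ext_from_iff _ (n + 1) n rfl, mappingCone.map])).ShortExact := by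
  refine HomologicalComplex.shortExact_of_degreewise_shortExact _ fun n => ?_
  let S := Submonoid.powers f
  have hK := hT.map_of_exact (HomologicalComplex.eval (ModuleCat.{u} R) (ComplexShape.up ℤ) (n + 1))
  have hL := (hT.map_of_exact (HomologicalComplex.eval (ModuleCat.{u} R) (ComplexShape.up ℤ) n)).map_of_exact
    (DerCA.locFunctor S)
  let φ₁ := DerCA.locCxUnit S T.X₁
  let φ₂ := DerCA.locCxUnit S T.X₂
  let φ₃ := DerCA.locCxUnit S T.X₃
  have fst_map : ∀ {K L : DRing.Cx R} (a : K ⟶ L) x,
      ((mappingCone.fst (DerCA.locCxUnit S L)).1.v n (n + 1) rfl).hom (((preConeMap f a).f n).hom x) =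
        (a.f (n + 1)).hom (((mappingCone.fst (DerCA.locCxUnit S K)).1.v n (n + 1) rfl).hom x) :=
    fun a x => LinearMap.congr_fun (congrArg ModuleCat.Hom.hom (preConeMap_fst f a n (n + 1) rfl)) x
  have snd_map : ∀ {K L : DRing.Cx R} (a : K ⟶ L) x,
      ((mappingCone.snd (DerCA.locCxUnit S L)).v n n (add_zero n)).hom (((preConeMap f a).f n).hom x) =
        ((DerCA.locFunctor S).map (a.f n)).hom
          (((mappingCone.snd (DerCA.locCxUnit S K)).v n n (add_zero n)).hom x) :=
    fun a x => LinearMap.congr_fun (congrArg ModuleCat.Hom.hom (preConeMap_snd f a n)) x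
  have hext : ∀ (K : DRing.Cx R) (x y : (mappingCone (DerCA.locCxUnit S K)).X n),
      ((mappingCone.fst (DerCA.locCxUnit S K)).1.v n (n + 1) rfl).hom x =
        ((mappingCone.fst (DerCA.locCxUnit S K)).1.v n (n + 1) rfl).hom y →
      ((mappingCone.snd (DerCA.locCxUnit S K)).v n n (add_zero n)).hom x =
        ((mappingCone.snd (DerCA.locCxUnit S K)).v n n (add_zero n)).hom y → x = y := by
    intro K x y h1 h2
    have h := congrArg ModuleCat.Hom.hom (mappingCone.id_X (DerCA.locCxUnit S K) n (n + 1) rfl)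
    have hx := LinearMap.congr_fun h x
    have hy := LinearMap.congr_fun h y
    simp only [ModuleCat.hom_add, ModuleCat.hom_comp, LinearMap.add_apply, LinearMap.comp_apply,
      ModuleCat.hom_id, LinearMap.id_apply] at hx hy
    rw [← hx, ← hy, h1, h2]
  have hpair : ∀ (K : DRing.Cx R) (y : K.X (n + 1)) (z : ((DerCA.locCx S).obj K).X n),
      ∃ x : (mappingCone (DerCA.locCxUnit S K)).X n,
        ((mappingCone.fst (DerCA.locCxUnit S K)).1.v n (n + 1) rfl).hom x = y ∧
        ((mappingCone.snd (DerCA.locCxUnit S K)).v n n (add_zero n)).hom x = z := by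
    intro K y z
    refine ⟨((mappingCone.inl (DerCA.locCxUnit S K)).v (n + 1) n (by omega)).hom y +
      ((mappingCone.inr (DerCA.locCxUnit S K)).f n).hom z, ?_, ?_⟩
    · rw [map_add, ← LinearMap.comp_apply, ← LinearMap.comp_apply, ← ModuleCat.hom_comp,
        ← ModuleCat.hom_comp, mappingCone.inl_v_fst_v, mappingCone.inr_f_fst_v]
      simp
    · rw [map_add, ← LinearMap.comp_apply, ← LinearMap.comp_apply, ← ModuleCat.hom_comp,
        ← ModuleCat.hom_comp, mappingCone.inl_v_snd_v, mappingCone.inr_f_snd_v]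
      simp
  have eK := hK.exact
  have eL := hL.exact
  rw [ShortComplex.moduleCat_exact_iff] at eK eL
  refine { exact := (ShortComplex.moduleCat_exact_iff _).2 fun x hx => ?_
           mono_f := (ModuleCat.mono_iff_injective _).2 fun x y h => ?_
           epi_g := (ModuleCat.epi_iff_surjective _).2 fun x => ?_ }
  · have hx' : ((preConeMap f T.g).f n).hom x = 0 := hx
    obtain ⟨y, hy⟩ := eK _ ((fst_map T.g x).symm.trans ((congrArg _ hx').trans (map_zero _)))
    obtain ⟨z, hz⟩ := eL _ ((snd_map T.g x).symm.trans ((congrArg _ hx').trans (map_zero _)))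
    obtain ⟨w, hw1, hw2⟩ := hpair T.X₁ y z
    exact ⟨w, hext T.X₂ _ _ ((fst_map T.f w).trans ((congrArg _ hw1).trans hy))
      ((snd_map T.f w).trans ((congrArg _ hw2).trans hz))⟩
  · have h' : ((preConeMap f T.f).f n).hom x = ((preConeMap f T.f).f n).hom y := h
    exact hext T.X₁ _ _
      ((ModuleCat.mono_iff_injective _).1 hK.mono_f
        ((fst_map T.f x).symm.trans ((congrArg _ h').trans (fst_map T.f y))))
      ((ModuleCat.mono_iff_injective _).1 hL.mono_f
        ((snd_map T.f x).symm.trans ((congrArg _ h').trans (snd_map T.f y))))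
  · obtain ⟨y, hy⟩ := (ModuleCat.epi_iff_surjective _).1 hK.epi_g
      (((mappingCone.fst φ₃).1.v n (n + 1) rfl).hom x)
    obtain ⟨z, hz⟩ := (ModuleCat.epi_iff_surjective _).1 hL.epi_g
      (((mappingCone.snd φ₃).v n n (add_zero n)).hom x)
    obtain ⟨w, hw1, hw2⟩ := hpair T.X₂ y z
    exact ⟨w, hext T.X₃ _ _ ((fst_map T.g w).trans ((congrArg _ hw1).trans hy))
      ((snd_map T.g w).trans ((congrArg _ hw2).trans hz))⟩

/-- The map of extended Čech complexes induced by a map of modules. -/
noncomputable def cechMap : ∀ (fs : List R) {M N : ModuleCat.{u} R} (_g : M ⟶ N),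
    DerCA.extCech M fs ⟶ DerCA.extCech N fs
  | [], _, _, g => (HomologicalComplex.single (ModuleCat.{u} R) (ComplexShape.up ℤ) 0).map g
  | f :: fs, _, _, g => coneMap f (cechMap fs g)

lemma cechMap_id (M : ModuleCat.{u} R) : ∀ fs : List R, cechMap fs (𝟙 M) = 𝟙 _
  | [] => CategoryTheory.Functor.map_id _ _
  | f :: fs => by
    show coneMap f (cechMap fs (𝟙 M)) = _
    rw [cechMap_id M fs, coneMap_id]
    rfl

lemma cechMap_comp {M N P : ModuleCat.{u} R} (g : M ⟶ N) (h : N ⟶ P) :
    ∀ fs : List R, cechMap fs (g ≫ h) = cechMap fs g ≫ cechMap fs h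
  | [] => Functor.map_comp _ _ _
  | f :: fs => by
    show coneMap f (cechMap fs (g ≫ h)) = _
    rw [cechMap_comp g h fs, coneMap_comp]
    rfl

lemma cechMap_smul (r : R) (M : ModuleCat.{u} R) : ∀ fs : List R,
    cechMap fs (r • 𝟙 M) = r • 𝟙 _
  | [] => by
    show (HomologicalComplex.single (ModuleCat.{u} R) (ComplexShape.up ℤ) 0).map (r • 𝟙 M) = _
    refine HomologicalComplex.from_single_hom_ext ?_
    rw [HomologicalComplex.single_map_f_self]
    simp
    rfl
  | f :: fs => by
    show coneMap f (cechMap fs (r • 𝟙 M)) = _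
    rw [cechMap_smul r M fs, coneMap_smul]
    rfl

/-- The short exact sequence of extended Čech complexes. -/
theorem exists_cech_shortExact {T : ShortComplex (ModuleCat.{u} R)} (hT : T.ShortExact) :
    ∀ fs : List R, ∃ h : cechMap fs T.f ≫ cechMap fs T.g = 0,
      (ShortComplex.mk _ _ h).ShortExact
  | [] => by
    refine ⟨(Functor.map_comp _ _ _).symm.trans ((congrArg _ T.zero).trans (Functor.map_zero _ _ _)), ?_⟩
    exact hT.map_of_exact (HomologicalComplex.single (ModuleCat.{u} R) (ComplexShape.up ℤ) 0)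
  | f :: fs => by
    obtain ⟨h, hse⟩ := exists_cech_shortExact hT fs
    have := (preConeMap_shortExact f _ hse).map_of_exact (CategoryTheory.shiftFunctor (DRing.Cx R) (-1 : ℤ))
    exact ⟨_, this⟩

/-- The map `extCech M fs ⟶ M[0]`. -/
noncomputable def cechε (M : ModuleCat.{u} R) : ∀ fs : List R,
    DerCA.extCech M fs ⟶ (HomologicalComplex.single (ModuleCat.{u} R) (ComplexShape.up ℤ) 0).obj M
  | [] => 𝟙 _
  | f :: fs => mappingCocone.fst (DerCA.locCxUnit (Submonoid.powers f) (DerCA.extCech M fs)) ≫ cechε M fs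

lemma cechε_natural {M N : ModuleCat.{u} R} (g : M ⟶ N) : ∀ fs : List R,
    cechMap fs g ≫ cechε N fs =
      cechε M fs ≫ (HomologicalComplex.single (ModuleCat.{u} R) (ComplexShape.up ℤ) 0).map g
  | [] => (Category.comp_id _).trans (Category.id_comp _).symm
  | f :: fs => by
    show coneMap f (cechMap fs g) ≫ mappingCocone.fst _ ≫ cechε N fs = _
    rw [← Category.assoc, coneMap_fst, Category.assoc, cechε_natural g fs, ← Category.assoc]
    rfl

end Groth.LocCohTransform
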