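import Mathlib.RingTheory.Flat.EquationalCriterion
import Mathlib.RingTheory.Kaehler.Basic
import Mathlib.RingTheory.Smooth.Basic
import Mathlib.LinearAlgebra.ExteriorPower.Basis
import Mathlib.RingTheory.FiniteType
import Mathlib.RingTheory.FinitePresentation

/-!
Flatness of exterior powers of flat modules, and of Kähler differentials of algebras in which finitely
many elements always come from a smooth algebra.
-/

set_option autoImplicit false
universe u

open TensorProduct

namespace Groth.LocCohTransform.FlatExt

variable {R : Type u} [CommRing R]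

/-- A module in which every relation lifts to a flat module is flat. -/
theorem flat_of_forall_lift (M : Type u) [AddCommGroup M] [Module R M]
    (h : ∀ (l : ℕ) (f : Fin l → R) (x : Fin l → M), ∑ i, f i • x i = 0 →
      ∃ (P : Type u) (_ : AddCommGroup P) (_ : Module R P) (_ : Module.Flat R P)
        (y : Fin l → P) (ψ : P →ₗ[R] M), (∀ i, ψ (y i) = x i) ∧ ∑ i, f i • y i = 0) :
    Module.Flat R M := by
  refine Module.Flat.of_forall_isTrivialRelation fun {l f x} hfx => ?_
  obtain ⟨P, _, _, _, y, ψ, hy, h0⟩ := h l f x hfx
  obtain ⟨k, a, z, hz, ha⟩ := Module.Flat.isTrivialRelation_of_sum_smul_eq_zero h0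
  exact ⟨k, a, ψ ∘ z, fun i => by rw [← hy i, hz i, map_sum]; simp [map_smul], ha⟩

section Exterior

variable (n : ℕ) (M : Type u) [AddCommGroup M] [Module R M]

/-- The map on formal combinations of tuples induced by a linear map on formal combinations. -/
noncomputable def Θ {F : Type u} [AddCommGroup F] [Module R F] (L : (M →₀ R) →ₗ[R] F) :
    ((Fin n → M) →₀ R) →ₗ[R] ⋀[R]^n F :=
  Finsupp.linearCombination R fun m => exteriorPower.ιMulti R n fun i => L (Finsupp.single (m i) 1)

/-- The relation holds for all lifts respecting finitely many linear relations. -/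
def Good (z : (Fin n → M) →₀ R) : Prop :=
  ∃ E : Finset (M →₀ R), (∀ e ∈ E, Finsupp.linearCombination R (id : M → M) e = 0) ∧
    ∀ (F : Type u) [AddCommGroup F] [Module R F] (L : (M →₀ R) →ₗ[R] F),
      (∀ e ∈ E, L e = 0) → Θ n M L z = 0

theorem good_of_ker (z : (Fin n → M) →₀ R)
    (hz : Finsupp.linearCombination R (fun m => exteriorPower.ιMulti R n m) z = 0) :
    Good n M z := by
  classical
  let P := exteriorPower.presentation R n M
  have hz' : z ∈ Submodule.span R
      (Set.range (exteriorPower.presentation.relations R (Fin n) M).relation) := by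
    exact (SetLike.ext_iff.1 P.toIsPresentation.ker_π z).1 hz
  clear hz
  induction hz' using Submodule.span_induction with
  | mem w hw =>
    obtain ⟨r, rfl⟩ := hw
    have key : ∀ (F : Type u) [AddCommGroup F] [Module R F] (L : (M →₀ R) →ₗ[R] F) (m : Fin n → M)
        (i : Fin n) (t : M), (fun j => L (Finsupp.single (Function.update m i t j) 1)) =
          Function.update (fun j => L (Finsupp.single (m j) 1)) i (L (Finsupp.single t 1)) := by
      intro F _ _ L m i t
      funext j
      rcases eq_or_ne j i with rfl | hj
      · simp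
      · simp [Function.update_of_ne hj]
    cases r with
    | add m i x y =>
      refine ⟨{Finsupp.single (x + y) 1 - Finsupp.single x 1 - Finsupp.single y 1}, ?_, fun F _ _ L hL => ?_⟩
      · simp
      · have h0 : L (Finsupp.single (x + y) 1) = L (Finsupp.single x 1) + L (Finsupp.single y 1) := by
          have := hL _ (Finset.mem_singleton_self _)
          rw [map_sub, map_sub, sub_sub, sub_eq_zero] at this
          exact this
        simp only [Θ, exteriorPower.presentation.relations, map_add, map_sub,
          Finsupp.linearCombination_single, one_smul]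
        rw [key, key, key, h0, AlternatingMap.map_update_add, sub_self]
    | smul m i c x =>
      refine ⟨{Finsupp.single (c • x) 1 - c • Finsupp.single x 1}, ?_, fun F _ _ L hL => ?_⟩
      · simp
      · have h0 : L (Finsupp.single (c • x) 1) = c • L (Finsupp.single x 1) := by
          have := hL _ (Finset.mem_singleton_self _)
          rw [map_sub, map_smul, sub_eq_zero] at this
          exact this
        simp only [Θ, exteriorPower.presentation.relations, map_sub, map_smul,
          Finsupp.linearCombination_single, one_smul]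
        rw [key, key, h0, AlternatingMap.map_update_smul, sub_self]
    | alt m i j hm hij =>
      refine ⟨∅, by simp, fun F _ _ L _ => ?_⟩
      simp only [Θ, exteriorPower.presentation.relations, Finsupp.linearCombination_single, one_smul]
      exact AlternatingMap.map_eq_zero_of_eq _ _ (by rw [hm]) hij
  | zero => exact ⟨∅, by simp, fun F _ _ L _ => map_zero _⟩
  | add a b _ _ ha hb =>
    obtain ⟨E, hE, ha⟩ := ha
    obtain ⟨E', hE', hb⟩ := hb
    refine ⟨E ∪ E', fun e he => (Finset.mem_union.1 he).elim (hE e) (hE' e), fun F _ _ L hL => ?_⟩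
    rw [map_add, ha F L fun e he => hL e (Finset.mem_union_left _ he),
      hb F L fun e he => hL e (Finset.mem_union_right _ he), add_zero]
  | smul c a _ ha =>
    obtain ⟨E, hE, ha⟩ := ha
    exact ⟨E, hE, fun F _ _ L hL => by rw [map_smul, ha F L hL, smul_zero]⟩

/-- Exterior powers of flat modules are flat. -/
theorem flat_exteriorPower [Module.Flat R M] : Module.Flat R (⋀[R]^n M) := by
  classical
  refine flat_of_forall_lift _ fun l f x hfx => ?_
  have hsurj : ∀ w : ⋀[R]^n M, ∃ g : (Fin n → M) →₀ R,
      Finsupp.linearCombination R (fun m => exteriorPower.ιMulti R n m) g = w := fun w => by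
    have hw : w ∈ Submodule.span R (Set.range (exteriorPower.ιMulti R n (M := M))) := by
      rw [exteriorPower.ιMulti_span]; trivial
    exact (Finsupp.mem_span_range_iff_exists_finsupp.1 hw).imp fun g hg => hg
  choose g hg using fun i => hsurj (x i)
  have hz : Finsupp.linearCombination R (fun m => exteriorPower.ιMulti R n m) (∑ i, f i • g i) = 0 := by
    simp only [map_sum, map_smul, hg, hfx]
  obtain ⟨E, hE, hgood⟩ := good_of_ker n M _ hz
  -- the finitely many elements involved
  let S : Finset M := (E.biUnion Finsupp.support) ∪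
    Finset.univ.biUnion fun i => (g i).support.biUnion fun m => Finset.univ.image m
  let π : (S →₀ R) →ₗ[R] M := Finsupp.linearCombination R fun s : S => (s : M)
  let restrict : (M →₀ R) →ₗ[R] (S →₀ R) :=
    Finsupp.lcomapDomain (fun s : S => (s : M)) Subtype.val_injective
  have hres : ∀ e : M →₀ R, e.support ⊆ S → π (restrict e) = Finsupp.linearCombination R id e := by
    intro e he
    rw [Finsupp.linearCombination_apply R e, Finsupp.sum_of_support_subset e he (fun i a => a • id i) (fun i _ => zero_smul R _),
      ← Finset.sum_coe_sort S]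
    simp only [π, Finsupp.linearCombination_apply]
    rw [Finsupp.sum_fintype (restrict e) (fun (i : S) a => a • (i : M)) (fun i => zero_smul R (i : M))]
    rfl
  let φ : (E →₀ R) →ₗ[R] (S →₀ R) := Finsupp.linearCombination R fun e : E => restrict (e : M →₀ R)
  have hφ : π ∘ₗ φ = 0 := by
    ext e
    simp only [LinearMap.coe_comp, Function.comp_apply, Finsupp.lsingle_apply, φ,
      Finsupp.linearCombination_single, one_smul, LinearMap.zero_apply]
    rw [hres _ fun s hs => Finset.mem_union_left _ (Finset.mem_biUnion.2 ⟨_, e.2, hs⟩), hE _ e.2]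
  obtain ⟨k, a, y, hya, ha⟩ := Module.Flat.exists_factorization_of_comp_eq_zero_of_free hφ
  let L : (M →₀ R) →ₗ[R] (Fin k →₀ R) := a ∘ₗ restrict
  have hL : ∀ e ∈ E, L e = 0 := fun e he => by
    have := LinearMap.congr_fun ha (Finsupp.single ⟨e, he⟩ 1)
    simpa [φ, L] using this
  have : Module.Free R (⋀[R]^n (Fin k →₀ R)) := Module.Free.of_basis (Finsupp.basisSingleOne.exteriorPower n)
  refine ⟨⋀[R]^n (Fin k →₀ R), inferInstance, inferInstance, inferInstance, fun i => Θ n M L (g i),
    exteriorPower.map n y, fun i => ?_, ?_⟩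
  · rw [← hg i]
    simp only [Θ, Finsupp.linearCombination_apply, map_finsuppSum, map_smul, exteriorPower.map_apply_ιMulti]
    refine Finsupp.sum_congr fun m hm => ?_
    congr 2
    funext j
    have hmem : m j ∈ S := Finset.mem_union_right _ (Finset.mem_biUnion.2 ⟨i, Finset.mem_univ _,
      Finset.mem_biUnion.2 ⟨m, hm, Finset.mem_image_of_mem _ (Finset.mem_univ _)⟩⟩)
    have h1 : π (restrict (Finsupp.single (m j) 1)) = m j := by
      rw [hres _ fun s hs => by
        rw [Finset.mem_singleton.1 (Finsupp.support_single_subset hs)]; exact hmem]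
      simp
    rw [hya] at h1
    exact h1
  · have h := hgood _ L hL
    simpa only [map_sum, map_smul] using h

end Exterior

section Kaehler

variable {k A : Type u} [CommRing k] [CommRing A] [Algebra k A]

/-- The relation holds for every derivation on a subalgebra containing finitely many elements. -/
theorem exists_finset_of_kerTotal {R₀ : Type*} [CommRing R₀] [Algebra R₀ A] [Algebra R₀ k]
    [IsScalarTower R₀ k A] (z : A →₀ A) (hz : z ∈ KaehlerDifferential.kerTotal R₀ A) :
    ∃ T : Finset A, ∀ (S : Subalgebra k A), (∀ t ∈ T, t ∈ S) → ∀ (P : Type u) [AddCommGroup P]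
      [Module A P] (D : A → P), (∀ a ∈ S, ∀ b ∈ S, D (a + b) = D a + D b) →
      (∀ a ∈ S, ∀ b ∈ S, D (a * b) = a • D b + b • D a) → (∀ c : k, D (algebraMap k A c) = 0) →
      Finsupp.linearCombination A D z = 0 := by
  classical
  induction hz using Submodule.span_induction with
  | mem w hw =>
    rcases hw with (⟨⟨x, y⟩, rfl⟩ | ⟨⟨x, y⟩, rfl⟩) | ⟨c, rfl⟩
    · refine ⟨{x, y}, fun S hS P _ _ D hadd _ _ => ?_⟩
      simp [hadd x (hS x (by simp)) y (hS y (by simp))]
    · refine ⟨{x, y}, fun S hS P _ _ D _ hmul _ => ?_⟩
      simp [hmul x (hS x (by simp)) y (hS y (by simp))]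
    · refine ⟨∅, fun S _ P _ _ D _ _ hc => ?_⟩
      simp [IsScalarTower.algebraMap_apply R₀ k A, hc]
  | zero => exact ⟨∅, fun S _ P _ _ D _ _ _ => map_zero _⟩
  | add a b _ _ ha hb =>
    obtain ⟨T, ha⟩ := ha
    obtain ⟨T', hb⟩ := hb
    exact ⟨T ∪ T', fun S hS P _ _ D h1 h2 h3 => by
      rw [map_add, ha S (fun t ht => hS t (Finset.mem_union_left _ ht)) P D h1 h2 h3,
        hb S (fun t ht => hS t (Finset.mem_union_right _ ht)) P D h1 h2 h3, add_zero]⟩
  | smul c a _ ha =>
    obtain ⟨T, ha⟩ := ha
    exact ⟨T, fun S hS P _ _ D h1 h2 h3 => by rw [map_smul, ha S hS P D h1 h2 h3, smul_zero]⟩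

/-- If every finitely presented algebra mapping to `A` factors through a smooth one, the differentials
of `A` over `R₀` (with the same constants) are flat. -/
theorem flat_kaehler [IsNoetherianRing k] {R₀ : Type} [CommRing R₀] [Algebra R₀ A] [Algebra R₀ k]
    [IsScalarTower R₀ k A] (hk₀ : Function.Surjective (algebraMap R₀ k))
    (h : ∀ (S : Type u) [CommRing S] [Algebra k S] [Algebra.FinitePresentation k S] (f : S →ₐ[k] A),
      ∃ (B : Type u) (_ : CommRing B) (_ : Algebra k B), Algebra.Smooth k B ∧
        ∃ (g : S →ₐ[k] B) (h : B →ₐ[k] A), h.comp g = f) :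
    Module.Flat A (KaehlerDifferential R₀ A) := by
  classical
  refine flat_of_forall_lift _ fun l f x hfx => ?_
  choose g hg using fun i => KaehlerDifferential.linearCombination_surjective R₀ A (x i)
  have hz : (∑ i, f i • g i) ∈ KaehlerDifferential.kerTotal R₀ A := by
    rw [← KaehlerDifferential.kerTotal_eq, LinearMap.mem_ker]
    simp only [map_sum, map_smul, hg, hfx]
  obtain ⟨T, hT⟩ := exists_finset_of_kerTotal (k := k) _ hz
  let G : Finset A := T ∪ Finset.univ.biUnion fun i => (g i).support
  let S : Subalgebra k A := Algebra.adjoin k (G : Set A)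
  have : Algebra.FiniteType k S := (Subalgebra.fg_iff_finiteType _).1 ⟨G, rfl⟩
  have : Algebra.FinitePresentation k S := Algebra.FinitePresentation.of_finiteType.1 inferInstance
  obtain ⟨B, _, _, hB, γ, θ, hθ⟩ := h S S.val
  let _ : Algebra B A := θ.toRingHom.toAlgebra
  have : IsScalarTower k B A := IsScalarTower.of_algebraMap_eq fun c => (θ.commutes c).symm
  let P := A ⊗[B] KaehlerDifferential k B
  let D : A → P := fun a => if ha : a ∈ S then 1 ⊗ₜ KaehlerDifferential.D k B (γ ⟨a, ha⟩) else 0
  have hsm : ∀ (a : A) (ha : a ∈ S) (ω : KaehlerDifferential k B),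
      (1 : A) ⊗ₜ[B] (γ ⟨a, ha⟩ • ω) = a • ((1 : A) ⊗ₜ[B] ω) := by
    intro a ha ω
    rw [← TensorProduct.smul_tmul, Algebra.smul_def, mul_one, TensorProduct.smul_tmul', smul_eq_mul,
      mul_one]
    congr 1
    exact AlgHom.congr_fun hθ ⟨a, ha⟩
  have hsub : ∀ t ∈ G, t ∈ S := fun t ht => Algebra.subset_adjoin ht
  have hD := hT S (fun t ht => hsub t (Finset.mem_union_left _ ht)) P D
    (fun a ha b hb => by
      simp only [D, dif_pos ha, dif_pos hb, dif_pos (add_mem ha hb)]
      rw [← TensorProduct.tmul_add, ← map_add, ← map_add]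
      rfl)
    (fun a ha b hb => by
      simp only [D, dif_pos ha, dif_pos hb, dif_pos (mul_mem ha hb)]
      rw [← hsm a ha, ← hsm b hb, ← TensorProduct.tmul_add, ← Derivation.leibniz, ← map_mul]
      rfl)
    (fun c => by
      simp only [D, dif_pos (S.algebraMap_mem c)]
      rw [show (⟨algebraMap k A c, S.algebraMap_mem c⟩ : S) = algebraMap k S c from rfl, γ.commutes,
        Derivation.map_algebraMap, TensorProduct.tmul_zero])
  -- the comparison
  let D₁ : Derivation k B (KaehlerDifferential R₀ A) :=
    { toFun := fun b => KaehlerDifferential.D R₀ A (θ b)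
      map_add' := fun a b => by rw [map_add, map_add]
      map_smul' := fun c b => by
        obtain ⟨r, rfl⟩ := hk₀ c
        rw [RingHom.id_apply, map_smul, algebraMap_smul, Derivation.map_smul, algebraMap_smul]
      map_one_eq_zero' := by simp
      leibniz' := fun a b => by
        show KaehlerDifferential.D R₀ A (θ (a * b)) = _
        rw [map_mul, Derivation.leibniz]
        rfl }
  let ψ : P →ₗ[A] KaehlerDifferential R₀ A := D₁.liftKaehlerDifferential.liftBaseChange A
  have hψ : ∀ a ∈ G, ψ (D a) = KaehlerDifferential.D R₀ A a := by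
    intro a ha
    simp only [D, dif_pos (hsub a ha), ψ]
    refine (LinearMap.liftBaseChange_tmul (A := A) D₁.liftKaehlerDifferential 1 _).trans ?_
    rw [one_smul, Derivation.liftKaehlerDifferential_comp_D]
    change KaehlerDifferential.D R₀ A (θ (γ _)) = _
    congr 1
    exact AlgHom.congr_fun hθ ⟨a, hsub a ha⟩
  refine ⟨P, inferInstance, inferInstance, inferInstance, fun i => Finsupp.linearCombination A D (g i),
    ψ, fun i => ?_, ?_⟩
  · rw [← hg i]
    simp only [Finsupp.linearCombination_apply, map_finsuppSum, map_smul]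
    exact Finsupp.sum_congr fun a ha => by
      rw [hψ a (Finset.mem_union_right _ (Finset.mem_biUnion.2 ⟨i, Finset.mem_univ _, ha⟩))]
  · simpa only [map_sum, map_smul] using hD

end Kaehler

end Groth.LocCohTransform.FlatExt
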