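import Groth.Agent.CohDev.FormalColimExact
import Groth.Agent.LocCohTransform.SectionsFinite
import Groth.Agent.Calg1.Completion
import Mathlib.RingTheory.Regular.IsSMulRegular
import Mathlib.RingTheory.Filtration
import Mathlib.LinearAlgebra.Matrix.Charpoly.LinearMap

/-!
Formal sections along a regular element: the colimit over the neighbourhoods of `V(f)` in the
punctured open maps bijectively to the limit when the sections modulo `f` are finite.
-/

set_option autoImplicit false
set_option linter.style.haveILetI false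
universe u

open CategoryTheory AlgebraicGeometry TopologicalSpace Opposite
open Formal2 (quotPow quotPowπ quotPowTrans Admissible)
open Groth.CohDev.TS

namespace Groth.LocCohTransform.ColimPrincipal

variable {A : Type u} [CommRing A] {M : Type u} [AddCommGroup M] [Module A M]

/-- If `g` carries `C` into `IC` up to powers, then an element congruent to a power of `g` kills `C`. -/
theorem exists_annihilator_near (I : Ideal A) (g : A) (C : Type u) [AddCommGroup C] [Module A C]
    [Module.Finite A C] (h : ∀ x : C, ∃ k, g ^ k • x ∈ (I • ⊤ : Submodule A C)) :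
    ∃ (r : A) (k : ℕ), g ^ k - r ∈ I ∧ ∀ x : C, r • x = 0 := by
  classical
  obtain ⟨s, hs⟩ := Module.Finite.fg_top (R := A) (M := C)
  choose k hk using h
  let K := s.sup k
  have hK : LinearMap.range (LinearMap.lsmul A C (g ^ K)) ≤ I • (⊤ : Submodule A C) := by
    rw [← Submodule.map_top, ← hs, Submodule.map_span_le]
    intro x hx
    obtain ⟨j, hj⟩ := Nat.exists_eq_add_of_le (Finset.le_sup (f := k) hx)
    rw [LinearMap.lsmul_apply, show K = j + k x by omega, pow_add, mul_smul, hs]
    exact Submodule.smul_mem _ _ (hk x)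
  obtain ⟨p, hp, -, hcoef, hev⟩ :=
    LinearMap.exists_monic_and_natDegree_eq_and_coeff_mem_pow_and_aeval_eq_zero A
      (LinearMap.lsmul A C (g ^ K)) I hK
  refine ⟨p.eval (g ^ K), K * p.natDegree, ?_, fun x => ?_⟩
  · rw [pow_mul, Polynomial.eval_eq_sum_range, Finset.sum_range_succ, hp.coeff_natDegree, one_mul,
      sub_add_cancel_right]
    refine I.neg_mem (Ideal.sum_mem _ fun j hj => Ideal.mul_mem_right _ _ ?_)
    exact Ideal.pow_le_self (Nat.sub_ne_zero_of_lt (Finset.mem_range.1 hj)) (hcoef j)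
  · have e : LinearMap.lsmul A C (g ^ K) = algebraMap A (Module.End A C) (g ^ K) := rfl
    rw [e, Polynomial.aeval_algebraMap_apply_eq_algebraMap_eval] at hev
    exact LinearMap.congr_fun hev x

theorem of_killed {N : Type u} [AddCommGroup N] [Module A N] {a : A} (h : ∀ x : N, a • x = 0)
    (W : Op A) (s : Sec (A := A) N W) : a • s = 0 :=
  sep_D fun b hb => by
    obtain ⟨k, m, hm⟩ := exists_of_eq (res hb s)
    rw [map_smul, map_zero]
    refine (pow_smul_bijective le_rfl k).1 ?_
    change b ^ k • a • res hb s = b ^ k • (0 : Sec (A := A) N (D b))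
    rw [smul_comm, hm, ← map_smul, h, map_zero, smul_zero]

section Inj

variable [IsNoetherianRing A] [Module.Finite A M] (I : Ideal A)

theorem injective_colim (U V : Op A) (hV : Admissible A I U V) (x : Sec (A := A) M V)
    (hx : ∀ n, map (quotPowπ A I M n) V x = 0) :
    ∃ (V' : Op A) (h : Admissible A I U V' ∧ V' ≤ V), res h.2 x = 0 := by
  let κ := {h : A // ∃ hh : D h ≤ V, res hh x = 0}
  have hle : (⨆ i : κ, D i.1) ≤ V := iSup_le fun i => i.2.1
  refine ⟨⨆ i : κ, D i.1, ⟨⟨hle.trans hV.1, fun p hp hI => ?_⟩, hle⟩,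
    sep (fun i : κ => D i.1) (fun i => le_iSup (fun i : κ => D i.1) i) le_rfl fun i => ?_⟩
  swap
  · rw [res_res, i.2.2, map_zero]
  obtain ⟨g, hpg, hg⟩ := exists_D_le (hV.2 p hp hI)
  obtain ⟨j, m, hm⟩ := exists_of_eq (res hg x)
  let T : Submodule A M :=
    { carrier := {z | ∀ n, ∃ l, g ^ l • z ∈ (I ^ (n + 1) • ⊤ : Submodule A M)}
      zero_mem' := fun n => ⟨0, by rw [smul_zero]; exact zero_mem _⟩
      add_mem' := fun {a b} ha hb n => by
        obtain ⟨l, hl⟩ := ha n
        obtain ⟨l', hl'⟩ := hb n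
        refine ⟨l + l', ?_⟩
        rw [smul_add]
        refine add_mem ?_ ?_
        · rw [pow_add g l l', mul_comm (g ^ l), mul_smul]; exact Submodule.smul_mem _ _ hl
        · rw [pow_add g l l', mul_smul]; exact Submodule.smul_mem _ _ hl'
      smul_mem' := fun c z hz n => by
        obtain ⟨l, hl⟩ := hz n
        exact ⟨l, by rw [smul_comm]; exact Submodule.smul_mem _ _ hl⟩ }
  have hmT : m ∈ T := fun n => by
    have h0 : of (A := A) (D g) (quotPowπ A I M n m) = 0 := by
      rw [← map_of, ← hm, map_smul, map_res, hx, map_zero, smul_zero]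
    obtain ⟨l, hl⟩ := of_eq_zero_iff.1 h0
    rw [← map_smul] at hl
    exact ⟨l, (Submodule.Quotient.mk_eq_zero _).1 hl⟩
  obtain ⟨c, hc⟩ := I.exists_pow_inf_eq_pow_smul T
  obtain ⟨r, k, hr, hrz⟩ := exists_annihilator_near I g T fun z => by
    obtain ⟨l, hl⟩ := z.2 c
    have h1 : g ^ l • (z : M) ∈ I • T := by
      have h2 : g ^ l • (z : M) ∈ I ^ (c + 1) • (⊤ : Submodule A M) ⊓ T := ⟨hl, T.smul_mem _ z.2⟩
      rw [hc (c + 1) (Nat.le_succ c), Nat.add_sub_cancel_left, pow_one] at h2
      exact Submodule.smul_mono le_rfl inf_le_right h2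
    have h3 : T.subtype (g ^ l • z) ∈ (I • ⊤ : Submodule A T).map T.subtype := by
      rw [Submodule.map_smul'', Submodule.map_subtype_top]
      exact h1
    obtain ⟨w, hw, e⟩ := h3
    exact ⟨l, T.subtype_injective e ▸ hw⟩
  have hg' : D (g * r) ≤ D g := PrimeSpectrum.basicOpen_mul_le_left (R := A) g r
  have hr' : D (g * r) ≤ D r := PrimeSpectrum.basicOpen_mul_le_right (R := A) g r
  refine Opens.mem_iSup.2 ⟨⟨g * r, hg'.trans hg, ?_⟩, fun hgr => ?_⟩
  · refine (pow_smul_bijective hg' j).1 ((smul_bijective hr').1 ?_)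
    change r • g ^ j • res (hg'.trans hg) x = r • g ^ j • (0 : Sec (A := A) M (D (g * r)))
    rw [← res_res hg hg', ← map_smul (res hg') (g ^ j), hm, res_of, ← map_smul,
      show r • m = 0 from congrArg Subtype.val (hrz ⟨m, hmT⟩), map_zero, smul_zero, smul_zero]
  · rcases p.isPrime.mem_or_mem hgr with h | h
    · exact hpg h
    · refine hpg (p.isPrime.mem_of_pow_mem k ?_)
      rw [← sub_add_cancel (g ^ k) r]
      exact p.asIdeal.add_mem (hI hr) h

end Inj

section Surj

variable [IsNoetherianRing A] [Module.Finite A M] (f : A) (U : Op A)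

/-- Compatible families of sections. -/
noncomputable def limSec : Submodule A (∀ n, Sec (A := A) (quotPow A (Ideal.span {f}) M n) U) where
  carrier := {y | ∀ n, map (quotPowTrans A (Ideal.span {f}) M n) U (y (n + 1)) = y n}
  zero_mem' := fun n => map_zero _
  add_mem' := fun {a b} ha hb n => by
    simp only [Set.mem_ofPred_eq] at ha hb
    simp only [Pi.add_apply, map_add, ha n, hb n]
  smul_mem' := fun c y hy n => by
    simp only [Set.mem_ofPred_eq] at hy
    simp only [Pi.smul_apply, map_smul, hy n]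

/-- Constant families. -/
noncomputable def toLimSec : M →ₗ[A] limSec (M := M) f U :=
  LinearMap.codRestrict _ (LinearMap.pi fun n => (of U).comp (quotPowπ A (Ideal.span {f}) M n))
    fun m n => by
      change map _ U (of U _) = of U _
      rw [map_of]
      rfl

variable {f U}

omit [IsNoetherianRing A] [Module.Finite A M] in
theorem mem_pow_smul_top (n : ℕ) (x : M) :
    x ∈ (Ideal.span {f} ^ n • ⊤ : Submodule A M) ↔ ∃ z, f ^ n • z = x := by
  rw [Ideal.span_singleton_pow, Submodule.ideal_span_singleton_smul]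
  exact ⟨fun ⟨z, _, hz⟩ => ⟨z, hz⟩, fun ⟨z, hz⟩ => ⟨z, trivial, hz⟩⟩

variable (M f) in
/-- Multiplication by `f` between consecutive levels. -/
noncomputable def mulQ (n : ℕ) :
    quotPow A (Ideal.span {f}) M n →ₗ[A] quotPow A (Ideal.span {f}) M (n + 1) :=
  Submodule.mapQ _ _ (LinearMap.lsmul A M f) fun x hx => by
    obtain ⟨z, rfl⟩ := (mem_pow_smul_top _ x).1 hx
    exact (mem_pow_smul_top _ _).2 ⟨z, by rw [LinearMap.lsmul_apply, ← mul_smul, ← pow_succ']⟩

omit [IsNoetherianRing A] [Module.Finite A M] in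
theorem mulQ_injective (hreg : IsSMulRegular M f) (n : ℕ) : Function.Injective (mulQ M f n) := by
  refine (injective_iff_map_eq_zero _).2 fun q hq => ?_
  obtain ⟨x, rfl⟩ := Submodule.Quotient.mk_surjective _ q
  obtain ⟨z, hz⟩ := (mem_pow_smul_top _ _).1 ((Submodule.Quotient.mk_eq_zero _).1 hq)
  refine (Submodule.Quotient.mk_eq_zero _).2 ((mem_pow_smul_top _ _).2 ⟨z, hreg ?_⟩)
  change f • f ^ (n + 1) • z = f • x
  rw [← mul_smul, ← pow_succ']
  exact hz

omit [IsNoetherianRing A] [Module.Finite A M] in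
theorem range_mulQ (n : ℕ) :
    LinearMap.range (mulQ M f n) = LinearMap.ker (trQ (Ideal.span {f}) M (Nat.zero_le (n + 1))) := by
  refine le_antisymm ?_ fun q hq => ?_
  · rintro _ ⟨q, rfl⟩
    obtain ⟨x, rfl⟩ := Submodule.Quotient.mk_surjective _ q
    exact (Submodule.Quotient.mk_eq_zero _).2 ((mem_pow_smul_top _ _).2 ⟨x, by rw [zero_add, pow_one]; rfl⟩)
  · obtain ⟨x, rfl⟩ := Submodule.Quotient.mk_surjective _ q
    obtain ⟨z, hz⟩ := (mem_pow_smul_top _ _).1 ((Submodule.Quotient.mk_eq_zero _).1 hq)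
    refine ⟨Submodule.Quotient.mk z, congrArg Submodule.Quotient.mk ?_⟩
    rw [zero_add, pow_one] at hz
    exact hz

omit [IsNoetherianRing A] [Module.Finite A M] in
theorem gen_square {p q p' q' : Submodule A M} {a b c d : M →ₗ[A] M} (ha : p ≤ q.comap a)
    (hb : q ≤ q'.comap b) (hc : p ≤ p'.comap c) (hd : p' ≤ q'.comap d) (e : b.comp a = d.comp c) :
    (Submodule.mapQ q q' b hb).comp (Submodule.mapQ p q a ha) =
      (Submodule.mapQ p' q' d hd).comp (Submodule.mapQ p p' c hc) := by
  refine Submodule.linearMap_qext _ ?_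
  ext x
  exact congrArg q'.mkQ (LinearMap.congr_fun e x)

omit [IsNoetherianRing A] [Module.Finite A M] in
theorem gen_scalar {p q : Submodule A M} (a : A) {b : M →ₗ[A] M} (ha : p ≤ q.comap (LinearMap.lsmul A M a))
    (hb : q ≤ p.comap b) (e : b = LinearMap.id) :
    (Submodule.mapQ q p b hb).comp (Submodule.mapQ p q (LinearMap.lsmul A M a) ha) = a • LinearMap.id := by
  subst e
  refine Submodule.linearMap_qext _ ?_
  ext x
  exact (Submodule.Quotient.mk_smul p a x)

omit [IsNoetherianRing A] [Module.Finite A M] in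
theorem trans_comp_mulQ (n : ℕ) : (quotPowTrans A (Ideal.span {f}) M (n + 1)).comp (mulQ M f (n + 1)) =
    (mulQ M f n).comp (quotPowTrans A (Ideal.span {f}) M n) :=
  gen_square _ _ _ _ ((LinearMap.id_comp _).trans (LinearMap.comp_id _).symm)

omit [IsNoetherianRing A] [Module.Finite A M] in
theorem trans_mulQ (n : ℕ) :
    (quotPowTrans A (Ideal.span {f}) M n).comp (mulQ M f n) = f • LinearMap.id :=
  gen_scalar f _ _ rfl

omit [IsNoetherianRing A] [Module.Finite A M] in
theorem map_smul_id {N : Type u} [AddCommGroup N] [Module A N] (a : A) (W : Op A)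
    (s : Sec (A := A) N W) : CohDev.TS.map (a • LinearMap.id : N →ₗ[A] N) W s = a • s :=
  sep_D fun b hb => by
    obtain ⟨k, q, hq⟩ := exists_of_eq (res hb s)
    refine (pow_smul_bijective le_rfl k).1 ?_
    change b ^ k • res hb (CohDev.TS.map (a • LinearMap.id) W s) = b ^ k • res hb (a • s)
    rw [← map_res, ← map_smul (CohDev.TS.map _ (D b)), hq, map_of, map_smul (res hb), smul_comm, hq,
      ← map_smul (of (D b))]
    rfl

omit [IsNoetherianRing A] [Module.Finite A M] in
theorem exists_smul_eq_of_zero (hreg : IsSMulRegular M f) (y : limSec (M := M) f U) (h0 : y.1 0 = 0) :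
    ∃ z : limSec (M := M) f U, f • z = y := by
  choose z hz using fun n => exists_map_eq (mulQ_injective hreg n) (range_mulQ n) (y.1 (n + 1))
    ((compat_le y.1 y.2 (Nat.zero_le (n + 1))).trans h0)
  refine ⟨⟨z, fun n => map_injective (mulQ_injective hreg n) U ?_⟩, Subtype.ext (funext fun n => ?_)⟩
  · rw [map_comp_apply, ← trans_comp_mulQ, ← map_comp_apply, hz, hz, y.2]
  · change f • z n = y.1 n
    rw [← y.2 n, ← hz, map_comp_apply, trans_mulQ, map_smul_id]

omit [IsNoetherianRing A] [Module.Finite A M] in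
theorem isHausdorff_limSec : IsHausdorff (Ideal.span {f}) (limSec (M := M) f U) := by
  refine ⟨fun y hy => Subtype.ext (funext fun n => ?_)⟩
  have h := SModEq.zero.1 (hy (n + 1))
  rw [Ideal.span_singleton_pow, Submodule.ideal_span_singleton_smul] at h
  obtain ⟨z, -, rfl⟩ := h
  change f ^ (n + 1) • z.1 n = 0
  refine of_killed (fun x => ?_) U _
  exact killed_quot M _ (n + 1) le_rfl _ (Ideal.pow_mem_pow (Ideal.mem_span_singleton_self f) _) x

omit [Module.Finite A M] in
theorem finite_limSec [IsAdicComplete (Ideal.span {f}) A] (hreg : IsSMulRegular M f)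
    [Module.Finite A (Sec (A := A) (quotPow A (Ideal.span {f}) M 0) U)] :
    Module.Finite A (limSec (M := M) f U) := by
  have := isHausdorff_limSec (M := M) (f := f) (U := U)
  refine Groth.Calg1.module_finite_of_isHausdorff (Ideal.span {f}) _ ?_
  let p0 : limSec (M := M) f U →ₗ[A] Sec (A := A) (quotPow A (Ideal.span {f}) M 0) U :=
    (LinearMap.proj 0).comp (limSec (M := M) f U).subtype
  have hker : LinearMap.ker p0 ≤ (Ideal.span {f} • ⊤ : Submodule A (limSec (M := M) f U)) := fun y hy => by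
    obtain ⟨z, rfl⟩ := exists_smul_eq_of_zero hreg y hy
    exact Submodule.smul_mem_smul (Ideal.mem_span_singleton_self f) trivial
  haveI : Module.Finite A (limSec (M := M) f U ⧸ LinearMap.ker p0) :=
    Module.Finite.equiv p0.quotKerEquivRange.symm
  exact Module.Finite.of_surjective (Submodule.factor hker) (Submodule.factor_surjective hker)

end Surj

/-- The comparison theorem. -/
theorem colimBij [IsNoetherianRing A] [Module.Finite A M] (𝔞 : Ideal A) (f : A)
    [IsAdicComplete (Ideal.span {f}) A] (hreg : IsSMulRegular M f)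
    [Module.Finite A (Sec (A := A) (quotPow A (Ideal.span {f}) M 0) (LocCoh.puncturedOpen A 𝔞))] :
    ColimBij (Ideal.span {f}) M (LocCoh.puncturedOpen A 𝔞) := by
  let I := Ideal.span {f}
  let U := LocCoh.puncturedOpen A 𝔞
  refine ⟨fun V hV x hx => injective_colim I U V hV x hx, fun y hy => ?_⟩
  haveI := finite_limSec (M := M) (f := f) (U := U) hreg
  let C := limSec (M := M) f U ⧸ LinearMap.range (toLimSec (M := M) f U)
  obtain ⟨s, hs⟩ := IsNoetherian.noetherian 𝔞
  have hDle : ∀ g : s, D (g : A) ≤ U := fun g p hp h => hp (h (hs ▸ Submodule.subset_span g.2))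
  have key : ∀ g : s, ∃ (r : A) (k : ℕ), (g : A) ^ k - r ∈ I ∧ ∀ c : C, r • c = 0 := fun g => by
    refine exists_annihilator_near I (g : A) C fun c => ?_
    obtain ⟨η, rfl⟩ := Submodule.Quotient.mk_surjective _ c
    obtain ⟨k, m, hm⟩ := exists_pow_smul_lift (Submodule.mkQ_surjective _) (hDle g) (η.1 0)
    have h0 : ((g : A) ^ k • η - toLimSec f U m).1 0 = 0 := sub_eq_zero.2 hm
    obtain ⟨z, hz⟩ := exists_smul_eq_of_zero hreg _ h0
    refine ⟨k, ?_⟩
    have : ((g : A) ^ k • Submodule.Quotient.mk η : C) = f • Submodule.Quotient.mk z := by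
      rw [← Submodule.Quotient.mk_smul, ← Submodule.Quotient.mk_smul, hz, Submodule.Quotient.mk_sub,
        (Submodule.Quotient.mk_eq_zero _).2 (LinearMap.mem_range_self (toLimSec (M := M) f U) m), sub_zero]
    rw [this]
    exact Submodule.smul_mem_smul (Ideal.mem_span_singleton_self f) trivial
  choose r k hr hrC using key
  have hlift : ∀ g : s, ∃ m : M, toLimSec f U m = r g • (⟨y, hy⟩ : limSec (M := M) f U) := fun g =>
    (Submodule.Quotient.mk_eq_zero (LinearMap.range (toLimSec (M := M) f U))).1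
      ((Submodule.Quotient.mk_smul _ _ _).trans (hrC g (Submodule.Quotient.mk ⟨y, hy⟩)))
  choose m hm using hlift
  let V₁ : Op A := U ⊓ ⨆ g : s, D ((g : A) * r g)
  have hV₁ : Admissible A I U V₁ := ⟨inf_le_left, fun p hp hI => ⟨hp, by
    obtain ⟨g, hg, hgp⟩ : ∃ g ∈ s, g ∉ p.asIdeal := by
      by_contra hcon
      push Not at hcon
      exact hp (show 𝔞 ≤ p.asIdeal from hs ▸ Submodule.span_le.2 hcon)
    refine Opens.mem_iSup.2 ⟨⟨g, hg⟩, fun hgr => ?_⟩
    rcases p.isPrime.mem_or_mem hgr with h | h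
    · exact hgp h
    · refine hgp (p.isPrime.mem_of_pow_mem (k ⟨g, hg⟩) ?_)
      rw [← sub_add_cancel (g ^ k ⟨g, hg⟩) (r ⟨g, hg⟩)]
      exact p.asIdeal.add_mem (hI (hr ⟨g, hg⟩)) h⟩⟩
  exact exists_glue_solution V₁ hV₁ (fun x hx => injective_colim I U V₁ hV₁ x hx)
    (fun g : s => (g : A) * r g) (fun _ => 1) (fun p hp => Opens.mem_iSup.1 hp.2)
    (fun g => of V₁ ((g : A) • m g)) y fun g n => by
      rw [map_of, map_smul, map_smul, pow_one, mul_smul, ← res_of (inf_le_left : V₁ ≤ U), ← map_smul (res _) (r g)]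
      exact congrArg ((g : A) • res (inf_le_left : V₁ ≤ U) ·) (congrFun (congrArg Subtype.val (hm g)) n)

/-- Finiteness of the sections modulo `f`. -/
theorem finite_sec [IsNoetherianRing A] (𝔞 : Ideal A) (N : Type u) [AddCommGroup N] [Module A N]
    [Module.Finite A N] (h : Module.Finite A (LocCoh.H 𝔞 1 N)) :
    Module.Finite A (Sec (A := A) N (LocCoh.puncturedOpen A 𝔞)) := by
  haveI := Punct.finite_HH_Φ 𝔞 (ModuleCat.of A N) 0 h
  exact Module.Finite.of_injective (Punct.toH0ₗ 𝔞 (ModuleCat.of A N))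
    (Punct.toH0_injective 𝔞 (ModuleCat.of A N))

end Groth.LocCohTransform.ColimPrincipal
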