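import Groth.Agent.LocCohTransform.FormalSectionsApply

/-!
Connectedness of `V(I) ∖ V(𝔞)` from algebraization of formal sections.
-/

set_option autoImplicit false
set_option linter.style.haveILetI false
universe u

open AlgebraicGeometry TopologicalSpace
open Formal2 (quotPow quotPowπ quotPowTrans Admissible)
open Groth.CohDev.TS

namespace Groth.LocCohTransform.FormalConnected

variable {A : Type u} [CommRing A]

theorem mem_minimalPrimes_of_mem_associatedPrimes [IsNoetherianRing A] {p : Ideal A}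
    (h : p ∈ associatedPrimes A (A ⧸ nilradical A)) : p ∈ minimalPrimes A := by
  classical
  obtain ⟨hp, x, hx⟩ := isAssociatedPrime_iff.1 (show IsAssociatedPrime p (A ⧸ nilradical A) from h)
  obtain ⟨x, rfl⟩ := Ideal.Quotient.mk_surjective x
  have hmem : ∀ r, r ∈ p ↔ IsNilpotent (r * x) := fun r => by
    rw [hx, Submodule.mem_colon_singleton, Submodule.mem_bot]
    change Ideal.Quotient.mk (nilradical A) (r * x) = 0 ↔ _
    rw [Ideal.Quotient.eq_zero_iff_mem, mem_nilradical]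
  let S := (minimalPrimes.finite_of_isNoetherianRing A).toFinset.filter fun q => x ∉ q
  have hS : S.inf id ≤ p := fun r hr => (hmem r).2 (by
    rw [← mem_nilradical, nilradical, ← Ideal.sInf_minimalPrimes, Ideal.mem_sInf]
    intro (q : Ideal A) hq
    haveI := hq.1.1
    by_cases hxq : x ∈ q
    · exact q.mul_mem_left _ hxq
    · exact q.mul_mem_right _ (Finset.inf_le (f := id) (Finset.mem_filter.2
        ⟨(Set.Finite.mem_toFinset _).2 hq, hxq⟩) hr))
  obtain ⟨q, hqS, hqp⟩ := hp.inf_le'.1 hS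
  obtain ⟨hqm, hxq⟩ := Finset.mem_filter.1 hqS
  rw [Set.Finite.mem_toFinset] at hqm
  haveI := hqm.1.1
  have hpq : p ≤ q := fun r hr => by
    obtain ⟨k, hk⟩ := (hmem r).1 hr
    exact (Ideal.IsPrime.mem_or_mem inferInstance
      (Ideal.IsPrime.mem_of_pow_mem inferInstance k (hk ▸ q.zero_mem))).resolve_right hxq
  exact le_antisymm hpq hqp ▸ hqm

variable {M : Type u} [AddCommGroup M] [Module A M]

theorem eq_of_no_point {I : Ideal A} {n : ℕ} (hM : ∀ a ∈ I ^ n, ∀ m : M, a • m = 0) {U : Op A}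
    (h : ∀ p : PrimeSpectrum A, p ∈ U → p ∉ PrimeSpectrum.zeroLocus (I : Set A))
    (s t : Sec (A := A) M U) : s = t :=
  res_injective_of_killed hM (bot_le : (⊥ : Op A) ≤ U) (fun p hp hI => absurd hI (h p hp))
    (sep (ι := PEmpty) (fun e => e.elim) (fun e => e.elim) (fun _ hp => absurd hp (by simp)) fun e => e.elim)

theorem preconnected [IsNoetherianRing A] (I 𝔞 : Ideal A) [IsAdicComplete I A]
    (hω : ∃ ω : Dual.D A, Dual.IsDualizing A ω) (d : ℕ) (hd : LocCoh.CdLE A I d)
    (h₂ : ∀ p ∈ minimalPrimes A, ¬ I ≤ p →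
      ∀ (q : Ideal A) [q.IsPrime], p ≤ q → 𝔞 ≤ q → ((d + 1 : ℕ) : WithBot ℕ∞) < Formal2.dimBetween A p q)
    (h₃ : ∀ V : Set (PrimeSpectrum A), IsOpen V → V.Nonempty →
      PrimeSpectrum.zeroLocus (I : Set A) \ PrimeSpectrum.zeroLocus (𝔞 : Set A) ⊆ V → _root_.IsConnected V) :
    _root_.IsPreconnected (PrimeSpectrum.zeroLocus (I : Set A) \ PrimeSpectrum.zeroLocus (𝔞 : Set A)) := by
  intro u v hu hv hcov hune hvne
  by_contra hno
  let N := A ⧸ nilradical A
  let U : Op A := LocCoh.puncturedOpen A 𝔞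
  have hmemU : ∀ p : PrimeSpectrum A, p ∈ U ↔ p ∉ PrimeSpectrum.zeroLocus (𝔞 : Set A) := fun p => Iff.rfl
  -- the three opens
  let W₀ : Op A := U ⊓ ⟨(PrimeSpectrum.zeroLocus (I : Set A))ᶜ, (PrimeSpectrum.isClosed_zeroLocus _).isOpen_compl⟩
  let W₁ : Op A := U ⊓ ⟨u, hu⟩
  let W₂ : Op A := U ⊓ ⟨v, hv⟩
  let W : ULift.{u} (Fin 3) → Op A := fun i => ![W₀, W₁, W₂] i.down
  have hWU : ∀ i, W i ≤ U := by
    rintro ⟨i⟩; fin_cases i <;> exact inf_le_left
  have hWc : U ≤ iSup W := fun p hp => by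
    by_cases hI : p ∈ PrimeSpectrum.zeroLocus (I : Set A)
    · rcases hcov ⟨hI, hp⟩ with h | h
      · exact Opens.mem_iSup.2 ⟨⟨1⟩, hp, h⟩
      · exact Opens.mem_iSup.2 ⟨⟨2⟩, hp, h⟩
    · exact Opens.mem_iSup.2 ⟨⟨0⟩, hp, hI⟩
  have hWdisj : ∀ i j, i ≠ j → ∀ p : PrimeSpectrum A, p ∈ W i ⊓ W j →
      p ∉ PrimeSpectrum.zeroLocus (I : Set A) := by
    rintro ⟨i⟩ ⟨j⟩ hij p ⟨hi, hj⟩ hI
    fin_cases i <;> fin_cases j
    all_goals first
      | exact hij rfl
      | exact hi.2 hI
      | exact hj.2 hI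
      | exact hno ⟨p, ⟨hI, hi.1⟩, hi.2, hj.2⟩
      | exact hno ⟨p, ⟨hI, hi.1⟩, hj.2, hi.2⟩
  have hkill : ∀ n, ∀ a ∈ I ^ (n + 1), ∀ x : quotPow A I N n, a • x = 0 := fun n =>
    killed_quot N _ (n + 1) le_rfl
  let σ : ∀ n (i : ULift.{u} (Fin 3)), Sec (A := A) (quotPow A I N n) (W i) := fun n i =>
    of (W i) (quotPowπ A I N n (if i.down = 1 then 1 else 0))
  choose e he using fun n => glue W hWU hWc (σ n) fun i j => by
    by_cases hij : i = j
    · subst hij; rfl
    · exact eq_of_no_point (hkill n) (hWdisj i j hij) _ _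
  have hcompat : ∀ n, map (quotPowTrans A I N n) U (e (n + 1)) = e n := fun n =>
    sep W hWU hWc fun i => by
      rw [← map_res, he, he, map_of]
      rfl
  obtain ⟨J₀, hJ, hV, -, hsurj⟩ := FormalSectionsApply.exists_open_bijective (I := I) (𝔞 := 𝔞) (M := N) hω d hd
    fun p hI _ q hpq hq hass => h₂ p.asIdeal (mem_minimalPrimes_of_mem_associatedPrimes hass) hI q.asIdeal hpq hq
  let V : Op A := LocCoh.puncturedOpen A J₀
  obtain ⟨x, hx⟩ := hsurj (fun n => res hV.1 (e n)) fun n => by rw [map_res, hcompat]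
  -- where `x` is constant
  let O : N → Op A := fun c => ⨆ g : {g : A // ∃ h : D g ≤ V, res h x = of (D g) c}, D g.1
  have hO : ∀ {c : N} {p : PrimeSpectrum A}, p ∈ O c →
      ∃ (g : A) (h : D g ≤ V), p ∈ D g ∧ res h x = of (D g) c := fun hp => by
    obtain ⟨⟨g, hg, hgx⟩, hp⟩ := Opens.mem_iSup.1 hp
    exact ⟨g, hg, hp, hgx⟩
  have hone : ∀ (p : PrimeSpectrum A) (g : A), p ∈ D g →
      of (A := A) (M := N) (D g) 1 ≠ 0 := fun p g hp h => by
    obtain ⟨k, hk⟩ := of_eq_zero_iff.1 h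
    refine hp (p.2.mem_of_pow_mem k (nilradical_le_prime p.asIdeal (Ideal.Quotient.eq_zero_iff_mem.1 ?_)))
    rw [← hk, Algebra.smul_def, mul_one]
    rfl
  have hdisj : ∀ p, p ∈ O 1 → p ∈ O 0 → False := fun p h1 h0 => by
    obtain ⟨g, hg, hpg, hgx⟩ := hO h1
    obtain ⟨g', hg', hpg', hgx'⟩ := hO h0
    have h₁ : D (g * g') ≤ D g := PrimeSpectrum.basicOpen_mul_le_left (R := A) g g'
    have h₂ : D (g * g') ≤ D g' := PrimeSpectrum.basicOpen_mul_le_right (R := A) g g'
    refine hone p (g * g') (fun h => (p.2.mem_or_mem h).elim hpg hpg') ?_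
    rw [← res_of h₁, ← hgx, res_res, ← res_res hg' h₂, hgx', res_of, map_zero]
  -- near `V(I)` it is constant
  have hmain : ∀ p : PrimeSpectrum A, p ∈ U → p ∈ PrimeSpectrum.zeroLocus (I : Set A) →
      (p ∈ u → p ∈ O 1) ∧ (p ∈ v → p ∈ O 0) := by
    intro p hp hI
    obtain ⟨g, hpg, hg⟩ := exists_D_le (hV.2 p hp hI)
    obtain ⟨k, m, hm⟩ := exists_of_eq (res hg x)
    let ψ : N →ₗ[A] N := LinearMap.mulLeft A (m - g ^ k • (1 : N))
    have hψ : ∀ n, map (quotPowπ A I N n) (D g) (of (D g) (ψ m)) = 0 := fun n => by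
      have hmn : g ^ k • res hg (res hV.1 (e n)) = of (D g) (quotPowπ A I N n m) := by
        rw [← hx, ← map_res, ← map_smul, hm, map_of]
      refine sep (fun i => W i ⊓ D g) (fun i => inf_le_right) (fun q hq => ?_) fun i => ?_
      · obtain ⟨i, hi⟩ := Opens.mem_iSup.1 (hWc (hV.1 (hg hq)))
        exact Opens.mem_iSup.2 ⟨i, hi, hq⟩
      rw [map_zero, map_of, res_of]
      set T : Op A := W i ⊓ D g with hT
      have hmi := congrArg (res (inf_le_right : W i ⊓ D g ≤ D g)) hmn
      rw [map_smul, res_res, res_res, ← res_res (hWU i) (inf_le_left : W i ⊓ D g ≤ W i), he, res_of,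
        res_of, ← map_smul, ← map_smul] at hmi
      by_cases h1 : i.down = 1
      · have hz : of (A := A) T (quotPowπ A I N n (m - g ^ k • (1 : N))) = 0 := by
          rw [map_sub, map_sub, ← hmi, if_pos h1, sub_self]
        obtain ⟨a, rfl⟩ := Ideal.Quotient.mk_surjective m
        have e1 : ψ (Ideal.Quotient.mk _ a) = a • (Ideal.Quotient.mk _ a - g ^ k • (1 : N)) := by
          change (Ideal.Quotient.mk _ a - g ^ k • (1 : N)) * Ideal.Quotient.mk _ a = _
          rw [mul_comm]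
          rfl
        rw [e1, map_smul, map_smul, hz, smul_zero]
      · have hz : of (A := A) T (quotPowπ A I N n m) = 0 := by
          rw [← hmi, if_neg h1, smul_zero, map_zero, map_zero]
        obtain ⟨b, hb⟩ := Ideal.Quotient.mk_surjective (m - g ^ k • (1 : N))
        have e1 : ψ m = b • m := by
          change (m - g ^ k • (1 : N)) * m = _
          rw [← hb]
          rfl
        rw [e1, map_smul, map_smul, hz, smul_zero]
    obtain ⟨V', hV', hz⟩ := ColimPrincipal.injective_colim I (D g) (D g)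
      ⟨le_rfl, fun _ h _ => h⟩ (of (D g) (ψ m)) hψ
    rw [res_of] at hz
    obtain ⟨g', hpg', hg'⟩ := exists_D_le (hV'.1.2 p hpg hI)
    have hz' : of (A := A) (D g') (ψ m) = 0 := by rw [← res_of hg', hz, map_zero]
    obtain ⟨l, hl⟩ := of_eq_zero_iff.1 hz'
    obtain ⟨a, rfl⟩ := Ideal.Quotient.mk_surjective m
    change g' ^ l • (((Ideal.Quotient.mk _ a : N) - g ^ k • (1 : N)) * Ideal.Quotient.mk _ a) = 0 at hl
    have hgk : (g ^ k • (1 : N)) = Ideal.Quotient.mk _ (g ^ k) := by rw [Algebra.smul_def, mul_one]; rfl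
    rw [hgk, ← map_sub, ← map_mul, Algebra.smul_def, Ideal.Quotient.algebraMap_eq, ← map_mul,
      Ideal.Quotient.eq_zero_iff_mem] at hl
    obtain ⟨j, hj⟩ := mem_nilradical.1 hl
    have hgg : D (g * g') ≤ D g := PrimeSpectrum.basicOpen_mul_le_left (R := A) g g'
    -- which factor is a unit at `p`
    have key : ∀ (c : A) (N₀ : N), c ∉ p.asIdeal →
        IsNilpotent (g' ^ l * c * (a - N₀.out * g ^ k)) → p ∈ O N₀ := fun c N₀ hc hn => by
      have hh : D (g * g' * c) ≤ D g := (PrimeSpectrum.basicOpen_mul_le_left (R := A) _ c).trans hgg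
      refine Opens.mem_iSup.2 ⟨⟨g * g' * c, hh.trans hg,
        (pow_smul_bijective hh k).1 ?_⟩, fun h => (p.2.mem_or_mem h).elim
          (fun h => (p.2.mem_or_mem h).elim hpg hpg') hc⟩
      change g ^ k • res (hh.trans hg) x = g ^ k • of (D (g * g' * c)) N₀
      rw [← res_res hg hh, ← map_smul (res hh), hm, res_of, ← map_smul (of _), ← sub_eq_zero, ← map_sub]
      refine of_eq_zero_iff.2 ⟨l + 1, ?_⟩
      obtain ⟨b, rfl⟩ := Ideal.Quotient.mk_surjective N₀
      rw [Algebra.smul_def, Algebra.smul_def, Ideal.Quotient.algebraMap_eq, ← map_mul, ← map_sub, ← map_mul,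
        Ideal.Quotient.eq_zero_iff_mem]
      have hout : (Ideal.Quotient.mk (nilradical A) b).out - b ∈ nilradical A :=
        Ideal.Quotient.eq.1 (Quotient.out_eq _)
      have : g' ^ l * c * (a - g ^ k * b) ∈ nilradical A := by
        have := (nilradical A).add_mem (mem_nilradical.2 hn)
          ((nilradical A).mul_mem_left (g' ^ l * c * g ^ k) hout)
        convert this using 1
        ring
      convert (nilradical A).mul_mem_left (g ^ (l + 1) * g' * c ^ l) this using 1
      ring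
    have hout1 : IsNilpotent ((1 : N).out - 1) :=
      mem_nilradical.1 (Ideal.Quotient.eq.1 (Quotient.out_eq (1 : N)))
    have hout0 : IsNilpotent ((0 : N).out) :=
      mem_nilradical.1 (Ideal.Quotient.eq_zero_iff_mem.1 (Quotient.out_eq (0 : N)))
    have hres : ∀ {i : ULift.{u} (Fin 3)}, p ∈ W i →
        g' * (a - (if i.down = 1 then (g ^ k) else 0)) ∈ p.asIdeal := fun {i} hi => by
      have hmn := congrArg (res (inf_le_right : W i ⊓ D g ≤ D g))
        (show g ^ k • res hg (res hV.1 (e 0)) = of (D g) (quotPowπ A I N 0 (Ideal.Quotient.mk _ a)) by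
          rw [← hx, ← map_res, ← map_smul, hm, map_of])
      rw [map_smul, res_res, res_res, ← res_res (hWU i) (inf_le_left : W i ⊓ D g ≤ W i), he, res_of,
        res_of, ← map_smul, ← map_smul, ← sub_eq_zero, ← map_sub, ← map_sub] at hmn
      obtain ⟨g'', hpg'', hg''⟩ := exists_D_le (show p ∈ W i ⊓ D g from ⟨hi, hpg⟩)
      have h := congrArg (res hg'') hmn
      rw [res_of, map_zero] at h
      obtain ⟨t, ht⟩ := of_eq_zero_iff.1 h
      rw [← map_smul] at ht
      have hmem := (Submodule.Quotient.mk_eq_zero _).1 ht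
      have hle : (I ^ (0 + 1) • ⊤ : Submodule A N) ≤ (p.asIdeal.map (Ideal.Quotient.mk (nilradical A))).restrictScalars A :=
        Submodule.smul_le.2 fun r hr y _ => by
          change r • y ∈ p.asIdeal.map _
          rw [Algebra.smul_def]
          exact Ideal.mul_mem_right _ _ (Ideal.mem_map_of_mem _ (hI (Ideal.pow_le_self one_ne_zero hr)))
      have hmem' : g'' ^ t • ((g ^ k • (if i.down = 1 then (1 : N) else 0)) - Ideal.Quotient.mk _ a) ∈
          p.asIdeal.map (Ideal.Quotient.mk (nilradical A)) := hle hmem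
      rw [show (g ^ k • (if i.down = 1 then (1 : N) else 0)) =
          Ideal.Quotient.mk _ (if i.down = 1 then g ^ k else 0) by split_ifs <;> simp [hgk],
        ← map_sub, Algebra.smul_def, Ideal.Quotient.algebraMap_eq, ← map_mul, Ideal.mem_quotient_iff_mem
          (nilradical_le_prime p.asIdeal)] at hmem'
      refine p.asIdeal.mul_mem_left g' ?_
      have := (p.2.mem_or_mem hmem').resolve_left fun h => hpg'' (p.2.mem_of_pow_mem t h)
      simpa using p.asIdeal.neg_mem this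
    refine ⟨fun hpu => ?_, fun hpv => ?_⟩
    · have h1 : g' * (a - g ^ k) ∈ p.asIdeal := by simpa using hres (i := ⟨1⟩) ⟨hp, hpu⟩
      have hac : a ∉ p.asIdeal := fun ha => by
        have := p.asIdeal.sub_mem ha ((p.2.mem_or_mem h1).resolve_left hpg')
        rw [sub_sub_cancel] at this
        exact hpg (p.2.mem_of_pow_mem k this)
      refine key a 1 hac ?_
      have := (nilradical A).sub_mem hl ((nilradical A).mul_mem_left (g' ^ l * a * g ^ k) (mem_nilradical.2 hout1))
      convert mem_nilradical.1 this using 1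
      ring
    · have h0 : g' * a ∈ p.asIdeal := by simpa using hres (i := ⟨2⟩) ⟨hp, hpv⟩
      have hac : a - g ^ k ∉ p.asIdeal := fun ha => by
        have := p.asIdeal.sub_mem ((p.2.mem_or_mem h0).resolve_left hpg') ha
        rw [sub_sub_cancel] at this
        exact hpg (p.2.mem_of_pow_mem k this)
      refine key (a - g ^ k) 0 hac ?_
      have := (nilradical A).sub_mem hl
        ((nilradical A).mul_mem_left (g' ^ l * (a - g ^ k) * g ^ k) (mem_nilradical.2 hout0))
      convert mem_nilradical.1 this using 1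
      ring
  let P : Set (PrimeSpectrum A) := (O 1).carrier ∪ (O 0).carrier
  have hsub : PrimeSpectrum.zeroLocus (I : Set A) \ PrimeSpectrum.zeroLocus (𝔞 : Set A) ⊆ P := fun p hp => by
    rcases hcov hp with h | h
    · exact Or.inl ((hmain p hp.2 hp.1).1 h)
    · exact Or.inr ((hmain p hp.2 hp.1).2 h)
  obtain ⟨p₁, hp₁, hp₁u⟩ := hune
  obtain ⟨p₂, hp₂, hp₂v⟩ := hvne
  obtain ⟨q, -, hq1, hq0⟩ := (h₃ P ((O 1).2.union (O 0).2) ⟨p₁, hsub hp₁⟩ hsub).2
    (O 1).carrier (O 0).carrier (O 1).2 (O 0).2 subset_rfl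
    ⟨p₁, hsub hp₁, (hmain p₁ hp₁.2 hp₁.1).1 hp₁u⟩ ⟨p₂, hsub hp₂, (hmain p₂ hp₂.2 hp₂.1).2 hp₂v⟩
  exact hdisj q hq1 hq0

end Groth.LocCohTransform.FormalConnected
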