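import Groth.Agent.LocCohTransform.FormalConnected
import Groth.Agent.LocCohTransform.Connectedness
import Groth.Agent.LocCohTransform.AlgebraizeApply
import Groth.Agent.LocCohTransform.DimCd
import Groth.Agent.LocCohBase.CdLocal
import Groth.Agent.S0376
import Groth.Agent.S0546

/-!
Connectedness of `V(I) ∖ Z` in a complete local ring.
-/

set_option autoImplicit false
universe u

open CategoryTheory IsLocalRing Groth.LocCohBase

attribute [local instance] HasDerivedCategory.standard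

namespace Groth.LocCohTransform.FormalConnectedLocal

variable {A : Type u} [CommRing A] [IsNoetherianRing A] [IsLocalRing A]

/-- `dim A/J ≤ cd(I) + dim A/(I + J)`, bounded by any closed set containing `V(I) ∩ V(J)`. -/
theorem dim_le {I J : Ideal A} (hI : I ≠ ⊤) (hJ : J ≠ ⊤) {e : ℕ} (he : LocCoh.CdLE A I e)
    {D : WithBot ℕ∞} (hD : ringKrullDim (A ⧸ (I ⊔ J)) ≤ D) :
    ringKrullDim (A ⧸ J) ≤ D + (e : ℕ) := by
  have : Nontrivial (A ⧸ J) := Ideal.Quotient.nontrivial_iff.2 hJ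
  have : IsLocalRing (A ⧸ J) := .of_surjective' (Ideal.Quotient.mk J) Ideal.Quotient.mk_surjective
  have hne : I ⊔ J ≠ ⊤ := ne_top_of_le_ne_top (maximalIdeal.isMaximal A).ne_top
    (sup_le (le_maximalIdeal hI) (le_maximalIdeal hJ))
  obtain ⟨n, hn⟩ := DimCd.exists_nat_dim hne
  have e1 : ((A ⧸ J) ⧸ I.map (algebraMap A (A ⧸ J))) ≃+* A ⧸ (I ⊔ J) :=
    (DoubleQuot.quotQuotEquivQuotSup J I).trans (Ideal.quotEquivOfEq (sup_comm _ _))
  have hIJ : I.map (algebraMap A (A ⧸ J)) ≠ ⊤ := fun h => hne <| by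
    have : Subsingleton ((A ⧸ J) ⧸ I.map (algebraMap A (A ⧸ J))) := Ideal.Quotient.subsingleton_iff.2 h
    exact Ideal.Quotient.subsingleton_iff.1 e1.symm.toEquiv.subsingleton
  have hd : ringKrullDim ((A ⧸ J) ⧸ I.map (algebraMap A (A ⧸ J))) ≤ (n : ℕ) := by
    rw [ringKrullDim_eq_of_ringEquiv e1, hn]
  refine (DimCd.dim_le_cd_add_dim n e _ hIJ hd (cdLE_map (B := A ⧸ J) he)).trans ?_
  rw [Nat.cast_add, add_comm]
  exact add_le_add (hn ▸ hD) le_rfl

theorem connected [IsAdicComplete (maximalIdeal A) A] (I : Ideal A) (hI : I ≠ ⊤) (e : ℕ)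
    (he : LocCoh.CdLE A I e)
    (Z : Set (PrimeSpectrum A)) (hZ : IsClosed Z) (hZI : Z ⊆ PrimeSpectrum.zeroLocus (I : Set A))
    (hdim : ∀ p ∈ minimalPrimes A, topologicalKrullDim Z + ((e + 1 : ℕ) : WithBot ℕ∞) < ringKrullDim (A ⧸ p))
    (hc : ∀ Z' : Set (PrimeSpectrum A), IsClosed Z' → ¬ _root_.IsConnected Z'ᶜ →
      topologicalKrullDim Z + ((e : ℕ) : WithBot ℕ∞) < topologicalKrullDim Z') :
    _root_.IsConnected (PrimeSpectrum.zeroLocus (I : Set A) \ Z) := by
  let 𝔞 : Ideal A := PrimeSpectrum.vanishingIdeal Z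
  have hZeq : PrimeSpectrum.zeroLocus (𝔞 : Set A) = Z := by
    rw [PrimeSpectrum.zeroLocus_vanishingIdeal_eq_closure, hZ.closure_eq]
  have hdimZ : topologicalKrullDim Z = ringKrullDim (A ⧸ 𝔞) := by
    rw [← Connectedness.topologicalKrullDim_zeroLocus, hZeq]
  -- `V(I) ∩ V(J) ⊆ Z` bounds the dimension of `A/J`.
  have key : ∀ J : Ideal A, J ≠ ⊤ →
      PrimeSpectrum.zeroLocus (I : Set A) ∩ PrimeSpectrum.zeroLocus (J : Set A) ⊆ Z →
      ringKrullDim (A ⧸ J) ≤ topologicalKrullDim Z + ((e : ℕ) : WithBot ℕ∞) := fun J hJ hsub => by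
    refine dim_le hI hJ he ?_
    rw [hdimZ]
    refine Connectedness.dim_le_of_forall_prime _ _ fun Q hQ hle => ?_
    have : (⟨Q, hQ⟩ : PrimeSpectrum A) ∈ PrimeSpectrum.zeroLocus (𝔞 : Set A) := hZeq ▸ hsub
      ⟨le_sup_left.trans hle, le_sup_right.trans hle⟩
    exact Connectedness.dim_mono this
  obtain ⟨p₀, hp₀⟩ : (minimalPrimes A).Nonempty :=
    Set.nonempty_coe_sort.1 (Ideal.nonempty_minimalPrimes (bot_ne_top (α := Ideal A)))
  have hne : (PrimeSpectrum.zeroLocus (I : Set A) \ Z).Nonempty := by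
    by_contra hempty
    have h1 := key p₀ hp₀.1.1.ne_top fun x hx => by
      by_contra hxZ; exact hempty ⟨x, hx.1, hxZ⟩
    refine not_lt_of_ge h1 (lt_of_le_of_lt ?_ (hdim p₀ hp₀))
    exact add_le_add le_rfl (Nat.cast_le.2 (Nat.le_succ e))
  refine ⟨hne, ?_⟩
  have : IsAdicComplete I A :=
    Groth.Agent.S0546.result A I (maximalIdeal A) (le_maximalIdeal hI) (IsNoetherian.noetherian I) A
  obtain ⟨ω, hω⟩ := Groth.Agent.S0376.result A
  have h := FormalConnected.preconnected I 𝔞 ⟨ω, hω⟩ e he ?_ ?_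
  · rwa [hZeq] at h
  · intro p hp _ q _ hpq hq
    let P : PrimeSpectrum A := ⟨p, hp.1.1⟩
    let Q : PrimeSpectrum A := ⟨q, inferInstance⟩
    have hQm : Q ≤ closedPoint A := le_maximalIdeal Q.2.ne_top
    obtain ⟨n₁, hn₁⟩ := DualDegree.exists_degree_eq hω (show P ≤ Q from hpq)
    obtain ⟨n₂, hn₂⟩ := DualDegree.exists_degree_eq hω hQm
    have d1 := DualDegree.dimBetween hω (show P ≤ Q from hpq) hn₁
    have d2 := DualDegree.dimBetween hω hQm hn₂
    have d3 := DualDegree.dimBetween hω ((show P ≤ Q from hpq).trans hQm)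
      (n := n₁ + n₂) (by rw [hn₂, hn₁]; push_cast; ring)
    rw [AlgebraizeApply.dimBetween_closedPoint hω] at d2 d3
    have hq2 : ((n₂ : ℕ∞) : WithBot ℕ∞) ≤ topologicalKrullDim Z :=
      d2 ▸ hdimZ ▸ Connectedness.dim_mono hq
    have h4 := lt_of_le_of_lt (add_le_add hq2 le_rfl) (d3 ▸ hdim p hp)
    rw [d1]
    have h5 : n₂ + (e + 1) < n₁ + n₂ := by exact_mod_cast h4
    exact_mod_cast (show e + 1 < n₁ by omega)
  · intro V hV hVne hsub
    by_contra hnc
    have h1 := hc Vᶜ hV.isClosed_compl (by rwa [compl_compl])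
    let J : Ideal A := PrimeSpectrum.vanishingIdeal Vᶜ
    have hJeq : PrimeSpectrum.zeroLocus (J : Set A) = Vᶜ := by
      rw [PrimeSpectrum.zeroLocus_vanishingIdeal_eq_closure, hV.isClosed_compl.closure_eq]
    have hJ : J ≠ ⊤ := fun hJ => hnc <| by
      have hVu : V = Set.univ := by
        rw [← compl_compl V, ← hJeq, hJ]; simp
      rw [hVu]
      refine ⟨Set.univ_nonempty, isPreconnected_of_forall (closedPoint A) fun y _ => ?_⟩
      refine ⟨closure {y}, Set.subset_univ _, ?_, subset_closure rfl, isPreirreducible_singleton.closure.isPreconnected⟩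
      exact (PrimeSpectrum.le_iff_mem_closure y (closedPoint A)).1 (le_maximalIdeal y.2.ne_top)
    rw [← hJeq, Connectedness.topologicalKrullDim_zeroLocus] at h1
    refine not_lt_of_ge (key J hJ fun x hx => ?_) h1
    by_contra hxZ
    have hx' : x ∈ Vᶜ := hJeq ▸ hx.2
    exact hx' (hsub ⟨hx.1, fun h => hxZ (hZeq ▸ h)⟩)

end Groth.LocCohTransform.FormalConnectedLocal
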