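import Groth.Agent.LocCohTransform.ExtCechCompare
import Groth.Agent.LocCohTransform.NonVanish
import Groth.Agent.LocCohBase.Cd

/-!
Ideals with the same torsion on `I`-torsion modules have the same local cohomology on them.
-/

set_option autoImplicit false
universe u
open CategoryTheory CategoryTheory.Limits

namespace Groth.LocCohTransform.TorsionInvariance

open Groth.LocCohBase (HH' δ)

variable {R : Type u} [CommRing R] [IsNoetherianRing R] {I J K : Ideal R}

/-- In degree zero both are the common torsion submodule. -/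
noncomputable def zeroEquiv (M : ModuleCat.{u} R)
    (h : DRing.torsionSub J M = DRing.torsionSub K M) : HH' J 0 M ≃ₗ[R] HH' K 0 M :=
  (LinearEquiv.ofInjective (h0Val J M) (h0Val_injective J M)).trans
    ((LinearEquiv.ofEq _ _ ((range_h0Val J M).trans (h.trans (range_h0Val K M).symm))).trans
      (LinearEquiv.ofInjective (h0Val K M) (h0Val_injective K M)).symm)

theorem h0Val_zeroEquiv (M : ModuleCat.{u} R)
    (h : DRing.torsionSub J M = DRing.torsionSub K M) (x : HH' J 0 M) :
    h0Val K M (zeroEquiv M h x) = h0Val J M x :=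
  congrArg Subtype.val ((LinearEquiv.ofInjective (h0Val K M) (h0Val_injective K M)).apply_symm_apply
    (LinearEquiv.ofEq _ _ ((range_h0Val J M).trans (h.trans (range_h0Val K M).symm))
      (LinearEquiv.ofInjective (h0Val J M) (h0Val_injective J M) x)))

/-- Equal torsion on `I`-torsion modules gives equal local cohomology. -/
theorem nonempty_equiv
    (h : ∀ (M : ModuleCat.{u} R), LocCoh.IsPowerTorsion I M → DRing.torsionSub J M = DRing.torsionSub K M) :
    ∀ (i : ℕ) (M : ModuleCat.{u} R), LocCoh.IsPowerTorsion I M → Nonempty (HH' J i M ≃ₗ[R] HH' K i M) := by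
  intro i
  induction i with
  | zero => exact fun M hM => ⟨zeroEquiv M (h M hM)⟩
  | succ i ih =>
    intro M hM
    obtain ⟨E, f, hf, hE, hinj⟩ := Groth.LocCohBase.exists_injective_torsion_embedding (I := I) M hM
    let T : ShortComplex (ModuleCat.{u} R) := ShortComplex.mk (ModuleCat.ofHom f)
      (ModuleCat.ofHom (LinearMap.range f).mkQ) (by
        ext x; exact (Submodule.Quotient.mk_eq_zero _).2 ⟨x, rfl⟩)
    have hT : T.ShortExact :=
      { exact := (ShortComplex.moduleCat_exact_iff _).2 fun x hx =>
          LinearMap.mem_range.1 ((Submodule.Quotient.mk_eq_zero _).1 hx)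
        mono_f := (ModuleCat.mono_iff_injective _).2 hf
        epi_g := (ModuleCat.epi_iff_surjective _).2 (Submodule.mkQ_surjective _) }
    have hQ : LocCoh.IsPowerTorsion I T.X₃ :=
      Groth.LocCohBase.isPowerTorsion_quotient hE (LinearMap.range f)
    have hzero : ∀ (L : Ideal R) (k : ℕ), Subsingleton (HH' L (k + 1) T.X₂) := fun L k =>
      Groth.LocCohBase.subsingleton_succ_of_injective (I := L) k E
    have hd : ∀ L : Ideal R, Function.Surjective (δ (I := L) hT i) := fun L x =>
      (Groth.LocCohBase.exact₁ (I := L) hT i x).1 ((hzero L i).elim _ _)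
    cases i with
    | zero =>
      refine nonempty_equiv_of_rows ((localCohomology J 0).map T.g).hom (δ (I := J) hT 0) (hd J)
        (Groth.LocCohBase.exact₃ (I := J) hT 0) ((localCohomology K 0).map T.g).hom (δ (I := K) hT 0)
        (hd K) (Groth.LocCohBase.exact₃ (I := K) hT 0) (zeroEquiv T.X₃ (h _ hQ)) ?_
      have hn : ∀ x, zeroEquiv T.X₃ (h _ hQ) (((localCohomology J 0).map T.g).hom x) =
          ((localCohomology K 0).map T.g).hom (zeroEquiv T.X₂ (h _ hE) x) := fun x => by
        apply h0Val_injective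
        rw [h0Val_zeroEquiv, h0Val_naturality, h0Val_naturality, h0Val_zeroEquiv]
      refine le_antisymm ?_ ?_
      · rintro _ ⟨_, ⟨x, rfl⟩, rfl⟩
        exact ⟨zeroEquiv T.X₂ (h _ hE) x, (hn x).symm⟩
      · rintro _ ⟨x, rfl⟩
        obtain ⟨y, rfl⟩ := (zeroEquiv T.X₂ (h _ hE)).surjective x
        exact ⟨_, ⟨y, rfl⟩, hn y⟩
    | succ i =>
      obtain ⟨e⟩ := ih T.X₃ hQ
      have hbij : ∀ L : Ideal R, Function.Bijective (δ (I := L) hT (i + 1)) := fun L => by
        refine ⟨(injective_iff_map_eq_zero _).2 fun y hy => ?_, hd L⟩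
        obtain ⟨z, rfl⟩ := (Groth.LocCohBase.exact₃ (I := L) hT (i + 1) y).1 hy
        exact (congrArg _ ((hzero L i).elim z 0)).trans (map_zero _)
      exact ⟨(LinearEquiv.ofBijective _ (hbij J)).symm.trans (e.trans (LinearEquiv.ofBijective _ (hbij K)))⟩

/-- Local cohomology along an ideal which cuts the closed point out of `V(I)` is Artinian. -/
theorem isArtinian [IsLocalRing R] (hJ : J ≤ IsLocalRing.maximalIdeal R)
    (hrad : IsLocalRing.maximalIdeal R ≤ (I ⊔ J).radical)
    (M : Type u) [AddCommGroup M] [Module R M] [Module.Finite R M] (hM : LocCoh.IsPowerTorsion I M) (i : ℕ) :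
    IsArtinian R (LocCoh.H J i M) := by
  obtain ⟨l, hl⟩ := Ideal.exists_pow_le_of_le_radical_of_fg hrad (IsNoetherian.noetherian _)
  have h : ∀ (N : ModuleCat.{u} R), LocCoh.IsPowerTorsion I N →
      DRing.torsionSub J N = DRing.torsionSub (IsLocalRing.maximalIdeal R) N := fun N hN => by
    refine le_antisymm ?_ (Groth.LocCohBase.torsionSub_mono hJ N)
    rw [← Groth.LocCohBase.isPowerTorsion_sup (J := J) hN]
    rintro x ⟨n, hn⟩
    exact ⟨l * n, fun a ha => hn a (Ideal.pow_right_mono hl n (pow_mul (IsLocalRing.maximalIdeal R) l n ▸ ha))⟩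
  obtain ⟨e⟩ := nonempty_equiv h i (ModuleCat.of R M) hM
  have := isArtinian_H_maximalIdeal (R := R) i M
  exact isArtinian_of_linearEquiv e.symm

end Groth.LocCohTransform.TorsionInvariance
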