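import Groth.Agent.LocCohTransform.FormalHigherClasses
import Groth.Agent.LocCohTransform.ArtinianTower
import Groth.Agent.LocCohTransform.TorsionInvariance
import Groth.Agent.LocCohTransform.FormalTorsion
import Groth.Agent.CohDev.TildeHV

/-!
Algebraization of formal cohomology on a punctured open over a local ring from the bijectivity of
the derived completion map.
-/

set_option autoImplicit false
set_option linter.style.haveILetI false
universe u

open CategoryTheory CategoryTheory.Limits HomologicalComplex AlgebraicGeometry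

attribute [local instance] HasDerivedCategory.standard

namespace Groth.LocCohTransform.FormalHigher

open RlimModules CompletionRlim CompletionFunctor CechHigher
open Groth.CohDev

variable {A : Type u} [CommRing A] [IsNoetherianRing A] [IsLocalRing A] (I : Ideal A)
  (M : Type u) [AddCommGroup M] [Module A M] [Module.Finite A M] (fs : List A)

omit [IsNoetherianRing A] [IsLocalRing A] [Module.Finite A M] in
theorem isPowerTorsion_Mn (n : ℕ) : LocCoh.IsPowerTorsion I (Mn I M n) := fun x => ⟨n, fun a ha => by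
  obtain ⟨m, rfl⟩ := Submodule.Quotient.mk_surjective _ x
  exact (Submodule.Quotient.mk_smul _ a m).symm.trans
    ((Submodule.Quotient.mk_eq_zero _).2 (Submodule.smul_mem_smul ha trivial))⟩

theorem isArtinian_C (hJ : Ideal.span {x | x ∈ fs} ≤ IsLocalRing.maximalIdeal A)
    (hrad : IsLocalRing.maximalIdeal A ≤ (I ⊔ Ideal.span {x | x ∈ fs}).radical) (k : ℤ) (hk : 0 ≤ k) (n : ℕ) :
    IsArtinian A (C fs k (Mn I M n)) := by
  obtain ⟨j, rfl⟩ := Int.eq_ofNat_of_zero_le hk
  obtain ⟨e⟩ := nonempty_cech_equiv fs j (Mn I M n)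
  have := TorsionInvariance.isArtinian hJ hrad (Mn I M n) (isPowerTorsion_Mn I M n) j
  exact isArtinian_of_linearEquiv e.symm

variable [DRing.HasDerivedCompletion I] [DRing.HasRgammaI (Ideal.span {x : A | x ∈ fs})]

/-- Positive degrees. -/
theorem formalCohBijective_succ (hJ : Ideal.span {x | x ∈ fs} ≤ IsLocalRing.maximalIdeal A)
    (hrad : IsLocalRing.maximalIdeal A ≤ (I ⊔ Ideal.span {x | x ∈ fs}).radical) (p : ℕ)
    (h : Function.Bijective (CompletionAmplitude.hmap
      ((η I).app ((DRing.RgammaI (Ideal.span {x | x ∈ fs})).obj (Dual.inD A M))) ((p : ℤ) + 2))) :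
    Formal2.FormalCohBijective A I M (p + 1) (LocCoh.puncturedOpen A (Ideal.span {x | x ∈ fs})) := by
  have hb := FormalSectionsDerived.bijective_homologyMap_toChatCx I M _ fs rfl _ h
  haveI : ∀ n, IsArtinian A (C fs ((p : ℤ) + 2 - 1) (Mn I M n)) := fun n =>
    isArtinian_C I M fs hJ hrad _ (by omega) n
  obtain ⟨hinj, hsurj⟩ := classes I M fs ((p : ℤ) + 2) hb
    (ArtinianTower.towerDiff_surjective (fun n => (C fs ((p : ℤ) + 2 - 1) (Mn I M n) : Type u))
      fun n => cm fs _ (tq I n M))
  obtain ⟨e, he⟩ := exists_equiv fs p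
  let J : Ideal A := Ideal.span {x | x ∈ fs}
  let E := fun (N : Type u) [AddCommGroup N] [Module A N] =>
    (Punct.hvEquiv J N (p + 1)).trans (e (ModuleCat.of A N)).symm
  have hE : ∀ (N N' : Type u) [AddCommGroup N] [Module A N] [AddCommGroup N'] [Module A N'] (φ : N →ₗ[A] N')
      (x : Formal2.HV A N (p + 1) (LocCoh.puncturedOpen A J)),
      E N' (Formal2.HVmap A φ (p + 1) _ x) = cm fs _ (ModuleCat.ofHom φ) (E N x) := by
    intro N N' _ _ _ _ φ x
    refine (e (ModuleCat.of A N')).injective ?_
    rw [he]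
    simp only [E, AddEquiv.trans_apply, AddEquiv.apply_symm_apply]
    exact Punct.hvEquiv_map J φ (p + 1) x
  have hcomp : ∀ n, mq I (n + 1) M ≫ tq I n M = mq I n M := fun n => rfl
  refine ⟨fun x x' hxx => (E M).injective (sub_eq_zero.1 (hinj _ fun n => ?_)), fun y hy => ?_⟩
  · have key : ∀ m, cm fs ((p : ℤ) + 2) (mq I (m + 1) M) (E M x - E M x') = 0 := fun m => by
      rw [map_sub, sub_eq_zero]
      exact (hE M _ (Formal2.quotPowπ A I M m) x).symm.trans
        ((congrArg (E _) (hxx m)).trans (hE M _ (Formal2.quotPowπ A I M m) x'))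
    cases n with
    | zero =>
      rw [← hcomp 0, cm, cechMap_comp, homologyMap_comp]
      exact (congrArg (homologyMap (cechMap fs (tq I 0 M)) ((p : ℤ) + 2)).hom (key 0)).trans (map_zero _)
    | succ m => exact key m
  · let y' : ∀ n, C fs ((p : ℤ) + 2) (Mn I M n) := fun n =>
      match n with
      | 0 => cm fs _ (tq I 0 M) (E (Formal2.quotPow A I M 0) (y 0))
      | m + 1 => E (Formal2.quotPow A I M m) (y m)
    have hy' : ∀ n, cm fs _ (tq I n M) (y' (n + 1)) = y' n := by
      intro n
      cases n with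
      | zero => rfl
      | succ m => exact (hE _ _ (Formal2.quotPowTrans A I M m) (y (m + 1))).symm.trans (congrArg (E _) (hy m))
    obtain ⟨c, hc⟩ := hsurj y' hy'
    refine ⟨(E M).symm c, fun n => (E _).injective ?_⟩
    rw [hE, AddEquiv.apply_symm_apply]
    exact hc (n + 1)

omit [IsLocalRing A] in
/-- Degree zero. -/
theorem formalCohBijective_zero [IsAdicComplete I A]
    (h : ∀ i : ℤ, i ≤ 1 → Function.Bijective (CompletionAmplitude.hmap
      ((η I).app ((DRing.RgammaI (Ideal.span {x | x ∈ fs})).obj (Dual.inD A M))) i)) :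
    Formal2.FormalCohBijective A I M 0 (LocCoh.puncturedOpen A (Ideal.span {x | x ∈ fs})) := by
  obtain ⟨hinj, hsurj⟩ := FormalSectionsDerived.bijective_sections I M fs _ rfl h
  let U := LocCoh.puncturedOpen A (Ideal.span {x : A | x ∈ fs})
  refine ⟨fun x x' hxx => (TS.toSec U).injective (sub_eq_zero.1 (hinj _ fun n => ?_)), fun y hy => ?_⟩
  · rw [map_sub, sub_eq_zero]
    exact (TS.toSec_map _ U x).symm.trans ((congrArg (TS.toSec U) (hxx n)).trans (TS.toSec_map _ U x'))
  · obtain ⟨x, hx⟩ := hsurj (fun n => TS.toSec U (y n)) fun n =>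
      (TS.toSec_map _ U _).symm.trans (congrArg (TS.toSec U) (hy n))
    refine ⟨(TS.toSec U).symm x, fun n => (TS.toSec U).injective ?_⟩
    rw [TS.toSec_map, AddEquiv.apply_symm_apply]
    exact hx n

end Groth.LocCohTransform.FormalHigher
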