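import Groth.Agent.LocCohTransform.FormalSectionsDerived
import Groth.Agent.LocCohTransform.CechHigher
import Groth.Prelude.Def_Formal2

/-!
Classes in the completed extended Čech complex are compatible families of classes.
-/

set_option autoImplicit false
set_option linter.style.haveILetI false
universe u

open CategoryTheory CategoryTheory.Limits HomologicalComplex

namespace Groth.LocCohTransform.FormalHigher

open RlimModules CompletionRlim CechHigher

variable {A : Type u} [CommRing A] [IsNoetherianRing A] (I : Ideal A)
  (M : Type u) [AddCommGroup M] [Module A M] (fs : List A)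

/-- The quotient tower. -/
noncomputable abbrev Mn (n : ℕ) : ModuleCat.{u} A := ModuleCat.of A (M ⧸ (I ^ n • ⊤ : Submodule A M))

theorem classes (k : ℤ)
    (hbij : Function.Bijective (homologyMap (toChatCx I (DerCA.extCech (ModuleCat.of A M) fs)) k).hom)
    (hsur : Function.Surjective (Formal2.towerDiff (fun n => (C fs (k - 1) (Mn I M n) : Type u))
      (fun n => (cm fs (k - 1) (tq I n M)).toAddMonoidHom))) :
    (∀ x : C fs k (ModuleCat.of A M), (∀ n, cm fs k (mq I n M) x = 0) → x = 0) ∧
    ∀ y : ∀ n, C fs k (Mn I M n), (∀ n, cm fs k (tq I n M) (y (n + 1)) = y n) →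
      ∃ x : C fs k (ModuleCat.of A M), ∀ n, cm fs k (mq I n M) x = y n := by
  let E := DerCA.extCech (ModuleCat.of A M) fs
  let En : ℕ → DRing.Cx A := fun n => ((qF I n).mapHomologicalComplex (ComplexShape.up ℤ)).obj E
  let tn : ∀ n, En (n + 1) ⟶ En n := fun n => (NatTrans.mapHomologicalComplex (qT I n) (ComplexShape.up ℤ)).app E
  have ht : ∀ n j, Function.Surjective ((tn n).f j).hom := fun n j => qT_surjective I n (E.X j)
  let eC : lim En tn ≅ (chatCx I).obj E :=
    HomologicalComplex.Hom.isoOfComponents (fun j => Iso.refl _) (fun i j _ => by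
      simp only [Iso.refl_hom]
      rfl)
  let φ : E ⟶ lim En tn := toChatCx I E ≫ eC.inv
  have hφ : Function.Bijective (homologyMap φ k).hom := by
    rw [show homologyMap φ k = homologyMap (toChatCx I E) k ≫ homologyMap eC.inv k from homologyMap_comp _ _ _,
      ModuleCat.hom_comp, LinearMap.coe_comp]
    exact ((ConcreteCategory.isIso_iff_bijective (homologyMap eC.inv k)).1 inferInstance).comp hbij
  have hSE := shortExact En tn ht
  -- the projections
  let W : ∀ n (j : ℤ), (En n).homology j →ₗ[A] C fs j (Mn I M n) := fun n j => (homologyMap (w I n M fs) j).hom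
  have hW : ∀ n j, Function.Bijective (W n j) := fun n j =>
    (ConcreteCategory.isIso_iff_bijective (homologyMap (w I n M fs) j)).1 inferInstance
  have hfac : ∀ n, φ ≫ incl En tn ≫ proj En n ≫ w I n M fs = cechMap fs (mq I n M) := fun n =>
    HomologicalComplex.hom_ext _ _ fun j => ModuleCat.hom_ext (LinearMap.ext fun x => rfl)
  have hr : ∀ n x, W n k ((homologyMap (proj En n) k).hom ((homologyMap (incl En tn) k).hom
      ((homologyMap φ k).hom x))) = cm fs k (mq I n M) x := fun n x => by
    change _ = (homologyMap (cechMap fs (mq I n M)) k).hom x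
    rw [← hfac n, homologyMap_comp φ, homologyMap_comp (incl En tn), homologyMap_comp (proj En n)]
    rfl
  have hWt : ∀ n j c, W n j ((homologyMap (tn n) j).hom c) = cm fs j (tq I n M) (W (n + 1) j c) := fun n j c => by
    have e : homologyMap (tn n ≫ w I n M fs) j =
        homologyMap (w I (n + 1) M fs ≫ cechMap fs (tq I n M)) j :=
      congrArg (fun g => homologyMap g j) (w_natural I n M fs).symm
    rw [homologyMap_comp, homologyMap_comp] at e
    exact congr(($e).hom c)
  have hdiff : ∀ n j (z : (RlimModules.prod En).homology j),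
      (homologyMap (proj En n) j).hom ((homologyMap (diff En tn) j).hom z) =
        (homologyMap (proj En n) j).hom z - (homologyMap (tn n) j).hom ((homologyMap (proj En (n + 1)) j).hom z) := by
    intro n j z
    have e : diff En tn ≫ proj En n = proj En n - proj En (n + 1) ≫ tn n :=
      HomologicalComplex.hom_ext _ _ fun i => ModuleCat.hom_ext (LinearMap.ext fun x => rfl)
    have e' : homologyMap (diff En tn ≫ proj En n) j = homologyMap (proj En n - proj En (n + 1) ≫ tn n) j :=
      congrArg (fun g => homologyMap g j) e
    rw [homologyMap_sub, homologyMap_comp, homologyMap_comp] at e'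
    exact congr(($e').hom z)
  refine ⟨fun x hx => ?_, fun y hy => ?_⟩
  · refine hφ.1 (Eq.trans ?_ (map_zero _).symm)
    have h0 : (homologyMap (incl En tn) k).hom ((homologyMap φ k).hom x) = 0 :=
      (proj_homology_bijective En k).1 (funext fun n => (hW n k).1 (by
        beta_reduce
        rw [hr, hx]; exact ((W n k).map_zero.symm.trans (congrArg _ (map_zero _).symm))))
    have h1 := (hSE.homology_exact₁ (k - 1) k (by simp))
    rw [ShortComplex.ShortExact.moduleCat_exact_iff_function_exact] at h1
    obtain ⟨z, hz⟩ := (h1 _).1 h0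
    obtain ⟨g, hg⟩ := hsur fun n => W n (k - 1) ((homologyMap (proj En n) (k - 1)).hom z)
    choose g' hg' using fun n => (hW n (k - 1)).2 (g n)
    obtain ⟨z', hz'⟩ := (proj_homology_bijective En (k - 1)).2 g'
    have e : (homologyMap (diff En tn) (k - 1)).hom z' = z :=
      (proj_homology_bijective En (k - 1)).1 (funext fun n => (hW n (k - 1)).1 (by
        have hzn : ∀ m, (homologyMap (proj En m) (k - 1)).hom z' = g' m := fun m => congrFun hz' m
        beta_reduce
        rw [hdiff, map_sub, hWt, hzn, hzn, hg', hg']
        exact congrFun hg n))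
    rw [← hz, ← e]
    have h3 := (hSE.homology_exact₃ (k - 1) k (by simp))
    rw [ShortComplex.ShortExact.moduleCat_exact_iff_function_exact] at h3
    exact (h3 _).2 ⟨z', rfl⟩
  · choose y' hy' using fun n => (hW n k).2 (y n)
    obtain ⟨z, hz⟩ := (proj_homology_bijective En k).2 y'
    have hzn : ∀ m, (homologyMap (proj En m) k).hom z = y' m := fun m => congrFun hz m
    have h2 := hSE.homology_exact₂ k
    rw [ShortComplex.ShortExact.moduleCat_exact_iff_function_exact] at h2
    obtain ⟨c, hc⟩ := (h2 z).1 ((proj_homology_bijective En k).1 (funext fun n => (hW n k).1 (by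
      beta_reduce
      rw [hdiff, map_sub, hWt, hzn, hzn, hy', hy', hy, sub_self]
      exact ((W n k).map_zero.symm.trans (congrArg _ (map_zero _).symm)))))
    obtain ⟨x, rfl⟩ := hφ.2 c
    refine ⟨x, fun n => ?_⟩
    rw [← hr, ← hy' n, ← hzn n, ← hc]

end Groth.LocCohTransform.FormalHigher
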