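import Groth.Agent.LocCohTransform.FormalLineLevels

/-!
Line bundles on `U ∩ V(f)` come from a neighbourhood when `H¹`, `H²` are finite and `H³` vanishes.
-/

set_option autoImplicit false
set_option linter.style.haveILetI false
universe u

open CategoryTheory CategoryTheory.Limits AlgebraicGeometry TopologicalSpace Opposite
open Groth.CohC3

namespace Groth.LocCohTransform.FormalLine

open Punct

variable {A : Type u} [CommRing A] [IsNoetherianRing A] (I : Ideal A) (f : A)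

/-- The thickenings. -/
noncomputable abbrev Zs (n : ℕ) : Scheme.{u} := ((idl I f) ^ (n + 1)).subscheme

/-- The transition maps. -/
noncomputable abbrev ts (n : ℕ) : Zs I f n ⟶ Zs I f (n + 1) :=
  Scheme.IdealSheafData.inclusion (Lef.pow_succ_le (idl I f) n)

omit [IsNoetherianRing A] in
theorem ts_ι (n : ℕ) : ts I f n ≫ ((idl I f) ^ (n + 1 + 1)).subschemeι = ((idl I f) ^ (n + 1)).subschemeι :=
  Scheme.IdealSheafData.inclusion_subschemeι _

instance isClosedImmersion_ts (n : ℕ) : IsClosedImmersion (ts I f n) := by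
  have : IsClosedImmersion (ts I f n ≫ ((idl I f) ^ (n + 1 + 1)).subschemeι) := by
    rw [ts_ι]; infer_instance
  exact IsClosedImmersion.of_comp _ ((idl I f) ^ (n + 1 + 1)).subschemeι

omit [IsNoetherianRing A] in
theorem exists_bottom_iso : ∃ s : Zs I f 0 ≅ (↑(Formal2.specQuotMap A f ⁻¹ᵁ LocCoh.puncturedOpen A I) : Scheme.{u}),
    s.hom ≫ t₀ I f = ((idl I f) ^ (0 + 1)).subschemeι := by
  have e : ((idl I f) ^ (0 + 1)).subschemeι.ker = (t₀ I f).ker := by
    rw [Scheme.IdealSheafData.ker_subschemeι, zero_add, pow_one]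
  refine ⟨⟨IsClosedImmersion.lift (t₀ I f) _ e.ge, IsClosedImmersion.lift _ (t₀ I f) e.le, ?_, ?_⟩,
    IsClosedImmersion.lift_fac _ _ _⟩
  · rw [← cancel_mono ((idl I f) ^ (0 + 1)).subschemeι, Category.assoc, IsClosedImmersion.lift_fac,
      IsClosedImmersion.lift_fac, Category.id_comp]
  · rw [← cancel_mono (t₀ I f), Category.assoc, IsClosedImmersion.lift_fac,
      IsClosedImmersion.lift_fac, Category.id_comp]

/-- Algebraisation of a lifted line bundle, as a module on `U`. -/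
theorem exists_coh (hnzd : f ∈ nonZeroDivisors A) [IsAdicComplete (Ideal.span {f}) A]
    (h₁ : Module.Finite A (LocCoh.H I 1 (A ⧸ Ideal.span {f})))
    (h₂ : Module.Finite A (LocCoh.H I 2 (A ⧸ Ideal.span {f})))
    (h₃ : Subsingleton (LocCoh.H I 3 (A ⧸ Ideal.span {f})))
    (N : (Zs I f 0).Modules) (hN : PicF.IsInvertible N) :
    ∃ (F : (UU I).Modules) (L : ∀ n, (Zs I f n).Modules), Coh.IsCoh F ∧ (∀ n, PicF.IsInvertible (L n)) ∧
      (∀ n, Nonempty ((Scheme.Modules.pullback ((idl I f) ^ (n + 1)).subschemeι).obj F ≅ L n)) ∧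
      Nonempty (L 0 ≅ N) := by
  let T := fun n : ℕ => {G : (Zs I f n).Modules // PicF.IsInvertible G}
  have step : ∀ n, ∀ G : T n, ∃ G' : T (n + 1),
      Nonempty ((Scheme.Modules.pullback (ts I f n)).obj G'.1 ≅ G.1) := fun n G => by
    obtain ⟨G', hG', he⟩ := Groth.LefPic.exists_lift_step (idl I f) n
      (subsingleton_HH_kernel I f hnzd h₃ n) G.1 G.2
    exact ⟨⟨G', hG'⟩, he⟩
  choose nxt hnxt using step
  let G : ∀ n, T n := fun n => Nat.rec (motive := T) ⟨N, hN⟩ nxt n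
  let L := fun n => (G n).1
  have hL : ∀ n, PicF.IsInvertible (L n) := fun n => (G n).2
  let a : ∀ n, (Scheme.Modules.pullback (ts I f n)).obj (L (n + 1)) ≅ L n := fun n => (hnxt n (G n)).some
  have hker : ∀ n (U : (UU I).affineOpens), ((idl I f) ^ (n + 1)).subschemeι.ker.ideal U =
      (Ideal.span {f} ^ (n + 1)).map (baseApp (A := A) (UU I) U.1) := fun n U => ker_pow I f (n + 1) U
  let 𝒢 := Groth.FormalPic.formal (fun n => ((idl I f) ^ (n + 1)).subschemeι) (ts_ι I f) a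
  have hG : Formal.IsCohFormal (Ideal.span {f}) 𝒢 := Groth.FormalPic.isCohFormal_formal (ts_ι I f) a hker hL
  obtain ⟨M, hM, ⟨e⟩⟩ := FormalLocFree.exists_algebraization (isSys_of_isCohFormal hG) hnzd
    (fun n => isFinLocFreeMod_push I f (n + 1) (L n) (hL n)) hG.1 h₁ h₂
  refine ⟨(Φ I).obj M, L, isCoh_Φ I M, hL, fun n => ?_, ⟨Iso.refl _⟩⟩
  let ι := ((idl I f) ^ (n + 1)).subschemeι
  haveI : ((Φ I).obj M).IsQuasicoherent := (isCoh_Φ I M).1
  haveI : (L n).IsQuasicoherent := Groth.PicAux.isQCoh_of_isInvertible (hL n)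
  let p : (Φ I).obj M ⟶ (Scheme.Modules.pushforward ι).obj (L n) :=
    Formal.modPowπ (Ideal.span {f}) (n + 1) _ ≫ e.hom.app (op n)
  have hp : IsQuot (Ideal.span {f} ^ (n + 1)) p :=
    @IsQuot.comp_iso _ _ _ _ _ _ _ _ _ (isQuot_modPowπ (Ideal.span {f}) (n + 1) _) (e.hom.app (op n))
      (e.app (op n)).isIso_hom
  letI : (Zs I f n).Over (Spec (CommRingCat.of A)) := ⟨ι ≫ ((UU I) ↘ Spec (CommRingCat.of A))⟩
  have hpull := hp.map_adj (Scheme.Modules.pullbackPushforwardAdjunction ι) (f := ι) rfl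
  have := Groth.QCohMod.isQCoh_pullback_obj ι ((Φ I).obj M)
  have hk : Formal.KilledBy (Ideal.span {f} ^ (n + 1)) ((Scheme.Modules.pullback ι).obj ((Φ I).obj M)) := fun b hb => by
    refine Groth.CohC3.hom_eq_zero_of_cover _ fun y => ?_
    obtain ⟨U, hU, hyU⟩ := QCohMod.exists_affine_mem (ι y)
    refine ⟨ι ⁻¹ᵁ U, hU.preimage ι, hyU, fun s => ?_⟩
    rw [Groth.CohC3.smulMod_app, ← Groth.CohC3.baseApp_preimage (f := ι) rfl]
    have hb' : Groth.CohC3.baseApp (A := A) (UU I) U b ∈ ι.ker.ideal ⟨U, hU⟩ := by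
      rw [hker]; exact Ideal.mem_map_of_mem _ hb
    rw [Scheme.Hom.ker_apply, RingHom.mem_ker] at hb'
    exact (congrArg (· • s) hb').trans (zero_smul _ s)
  haveI := hpull.isIso_of_killedBy hk
  haveI := QCohMod.isIso_counit_closedImmersion ι (L n)
  exact ⟨asIso ((Scheme.Modules.pullback ι).map p) ≪≫
    asIso ((Scheme.Modules.pullbackPushforwardAdjunction ι).counit.app (L n))⟩

/-- A coherent module invertible on all thickenings is invertible near them. -/
theorem exists_gen_near (F : (UU I).Modules) (hF : Coh.IsCoh F)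
    (h : ∀ n, PicF.IsInvertible ((Scheme.Modules.pullback ((idl I f) ^ (n + 1)).subschemeι).obj F))
    (z : Zs I f 0) :
    ∃ (V : (UU I).Opens) (s : Γ(F, V)), ((idl I f) ^ (0 + 1)).subschemeι z ∈ V ∧ Groth.PicAux.Gen F V s := by
  have := hF.1
  let x := ((idl I f) ^ (0 + 1)).subschemeι z
  have hrange : ∀ n, ∃ y, ((idl I f) ^ (n + 1)).subschemeι y = x := by
    intro n
    induction n with
    | zero => exact ⟨z, rfl⟩
    | succ n ih =>
      obtain ⟨y, hy⟩ := ih
      refine ⟨ts I f n y, ?_⟩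
      rw [← Scheme.Hom.comp_apply, ts_ι]
      exact hy
  have hst := fun n => Groth.FormalPic.stalk_step (A := A) (J := Ideal.span {f} ^ (n + 1))
    ((idl I f) ^ (n + 1)).subschemeι (fun U => ker_pow I f (n + 1) U) F (h n) x (hrange n)
  have := Groth.QCohMod.finite_stalk F hF.2 x
  let a := (Ideal.span {f}).map (Groth.FormalPic.gmap (A := A) x)
  have ha : a ≠ ⊤ := by
    have := (hst 0).1
    rwa [zero_add, pow_one] at this
  haveI : Module.Free ((UU I).presheaf.stalk x) (F.presheaf.stalk x) :=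
    Groth.FormalPic.free_of_quots a ha fun n => by
      rw [← Ideal.map_pow]
      exact (hst n).2
  obtain ⟨V, k, s, hxV, hs⟩ := Groth.KTheory.LocFree.exists_basis_of_free_stalk hF x
  have hk : k = 1 := by
    rw [← Groth.LocFree.finrank_stalk_of_basis hs hxV]
    let _ := Groth.QCohMod.stalkAlg ((idl I f) ^ (0 + 1)).subschemeι z
    have h1 := Groth.LocFree.finrank_stalk (Groth.LocFree.isInvertible_iff_ofRank_one.1 (h 0)) z
    rw [← (Groth.QCohMod.pullStalkEquiv ((idl I f) ^ (0 + 1)).subschemeι F z).finrank_eq,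
      Module.finrank_baseChange] at h1
    exact h1
  subst hk
  refine ⟨V, s 0, hxV, fun W hW => ?_⟩
  have h := (hs W hW).comp (Equiv.funUnique (Fin 1) Γ(UU I, W)).symm.bijective
  simpa [Function.comp_def] using h

/-- Line bundles on `U ∩ V(f)` extend to an open neighbourhood in `U`. -/
theorem exists_extension (hnzd : f ∈ nonZeroDivisors A) [IsAdicComplete (Ideal.span {f}) A]
    (h₁ : Module.Finite A (LocCoh.H I 1 (A ⧸ Ideal.span {f})))
    (h₂ : Module.Finite A (LocCoh.H I 2 (A ⧸ Ideal.span {f})))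
    (h₃ : Subsingleton (LocCoh.H I 3 (A ⧸ Ideal.span {f})))
    (L₀ : (↑(Formal2.specQuotMap A f ⁻¹ᵁ LocCoh.puncturedOpen A I) : Scheme.{u}).Modules)
    (hL₀ : PicF.IsInvertible L₀) :
    ∃ (U' : (Spec (CommRingCat.of A)).Opens) (_ : U' ≤ LocCoh.puncturedOpen A I)
      (h : Formal2.specQuotMap A f ⁻¹ᵁ LocCoh.puncturedOpen A I ≤ Formal2.specQuotMap A f ⁻¹ᵁ U')
      (L : (↑U' : Scheme.{u}).Modules), PicF.IsInvertible L ∧
        Nonempty ((Scheme.Modules.pullback ((Formal2.specQuotMap A f).resLE U' _ h)).obj L ≅ L₀) := by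
  obtain ⟨s, hs⟩ := exists_bottom_iso I f
  obtain ⟨F, L, hF, hL, hFL, ⟨e0⟩⟩ := exists_coh I f hnzd h₁ h₂ h₃ ((Scheme.Modules.pullback s.hom).obj L₀)
    (Groth.PicAux.isInvertible_pullback s.hom hL₀)
  have hinv : ∀ n, PicF.IsInvertible ((Scheme.Modules.pullback ((idl I f) ^ (n + 1)).subschemeι).obj F) :=
    fun n => Groth.PicAux.isInvertible_of_iso (hL n) (hFL n).some.symm
  choose V t hzV hgen using exists_gen_near I f F hF hinv
  let W : (UU I).Opens := ⨆ z, V z
  let U' : (Spec (CommRingCat.of A)).Opens := (LocCoh.puncturedOpen A I).ι ''ᵁ W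
  have hU' : U' ≤ LocCoh.puncturedOpen A I := (LocCoh.puncturedOpen A I).ι_image_le W
  let j : (↑U' : Scheme.{u}) ⟶ UU I := (Spec (CommRingCat.of A)).homOfLE hU'
  have hj : ∀ p : (↑U' : Scheme.{u}), j p ∈ W := fun p => by
    obtain ⟨w, hw, hwp⟩ := p.2
    have : w = j p := (LocCoh.puncturedOpen A I).ι.isOpenEmbedding.injective (hwp.trans
      (congrArg (fun φ => φ p) ((Spec (CommRingCat.of A)).homOfLE_ι hU').symm))
    exact this ▸ hw
  have hLj : PicF.IsInvertible ((Scheme.Modules.pullback j).obj F) := by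
    rw [Groth.PicAux.isInvertible_iff_exists_gen]
    intro p
    obtain ⟨z, hz⟩ := Opens.mem_iSup.1 (hj p)
    exact ⟨_, _, hz, (hgen z).pull j⟩
  have h : Formal2.specQuotMap A f ⁻¹ᵁ LocCoh.puncturedOpen A I ≤ Formal2.specQuotMap A f ⁻¹ᵁ U' := by
    intro q hq
    let q' : (↑(Formal2.specQuotMap A f ⁻¹ᵁ LocCoh.puncturedOpen A I) : Scheme.{u}) := ⟨q, hq⟩
    have e1 : ((idl I f) ^ (0 + 1)).subschemeι (s.inv q') = t₀ I f q' := by
      rw [← Scheme.Hom.comp_apply, ← hs, Iso.inv_hom_id_assoc]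
    refine ⟨((idl I f) ^ (0 + 1)).subschemeι (s.inv q'), Opens.mem_iSup.2 ⟨s.inv q', hzV _⟩, ?_⟩
    change (LocCoh.puncturedOpen A I).ι (((idl I f) ^ (0 + 1)).subschemeι (s.inv q')) = _
    rw [e1, ← Scheme.Hom.comp_apply]
    exact congrArg (fun φ => φ q') (morphismRestrict_ι _ _)
  have hcomp : (Formal2.specQuotMap A f).resLE U' _ h ≫ j = s.inv ≫ ((idl I f) ^ (0 + 1)).subschemeι := by
    rw [← hs, Iso.inv_hom_id_assoc, ← cancel_mono (LocCoh.puncturedOpen A I).ι, Category.assoc,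
      Scheme.homOfLE_ι, Scheme.Hom.resLE_comp_ι, morphismRestrict_ι]
  refine ⟨U', hU', h, (Scheme.Modules.pullback j).obj F, hLj, ⟨?_⟩⟩
  exact (Scheme.Modules.pullbackComp _ j).app F ≪≫ (Scheme.Modules.pullbackCongr hcomp).app F ≪≫
    ((Scheme.Modules.pullbackComp s.inv ((idl I f) ^ (0 + 1)).subschemeι).app F).symm ≪≫
    (Scheme.Modules.pullback s.inv).mapIso ((hFL 0).some ≪≫ e0) ≪≫
    (Scheme.Modules.pullbackComp s.inv s.hom).app L₀ ≪≫
    (Scheme.Modules.pullbackCongr s.inv_hom_id).app L₀ ≪≫ (Scheme.Modules.pullbackId _).app L₀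

end Groth.LocCohTransform.FormalLine
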