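import Groth.Agent.LocCohTransform.FormalLocFree
import Groth.Agent.FormalPic.Thick
import Groth.Agent.FormalPic.IdealVanish
import Groth.Agent.FormalPic.Algebraize
import Groth.Agent.LefPic.Leff
import Groth.Agent.RelPC.Push
import Groth.Agent.Ega2Proj.RelAmpleCoprod

/-!
Line bundles on `U ∩ V(f)` for a punctured open `U`: the thickenings, the lifting obstruction, and
formal systems of line bundles as formal locally free systems.
-/

set_option autoImplicit false
set_option linter.style.haveILetI false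
universe u

open CategoryTheory CategoryTheory.Limits AlgebraicGeometry TopologicalSpace Opposite
open Groth.CohC3

namespace Groth.LocCohTransform.FormalLine

open Punct

variable {A : Type u} [CommRing A] (I : Ideal A) (f : A)

/-- `U ∩ V(f) ⟶ U`. -/
noncomputable abbrev t₀ : (↑(Formal2.specQuotMap A f ⁻¹ᵁ LocCoh.puncturedOpen A I) : Scheme.{u}) ⟶ UU I :=
  Formal2.specQuotMap A f ∣_ LocCoh.puncturedOpen A I

instance isClosedImmersion_t₀ : IsClosedImmersion (t₀ I f) := by
  have : IsClosedImmersion (Formal2.specQuotMap A f) :=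
    IsClosedImmersion.spec_of_surjective _ Ideal.Quotient.mk_surjective
  exact MorphismProperty.of_isPullback
    (isPullback_morphismRestrict (Formal2.specQuotMap A f) (LocCoh.puncturedOpen A I)).flip inferInstance

/-- The ideal of `U ∩ V(f)`. -/
noncomputable abbrev idl : (UU I).IdealSheafData := (t₀ I f).ker

theorem ideal_idl (V : (UU I).affineOpens) :
    (idl I f).ideal V = (Ideal.span {f}).map (baseApp (A := A) (UU I) V.1) := by
  rw [Groth.FormalPic.baseApp_eq_bs]
  exact Groth.FormalPic.ker_ideal_eq (f := (UU I) ↘ Spec (CommRingCat.of A)) (Ideal.span {f})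
    (isPullback_morphismRestrict (Formal2.specQuotMap A f) (LocCoh.puncturedOpen A I)) V

theorem ker_pow (n : ℕ) (V : (UU I).affineOpens) :
    ((idl I f) ^ n).subschemeι.ker.ideal V = (Ideal.span {f} ^ n).map (baseApp (A := A) (UU I) V.1) := by
  rw [Scheme.IdealSheafData.ker_subschemeι, Scheme.IdealSheafData.ideal_pow, Pi.pow_apply, ideal_idl,
    Ideal.map_pow]

theorem isQuot_toSubscheme (n : ℕ) :
    IsQuot (Ideal.span {f} ^ n) (ClSub.toSubscheme ((idl I f) ^ n)) := by
  have hq : (Coh.structureModule (UU I)).IsQuasicoherent := Groth.PicAux.isQCoh_structureModule _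
  refine isQuot_of_affine _ (fun a ha => ?_) (fun V hV => ?_) fun V hV x hx => ?_
  · rw [mem_annHom]
    refine hom_eq_zero_of_cover _ fun x => ?_
    obtain ⟨V, hV, hxV⟩ := Groth.QCohMod.exists_affine_mem x
    refine ⟨V, hV, hxV, fun s => ?_⟩
    refine (app_comp_apply (Formal.smulMod A (Coh.structureModule (UU I)) a) (ClSub.toSubscheme _) V s).symm.trans ?_
    rw [smulMod_app]
    change ((idl I f) ^ n).subschemeι.app V (baseApp (A := A) (UU I) V a * (show Γ(UU I, V) from s)) = 0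
    rw [← RingHom.mem_ker, Scheme.IdealSheafData.ker_subschemeι_app _ ⟨V, hV⟩]
    refine Ideal.mul_mem_right _ _ ?_
    rw [← Scheme.IdealSheafData.ker_subschemeι ((idl I f) ^ n), ker_pow]
    exact Ideal.mem_map_of_mem _ ha
  · exact Scheme.IdealSheafData.subschemeι_app_surjective _ ⟨V, hV⟩
  · obtain ⟨x', rfl⟩ : ∃ x' : Γ(UU I, V), x' = x := ⟨x, rfl⟩
    have hx' : x' ∈ ((idl I f) ^ n).ideal ⟨V, hV⟩ := by
      rw [← Scheme.IdealSheafData.ker_subschemeι_app _ ⟨V, hV⟩]
      exact hx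
    rw [← Scheme.IdealSheafData.ker_subschemeι ((idl I f) ^ n), ker_pow] at hx'
    have h := Submodule.smul_mem_smul (R := Γ(UU I, V)) (M := Γ(Coh.structureModule (UU I), V))
      (N := ⊤) hx' (Submodule.mem_top (x := Groth.PicAux.oneSec (UU I) V))
    rw [show x' • Groth.PicAux.oneSec (UU I) V = x' from mul_one (show Γ(UU I, V) from x')] at h
    exact h

/-- `O/I^(n)` is `O/f^n`. -/
theorem nonempty_quotMod_iso [IsNoetherianRing A] (n : ℕ) :
    ∃ e : ClSub.quotMod ((idl I f) ^ n) ≅ (Φ I).obj (ModuleCat.of A (A ⧸ Ideal.span {f} ^ n)),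
      ClSub.toSubscheme ((idl I f) ^ n) ≫ e.hom = FormalTwo.proj I (Ideal.span {f}) n := by
  have h₁ := isQuot_toSubscheme I f n
  have h₂ := FormalTwo.isQuot_proj I (Ideal.span {f}) n
  obtain ⟨φ, hφ⟩ := h₁.desc _ h₂.le_ann
  obtain ⟨ψ, hψ⟩ := h₂.desc _ h₁.le_ann
  exact ⟨⟨φ, ψ, h₁.hom_ext (by rw [← Category.assoc, hφ, hψ, Category.comp_id]),
    h₂.hom_ext (by rw [← Category.assoc, hψ, hφ, Category.comp_id])⟩, hφ⟩

variable [IsNoetherianRing A]

theorem subsingleton_HH_kernel (hnzd : f ∈ nonZeroDivisors A)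
    (h₃ : Subsingleton (LocCoh.H I 3 (A ⧸ Ideal.span {f}))) (m : ℕ) :
    Subsingleton (Coh.HH (UU I) (kernel (Lef.quotMap (Lef.pow_succ_le (idl I f) m))) 2) := by
  let up : (A ⧸ Ideal.span {f}) →ₗ[A] A ⧸ Ideal.span {f} ^ (m + 2) :=
    Submodule.mapQ _ _ (f ^ (m + 1) • LinearMap.id) (fun x hx => by
      obtain ⟨y, rfl⟩ := Ideal.mem_span_singleton.1 hx
      change f ^ (m + 1) * (f * y) ∈ Ideal.span {f} ^ (m + 2)
      rw [← mul_assoc, ← pow_succ, Ideal.span_singleton_pow]
      exact Ideal.mul_mem_right _ _ (Ideal.mem_span_singleton_self _))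
  let dn : (A ⧸ Ideal.span {f} ^ (m + 2)) →ₗ[A] A ⧸ Ideal.span {f} ^ (m + 1) :=
    Submodule.factor (show Ideal.span {f} ^ (m + 2) ≤ Ideal.span {f} ^ (m + 1) from Ideal.pow_le_pow_right (Nat.le_succ _))
  have hup : Function.Injective up := (injective_iff_map_eq_zero _).2 fun x hx => by
    obtain ⟨x, rfl⟩ := Submodule.mkQ_surjective _ x
    have hx' : f ^ (m + 1) * x ∈ Ideal.span {f} ^ (m + 2) := (Submodule.Quotient.mk_eq_zero _).1 hx
    rw [Ideal.span_singleton_pow] at hx'
    obtain ⟨y, hy⟩ := Ideal.mem_span_singleton.1 hx'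
    refine (Submodule.Quotient.mk_eq_zero _).2 (Ideal.mem_span_singleton.2 ⟨y, ?_⟩)
    refine sub_eq_zero.1 ((mem_nonZeroDivisors_iff_right.1 (pow_mem hnzd (m + 1))) _ ?_)
    rw [sub_mul, mul_comm x, hy]
    ring
  let S : ShortComplex (ModuleCat.{u} A) := ShortComplex.mk (ModuleCat.ofHom up) (ModuleCat.ofHom dn) (by
    refine ModuleCat.hom_ext (Submodule.linearMap_qext _ ?_)
    ext
    refine (Submodule.Quotient.mk_eq_zero _).2 ?_
    change f ^ (m + 1) * 1 ∈ Ideal.span {f} ^ (m + 1)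
    rw [mul_one]
    exact Ideal.pow_mem_pow (Ideal.mem_span_singleton_self f) _)
  have hS : S.ShortExact :=
    { exact := (ShortComplex.moduleCat_exact_iff _).2 fun x hx => by
        obtain ⟨x, rfl⟩ := Submodule.mkQ_surjective _ x
        have hx' : x ∈ Ideal.span {f} ^ (m + 1) := (Submodule.Quotient.mk_eq_zero _).1 hx
        rw [Ideal.span_singleton_pow] at hx'
        obtain ⟨y, rfl⟩ := Ideal.mem_span_singleton.1 hx'
        exact ⟨Submodule.mkQ _ y, rfl⟩
      mono_f := (ModuleCat.mono_iff_injective _).2 hup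
      epi_g := (ModuleCat.epi_iff_surjective _).2 (Submodule.factor_surjective (Ideal.pow_le_pow_right (Nat.le_succ _))) }
  obtain ⟨e₂, he₂⟩ := nonempty_quotMod_iso I f (m + 2)
  obtain ⟨e₁, he₁⟩ := nonempty_quotMod_iso I f (m + 1)
  have hcomp : ClSub.toSubscheme ((idl I f) ^ (m + 2)) ≫ Lef.quotMap (Lef.pow_succ_le (idl I f) m) =
      ClSub.toSubscheme ((idl I f) ^ (m + 1)) := by
    rw [Groth.LefSections.Compl.quotMap_eq_quotGen]
    exact Groth.LefPic.unitToPush_comp _
  have hm : ModuleCat.ofHom (Submodule.mkQ (Ideal.span {f} ^ (m + 2))) ≫ S.g =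
      ModuleCat.ofHom (Submodule.mkQ (Ideal.span {f} ^ (m + 1))) :=
    ModuleCat.hom_ext (Submodule.factor_comp_mk
      (show Ideal.span {f} ^ (m + 2) ≤ Ideal.span {f} ^ (m + 1) from Ideal.pow_le_pow_right (Nat.le_succ _)))
  have hsq : Lef.quotMap (Lef.pow_succ_le (idl I f) m) ≫ e₁.hom = e₂.hom ≫ (Φ I).map S.g := by
    refine (isQuot_toSubscheme I f (m + 2)).hom_ext ?_
    rw [← Category.assoc, hcomp, he₁, ← Category.assoc, he₂]
    simp only [FormalTwo.proj, Category.assoc]
    rw [← Functor.map_comp, hm]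
  let k : kernel (Lef.quotMap (Lef.pow_succ_le (idl I f) m)) ≅ (Φ I).obj S.X₁ :=
    kernel.mapIso _ _ e₂ e₁ hsq ≪≫
      IsLimit.conePointUniqueUpToIso (kernelIsKernel _) (shortExact_Φ I hS).fIsKernel
  have h0 : Subsingleton (Coh.HH (UU I) ((Φ I).obj S.X₁) 2) := by
    refine subsingleton_of_forall_eq 0 fun s => ?_
    have h := killed_HH_Φ_succ I 1 1 S.X₁ (fun z => h₃.elim _ _) s
    rwa [one_smul] at h
  exact (Groth.EulerDeg.hEquiv A k 2).toEquiv.subsingleton

omit [IsNoetherianRing A] in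
/-- The push forward of a line bundle on a thickening is locally `O/f^n` or zero. -/
theorem isFinLocFreeMod_push (n : ℕ) (L : ((idl I f) ^ n).subscheme.Modules) (hL : PicF.IsInvertible L) :
    Formal2.IsFinLocFreeMod (Ideal.span {f}) n
      ((Scheme.Modules.pushforward ((idl I f) ^ n).subschemeι).obj L) := by
  let ι := ((idl I f) ^ n).subschemeι
  intro x
  by_cases hx : ∃ z, ι z = x
  · obtain ⟨z, rfl⟩ := hx
    obtain ⟨W, hzW, ⟨eW⟩⟩ := hL z
    obtain ⟨V', hV', hW⟩ := ι.isEmbedding.isInducing.isOpen_iff.1 W.2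
    let V : (UU I).Opens := ⟨V', hV'⟩
    have hVW : ι ⁻¹ᵁ V = W := Opens.ext hW
    subst hVW
    refine ⟨V, 1, hzW, ⟨?_⟩⟩
    refine (Groth.RelPC.pushRestrictIso ι V).app L ≪≫
      (Scheme.Modules.pushforward (ι ∣_ V)).mapIso (eW ≪≫ (Scheme.Modules.restrictUnitIso (ι ⁻¹ᵁ V).ι).symm) ≪≫
      ((Groth.RelPC.pushRestrictIso ι V).app (Coh.structureModule _)).symm ≪≫
      (Scheme.Modules.restrictFunctor V.ι).mapIso ?_
    have h₁ := isQuot_toSubscheme I f n
    have h₂ := (isQuot_modPowπ (Ideal.span {f}) n (FlatMod.freeMod (UU I) 1)).iso_comp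
      (coproductUniqueIso (fun _ : Fin 1 => Coh.structureModule (UU I))).inv
    refine ⟨(h₁.desc _ h₂.le_ann).choose, (h₂.desc _ h₁.le_ann).choose, h₁.hom_ext ?_, h₂.hom_ext ?_⟩
    · rw [← Category.assoc, (h₁.desc _ h₂.le_ann).choose_spec, (h₂.desc _ h₁.le_ann).choose_spec,
        Category.comp_id]
    · rw [← Category.assoc, (h₂.desc _ h₁.le_ann).choose_spec, (h₁.desc _ h₂.le_ann).choose_spec,
        Category.comp_id]
  · let V : (UU I).Opens := ⟨(Set.range ι)ᶜ, ι.isClosedEmbedding.isClosed_range.isOpen_compl⟩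
    have hz₁ : IsZero ((Scheme.Modules.restrictFunctor V.ι).obj ((Scheme.Modules.pushforward ι).obj L)) :=
      Groth.Ega2Proj.isZero_restrict_pushforward V.ι ι (by
        rw [Scheme.Opens.range_ι]; exact disjoint_compl_left) L
    have hfree : IsZero (FlatMod.freeMod (UU I) 0) := by
      rw [IsZero.iff_id_eq_zero]
      exact Sigma.hom_ext _ _ fun b => b.elim0
    have hz₂ : IsZero (Formal.modPow (Ideal.span {f}) n (FlatMod.freeMod (UU I) 0)) :=
      IsZero.of_epi (Formal.modPowπ (Ideal.span {f}) n _) hfree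
    exact ⟨V, 0, fun h => hx h, ⟨hz₁.iso ((Scheme.Modules.restrictFunctor V.ι).map_isZero hz₂)⟩⟩

end Groth.LocCohTransform.FormalLine
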