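import Groth.Agent.S0544
import Mathlib.RingTheory.AdicCompletion.Basic
import Mathlib.RingTheory.Noetherian.Basic

/-!
An inverse system of sections `E n` of a formal module along a regular element, with obstructions in
a Noetherian module: the limit is finite, with the expected kernels, and hits every level up to
torsion.
-/

set_option autoImplicit false
universe u

namespace Groth.LocCohTransform.FormalTower

variable (A : Type u) [CommRing A]

/-- Sections of the levels of a formal module along `f`, with their obstructions. -/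
structure Tower (f : A) where
  E : ℕ → Type u
  [grp : ∀ n, AddCommGroup (E n)]
  [mod : ∀ n, Module A (E n)]
  H : Type u
  [grpH : AddCommGroup H]
  [modH : Module A H]
  r : ∀ n, E (n + 1) →ₗ[A] E n
  ι : ∀ n, E n →ₗ[A] E (n + 1)
  δ : ∀ n, E n →ₗ[A] H
  r_ι : ∀ n x, r n (ι n x) = f • x
  ι_r : ∀ n x, ι n (r n x) = f • x
  ι_inj : ∀ n, Function.Injective (ι n)
  kill₀ : ∀ x : E 0, f • x = 0
  exact₀ : ∀ n (x : E (n + 1)),
    Nat.leRecOn (C := fun j => E j →ₗ[A] E 0) (Nat.zero_le (n + 1)) (fun {k} g => g.comp (r k))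
      LinearMap.id x = 0 → x ∈ LinearMap.range (ι n)
  δ_ker : ∀ n x, δ n x = 0 ↔ x ∈ LinearMap.range (r n)
  δ_ι : ∀ n x, δ (n + 1) (ι n x) = δ n x

attribute [instance] Tower.grp Tower.mod Tower.grpH Tower.modH

variable {A} {f : A} (T : Tower A f)

/-- The composite transition map. -/
def down {i j : ℕ} (h : i ≤ j) : T.E j →ₗ[A] T.E i :=
  Nat.leRecOn (C := fun j => T.E j →ₗ[A] T.E i) h (fun {k} g => g.comp (T.r k)) LinearMap.id

theorem down_self (i : ℕ) (x : T.E i) : down T (le_refl i) x = x := by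
  simp [down, Nat.leRecOn_self]

theorem down_succ {i j : ℕ} (h : i ≤ j) (h' : i ≤ j + 1) (x : T.E (j + 1)) :
    down T h' x = down T h (T.r j x) := by
  simp [down, Nat.leRecOn_succ h]

theorem down_down {i j k : ℕ} (h : i ≤ j) (h' : j ≤ k) (x : T.E k) :
    down T h (down T h' x) = down T (h.trans h') x := by
  induction k, h' using Nat.le_induction with
  | base => rw [down_self]
  | succ k hk ih => rw [down_succ T hk, ih, down_succ T (h.trans hk)]

theorem r_down {i j : ℕ} (h : i + 1 ≤ j) (x : T.E j) :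
    T.r i (down T h x) = down T ((Nat.le_succ i).trans h) x := by
  rw [← down_down T (Nat.le_succ i) h, down_succ T le_rfl, down_self]

theorem kill : ∀ (n : ℕ) (x : T.E n), f ^ (n + 1) • x = 0 := by
  intro n
  induction n with
  | zero => intro x; rw [zero_add, pow_one, T.kill₀]
  | succ n ih => intro x; rw [pow_succ, mul_smul, ← T.ι_r n x, ← map_smul, ih, map_zero]

/-- Compatible families. -/
def lim : Submodule A (∀ n, T.E n) where
  carrier := {y | ∀ n, T.r n (y (n + 1)) = y n}
  zero_mem' := fun n => map_zero _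
  add_mem' := fun {a b} ha hb n => by
    simp only [Set.mem_ofPred_eq] at ha hb
    simp only [Pi.add_apply, map_add, ha n, hb n]
  smul_mem' := fun c y hy n => by
    simp only [Set.mem_ofPred_eq] at hy
    simp only [Pi.smul_apply, map_smul, hy n]

/-- The projections. -/
def proj (n : ℕ) : lim T →ₗ[A] T.E n := (LinearMap.proj n).comp (lim T).subtype

theorem r_proj (n : ℕ) : (T.r n).comp (proj T (n + 1)) = proj T n := LinearMap.ext fun y => y.2 n

theorem down_proj {i j : ℕ} (h : i ≤ j) (y : lim T) : down T h (proj T j y) = proj T i y := by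
  induction j, h using Nat.le_induction with
  | base => rw [down_self]
  | succ j hj ih => rw [down_succ T hj, ← ih]; exact congrArg _ (y.2 j)

theorem exists_div (y : lim T) (h0 : proj T 0 y = 0) :
    ∃ z : lim T, f • z = y ∧ ∀ n, T.ι n (proj T n z) = proj T (n + 1) y := by
  have hz : ∀ n, proj T (n + 1) y ∈ LinearMap.range (T.ι n) := fun n => T.exact₀ n _
    ((down_proj T (Nat.zero_le (n + 1)) y).trans h0)
  choose z hz using hz
  have hr : ∀ n, T.r n (z (n + 1)) = z n := fun n => T.ι_inj n (by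
    rw [T.ι_r, ← T.r_ι (n + 1) (z (n + 1)), hz, hz]
    exact y.2 (n + 1))
  refine ⟨⟨z, hr⟩, Subtype.ext (funext fun n => ?_), hz⟩
  change f • z n = proj T n y
  rw [← T.r_ι, hz]
  exact y.2 n

theorem ker_proj : ∀ (n : ℕ) (y : lim T),
    proj T n y = 0 ↔ y ∈ (Ideal.span {f} ^ (n + 1) • ⊤ : Submodule A (lim T)) := by
  intro n y
  rw [Ideal.span_singleton_pow, Submodule.ideal_span_singleton_smul]
  refine ⟨?_, ?_⟩
  swap
  · rintro ⟨z, -, rfl⟩
    change proj T n (f ^ (n + 1) • z) = 0
    rw [map_smul, kill]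
  intro h
  induction n generalizing y with
  | zero =>
    obtain ⟨z, hz, -⟩ := exists_div T y h
    exact ⟨z, trivial, (show f ^ (0 + 1) • z = y by rw [zero_add, pow_one, hz])⟩
  | succ n ih =>
    obtain ⟨z, hz, hι⟩ := exists_div T y (by rw [← down_proj T (Nat.zero_le (n + 1)), h, map_zero])
    obtain ⟨w, -, hw⟩ := ih z (T.ι_inj n (by rw [hι, h, map_zero]))
    refine ⟨w, trivial, ?_⟩
    change f ^ (n + 1 + 1) • w = y
    rw [pow_succ', mul_smul, ← hz]
    exact congrArg (f • ·) hw

theorem finite [IsAdicComplete (Ideal.span {f}) A] [Module.Finite A (T.E 0)] [IsNoetherianRing A] :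
    Module.Finite A (lim T) := by
  have : IsHausdorff (Ideal.span {f}) (lim T) := ⟨fun y hy => Subtype.ext (funext fun n =>
    (ker_proj T n y).2 (SModEq.zero.1 (hy (n + 1))))⟩
  refine Groth.Agent.S0544.result A (Ideal.span {f}) (lim T) ?_
  have hk : (Ideal.span {f} • ⊤ : Submodule A (lim T)) ≤ LinearMap.ker (proj T 0) := fun y hy =>
    (ker_proj T 0 y).2 (by rwa [zero_add, pow_one])
  refine Module.Finite.of_injective ((Ideal.span {f} • ⊤ : Submodule A (lim T)).liftQ (proj T 0) hk)
    (LinearMap.ker_eq_bot.1 (Submodule.ker_liftQ_eq_bot _ _ _ fun y hy => ?_))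
  simpa [zero_add, pow_one] using (ker_proj T 0 y).1 hy

theorem down_ι_iterate (p m : ℕ) (hmp : m ≤ p) : ∀ (i : ℕ) (z : T.E p),
    ∃ w : T.E (p + i), T.δ (p + i) w = T.δ p z ∧
      down T (hmp.trans (Nat.le_add_right p i)) w = f ^ i • down T hmp z := by
  intro i
  induction i with
  | zero => intro z; exact ⟨z, rfl, by rw [pow_zero, one_smul]⟩
  | succ i ih =>
    intro z
    obtain ⟨w, hw, hw'⟩ := ih z
    refine ⟨T.ι (p + i) w, (T.δ_ι _ w).trans hw, ?_⟩
    rw [down_succ T (hmp.trans (Nat.le_add_right p i)) _ (T.ι (p + i) w), T.r_ι, map_smul, hw', ← mul_smul, ← pow_succ']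

theorem exists_stable [IsNoetherian A T.H] :
    ∃ N, ∀ n, N ≤ n → LinearMap.range (T.δ n) = LinearMap.range (T.δ N) := by
  have hmono : Monotone fun n => LinearMap.range (T.δ n) := monotone_nat_of_le_succ fun n => by
    rintro _ ⟨x, rfl⟩
    exact ⟨T.ι n x, T.δ_ι n x⟩
  obtain ⟨N, hN⟩ := monotone_stabilizes_iff_noetherian.2 (inferInstance : IsNoetherian A T.H) ⟨_, hmono⟩
  exact ⟨N, fun n hn => (hN n hn).symm⟩

/-- Elements of high enough levels lift without changing the image below. -/
theorem exists_lift [IsNoetherian A T.H] :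
    ∃ N, ∀ (m j : ℕ) (hj : N + 2 * m + 1 ≤ j) (x : T.E j), ∃ x' : T.E (j + 1),
      down T (show m ≤ j + 1 by omega) x' = down T (show m ≤ j by omega) x := by
  obtain ⟨N, hN⟩ := exists_stable T
  refine ⟨N, fun m j hj x => ?_⟩
  obtain ⟨p, rfl⟩ : ∃ p, j = p + (m + 1) := ⟨j - (m + 1), by omega⟩
  have hδ : T.δ (p + (m + 1)) x ∈ LinearMap.range (T.δ p) := by
    rw [hN p (by omega), ← hN (p + (m + 1)) (by omega)]; exact ⟨x, rfl⟩
  obtain ⟨z, hz⟩ := hδ
  obtain ⟨w, hw, hw'⟩ := down_ι_iterate T p m (by omega) (m + 1) z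
  rw [kill] at hw'
  obtain ⟨x', hx'⟩ := (T.δ_ker _ (x - w)).1 (by rw [map_sub, hw, hz, sub_self])
  refine ⟨x', ?_⟩
  rw [down_succ T (show m ≤ p + (m + 1) by omega), hx', map_sub, hw', sub_zero]

theorem range_proj [IsNoetherian A T.H] :
    ∀ m, ∃ (J : ℕ) (h : m ≤ J), ∀ x : T.E J, down T h x ∈ LinearMap.range (proj T m) := by
  obtain ⟨N, hN⟩ := exists_lift T
  let J : ℕ → ℕ := fun l => N + 2 * l + 1
  intro m
  refine ⟨J m, by simp only [J]; omega, fun x => ?_⟩
  have step : ∀ l (x : T.E (J l)), ∃ x' : T.E (J (l + 1)),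
      down T (show l ≤ J (l + 1) by simp only [J]; omega) x' = down T (show l ≤ J l by simp only [J]; omega) x := by
    intro l x
    obtain ⟨x₁, h₁⟩ := hN l (J l) le_rfl x
    obtain ⟨x₂, h₂⟩ := hN l (J l + 1) (Nat.le_succ _) x₁
    exact ⟨x₂, h₂.trans h₁⟩
  choose next hnext using step
  let X : ∀ k, T.E (J (m + k)) := fun k =>
    Nat.rec (motive := fun k => T.E (J (m + k))) x (fun k xk => next (m + k) xk) k
  let y : ∀ l, T.E l := fun l =>
    down T (show l ≤ J (m + l) by simp only [J]; omega) (X l)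
  have hy : ∀ l, T.r l (y (l + 1)) = y l := fun l => by
    simp only [y]
    rw [r_down, ← down_down T (show l ≤ m + l by omega) (show m + l ≤ J (m + l) by simp only [J]; omega),
      ← hnext (m + l) (X l), down_down]
  refine ⟨⟨y, hy⟩, ?_⟩
  change y m = _
  have key : ∀ k, down T (show m ≤ J (m + k) by simp only [J]; omega) (X k) =
      down T (show m ≤ J m by simp only [J]; omega) x := by
    intro k
    induction k with
    | zero => rfl
    | succ k ih =>
      rw [← ih, ← down_down T (show m ≤ m + k by omega) (show m + k ≤ J (m + k) by simp only [J]; omega),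
        ← hnext (m + k) (X k), down_down]
  exact key m

/-- The limit hits every level up to torsion. -/
theorem exists_pow_smul_mem [IsNoetherian A T.H] (t : A) (k : ℕ) (ht : ∀ z : T.H, t ^ k • z = 0) (m : ℕ) :
    ∃ K, ∀ x : T.E m, t ^ K • x ∈ LinearMap.range (proj T m) := by
  obtain ⟨J, hJ, h⟩ := range_proj T m
  suffices hs : ∀ p (hp : m ≤ p), ∃ K, ∀ x : T.E m, t ^ K • x ∈ LinearMap.range (down T hp) by
    obtain ⟨K, hK⟩ := hs J hJ
    refine ⟨K, fun x => ?_⟩
    obtain ⟨w, hw⟩ := hK x
    exact hw ▸ h w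
  intro p hp
  induction p, hp using Nat.le_induction with
  | base => exact ⟨0, fun x => ⟨x, by rw [down_self, pow_zero, one_smul]⟩⟩
  | succ p hp ih =>
    obtain ⟨K, hK⟩ := ih
    refine ⟨k + K, fun x => ?_⟩
    obtain ⟨w, hw⟩ := hK x
    obtain ⟨w', hw'⟩ := (T.δ_ker p (t ^ k • w)).1 (by rw [map_smul, ht])
    exact ⟨w', by rw [down_succ T hp, hw', map_smul, hw, ← mul_smul, ← pow_add]⟩

end Groth.LocCohTransform.FormalTower
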