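import Groth.Agent.LocCohTransform.FormalTorsion
import Groth.Agent.CohC3.FullyFaithful
import Groth.Agent.QCohMod.QCQS

/-!
Sections over a punctured open as a right adjoint of `M ↦ M~|_U`, and as degree zero cohomology.
-/

set_option autoImplicit false
universe u

open CategoryTheory CategoryTheory.Limits AlgebraicGeometry TopologicalSpace Opposite

namespace Groth.LocCohTransform.PunctSec

open Punct

variable {A : Type u} [CommRing A] (I : Ideal A)

/-- Global sections as modules over `A`. -/
noncomputable abbrev Γf : (UU I).Modules ⥤ ModuleCat.{u} A :=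
  Scheme.Modules.pushforward (LocCoh.puncturedOpen A I).ι ⋙ moduleSpecΓFunctor (R := CommRingCat.of A)

/-- `M ↦ M~|_U` is left adjoint to sections. -/
noncomputable def adj : Φ I ⊣ Γf I :=
  (tilde.adjunction (R := CommRingCat.of A)).comp
    (Scheme.Modules.restrictAdjunction (LocCoh.puncturedOpen A I).ι)

instance : (Γf I).Additive := by
  have := (adj I).isRightAdjoint
  exact Functor.additive_of_preserves_binary_products _

theorem isIso_counit [IsNoetherianRing A] (G : (UU I).Modules) (hG : G.IsQuasicoherent) :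
    IsIso ((adj I).counit.app G) := by
  have : ((Scheme.Modules.pushforward (LocCoh.puncturedOpen A I).ι).obj G).IsQuasicoherent :=
    Groth.QCohMod.isQCoh_pushforward (M := G) _
  have : IsIso (Scheme.Modules.fromTildeΓ (R := CommRingCat.of A)
      ((Scheme.Modules.pushforward (LocCoh.puncturedOpen A I).ι).obj G)) :=
    (isQuasicoherent_iff_isIso_fromTildeΓ (R := CommRingCat.of A) _).1 inferInstance
  have e : (adj I).counit.app G =
      (Scheme.Modules.restrictFunctor (LocCoh.puncturedOpen A I).ι).map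
        ((tilde.adjunction (R := CommRingCat.of A)).counit.app
          ((Scheme.Modules.pushforward (LocCoh.puncturedOpen A I).ι).obj G)) ≫
        (Scheme.Modules.restrictAdjunction (LocCoh.puncturedOpen A I).ι).counit.app G :=
    Adjunction.comp_counit_app _ _ _
  rw [e]
  have : IsIso ((tilde.adjunction (R := CommRingCat.of A)).counit.app
      ((Scheme.Modules.pushforward (LocCoh.puncturedOpen A I).ι).obj G)) := this
  infer_instance

theorem map_smulMod (G : (UU I).Modules) (a : A) (x : (Γf I).obj G) :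
    (Γf I).map (Formal.smulMod A G a) x = a • x := by
  refine Eq.trans ?_ (Scheme.Modules.smul_Spec_def (R := CommRingCat.of A)
    (M := (Scheme.Modules.pushforward (LocCoh.puncturedOpen A I).ι).obj G) a x).symm
  rfl

/-- Sections are degree zero cohomology, additively. -/
noncomputable def secAdd (G : (UU I).Modules) : (Γf I).obj G ≃+ Coh.HH (UU I) G 0 :=
  (Groth.CohC3.secEquiv₀ G).symm

theorem secAdd_natural {G G' : (UU I).Modules} (φ : G ⟶ G') (x : (Γf I).obj G) :
    secAdd I G' ((Γf I).map φ x) = Groth.CohC3.hmap A φ 0 (secAdd I G x) := by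
  refine (Groth.CohC3.secEquiv₀ G').injective ?_
  rw [Groth.CohC3.secEquiv₀_hmap]
  refine ((Groth.CohC3.secEquiv₀ G').apply_symm_apply _).trans ?_
  exact (congrArg (fun s => φ.app ⊤ s) ((Groth.CohC3.secEquiv₀ G).apply_symm_apply x)).symm

/-- Sections are degree zero cohomology. -/
noncomputable def secH0 (G : (UU I).Modules) : (Γf I).obj G ≃ₗ[A] Coh.HH (UU I) G 0 :=
  { secAdd I G with
    map_smul' := fun a x => by
      change secAdd I G (a • x) = a • secAdd I G x
      rw [← map_smulMod, secAdd_natural, Groth.CohC3.hmap_smulMod] }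

theorem secH0_natural {G G' : (UU I).Modules} (φ : G ⟶ G') (x : (Γf I).obj G) :
    secH0 I G' ((Γf I).map φ x) = Groth.CohC3.hmap A φ 0 (secH0 I G x) :=
  secAdd_natural I φ x

/-- The connecting map from sections to first cohomology. -/
noncomputable def δsec {S : ShortComplex (UU I).Modules} (hS : S.ShortExact) :
    (Γf I).obj S.X₃ →ₗ[A] Coh.HH (UU I) S.X₁ 1 :=
  { (Groth.CohC3.hdelta hS 0).comp (secH0 I S.X₃).toLinearMap.toAddMonoidHom with
    map_smul' := fun a x => by
      change Groth.CohC3.hdelta hS 0 (secH0 I S.X₃ (a • x)) =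
        a • Groth.CohC3.hdelta hS 0 (secH0 I S.X₃ x)
      rw [map_smul, ← Groth.CohC3.hmap_smulMod, ← Groth.CohC3.hmap_smulMod]
      exact (Groth.CohC3.hdelta_naturality (A := A) hS hS
        { τ₁ := Formal.smulMod A S.X₁ a
          τ₂ := Formal.smulMod A S.X₂ a
          τ₃ := Formal.smulMod A S.X₃ a
          comm₁₂ := (Groth.CohC3.smulMod_naturality _ a).symm
          comm₂₃ := (Groth.CohC3.smulMod_naturality _ a).symm } _).symm }

theorem δsec_eq_zero_iff {S : ShortComplex (UU I).Modules} (hS : S.ShortExact) (x : (Γf I).obj S.X₃) :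
    δsec I hS x = 0 ↔ x ∈ LinearMap.range ((Γf I).map S.g).hom := by
  refine ⟨fun h => ?_, ?_⟩
  · obtain ⟨y, hy⟩ := Groth.CohC3.exists_of_hdelta_eq_zero (A := A) hS _ h
    refine ⟨(secH0 I S.X₂).symm y, (secH0 I S.X₃).injective ?_⟩
    change secH0 I S.X₃ ((Γf I).map S.g ((secH0 I S.X₂).symm y)) = _
    rw [secH0_natural, LinearEquiv.apply_symm_apply, hy]
    rfl
  · rintro ⟨y, rfl⟩
    change Groth.CohC3.hdelta hS 0 (secH0 I S.X₃ ((Γf I).map S.g y)) = 0
    rw [secH0_natural]
    exact (CategoryTheory.Abelian.Ext.comp_assoc_of_second_deg_zero _ _ _ _).trans (by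
      refine (congrArg (fun e => CategoryTheory.Abelian.Ext.comp (secH0 I S.X₂ y) e rfl)
        (CohBase.shortExact_toAb hS).comp_extClass).trans ?_
      exact CategoryTheory.Abelian.Ext.comp_zero _ _ _ _ rfl)

theorem δsec_natural {S S' : ShortComplex (UU I).Modules} (hS : S.ShortExact) (hS' : S'.ShortExact)
    (φ : S ⟶ S') (x : (Γf I).obj S.X₃) :
    δsec I hS' ((Γf I).map φ.τ₃ x) = Groth.CohC3.hmap A φ.τ₁ 1 (δsec I hS x) := by
  change Groth.CohC3.hdelta hS' 0 (secH0 I S'.X₃ ((Γf I).map φ.τ₃ x)) = _
  rw [secH0_natural]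
  exact (Groth.CohC3.hdelta_naturality (A := A) hS hS' φ _).symm

end Groth.LocCohTransform.PunctSec
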