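import Groth.Agent.LocCohTransform.FormalLocFreeModel
import Groth.Agent.LocCohTransform.FormalTower
import Groth.Agent.LocCohTransform.PunctSections

/-!
Algebraisation of formal locally free modules on the punctured open when `H¹_I(A/f)` and `H²_I(A/f)`
are finite.
-/

set_option autoImplicit false
universe u

open CategoryTheory CategoryTheory.Limits AlgebraicGeometry TopologicalSpace Opposite
open Groth.CohC3

namespace Groth.LocCohTransform.FormalLocFree

open Punct PunctSec

variable {A : Type u} [CommRing A] [IsNoetherianRing A] {I : Ideal A} {f : A}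
variable {G : ℕᵒᵖ ⥤ (UU I).Modules} (hG : IsSys (Ideal.span {f}) G)

include hG in
theorem exists_mul (n : ℕ) : ∃ ι : G.obj (op n) ⟶ G.obj (op (n + 1)),
    sysMap G (Nat.le_succ n) ≫ ι = Formal.smulMod A (G.obj (op (n + 1))) f := by
  refine (hG.isQuot_succ n).desc _ fun a ha => ?_
  rw [mem_annHom, ← smulMod_mul]
  refine hG.killed (n + 1) _ ?_
  rw [pow_succ']
  first
    | exact Ideal.mul_mem_mul (Ideal.mem_span_singleton_self f) ha
    | (rw [mul_comm a f]; exact Ideal.mul_mem_mul (Ideal.mem_span_singleton_self f) ha)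

/-- Multiplication by `f` from level `n` to level `n + 1`. -/
noncomputable def mul (n : ℕ) : G.obj (op n) ⟶ G.obj (op (n + 1)) := (exists_mul hG n).choose

theorem sys_mul (n : ℕ) :
    sysMap G (Nat.le_succ n) ≫ mul hG n = Formal.smulMod A (G.obj (op (n + 1))) f :=
  (exists_mul hG n).choose_spec

theorem mul_sys (n : ℕ) :
    mul hG n ≫ sysMap G (Nat.le_succ n) = Formal.smulMod A (G.obj (op n)) f := by
  refine (hG.isQuot_succ n).hom_ext ?_
  rw [← Category.assoc, sys_mul, smulMod_naturality]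

/-- Multiplication by `f^(n+1)` from level `0` to level `n + 1`. -/
noncomputable def mulPow : ∀ n : ℕ, G.obj (op 0) ⟶ G.obj (op (n + 1))
  | 0 => mul hG 0
  | n + 1 => mulPow n ≫ mul hG (n + 1)

theorem sys_mulPow : ∀ n : ℕ, sysMap G (Nat.zero_le (n + 1)) ≫ mulPow hG n =
    Formal.smulMod A (G.obj (op (n + 1))) (f ^ (n + 1)) := by
  intro n
  induction n with
  | zero =>
    rw [pow_one]
    exact sys_mul hG 0
  | succ n ih =>
    rw [← sysMap_comp G (Nat.zero_le (n + 1)) (Nat.le_succ (n + 1)), mulPow, Category.assoc,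
      ← Category.assoc (sysMap G (Nat.zero_le (n + 1))), ih, ← smulMod_naturality,
      ← Category.assoc, sys_mul, ← smulMod_mul]
    congr 1
    ring

variable (hnzd : f ∈ nonZeroDivisors A)
  (hfree : ∀ n : ℕ, Formal2.IsFinLocFreeMod (Ideal.span {f}) (n + 1) (G.obj (op n)))
  (hcoh : ∀ n, Coh.IsCoh (G.obj (op n)))

include hnzd hfree hcoh in
theorem mono_mul (n : ℕ) : Mono (mul hG n) :=
  FormalLevels.mono_of_model I hnzd _ (hG.isQuot_succ n) _ (sys_mul hG n) (hfree (n + 1)) (hcoh (n + 1))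
    (hG.killed (n + 1))

include hnzd hfree hcoh in
theorem mono_mulPow : ∀ n : ℕ, Mono (mulPow hG n)
  | 0 => mono_mul hG hnzd hfree hcoh 0
  | n + 1 => by
    have := mono_mulPow n
    have := mono_mul hG hnzd hfree hcoh (n + 1)
    exact mono_comp _ _

include hnzd hfree hcoh in
theorem shortExact_mul (n : ℕ) :
    ∃ w : mul hG n ≫ sysMap G (Nat.zero_le (n + 1)) = 0,
      (ShortComplex.mk (mul hG n) (sysMap G (Nat.zero_le (n + 1))) w).ShortExact := by
  have := mono_mul hG hnzd hfree hcoh n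
  have := (hG.isQuot_succ n).epi
  have hp := hG.isQuot (Nat.zero_le (n + 1))
  rw [zero_add, pow_one] at hp
  exact FormalLevels.shortExact_of_mul f _ _ _ hp (sys_mul hG n)

include hnzd hfree hcoh in
theorem shortExact_mulPow (n : ℕ) :
    ∃ w : mulPow hG n ≫ sysMap G (Nat.le_succ n) = 0,
      (ShortComplex.mk (mulPow hG n) (sysMap G (Nat.le_succ n)) w).ShortExact := by
  have := mono_mulPow hG hnzd hfree hcoh n
  have := (hG.isQuot (Nat.zero_le (n + 1))).epi
  have hp := hG.isQuot_succ n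
  rw [Ideal.span_singleton_pow] at hp
  exact FormalLevels.shortExact_of_mul (f ^ (n + 1)) _ _ _ hp (sys_mulPow hG n)

/-- The short exact sequence with obstruction. -/
noncomputable abbrev seq (n : ℕ) : ShortComplex (UU I).Modules :=
  ShortComplex.mk (mulPow hG n) (sysMap G (Nat.le_succ n)) (shortExact_mulPow hG hnzd hfree hcoh n).choose

theorem map_down (E : ℕᵒᵖ ⥤ ModuleCat.{u} A) (r : ∀ k, E.obj (op (k + 1)) →ₗ[A] E.obj (op k))
    (hr : ∀ k, r k = (E.map (homOfLE (Nat.le_succ k)).op).hom) :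
    ∀ j (x : E.obj (op j)), Nat.leRecOn (C := fun j => E.obj (op j) →ₗ[A] E.obj (op 0)) (Nat.zero_le j)
      (fun {k} g => g.comp (r k)) LinearMap.id x = E.map (homOfLE (Nat.zero_le j)).op x := by
  intro j
  induction j with
  | zero =>
    intro x
    rw [Nat.leRecOn_self]
    exact (congrArg (fun φ => φ x) (congrArg ModuleCat.Hom.hom (E.map_id (op 0)))).symm
  | succ j ih =>
    intro x
    rw [Nat.leRecOn_succ (Nat.zero_le j), LinearMap.comp_apply, ih, hr]
    exact (congrArg (fun φ => φ x) (congrArg ModuleCat.Hom.hom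
      (E.map_comp (homOfLE (Nat.le_succ j)).op (homOfLE (Nat.zero_le j)).op))).symm

/-- Sections of the levels. -/
noncomputable abbrev sec (G : ℕᵒᵖ ⥤ (UU I).Modules) (n : ℕ) : ModuleCat.{u} A := (Γf I).obj (G.obj (op n))

/-- The obstruction. -/
noncomputable def obst (n : ℕ) : sec G n →ₗ[A] Coh.HH (UU I) (G.obj (op 0)) 1 :=
  δsec I (S := seq hG hnzd hfree hcoh n) (shortExact_mulPow hG hnzd hfree hcoh n).choose_spec

theorem obst_eq_zero_iff (n : ℕ) (x : sec G n) :
    obst hG hnzd hfree hcoh n x = 0 ↔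
      x ∈ LinearMap.range ((Γf I).map (sysMap G (Nat.le_succ n))).hom :=
  δsec_eq_zero_iff I (S := seq hG hnzd hfree hcoh n) (shortExact_mulPow hG hnzd hfree hcoh n).choose_spec x

theorem obst_mul (n : ℕ) (x : sec G n) :
    obst hG hnzd hfree hcoh (n + 1) ((Γf I).map (mul hG n) x) = obst hG hnzd hfree hcoh n x := by
  let φ : seq hG hnzd hfree hcoh n ⟶ seq hG hnzd hfree hcoh (n + 1) :=
    { τ₁ := 𝟙 _, τ₂ := mul hG (n + 1), τ₃ := mul hG n
      comm₁₂ := Category.id_comp _
      comm₂₃ := (mul_sys hG (n + 1)).trans (sys_mul hG n).symm }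
  exact (δsec_natural I (shortExact_mulPow hG hnzd hfree hcoh n).choose_spec
    (shortExact_mulPow hG hnzd hfree hcoh (n + 1)).choose_spec φ x).trans (Groth.CohC3.hmap_id _ _ _)

theorem sec_r_mul (n : ℕ) (x : sec G n) :
    (Γf I).map (sysMap G (Nat.le_succ n)) ((Γf I).map (mul hG n) x) = f • x := by
  refine Eq.trans ?_ (map_smulMod I _ f x)
  rw [← mul_sys hG, Functor.map_comp]
  rfl

theorem sec_mul_r (n : ℕ) (x : sec G (n + 1)) :
    (Γf I).map (mul hG n) ((Γf I).map (sysMap G (Nat.le_succ n)) x) = f • x := by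
  refine Eq.trans ?_ (map_smulMod I _ f x)
  rw [← sys_mul hG, Functor.map_comp]
  rfl

include hG hnzd hfree hcoh in
theorem sec_mul_injective (n : ℕ) : Function.Injective ((Γf I).map (mul hG n)).hom := by
  have := mono_mul hG hnzd hfree hcoh n
  have := (adj I).isRightAdjoint
  exact (ModuleCat.mono_iff_injective _).1 (Functor.map_mono (Γf I) _)

include hG in
theorem sec_kill₀ (x : sec G 0) : f • x = 0 := by
  rw [← map_smulMod, hG.killed 0 f (by rw [zero_add, pow_one]; exact Ideal.mem_span_singleton_self f),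
    Functor.map_zero]
  rfl

theorem sec_down : ∀ j (x : sec G j), Nat.leRecOn (C := fun j => sec G j →ₗ[A] sec G 0) (Nat.zero_le j)
    (fun {k} g => g.comp ((Γf I).map (sysMap G (Nat.le_succ k))).hom) LinearMap.id x =
      (Γf I).map (sysMap G (Nat.zero_le j)) x :=
  map_down (G ⋙ Γf I) _ fun k => rfl

include hG hnzd hfree hcoh in
theorem sec_exact₀ (n : ℕ) (x : sec G (n + 1))
    (hx : (Γf I).map (sysMap G (Nat.zero_le (n + 1))) x = 0) :
    x ∈ LinearMap.range ((Γf I).map (mul hG n)).hom := by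
  obtain ⟨w, hS⟩ := shortExact_mul hG hnzd hfree hcoh n
  have := (adj I).isRightAdjoint
  have hex := hS.exact.map_of_mono_of_preservesKernel (Γf I) hS.mono_f inferInstance
  exact (ShortComplex.moduleCat_exact_iff _).1 hex x hx

/-- The tower of sections. -/
noncomputable def tower : FormalTower.Tower A f where
  E n := sec G n
  H := Coh.HH (UU I) (G.obj (op 0)) 1
  r n := ((Γf I).map (sysMap G (Nat.le_succ n))).hom
  ι n := ((Γf I).map (mul hG n)).hom
  δ n := obst hG hnzd hfree hcoh n
  r_ι := sec_r_mul hG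
  ι_r := sec_mul_r hG
  ι_inj := sec_mul_injective hG hnzd hfree hcoh
  kill₀ := sec_kill₀ hG
  exact₀ n x hx := sec_exact₀ hG hnzd hfree hcoh n x ((sec_down (n + 1) x).symm.trans hx)
  δ_ker := obst_eq_zero_iff hG hnzd hfree hcoh
  δ_ι := obst_mul hG hnzd hfree hcoh

include hG hnzd hfree hcoh in
/-- The algebraization theorem. -/
theorem exists_algebraization [IsAdicComplete (Ideal.span {f}) A]
    (h₁ : Module.Finite A (LocCoh.H I 1 (A ⧸ Ideal.span {f})))
    (h₂ : Module.Finite A (LocCoh.H I 2 (A ⧸ Ideal.span {f}))) :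
    ∃ M : ModuleCat.{u} A, Module.Finite A M ∧
      Nonempty (Formal.completion (Ideal.span {f}) ((Φ I).obj M) ≅ G) := by
  obtain ⟨N, hN, -, ⟨e⟩, hmod⟩ := FormalLevels.exists_model I f (hfree 0) (hcoh 0) (hG.killed 0)
  obtain ⟨hN₁, hN₂⟩ := LocFreeFinite.finite_one_two h₁ h₂ N (FormalLevels.summand_of_isModel I f N hmod)
  let T := tower hG hnzd hfree hcoh
  have hHH : ∀ p, Module.Finite A (Coh.HH (UU I) ((Φ I).obj N) p) →
      Module.Finite A (Coh.HH (UU I) (G.obj (op 0)) p) := fun p h =>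
    Module.Finite.equiv (Groth.EulerDeg.hEquiv A e p)
  have : Module.Finite A (T.E 0) :=
    haveI := hHH 0 (finite_HH_Φ I N 0 hN₁)
    Module.Finite.equiv (secH0 I (G.obj (op 0))).symm
  have hH : Module.Finite A T.H := hHH 1 (finite_HH_Φ I N 1 hN₂)
  have : IsNoetherian A T.H := inferInstance
  have hkill : ∀ t ∈ I, ∃ k, ∀ z : T.H, t ^ k • z = 0 := by
    intro t ht
    obtain ⟨s, hs⟩ := hN₂.fg_top
    choose n hn using fun x : LocCoh.H I 2 N => LocCohBase.exists_pow_smul_eq_zero 2 N x
    have hzero : ∀ z : LocCoh.H I 2 N, t ^ s.sup n • z = 0 := by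
      intro z
      have hz : z ∈ Submodule.span A (s : Set (LocCoh.H I 2 N)) := hs.ge trivial
      induction hz using Submodule.span_induction with
      | mem y hy => exact hn y _ (Ideal.pow_le_pow_right (Finset.le_sup hy) (Ideal.pow_mem_pow ht _))
      | zero => exact smul_zero _
      | add y y' _ _ h h' => rw [smul_add, h, h', add_zero]
      | smul c y _ h => rw [smul_comm, h, smul_zero]
    refine ⟨s.sup n, ?_⟩
    change ∀ z : Coh.HH (UU I) (G.obj (op 0)) 1, t ^ s.sup n • z = 0
    intro z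
    obtain ⟨w, rfl⟩ := (Groth.EulerDeg.hEquiv A e 1).surjective z
    rw [← map_smul, killed_HH_Φ_succ I _ 0 N hzero w, map_zero]
  have := FormalTower.finite T
  let M : ModuleCat.{u} A := ModuleCat.of A (FormalTower.lim T)
  let pr : ∀ n, M ⟶ sec G n := fun n =>
    ModuleCat.ofHom (X := FormalTower.lim T) (Y := sec G n) (FormalTower.proj T n)
  let ε : ∀ n, (Φ I).obj (sec G n) ⟶ G.obj (op n) := fun n => (adj I).counit.app (G.obj (op n))
  have hε : ∀ n, ε (n + 1) ≫ sysMap G (Nat.le_succ n) =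
      (Φ I).map ((Γf I).map (sysMap G (Nat.le_succ n))) ≫ ε n := fun n =>
    ((adj I).counit.naturality (sysMap G (Nat.le_succ n))).symm
  have hεiso : ∀ n, IsIso (ε n) := fun n => isIso_counit I (G.obj (op n)) (hcoh n).1
  have hpr : ∀ n, pr (n + 1) ≫ (Γf I).map (sysMap G (Nat.le_succ n)) = pr n := fun n =>
    ModuleCat.hom_ext (FormalTower.r_proj T n)
  refine ⟨M, this, nonempty_completion_iso _ _ G (fun n => (Φ I).map (pr n) ≫ ε n) (fun n => ?_) (fun n => ?_)⟩
  · have hk : (Ideal.span {f} ^ (n + 1) • ⊤ : Submodule A (FormalTower.lim T)) ≤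
        LinearMap.ker (FormalTower.proj T n) := fun y hy => (FormalTower.ker_proj T n y).2 hy
    let j : ((FormalTower.lim T) ⧸ (Ideal.span {f} ^ (n + 1) • ⊤ : Submodule A (FormalTower.lim T))) →ₗ[A]
        T.E n := Submodule.liftQ _ (FormalTower.proj T n) hk
    have hj : Function.Injective j := LinearMap.ker_eq_bot.1 (Submodule.ker_liftQ_eq_bot _ _ _
      fun y hy => (FormalTower.ker_proj T n y).1 hy)
    have hcok : LocCoh.IsPowerTorsion I (T.E n ⧸ LinearMap.range j) := by
      refine LocFreeFinite.isPowerTorsion_of_scalar fun p hp => ?_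
      obtain ⟨t, ht, htp⟩ := SetLike.not_le_iff_exists.1 hp
      obtain ⟨k, hk'⟩ := hkill t ht
      obtain ⟨K, hK⟩ := FormalTower.exists_pow_smul_mem T t k hk' n
      refine ⟨t ^ K, fun h => htp (p.isPrime.mem_of_pow_mem K h), fun x => ?_⟩
      obtain ⟨x, rfl⟩ := Submodule.mkQ_surjective _ x
      obtain ⟨y, hy⟩ := hK x
      exact (Submodule.Quotient.mk_eq_zero _).2 ⟨Submodule.mkQ _ y, hy⟩
    have hiso : IsIso ((Φ I).map (ModuleCat.ofHom j)) := by
      let S : ShortComplex (ModuleCat.{u} A) := ShortComplex.mk (ModuleCat.ofHom j)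
        (ModuleCat.ofHom (LinearMap.range j).mkQ)
        (by ext1; exact LinearMap.range_mkQ_comp j)
      have hS : S.ShortExact :=
        { exact := (ShortComplex.ShortExact.moduleCat_exact_iff_function_exact _).2
            (LinearMap.exact_map_mkQ_range j)
          mono_f := (ModuleCat.mono_iff_injective _).2 hj
          epi_g := (ModuleCat.epi_iff_surjective _).2 (Submodule.mkQ_surjective _) }
      exact (shortExact_Φ I hS).isIso_f_iff.2 (isZero_Φ I _ hcok)
    let j' : ModuleCat.of A (M ⧸ (Ideal.span {f} ^ (n + 1) • ⊤ : Submodule A M)) ⟶ sec G n :=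
      ModuleCat.ofHom (X := M ⧸ (Ideal.span {f} ^ (n + 1) • ⊤ : Submodule A M)) (Y := sec G n) j
    have hiso' : IsIso ((Φ I).map j') := hiso
    have := hεiso n
    have hq := (isQuot_Φ_mkQ I (Ideal.span {f} ^ (n + 1)) M).comp_iso ((Φ I).map j' ≫ ε n)
    rw [← Category.assoc, ← Functor.map_comp] at hq
    rw [show ModuleCat.ofHom (Ideal.span {f} ^ (n + 1) • (⊤ : Submodule A M)).mkQ ≫ j' = pr n from
      ModuleCat.hom_ext (LinearMap.ext fun y => rfl)] at hq
    exact hq
  · rw [Category.assoc, hε, ← Category.assoc, ← Functor.map_comp, hpr]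

end Groth.LocCohTransform.FormalLocFree
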