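import Groth.Agent.LocCohTransform.PuncturedFunctor
import Groth.Agent.LocCohTransform.TildeSections
import Mathlib.Algebra.Module.FinitePresentation

/-!
A local isomorphism between `N~` and `Q~` inside a punctured open comes from maps of finite modules
which are inverse to each other up to a scalar.
-/

set_option autoImplicit false
universe u

open CategoryTheory AlgebraicGeometry TopologicalSpace Opposite

namespace Groth.LocCohTransform.LocIso

variable {A : Type u} [CommRing A] [IsNoetherianRing A]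

theorem exists_scalar_inverse {N Q : Type u} [AddCommGroup N] [Module A N] [Module.Finite A N]
    [AddCommGroup Q] [Module A Q] [Module.Finite A Q] {N' Q' : Type u} [AddCommGroup N'] [Module A N']
    [AddCommGroup Q'] [Module A Q'] (S : Submonoid A) (f : N →ₗ[A] N') [IsLocalizedModule S f]
    (g : Q →ₗ[A] Q') [IsLocalizedModule S g] (l : N' ≃ₗ[A] Q') :
    ∃ s ∈ S, ∃ (a : N →ₗ[A] Q) (b : Q →ₗ[A] N), (∀ x, b (a x) = s • x) ∧ ∀ y, a (b y) = s • y := by
  have : Module.FinitePresentation A N := Module.finitePresentation_of_finite A N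
  have : Module.FinitePresentation A Q := Module.finitePresentation_of_finite A Q
  obtain ⟨a, s₁, ha⟩ := Module.FinitePresentation.exists_lift_of_isLocalizedModule S g (l.toLinearMap ∘ₗ f)
  obtain ⟨b, s₂, hb⟩ := Module.FinitePresentation.exists_lift_of_isLocalizedModule S f (l.symm.toLinearMap ∘ₗ g)
  have ha' : ∀ x, g (a x) = (s₁ : A) • l (f x) := fun x => LinearMap.congr_fun ha x
  have hb' : ∀ y, f (b y) = (s₂ : A) • l.symm (g y) := fun y => LinearMap.congr_fun hb y
  obtain ⟨s₃, h₃⟩ := Module.Finite.exists_smul_of_comp_eq_of_isLocalizedModule S f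
    (b ∘ₗ a) (((s₁ : A) * s₂) • LinearMap.id) (LinearMap.ext fun x => by
      simp [hb', ha', map_smul, smul_smul, mul_comm])
  obtain ⟨s₄, h₄⟩ := Module.Finite.exists_smul_of_comp_eq_of_isLocalizedModule S g
    (a ∘ₗ b) (((s₁ : A) * s₂) • LinearMap.id) (LinearMap.ext fun x => by
      simp [hb', ha', map_smul, smul_smul])
  have h₃' : ∀ x, (s₃ : A) • b (a x) = (s₃ : A) • ((s₁ : A) * s₂) • x := fun x => LinearMap.congr_fun h₃ x
  have h₄' : ∀ y, (s₄ : A) • a (b y) = (s₄ : A) • ((s₁ : A) * s₂) • y := fun y => LinearMap.congr_fun h₄ y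
  refine ⟨(s₃ : A) * s₄ * ((s₁ : A) * s₂), S.mul_mem (S.mul_mem s₃.2 s₄.2) (S.mul_mem s₁.2 s₂.2),
    ((s₃ : A) * s₄) • a, b, fun x => ?_, fun y => ?_⟩
  · rw [LinearMap.smul_apply, map_smul, mul_comm (s₃ : A) s₄, mul_smul, h₃', smul_smul, smul_smul]
  · rw [LinearMap.smul_apply, mul_smul, h₄', smul_smul, smul_smul]

variable (I : Ideal A)

/-- A morphism of restrictions gives linear maps on sections over images. -/
noncomputable def secMap (N Q : ModuleCat.{u} A) (V : (Punct.UU I).Opens)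
    (φ : (Scheme.Modules.restrictFunctor V.ι).obj ((Punct.Φ I).obj N) ⟶
      (Scheme.Modules.restrictFunctor V.ι).obj ((Punct.Φ I).obj Q)) (O : (↑V : Scheme.{u}).Opens) :
    TildeSec.sec (R := A) N ((LocCoh.puncturedOpen A I).ι ''ᵁ (V.ι ''ᵁ O)) →ₗ[A]
      TildeSec.sec (R := A) Q ((LocCoh.puncturedOpen A I).ι ''ᵁ (V.ι ''ᵁ O)) where
  toFun s := φ.app O s
  map_add' x y := map_add (φ.app O).hom x y
  map_smul' c s := by
    let W := (LocCoh.puncturedOpen A I).ι ''ᵁ (V.ι ''ᵁ O)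
    let c' := (Spec (CommRingCat.of A)).presheaf.map W.leTop.op
      ((Scheme.ΓSpecIso (CommRingCat.of A)).inv c)
    let r := (V.ι.appIso O).hom (((LocCoh.puncturedOpen A I).ι.appIso (V.ι ''ᵁ O)).hom c')
    have key : ∀ (M : ModuleCat.{u} A)
        (x : Γ((Scheme.Modules.restrictFunctor V.ι).obj ((Punct.Φ I).obj M), O)),
        (show TildeSec.sec (R := A) M W from r • x) = c • (show TildeSec.sec (R := A) M W from x) := by
      intro M x
      change ((LocCoh.puncturedOpen A I).ι.appIso (V.ι ''ᵁ O)).inv ((V.ι.appIso O).inv r) •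
        (show Γ(tilde (R := CommRingCat.of A) M, W) from x) = c' • (show Γ(tilde (R := CommRingCat.of A) M, W) from x)
      congr 1
      simp only [r]
      erw [(V.ι.appIso O).hom_inv_id_apply, ((LocCoh.puncturedOpen A I).ι.appIso (V.ι ''ᵁ O)).hom_inv_id_apply]
    exact ((congrArg (fun y => φ.app O y) (key N s)).symm.trans
      (Scheme.Modules.Hom.app_smul φ r s)).trans (key Q (φ.app O s))

omit [IsNoetherianRing A] in
theorem secMap_comp (N Q : ModuleCat.{u} A) (V : (Punct.UU I).Opens)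
    (φ : (Scheme.Modules.restrictFunctor V.ι).obj ((Punct.Φ I).obj N) ≅
      (Scheme.Modules.restrictFunctor V.ι).obj ((Punct.Φ I).obj Q)) (O : (↑V : Scheme.{u}).Opens)
    (s : TildeSec.sec (R := A) N ((LocCoh.puncturedOpen A I).ι ''ᵁ (V.ι ''ᵁ O))) :
    secMap I Q N V φ.inv O (secMap I N Q V φ.hom O s) = s := by
  change (φ.hom.app O ≫ φ.inv.app O) s = s
  rw [← Scheme.Modules.Hom.comp_app, φ.hom_inv_id]
  rfl

theorem exists_of_iso (N Q : ModuleCat.{u} A) [Module.Finite A N] [Module.Finite A Q]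
    (V : (Punct.UU I).Opens)
    (φ : (Scheme.Modules.restrictFunctor V.ι).obj ((Punct.Φ I).obj N) ≅
      (Scheme.Modules.restrictFunctor V.ι).obj ((Punct.Φ I).obj Q)) (p : Punct.UU I) (hp : p ∈ V) :
    ∃ s ∉ ((LocCoh.puncturedOpen A I).ι p).asIdeal, ∃ (a : N →ₗ[A] Q) (b : Q →ₗ[A] N),
      (∀ x, b (a x) = s • x) ∧ ∀ y, a (b y) = s • y := by
  obtain ⟨_, ⟨_, ⟨t, rfl⟩, rfl⟩, hpt, hle⟩ := PrimeSpectrum.isBasis_basic_opens.exists_subset_of_mem_open
    (show (LocCoh.puncturedOpen A I).ι p ∈ ((LocCoh.puncturedOpen A I).ι ''ᵁ V : Set (Spec (CommRingCat.of A))) from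
      ⟨p, hp, rfl⟩) ((LocCoh.puncturedOpen A I).ι ''ᵁ V).isOpen
  let O : (↑V : Scheme.{u}).Opens := (V.ι ≫ (LocCoh.puncturedOpen A I).ι) ⁻¹ᵁ (PrimeSpectrum.basicOpen t)
  have hW : (LocCoh.puncturedOpen A I).ι ''ᵁ (V.ι ''ᵁ O) = PrimeSpectrum.basicOpen t := by
    refine le_antisymm ?_ ?_
    · rintro x ⟨y, ⟨z, hz, rfl⟩, rfl⟩
      exact hz
    · intro x hx
      obtain ⟨y, hy, rfl⟩ := hle hx
      exact ⟨y, ⟨⟨y, hy⟩, hx, rfl⟩, rfl⟩
  have hloc : ∀ (M : ModuleCat.{u} A) (W : (Spec (CommRingCat.of A)).Opens),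
      W = PrimeSpectrum.basicOpen t →
      IsLocalizedModule (Submonoid.powers t) (tilde.toOpen (R := CommRingCat.of A) M W).hom := by
    rintro M W rfl
    exact TildeSec.isLocalized (R := A) M t
  haveI := hloc N _ hW
  haveI := hloc Q _ hW
  let l : TildeSec.sec (R := A) N ((LocCoh.puncturedOpen A I).ι ''ᵁ (V.ι ''ᵁ O)) ≃ₗ[A]
      TildeSec.sec (R := A) Q ((LocCoh.puncturedOpen A I).ι ''ᵁ (V.ι ''ᵁ O)) :=
    LinearEquiv.ofLinear (secMap I N Q V φ.hom O) (secMap I Q N V φ.inv O)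
      (LinearMap.ext fun s => secMap_comp I Q N V φ.symm O s)
      (LinearMap.ext fun s => secMap_comp I N Q V φ O s)
  obtain ⟨s, ⟨k, rfl⟩, a, b, h⟩ := exists_scalar_inverse (Submonoid.powers t)
    (tilde.toOpen (R := CommRingCat.of A) N _).hom (tilde.toOpen (R := CommRingCat.of A) Q _).hom l
  exact ⟨t ^ k, fun h => hpt (((LocCoh.puncturedOpen A I).ι p).isPrime.mem_of_pow_mem k h), a, b, h⟩

end Groth.LocCohTransform.LocIso
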