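import Groth.Agent.MiscGeom.FourTermH2
import Groth.Agent.LocCohBase.Torsion

/-!
Finiteness of `H¹_I` and `H²_I` for modules which are, away from `V(I)`, direct summands of finite
powers of a module with finite `H¹_I` and `H²_I`.
-/

set_option autoImplicit false
universe u

open CategoryTheory Groth.LocCohBase

namespace Groth.LocCohTransform.LocFreeFinite

variable {A : Type u} [CommRing A] (I : Ideal A) (F : Type u) [AddCommGroup F] [Module A F]

/-- Away from `V(I)`, `M` is locally a direct summand of a finite power of `F`. -/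
def Summand (M : Type u) [AddCommGroup M] [Module A M] : Prop :=
  ∀ p : PrimeSpectrum A, ¬ I ≤ p.asIdeal → ∃ s ∉ p.asIdeal, ∃ (n : ℕ) (a : M →ₗ[A] Fin n → F)
    (b : (Fin n → F) →ₗ[A] M), ∀ x, b (a x) = s • x

variable {I F} [IsNoetherianRing A]

theorem finite_middle {S : ShortComplex (ModuleCat.{u} A)} (hS : S.ShortExact) (i : ℕ)
    (h₁ : Module.Finite A (HH' I i S.X₁)) (h₃ : Module.Finite A (HH' I i S.X₃)) :
    Module.Finite A (HH' I i S.X₂) := by
  have : IsNoetherian A (HH' I i S.X₁) := inferInstance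
  have : IsNoetherian A (HH' I i S.X₃) := inferInstance
  have := isNoetherian_of_range_eq_ker ((localCohomology I i).map S.f).hom
    ((localCohomology I i).map S.g).hom (exact₂ hS i).linearMap_ker_eq.symm
  infer_instance

theorem finite_of_iso {M N : Type u} [AddCommGroup M] [Module A M] [AddCommGroup N] [Module A N]
    (e : M ≃ₗ[A] N) (i : ℕ) (h : Module.Finite A (LocCoh.H I i M)) :
    Module.Finite A (LocCoh.H I i N) :=
  Module.Finite.equiv ((localCohomology I i).mapIso e.toModuleIso).toLinearEquiv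

theorem finite_pi (i : ℕ) (h : Module.Finite A (LocCoh.H I (i + 1) F)) :
    ∀ n : ℕ, Module.Finite A (LocCoh.H I (i + 1) (Fin n → F)) := by
  intro n
  induction n with
  | zero =>
    have : LocCoh.IsPowerTorsion I (Fin 0 → F) := fun x => ⟨0, fun a _ => Subsingleton.elim _ _⟩
    have := subsingleton_succ_of_isPowerTorsion I i _ this
    exact Module.Finite.of_finite
  | succ n ih =>
    let π : (Fin (n + 1) → F) →ₗ[A] (Fin n → F) := LinearMap.funLeft A F Fin.succ
    let j : F →ₗ[A] (Fin (n + 1) → F) := LinearMap.single A (fun _ : Fin (n + 1) => F) 0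
    have hzero : π ∘ₗ j = 0 := LinearMap.ext fun x => funext fun k => by
      simp [π, j, LinearMap.funLeft_apply, Fin.succ_ne_zero]
    let S : ShortComplex (ModuleCat.{u} A) :=
      ShortComplex.mk (ModuleCat.ofHom j) (ModuleCat.ofHom π) (by ext1; exact hzero)
    have hS : S.ShortExact :=
      { exact := (ShortComplex.moduleCat_exact_iff _).2 fun x hx => ⟨x 0, funext fun k => by
          refine Fin.cases ?_ (fun k => ?_) k
          · simp [S, j]
          · change (Pi.single (M := fun _ : Fin (n + 1) => F) 0 (x 0)) k.succ = x k.succ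
            rw [Pi.single_eq_of_ne (Fin.succ_ne_zero k)]
            exact (congr_fun hx k).symm⟩
        mono_f := (ModuleCat.mono_iff_injective _).2 (Pi.single_injective (M := fun _ : Fin (n + 1) => F) 0)
        epi_g := (ModuleCat.epi_iff_surjective _).2
          (LinearMap.funLeft_surjective_of_injective A F _ (Fin.succ_injective n)) }
    exact finite_middle hS (i + 1) h ih

theorem isPowerTorsion_of_scalar {K : Type u} [AddCommGroup K] [Module A K]
    (h : ∀ p : PrimeSpectrum A, ¬ I ≤ p.asIdeal → ∃ s ∉ p.asIdeal, ∀ x : K, s • x = 0) :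
    LocCoh.IsPowerTorsion I K :=
  Groth.MiscGeom.QGor.isPowerTorsion_of_local I fun x q hq =>
    let ⟨s, hs, hx⟩ := h q hq; ⟨s, hs, hx x⟩

/-- Embedding into a power of `F` with quotient of the same kind. -/
theorem exists_embedding (M : Type u) [AddCommGroup M] [Module A M] [Module.Finite A M]
    [Module.Finite A F] (hM : Summand I F M) :
    ∃ (m : ℕ) (φ : M →ₗ[A] Fin m → F), LocCoh.IsPowerTorsion I (LinearMap.ker φ) ∧
      Summand I F ((Fin m → F) ⧸ LinearMap.range φ) ∧
      ∀ p : PrimeSpectrum A, ¬ I ≤ p.asIdeal → ∃ s ∉ p.asIdeal, ∀ x : LinearMap.ker φ, s • x = 0 := by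
  obtain ⟨m, g, hg⟩ := Module.Finite.exists_fin (R := A) (M := M →ₗ[A] F)
  let φ : M →ₗ[A] Fin m → F := LinearMap.pi g
  have hfac : ∀ p : PrimeSpectrum A, ¬ I ≤ p.asIdeal → ∃ s ∉ p.asIdeal, ∃ ψ : (Fin m → F) →ₗ[A] M,
      ∀ x, ψ (φ x) = s • x := by
    intro p hp
    obtain ⟨s, hs, n, a, b, hab⟩ := hM p hp
    have hc : ∀ i : Fin n, ∃ c : Fin m → A, ∑ j, c j • g j = (LinearMap.proj i).comp a := fun i =>
      (Submodule.mem_span_range_iff_exists_fun A).1 (hg ▸ Submodule.mem_top)
    choose c hc using hc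
    let γ : (Fin m → F) →ₗ[A] Fin n → F :=
      LinearMap.pi fun i => ∑ j, c i j • LinearMap.proj j
    refine ⟨s, hs, b.comp γ, fun x => ?_⟩
    rw [LinearMap.comp_apply, show γ (φ x) = a x from funext fun i => ?_, hab]
    have := LinearMap.congr_fun (hc i) x
    simpa [γ, φ] using this
  have hk : ∀ p : PrimeSpectrum A, ¬ I ≤ p.asIdeal → ∃ s ∉ p.asIdeal,
      ∀ x : LinearMap.ker φ, s • x = 0 := fun p hp => by
    obtain ⟨s, hs, ψ, hψ⟩ := hfac p hp
    exact ⟨s, hs, fun x => Subtype.ext (by
      change s • (x : M) = 0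
      rw [← hψ, x.2, map_zero])⟩
  refine ⟨m, φ, isPowerTorsion_of_scalar hk, fun p hp => ?_, hk⟩
  obtain ⟨s, hs, ψ, hψ⟩ := hfac p hp
  refine ⟨s, hs, m, Submodule.liftQ _ (s • LinearMap.id - φ ∘ₗ ψ) ?_, Submodule.mkQ _, fun q => ?_⟩
  · rintro _ ⟨x, rfl⟩
    simp [LinearMap.mem_ker, hψ, map_smul]
  · obtain ⟨x, rfl⟩ := Submodule.mkQ_surjective _ q
    change Submodule.mkQ _ (s • x - φ (ψ x)) = s • Submodule.mkQ _ x
    rw [map_sub, map_smul, sub_eq_self]
    exact (Submodule.Quotient.mk_eq_zero _).2 ⟨_, rfl⟩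

/-- The step: a degree for `M` from the degree below for the quotient. -/
theorem finite_step (i : ℕ) (hF : Module.Finite A (LocCoh.H I (i + 1) F))
    {M : Type u} [AddCommGroup M] [Module A M] {m : ℕ} (φ : M →ₗ[A] Fin m → F)
    (hk : LocCoh.IsPowerTorsion I (LinearMap.ker φ))
    (hQ : Module.Finite A (LocCoh.H I i ((Fin m → F) ⧸ LinearMap.range φ))) :
    Module.Finite A (LocCoh.H I (i + 1) M) := by
  have hR : Module.Finite A (LocCoh.H I (i + 1) (LinearMap.range φ)) := by
    have hS := subSeq_shortExact (LinearMap.range φ)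
    have : IsNoetherian A (LocCoh.H I i ((Fin m → F) ⧸ LinearMap.range φ)) := inferInstance
    have : Module.Finite A (LocCoh.H I (i + 1) (Fin m → F)) := finite_pi i hF m
    have : IsNoetherian A (LocCoh.H I (i + 1) (Fin m → F)) := inferInstance
    have := isNoetherian_of_range_eq_ker (δ (I := I) hS i)
      ((localCohomology I (i + 1)).map (subSeq (LinearMap.range φ)).f).hom (exact₁ hS i).linearMap_ker_eq.symm
    infer_instance
  have hS := subSeq_shortExact (LinearMap.ker φ)
  have h₁ : Subsingleton (LocCoh.H I (i + 1) (LinearMap.ker φ)) :=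
    subsingleton_succ_of_isPowerTorsion I i _ hk
  exact finite_middle hS (i + 1) Module.Finite.of_finite (finite_of_iso φ.quotKerEquivRange.symm _ hR)

theorem finite_H_zero (M : Type u) [AddCommGroup M] [Module A M] [Module.Finite A M] :
    Module.Finite A (LocCoh.H I 0 M) :=
  Module.Finite.equiv (h0Equiv I M).symm

/-- Locally summands of powers of `F` have finite `H¹_I` and `H²_I` when `F` does. -/
theorem finite_one_two [Module.Finite A F] (h₁ : Module.Finite A (LocCoh.H I 1 F))
    (h₂ : Module.Finite A (LocCoh.H I 2 F)) (M : Type u) [AddCommGroup M] [Module A M]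
    [Module.Finite A M] (hM : Summand I F M) :
    Module.Finite A (LocCoh.H I 1 M) ∧ Module.Finite A (LocCoh.H I 2 M) := by
  have one : ∀ (N : Type u) [AddCommGroup N] [Module A N] [Module.Finite A N],
      Summand I F N → Module.Finite A (LocCoh.H I 1 N) := fun N _ _ _ hN => by
    obtain ⟨m, φ, hk, -, -⟩ := exists_embedding N hN
    exact finite_step 0 h₁ φ hk (finite_H_zero _)
  refine ⟨one M hM, ?_⟩
  obtain ⟨m, φ, hk, hQ, -⟩ := exists_embedding M hM
  exact finite_step 1 h₂ φ hk (one _ hQ)

end Groth.LocCohTransform.LocFreeFinite
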