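import Groth.Agent.LocCohTransform.FormalTorsion
import Groth.Agent.LocCohTransform.FormalDepthTwo
import Groth.Agent.LocCohTransform.FormalLocIso
import Groth.Agent.LocCohTransform.LocFreeFinite
import Groth.Agent.LocCohTransform.PuncturedCoherent
import Mathlib.Algebra.Category.ModuleCat.Biproducts
import Mathlib.CategoryTheory.Limits.Preserves.Shapes.Products

/-!
Formal systems on a punctured open whose levels are finite locally free over `O/f^(n+1)`: module
models of the levels and exactness of multiplication by the powers of `f`.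
-/

set_option autoImplicit false
universe u

open CategoryTheory CategoryTheory.Limits AlgebraicGeometry TopologicalSpace Opposite
open Groth.CohC3

namespace Groth.LocCohTransform.FormalLevels

open Punct

variable {A : Type u} [CommRing A] [IsNoetherianRing A] (I : Ideal A) (f : A)

/-- `Φ (A^r) ≅ O^r`. -/
theorem nonempty_free_iso (r : ℕ) :
    Nonempty ((Φ I).obj (ModuleCat.of A (Fin r → A)) ≅ FlatMod.freeMod (UU I) r) := by
  have e₁ : ModuleCat.of A (Fin r → A) ≅ ∐ fun _ : Fin r => ModuleCat.of A A :=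
    (ModuleCat.biproductIsoPi fun _ : Fin r => ModuleCat.of A A).symm ≪≫ biproduct.isoCoproduct _
  have hP : PreservesColimit (Discrete.functor fun _ : Fin r => ModuleCat.of A A) (Φ I) := inferInstance
  exact ⟨(Φ I).mapIso e₁ ≪≫ PreservesCoproduct.iso (Φ I) (fun _ : Fin r => ModuleCat.of A A) ≪≫
    Sigma.mapIso (fun _ : Fin r => FormalTwo.unitIso I)⟩

/-- The model of `(O/(Ideal.span {f})^n)^r`. -/
abbrev model (n r : ℕ) : ModuleCat.{u} A :=
  ModuleCat.of A ((Fin r → A) ⧸ ((Ideal.span {f}) ^ n • ⊤ : Submodule A (Fin r → A)))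

theorem nonempty_model_iso (n r : ℕ) :
    Nonempty ((Φ I).obj (model f n r) ≅ Formal.modPow (Ideal.span {f}) n (FlatMod.freeMod (UU I) r)) := by
  obtain ⟨e⟩ := nonempty_free_iso I r
  have h₁ := isQuot_Φ_mkQ I ((Ideal.span {f}) ^ n) (ModuleCat.of A (Fin r → A))
  have h₂ := (isQuot_modPowπ (Ideal.span {f}) n (FlatMod.freeMod (UU I) r)).iso_comp e.hom
  obtain ⟨φ, hφ⟩ := h₁.desc _ h₂.le_ann
  obtain ⟨ψ, hψ⟩ := h₂.desc _ h₁.le_ann
  refine ⟨⟨φ, ψ, h₁.hom_ext ?_, h₂.hom_ext ?_⟩⟩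
  · rw [← Category.assoc, hφ, hψ, Category.comp_id]
  · rw [← Category.assoc, hψ, hφ, Category.comp_id]

/-- Near every point of `U`, `N` is the model up to a scalar. -/
def IsModel (n : ℕ) (N : ModuleCat.{u} A) : Prop :=
  ∀ p : PrimeSpectrum A, ¬ I ≤ p.asIdeal → ∃ s ∉ p.asIdeal, ∃ (r : ℕ) (a : N →ₗ[A] model f n r)
    (b : model f n r →ₗ[A] N), (∀ x, b (a x) = s • x) ∧ ∀ y, a (b y) = s • y

theorem isModel_of_iso {n : ℕ} {G : (UU I).Modules} (hG : Formal2.IsFinLocFreeMod (Ideal.span {f}) n G)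
    (N : ModuleCat.{u} A) [Module.Finite A N] (e : (Φ I).obj N ≅ G) : IsModel I f n N := by
  intro p hp
  let x : UU I := ⟨p, hp⟩
  obtain ⟨V, r, hxV, ⟨φ⟩⟩ := hG x
  obtain ⟨m⟩ := nonempty_model_iso I f n r
  obtain ⟨s, hs, a, b, h⟩ := LocIso.exists_of_iso I N (model f n r) V
    ((Scheme.Modules.restrictFunctor V.ι).mapIso e ≪≫ φ ≪≫
      ((Scheme.Modules.restrictFunctor V.ι).mapIso m).symm) x hxV
  exact ⟨s, hs, r, a, b, h⟩

/-- A coherent level has a model killed by the same power of `f`. -/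
theorem exists_model {n : ℕ} {G : (UU I).Modules} (hG : Formal2.IsFinLocFreeMod (Ideal.span {f}) n G)
    (hc : Coh.IsCoh G) (hk : Formal.KilledBy ((Ideal.span {f}) ^ n) G) :
    ∃ (N : ModuleCat.{u} A) (_ : Module.Finite A N), (∀ x : N, f ^ n • x = 0) ∧
      Nonempty ((Φ I).obj N ≅ G) ∧ IsModel I f n N := by
  obtain ⟨N, hN, ⟨e⟩⟩ := exists_finite_iso_Φ I G hc
  have h₁ := isQuot_Φ_mkQ I ((Ideal.span {f}) ^ n) N
  have : IsIso ((Φ I).map (ModuleCat.ofHom ((Ideal.span {f}) ^ n • (⊤ : Submodule A N)).mkQ)) :=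
    h₁.isIso_of_killedBy fun a ha => by
      rw [← cancel_mono e.hom, ← smulMod_naturality, hk a ha, comp_zero, zero_comp]
  let e' : (Φ I).obj (ModuleCat.of A (N ⧸ (Ideal.span {f}) ^ n • (⊤ : Submodule A N))) ≅ G :=
    (asIso ((Φ I).map (ModuleCat.ofHom ((Ideal.span {f}) ^ n • (⊤ : Submodule A N)).mkQ))).symm ≪≫ e
  refine ⟨ModuleCat.of A (N ⧸ (Ideal.span {f}) ^ n • (⊤ : Submodule A N)), inferInstance, fun x => ?_, ⟨e'⟩,
    isModel_of_iso I f hG _ e'⟩
  obtain ⟨y, rfl⟩ := Submodule.mkQ_surjective _ x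
  exact (Submodule.Quotient.mk_eq_zero _).2
    (Submodule.smul_mem_smul (Ideal.pow_mem_pow (Ideal.mem_span_singleton_self f) n) trivial)

theorem summand_of_isModel (N : ModuleCat.{u} A) (h : IsModel I f 1 N) :
    LocFreeFinite.Summand I (A ⧸ (Ideal.span {f})) N := by
  intro p hp
  obtain ⟨s, hs, r, a, b, hba, -⟩ := h p hp
  let u : model f 1 r →ₗ[A] Fin r → A ⧸ (Ideal.span {f}) :=
    Submodule.liftQ _ (LinearMap.pi fun i => (Submodule.mkQ (Ideal.span {f})).comp (LinearMap.proj i)) (by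
      rw [pow_one, Submodule.smul_le]
      intro c hc y _
      exact funext fun i => (Submodule.Quotient.mk_eq_zero _).2 (Ideal.mul_mem_right _ _ hc))
  let v : (Fin r → A ⧸ (Ideal.span {f})) →ₗ[A] model f 1 r :=
    ∑ i, (Submodule.liftQ (Ideal.span {f}) ((Submodule.mkQ _).comp (LinearMap.single A (fun _ : Fin r => A) i))
      (fun c hc => by
        refine (Submodule.Quotient.mk_eq_zero _).2 ?_
        rw [pow_one, show LinearMap.single A (fun _ : Fin r => A) i c = c • Pi.single i (1 : A) by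
          ext k; simp [Pi.single_apply]]
        exact Submodule.smul_mem_smul hc trivial)).comp (LinearMap.proj i)
  have huv : ∀ y, v (u y) = y := fun y => by
    obtain ⟨y, rfl⟩ := Submodule.mkQ_surjective _ y
    simp only [u, v, LinearMap.coe_sum, Finset.sum_apply, LinearMap.comp_apply, LinearMap.proj_apply]
    change ∑ i, Submodule.mkQ _ (LinearMap.single A (fun _ : Fin r => A) i (y i)) = _
    rw [← map_sum]
    exact congrArg _ (Finset.univ_sum_single y)
  exact ⟨s, hs, r, u.comp a, b.comp v, fun x => by simp [huv, hba]⟩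

variable {f}

/-- Multiplication by `f` from `N/f^(n+1)N` to `N` has torsion kernel. -/
theorem isPowerTorsion_ker_mul (hf : f ∈ nonZeroDivisors A) (n : ℕ) (N : ModuleCat.{u} A)
    (h : IsModel I f (n + 2) N)
    (φ : (N ⧸ (Ideal.span {f}) ^ (n + 1) • (⊤ : Submodule A N)) →ₗ[A] N)
    (hφ : ∀ x, φ (Submodule.mkQ _ x) = f • x) :
    LocCoh.IsPowerTorsion I (LinearMap.ker φ) := by
  refine LocFreeFinite.isPowerTorsion_of_scalar fun p hp => ?_
  obtain ⟨s, hs, r, a, b, hba, -⟩ := h p hp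
  refine ⟨s, hs, fun ⟨x, hx⟩ => Subtype.ext ?_⟩
  obtain ⟨m, rfl⟩ := Submodule.mkQ_surjective _ x
  rw [LinearMap.mem_ker, hφ] at hx
  obtain ⟨y, hy⟩ := Submodule.mkQ_surjective _ (a m)
  have h1 : f • y ∈ ((Ideal.span {f}) ^ (n + 2) • ⊤ : Submodule A (Fin r → A)) := by
    rw [← Submodule.Quotient.mk_eq_zero, Submodule.Quotient.mk_smul]
    change f • Submodule.mkQ _ y = 0
    rw [hy, ← map_smul, hx, map_zero]
  rw [Ideal.span_singleton_pow, Submodule.ideal_span_singleton_smul] at h1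
  obtain ⟨z, -, hz⟩ := h1
  have hz' : y = f ^ (n + 1) • z := funext fun i => by
    have := congr_fun hz i
    refine (mem_nonZeroDivisors_iff_right.1 hf |> fun h0 => sub_eq_zero.1 (h0 _ ?_))
    change f ^ (n + 2) * z i = f * y i at this
    simp only [Pi.smul_apply, smul_eq_mul]
    rw [sub_mul, mul_comm (y i) f, ← this]
    ring
  change Submodule.mkQ _ (s • m) = 0
  rw [← hba, ← hy, hz', map_smul, map_smul]
  exact (Submodule.Quotient.mk_eq_zero _).2 (Submodule.smul_mem_smul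
    (Ideal.pow_mem_pow (Ideal.mem_span_singleton_self f) _) trivial)

theorem mono_Φ_map {M N : ModuleCat.{u} A} (φ : M ⟶ N)
    (h : LocCoh.IsPowerTorsion I (LinearMap.ker φ.hom)) : Mono ((Φ I).map φ) := by
  let q : M ⟶ ModuleCat.of A (M ⧸ LinearMap.ker φ.hom) := ModuleCat.ofHom (LinearMap.ker φ.hom).mkQ
  let l : ModuleCat.of A (M ⧸ LinearMap.ker φ.hom) ⟶ N :=
    ModuleCat.ofHom ((LinearMap.ker φ.hom).liftQ φ.hom le_rfl)
  have : Mono l := (ModuleCat.mono_iff_injective _).2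
    (LinearMap.ker_eq_bot.1 (Submodule.ker_liftQ_eq_bot _ _ _ le_rfl))
  have hS := shortExact_Φ I (Groth.LocCohBase.subSeq_shortExact (LinearMap.ker φ.hom))
  have : IsIso ((Φ I).map q) :=
    hS.isIso_g_iff.2 (isZero_Φ I (ModuleCat.of A (LinearMap.ker φ.hom)) h)
  rw [show φ = q ≫ l from rfl, Functor.map_comp]
  infer_instance

/-- The level maps induced by multiplication by `f` are monomorphisms. -/
theorem mono_of_model (hf : f ∈ nonZeroDivisors A) {n : ℕ} {G' G : (UU I).Modules}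
    (π : G ⟶ G') (hπ : IsQuot ((Ideal.span {f}) ^ (n + 1)) π) (ι : G' ⟶ G) (hι : π ≫ ι = Formal.smulMod A G f)
    (hG : Formal2.IsFinLocFreeMod (Ideal.span {f}) (n + 2) G) (hc : Coh.IsCoh G)
    (hk : Formal.KilledBy ((Ideal.span {f}) ^ (n + 2)) G) : Mono ι := by
  obtain ⟨N, hN, hkN, ⟨e⟩, hmod⟩ := exists_model I f hG hc hk
  let φ : (N ⧸ (Ideal.span {f}) ^ (n + 1) • (⊤ : Submodule A N)) →ₗ[A] N :=
    Submodule.liftQ _ (f • LinearMap.id) (by
      rw [Submodule.smul_le]
      intro c hc y _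
      obtain ⟨d, rfl⟩ : f ^ (n + 1) ∣ c := by
        rwa [← Ideal.mem_span_singleton, ← Ideal.span_singleton_pow]
      change f • (f ^ (n + 1) * d) • y = 0
      rw [smul_smul, ← mul_assoc, ← pow_succ', mul_smul, smul_comm]
      rw [hkN, smul_zero])
  have hmono : Mono ((Φ I).map (ModuleCat.ofHom φ)) :=
    mono_Φ_map I _ (isPowerTorsion_ker_mul I hf n N hmod φ fun x => rfl)
  have hq := isQuot_Φ_mkQ I ((Ideal.span {f}) ^ (n + 1)) N
  have hq' := hπ.iso_comp e.hom
  obtain ⟨u, hu⟩ := hq.desc _ hq'.le_ann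
  obtain ⟨v, hv⟩ := hq'.desc _ hq.le_ann
  have : IsIso u := ⟨v, hq.hom_ext (by rw [← Category.assoc, hu, hv, Category.comp_id]),
    hq'.hom_ext (by rw [← Category.assoc, hv, hu, Category.comp_id])⟩
  have key : u ≫ ι = (Φ I).map (ModuleCat.ofHom φ) ≫ e.hom := hq.hom_ext (by
    rw [← Category.assoc, hu, Category.assoc, hι, ← Category.assoc, ← Functor.map_comp,
      show ModuleCat.ofHom ((Ideal.span {f}) ^ (n + 1) • (⊤ : Submodule A N)).mkQ ≫ ModuleCat.ofHom φ = mulHom N f from rfl,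
      map_mulHom]
    exact smulMod_naturality e.hom f)
  have : Mono (u ≫ ι) := by rw [key]; infer_instance
  rw [show ι = inv u ≫ (u ≫ ι) by simp]
  infer_instance

omit [IsNoetherianRing A] in
/-- Multiplication by `g` factored through the quotient by `g` gives a short exact sequence. -/
theorem shortExact_of_mul {X : Scheme.{u}} [X.Over (Spec (CommRingCat.of A))] (g : A)
    {G₁ G₂ G₃ : X.Modules} (i : G₁ ⟶ G₂) (p : G₂ ⟶ G₃) (q : G₂ ⟶ G₁) [Mono i]
    (hp : IsQuot (Ideal.span {g}) p) (hq : q ≫ i = Formal.smulMod A G₂ g) [Epi q] :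
    ∃ w : i ≫ p = 0, (ShortComplex.mk i p w).ShortExact := by
  have w : i ≫ p = 0 := by
    rw [← cancel_epi q, ← Category.assoc, hq, comp_zero]
    exact (mem_annHom p g).1 (hp.le_ann (Ideal.mem_span_singleton_self g))
  have := hp.epi
  refine ⟨w, { exact := ShortComplex.exact_of_g_is_cokernel _ (CokernelCofork.IsColimit.ofπ' _ _ fun {W} φ hφ => ?_)
               mono_f := inferInstance
               epi_g := this }⟩
  have hle : Ideal.span {g} ≤ annHom φ := (Ideal.span_singleton_le_iff_mem _).2 (by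
    rw [mem_annHom, ← hq, Category.assoc]
    exact (congrArg (q ≫ ·) hφ).trans comp_zero)
  exact ⟨(hp.desc φ hle).choose, (hp.desc φ hle).choose_spec⟩

end Groth.LocCohTransform.FormalLevels
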