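import Groth.Agent.LocCohTransform.FormalSectionsDerived
import Groth.Agent.LocCohTransform.FormalColimPrincipal
import Groth.Agent.LocCohTransform.AlgebraizeApply
import Groth.Agent.DAlg.DCompletion
import Groth.Agent.Calg1.DepthTwo

/-!
Formal sections over punctured opens, with and without the depth two hypothesis.
-/

set_option autoImplicit false
set_option linter.style.haveILetI false
universe u

open CategoryTheory AlgebraicGeometry
open Formal2 (quotPow quotPowπ quotPowTrans Admissible)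
open Groth.CohDev.TS

attribute [local instance] HasDerivedCategory.standard

namespace Groth.LocCohTransform.FormalSectionsApply

variable {A : Type u} [CommRing A] [IsNoetherianRing A] (I 𝔞 : Ideal A)
  (M : Type u) [AddCommGroup M] [Module A M] [Module.Finite A M]

theorem exists_pow_smul_eq_zero_or {C : Type u} [AddCommGroup C] [Module A C] (g : A) (c : C) :
    (∃ k, g ^ k • c = 0) ∨ ∃ p : Ideal A, p.IsPrime ∧ g ∉ p ∧ ∃ z ∈ Submodule.span A {c},
      ∀ r : A, r ∈ p ↔ r • z = 0 := by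
  by_cases h : ∃ k, g ^ k • c = 0
  · exact Or.inl h
  refine Or.inr ?_
  let ann : C → Ideal A := fun x => LinearMap.ker (LinearMap.toSpanSingleton A C x)
  have hann : ∀ x r, r ∈ ann x ↔ r • x = 0 := fun x r => Iff.rfl
  let S : Set (Ideal A) := {J | ∃ x ∈ Submodule.span A {c}, (¬ ∃ k, g ^ k • x = 0) ∧ ann x = J}
  obtain ⟨_, ⟨x, hxc, hx, rfl⟩, hmax⟩ := set_has_maximal_iff_noetherian.2 inferInstance S
    ⟨_, c, Submodule.mem_span_singleton_self c, h, rfl⟩
  have hmax' : ∀ y ∈ Submodule.span A {c}, (¬ ∃ k, g ^ k • y = 0) → ann x ≤ ann y → ann y ≤ ann x :=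
    fun y hy hy' hle => (eq_of_le_of_not_lt hle (hmax _ ⟨y, hy, hy', rfl⟩)).ge
  have hgx : g ∉ ann x := fun hg => hx ⟨1, by rw [pow_one]; exact hg⟩
  refine ⟨ann x, ⟨fun htop => hgx (htop ▸ Submodule.mem_top), fun {a b} hab => or_iff_not_imp_right.2 fun hb => ?_⟩,
    hgx, x, hxc, hann x⟩
  have hb' : ¬ ∃ k, g ^ k • (b • x) = 0 := by
    rintro ⟨k, hk⟩
    refine hb ((hmax' (g ^ k • x) (Submodule.smul_mem _ _ hxc) (fun ⟨l, hl⟩ => hx ⟨l + k, by
      rw [pow_add, mul_smul]; exact hl⟩) (fun r hr => (hann _ r).2 (by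
        rw [smul_comm, (hann x r).1 hr, smul_zero]))) ((hann _ b).2 (by rwa [smul_comm])))
  exact hmax' _ (Submodule.smul_mem _ b hxc) hb' (fun r hr => (hann _ r).2 (by
    rw [smul_comm, (hann x r).1 hr, smul_zero])) ((hann _ a).2 (by
      rw [← mul_smul]; exact (hann x (a * b)).1 hab))

variable {I 𝔞 M}

theorem admissible_inf {J₀ : Ideal A} (hJ : J₀ ≤ 𝔞)
    (hV : PrimeSpectrum.zeroLocus (J₀ : Set A) ∩ PrimeSpectrum.zeroLocus (I : Set A) =
      PrimeSpectrum.zeroLocus (𝔞 : Set A) ∩ PrimeSpectrum.zeroLocus (I : Set A)) :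
    Admissible A I (LocCoh.puncturedOpen A 𝔞) (LocCoh.puncturedOpen A J₀) :=
  ⟨fun _ hp hmem => hp (hJ.trans hmem), fun p hp hI hmem =>
    hp ((Set.ext_iff.1 hV p).1 ⟨hmem, hI⟩).1⟩

/-- Formal sections come from a smaller punctured open. -/
theorem exists_open_bijective [IsAdicComplete I A] (hω : ∃ ω : Dual.D A, Dual.IsDualizing A ω)
    (d : ℕ) (hd : LocCoh.CdLE A I d)
    (h4 : ∀ p : PrimeSpectrum A, ¬ I ≤ p.asIdeal →
      (∃ r : PrimeSpectrum A, p ≤ r ∧ I ≤ r.asIdeal ∧ ¬ 𝔞 ≤ r.asIdeal) →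
        ∀ q : PrimeSpectrum A, p ≤ q → 𝔞 ≤ q.asIdeal → p.asIdeal ∈ associatedPrimes A M →
          ((d + 1 : ℕ) : WithBot ℕ∞) < Formal2.dimBetween A p.asIdeal q.asIdeal) :
    ∃ J₀ : Ideal A, J₀ ≤ 𝔞 ∧ Admissible A I (LocCoh.puncturedOpen A 𝔞) (LocCoh.puncturedOpen A J₀) ∧
      (∀ x : Sec (A := A) M (LocCoh.puncturedOpen A J₀),
        (∀ n, map (quotPowπ A I M n) (LocCoh.puncturedOpen A J₀) x = 0) → x = 0) ∧
      ∀ y : ∀ n, Sec (A := A) (quotPow A I M n) (LocCoh.puncturedOpen A J₀),
        (∀ n, map (quotPowTrans A I M n) (LocCoh.puncturedOpen A J₀) (y (n + 1)) = y n) →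
          ∃ x, ∀ n, map (quotPowπ A I M n) (LocCoh.puncturedOpen A J₀) x = y n := by
  obtain ⟨ω, hω⟩ := hω
  haveI := Groth.DAlg.DCompletion.hasDerivedCompletion I (IsNoetherian.noetherian I)
  have hC : DualKillColimit.Cond4 M I 𝔞 1 d := by
    intro p hI hT q hpq hq _
    by_cases hp : (1 : ℕ∞) ≤ DualKillColimit.dep M p
    · exact Or.inl hp
    refine Or.inr ?_
    simp only [not_forall, exists_prop] at hT
    have hass : p.asIdeal ∈ associatedPrimes A M := by
      by_contra hn
      exact hp ((Groth.LocCohBase.one_le_depth_localized_iff p.asIdeal M).2 hn)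
    exact lt_of_lt_of_le (h4 p hI hT q hpq hq hass) (le_add_of_nonneg_left (WithBot.coe_le_coe.2 zero_le))
  obtain ⟨J₀, hJ, hV, h⟩ := AlgebraizeApply.exists_algebraization I 𝔞 M hω 1 d hd hC
  obtain ⟨gens, hgens⟩ := IsNoetherian.noetherian J₀
  have hfs : Ideal.span {x | x ∈ gens.toList} = J₀ := by
    rw [← hgens]; simp only [Finset.mem_toList]; rfl
  haveI := DualVanishing.hasRgammaI J₀
  have hmain := FormalSectionsDerived.bijective_sections I M gens.toList J₀ hfs (h J₀ le_rfl hV)
  have hU : CechSections.U0 gens.toList = LocCoh.puncturedOpen A J₀ := by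
    change LocCoh.puncturedOpen A _ = _
    rw [hfs]
  rw [hU] at hmain
  exact ⟨J₀, hJ, admissible_inf hJ hV, hmain⟩

/-- The colimit statement. -/
theorem colimBij [IsAdicComplete I A] (hω : ∃ ω : Dual.D A, Dual.IsDualizing A ω)
    (d : ℕ) (hd : LocCoh.CdLE A I d)
    (h4 : ∀ p : PrimeSpectrum A, ¬ I ≤ p.asIdeal →
      (∃ r : PrimeSpectrum A, p ≤ r ∧ I ≤ r.asIdeal ∧ ¬ 𝔞 ≤ r.asIdeal) →
        ∀ q : PrimeSpectrum A, p ≤ q → 𝔞 ≤ q.asIdeal → p.asIdeal ∈ associatedPrimes A M →
          ((d + 1 : ℕ) : WithBot ℕ∞) < Formal2.dimBetween A p.asIdeal q.asIdeal) :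
    ColimBij I M (LocCoh.puncturedOpen A 𝔞) := by
  obtain ⟨J₀, hJ, hV, hinj, hsurj⟩ := exists_open_bijective hω d hd h4
  refine ⟨fun V hV x hx => ColimPrincipal.injective_colim I _ V hV x hx, fun y hy => ?_⟩
  obtain ⟨x, hx⟩ := hsurj (fun n => res hV.1 (y n)) fun n => by rw [map_res, hy]
  exact ⟨_, hV, x, fun n => (hx n).symm⟩

/-- Sections extend uniquely across primes of depth two. -/
theorem res_bijective_of_depth {J₀ : Ideal A}
    (hle : LocCoh.puncturedOpen A J₀ ≤ LocCoh.puncturedOpen A 𝔞)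
    (hdepth : ∀ (p : Ideal A) [p.IsPrime], ¬ 𝔞 ≤ p → J₀ ≤ p →
      (2 : ℕ∞) ≤ LocCoh.depth (Localization.AtPrime p) (LocalizedModule p.primeCompl M)) :
    Function.Bijective (res (M := M) hle) := by
  let U := LocCoh.puncturedOpen A 𝔞
  let V := LocCoh.puncturedOpen A J₀
  obtain ⟨s, hs⟩ := IsNoetherian.noetherian 𝔞
  have hsle : ∀ g : s, (g : A) ∈ 𝔞 := fun g => hs ▸ Submodule.subset_span g.2
  have hD : ∀ g : s, D (g : A) ≤ U := fun g p hp h => hp (h (hsle g))
  have hcov : U ≤ iSup fun g : s => D (g : A) := fun p hp => by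
    obtain ⟨g, hg, hgp⟩ : ∃ g ∈ s, g ∉ p.asIdeal := by
      by_contra hcon
      push Not at hcon
      exact hp (show 𝔞 ≤ p.asIdeal from hs ▸ Submodule.span_le.2 hcon)
    exact TopologicalSpace.Opens.mem_iSup.2 ⟨⟨g, hg⟩, hgp⟩
  -- torsion for `J₀` is torsion for the members of `𝔞`
  have htor : ∀ (g : A), g ∈ 𝔞 → ∀ m : M, of (A := A) V m = 0 → ∃ k, g ^ k • m = 0 := fun g hg m hm => by
    refine (exists_pow_smul_eq_zero_or g m).resolve_right ?_
    rintro ⟨p, hp, hgp, z, hz, hzp⟩
    haveI := hp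
    have hmem : m ∈ ⨆ n : ℕ, LocCoh.torsionBy (J₀ ^ n) M :=
      (TildeSec.ker_toOpen_eq (ModuleCat.of A M) J₀).le hm
    rw [Submodule.mem_iSup_of_directed _ (Monotone.directed_le fun i j hij =>
      Submodule.torsionBySet_le_torsionBySet_of_subset (Ideal.pow_le_pow_right hij))] at hmem
    obtain ⟨n, hn⟩ := hmem
    obtain ⟨c, rfl⟩ := Submodule.mem_span_singleton.1 hz
    have hJp : J₀ ≤ p := hp.le_of_pow_le (n := n) fun r hr => (hzp r).2 (by
      rw [smul_comm, show r • m = 0 from (Submodule.mem_torsionBySet_iff _ _).1 hn ⟨r, hr⟩, smul_zero])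
    have hass : p ∈ associatedPrimes A M := by
      show IsAssociatedPrime p M
      rw [isAssociatedPrime_iff]
      exact ⟨hp, c • m, Ideal.ext fun r => by
        rw [Submodule.mem_colon_singleton, Submodule.mem_bot]; exact hzp r⟩
    exact (Groth.LocCohBase.one_le_depth_localized_iff p M).1
      (le_trans (by norm_num) (hdepth p (fun h => hgp (h hg)) hJp)) hass
  have hinj : Function.Injective (res (M := M) hle) := by
    rw [injective_iff_map_eq_zero]
    intro x hx
    refine sep (fun g : s => D (g : A)) hD hcov fun g => ?_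
    obtain ⟨k, m, hm⟩ := exists_pow_smul_lift (ψ := LinearMap.id) Function.surjective_id (hD g) x
    have h0 : of (A := A) V m = 0 := by
      rw [← res_of hle, show of (A := A) U m = (g : A) ^ k • x from hm.symm, map_smul, hx, smul_zero]
    obtain ⟨l, hl⟩ := htor g (hsle g) m h0
    rw [map_zero]
    refine (pow_smul_bijective (le_refl (D (g : A))) (l + k)).1 ?_
    change (g : A) ^ (l + k) • res (hD g) x = (g : A) ^ (l + k) • (0 : Sec (A := A) M (D (g : A)))
    rw [smul_zero, pow_add, mul_smul, ← map_smul, hm, LinearMap.id_apply, res_of, ← map_smul, hl, map_zero]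
  refine ⟨hinj, fun t => ?_⟩
  let N := Sec (A := A) M V
  let φ : M →ₗ[A] N := of V
  let C := N ⧸ LinearMap.range φ
  have hN : ∀ (k : ℕ) (n : N), (∀ r ∈ J₀ ^ k, r • n = 0) → n = 0 := fun k n h =>
    TildeSec.eq_zero_of_pow_smul (ModuleCat.of A M) (a := J₀) le_rfl h
  have hkill : ∀ g : s, ∃ k, ∃ m, φ m = (g : A) ^ k • t := fun g => by
    rcases exists_pow_smul_eq_zero_or (g : A) (Submodule.Quotient.mk t : C) with ⟨k, hk⟩ | ⟨p, hp, hgp, z, hz, hzp⟩
    · exact ⟨k, (Submodule.Quotient.mk_eq_zero (LinearMap.range φ)).1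
        ((Submodule.Quotient.mk_smul _ _ _).trans hk)⟩
    exfalso
    haveI := hp
    obtain ⟨n₁, hn₁⟩ := TildeSec.isPowerTorsion_coker_toOpen (ModuleCat.of A M) J₀ (z : C)
    have hJp : J₀ ≤ p := hp.le_of_pow_le (n := n₁) fun r hr => (hzp r).2 (hn₁ r hr)
    obtain ⟨e, rfl⟩ := Submodule.Quotient.mk_surjective _ z
    have hcol : ∀ r : A, r ∈ p ↔ r • e ∈ LinearMap.range φ := fun r => by
      rw [hzp, ← Submodule.Quotient.mk_smul, Submodule.Quotient.mk_eq_zero]
    have hd := hdepth p (fun h => hgp (h (hsle g))) hJp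
    let S := p.primeCompl
    let ψ := LocalizedModule.map S φ
    have hψ : Function.Injective ψ := by
      rw [injective_iff_map_eq_zero]
      intro v hv
      induction v using LocalizedModule.induction_on with
      | h m u =>
        rw [LocalizedModule.map_mk, ← LocalizedModule.zero_mk 1, LocalizedModule.mk_eq] at hv
        obtain ⟨w, hw⟩ := hv
        simp only [one_smul, smul_zero, Submonoid.smul_def] at hw
        rw [← map_smul] at hw
        obtain ⟨l, hl⟩ := htor g (hsle g) _ hw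
        rw [← LocalizedModule.zero_mk 1, LocalizedModule.mk_eq]
        refine ⟨⟨(g : A) ^ l * w, p.primeCompl.mul_mem (fun h => hgp (hp.mem_of_pow_mem l h)) w.2⟩, ?_⟩
        simp only [Submonoid.smul_def, one_smul, smul_zero, mul_smul]
        exact hl
    have hmem : LocalizedModule.mkLinearMap S N e ∈ LinearMap.range ψ := by
      refine Groth.Calg1.mem_range_of_two_le_depth ψ hψ hd (fun y hy => ?_) (fun v hv => ?_)
      · induction y using LocalizedModule.induction_on with
        | h n u =>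
          classical
          obtain ⟨gens, hgens⟩ := IsNoetherian.noetherian J₀
          have hw : ∀ r : gens, ∃ w : S, (w : A) • (r : A) • n = 0 := fun r => by
            have h := hy (algebraMap A (Localization.AtPrime p) r)
              ((IsLocalization.AtPrime.to_map_mem_maximal_iff (Localization.AtPrime p) p _).2
                (hJp (hgens ▸ Submodule.subset_span r.2)))
            rw [algebraMap_smul, LocalizedModule.smul'_mk, ← LocalizedModule.zero_mk 1, LocalizedModule.mk_eq] at h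
            obtain ⟨w, hw⟩ := h
            simp only [Submonoid.smul_def, one_smul, smul_zero] at hw
            exact ⟨w, hw⟩
          choose w hw using hw
          have hwn : ((∏ r, w r : S) : A) • n = 0 := by
            refine hN 1 _ fun r hr => ?_
            rw [pow_one, ← hgens] at hr
            induction hr using Submodule.span_induction with
            | mem r hr =>
              rw [smul_comm]
              obtain ⟨c, hc⟩ := Finset.dvd_prod_of_mem w (Finset.mem_univ (⟨r, hr⟩ : gens))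
              rw [hc, Submonoid.coe_mul, mul_comm, mul_smul, hw ⟨r, hr⟩, smul_zero]
            | zero => rw [zero_smul]
            | add a b _ _ ha hb => rw [add_smul, ha, hb, add_zero]
            | smul c a _ ha => rw [smul_eq_mul, mul_smul, ha, smul_zero]
          rw [← LocalizedModule.zero_mk 1, LocalizedModule.mk_eq]
          refine ⟨∏ r, w r, ?_⟩
          simp only [Submonoid.smul_def, one_smul, smul_zero]
          exact hwn
      · obtain ⟨r, u, rfl⟩ := IsLocalization.exists_mk'_eq p.primeCompl v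
        rw [IsLocalization.AtPrime.mk'_mem_maximal_iff (Localization.AtPrime p) p r u, hcol] at hv
        obtain ⟨m, hm⟩ := hv
        refine ⟨LocalizedModule.mk m u, ?_⟩
        rw [LocalizedModule.map_mk, hm, LocalizedModule.mkLinearMap_apply,
          ← Localization.mk_eq_mk'_apply, LocalizedModule.mk_smul_mk, mul_one]
    obtain ⟨v, hv⟩ := hmem
    induction v using LocalizedModule.induction_on with
    | h m u =>
      rw [LocalizedModule.map_mk, LocalizedModule.mkLinearMap_apply, LocalizedModule.mk_eq] at hv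
      obtain ⟨w, hw⟩ := hv
      simp only [one_smul, Submonoid.smul_def] at hw
      have : (w : A) * u ∈ p := (hcol _).mpr ⟨(w : A) • m, by rw [map_smul, hw, mul_smul]⟩
      exact p.primeCompl.mul_mem w.2 u.2 this
  choose k m hm using hkill
  have hgl : ∀ g : s, ∃ x : Sec (A := A) M (D (g : A)), (g : A) ^ k g • x = of (D (g : A)) (m g) :=
    fun g => (pow_smul_bijective (le_refl (D (g : A))) (k g)).2 _
  choose x hx using hgl
  obtain ⟨X, hX⟩ := glue (fun g : s => D (g : A)) hD hcov x fun i j => by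
    have h₁ : D (i : A) ⊓ D (j : A) ≤ D (i : A) := inf_le_left
    have h₂ : D (i : A) ⊓ D (j : A) ≤ D (j : A) := inf_le_right
    have hzero : φ ((j : A) ^ k j • m i - (i : A) ^ k i • m j) = 0 := by
      rw [map_sub, map_smul, map_smul, hm, hm, smul_comm, sub_self]
    obtain ⟨l, hl⟩ := htor i (hsle i) _ hzero
    refine (pow_smul_bijective h₁ (l + k i)).1 ((pow_smul_bijective h₂ (k j)).1 ?_)
    change (j : A) ^ k j • (i : A) ^ (l + k i) • res (M := M) h₁ (x i) =
      (j : A) ^ k j • (i : A) ^ (l + k i) • res (M := M) h₂ (x j)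
    have hj : (j : A) ^ k j • res (M := M) h₂ (x j) = of (D (i : A) ⊓ D (j : A)) (m j) := by
      rw [← map_smul, hx, res_of]
    rw [pow_add, mul_smul, mul_smul, ← map_smul (res h₁), hx, res_of,
      smul_comm ((j : A) ^ k j) ((i : A) ^ l), smul_comm ((j : A) ^ k j) ((i : A) ^ l),
      smul_comm ((j : A) ^ k j) ((i : A) ^ k i), hj, ← map_smul, ← map_smul, ← map_smul, ← map_smul,
      ← sub_eq_zero, ← map_sub, ← smul_sub, hl, map_zero]
  refine ⟨X, sep (fun g : s => D (g : A) ⊓ V) (fun g => inf_le_right) (fun p hp => ?_) fun g => ?_⟩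
  · obtain ⟨g, hg⟩ := TopologicalSpace.Opens.mem_iSup.1 (hcov (hle hp))
    exact TopologicalSpace.Opens.mem_iSup.2 ⟨g, hg, hp⟩
  · rw [res_res, ← res_res (hD g) (inf_le_left : D (g : A) ⊓ V ≤ D (g : A)), hX]
    refine (pow_smul_bijective (inf_le_left : D (g : A) ⊓ V ≤ D (g : A)) (k g)).1 ?_
    change (g : A) ^ k g • _ = (g : A) ^ k g • _
    rw [← map_smul, hx, res_of, ← map_smul, ← hm, res_of]

/-- The depth two form. -/
theorem bijective_of_depth_two [IsAdicComplete I A] (hω : ∃ ω : Dual.D A, Dual.IsDualizing A ω)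
    (d : ℕ) (hd : LocCoh.CdLE A I d)
    (h4 : ∀ p : PrimeSpectrum A, ¬ I ≤ p.asIdeal →
      (∃ r : PrimeSpectrum A, p ≤ r ∧ I ≤ r.asIdeal ∧ ¬ 𝔞 ≤ r.asIdeal) →
        ∀ q : PrimeSpectrum A, p ≤ q → 𝔞 ≤ q.asIdeal → p.asIdeal ∈ associatedPrimes A M →
          ((d + 1 : ℕ) : WithBot ℕ∞) < Formal2.dimBetween A p.asIdeal q.asIdeal)
    (h₃ : ∀ (p : Ideal A) [p.IsPrime], ¬ 𝔞 ≤ p →
      (∀ (r : Ideal A), r.IsPrime → p ≤ r → I ≤ r → 𝔞 ≤ r) →
        (2 : ℕ∞) ≤ LocCoh.depth (Localization.AtPrime p) (LocalizedModule p.primeCompl M)) :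
    Formal2.FormalCohBijective A I M 0 (LocCoh.puncturedOpen A 𝔞) := by
  obtain ⟨J₀, hJ, hV, hinj, hsurj⟩ := exists_open_bijective hω d hd h4
  have hres : Function.Bijective (res (M := M) hV.1) := by
    refine res_bijective_of_depth hV.1 fun p hp ha hJp => h₃ p ha fun r hr hpr hIr => ?_
    by_contra har
    exact hV.2 ⟨r, hr⟩ har hIr (show J₀ ≤ r from hJp.trans hpr)
  refine ⟨fun x x' hxx => (toSec _).injective (hres.1 (sub_eq_zero.1 ?_)), fun y hy => ?_⟩
  · rw [← map_sub]
    refine hinj _ fun n => ?_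
    rw [map_res, map_sub, ← toSec_map, ← toSec_map, hxx n, sub_self, map_zero]
  · obtain ⟨z, hz⟩ := hsurj (fun n => res hV.1 (toSec _ (y n))) fun n => by
      rw [map_res, ← toSec_map, hy]
    obtain ⟨w, rfl⟩ := hres.2 z
    refine ⟨(toSec _).symm w, fun n => (toSec _).injective ?_⟩
    rw [toSec_map, AddEquiv.apply_symm_apply]
    refine res_injective_of_killed (I := I) (n := n + 1) (killed_quot M _ (n + 1) le_rfl) hV.1 hV.2 ?_
    rw [← map_res]
    exact hz n

end Groth.LocCohTransform.FormalSectionsApply
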