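import Groth.Agent.LocCohTransform.Basic
import Mathlib.Algebra.Homology.ShortComplex.ExactFunctor
import Mathlib.Algebra.Homology.ShortComplex.ModuleCat
import Mathlib.CategoryTheory.Limits.Types.Filtered

set_option autoImplicit false
universe u
open CategoryTheory CategoryTheory.Limits Opposite

namespace Groth.LocCohTransform

variable {R : Type u} [CommRing R] (I : Ideal R)

theorem gammaI_preservesFiniteLimits : PreservesFiniteLimits (DRing.gammaI I) := by
  rw [Functor.preservesFiniteLimits_iff_forall_exact_map_and_mono]
  intro S hS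
  have hf := hS.moduleCat_injective_f
  refine ⟨(ShortComplex.moduleCat_exact_iff _).2 fun x hx => ?_, (ModuleCat.mono_iff_injective _).2
    fun a b h => Subtype.ext (hf (congrArg Subtype.val h))⟩
  obtain ⟨x, hxt⟩ := x
  obtain ⟨y, hy⟩ := (ShortComplex.moduleCat_exact_iff _).1 hS.exact x (congrArg Subtype.val hx)
  obtain ⟨n, hn⟩ := hxt
  exact ⟨⟨y, n, fun a ha => hf (by
    rw [map_smul, map_zero]
    exact (congrArg (a • ·) hy).trans (hn a ha))⟩, Subtype.ext hy⟩

theorem gammaI_preservesColimitsOfShape [IsNoetherianRing R] (Λ : Type u) [SmallCategory Λ]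
    [IsFiltered Λ] : PreservesColimitsOfShape Λ (DRing.gammaI I) where
  preservesColimit {F} := ⟨fun {c} hc => by
    have hc' := isColimitOfPreserves (forget (ModuleCat.{u} R)) hc
    refine ⟨isColimitOfReflects (forget (ModuleCat.{u} R)) ?_⟩
    refine Types.FilteredColimit.isColimitOf _ _ (fun x => ?_) (fun i j xi xj h => ?_)
    · obtain ⟨x, n, hn⟩ := x
      obtain ⟨j, y, hy⟩ := Concrete.isColimit_exists_rep F hc x
      obtain ⟨T, hT⟩ := (IsNoetherian.noetherian (I ^ n : Ideal R) : (I ^ n : Ideal R).FG)
      -- a stage where all generators of `I ^ n` kill `y`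
      have : ∀ T : Finset R, (∀ a ∈ T, a ∈ I ^ n) → ∃ (k : Λ) (f : j ⟶ k),
          ∀ a ∈ T, a • (F.map f).hom y = 0 := by
        classical
        intro T
        induction T using Finset.induction with
        | empty => exact fun _ => ⟨j, 𝟙 j, by simp⟩
        | insert a T _ ih =>
          intro hmem
          obtain ⟨k, f, hf⟩ := ih fun b hb => hmem b (Finset.mem_insert_of_mem hb)
          have h0 : (c.ι.app j).hom (a • y) = (c.ι.app j).hom 0 := by
            rw [map_zero, map_smul]
            exact (congrArg (a • ·) hy).trans (hn a (hmem a (Finset.mem_insert_self _ _)))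
          obtain ⟨l, g₁, g₂, hg⟩ := Concrete.isColimit_exists_of_rep_eq F hc (a • y) 0 h0
          have hg1 : a • (F.map g₁).hom y = 0 := by
            rw [← map_smul]; exact hg.trans (map_zero _)
          obtain ⟨m, p, q, hpq⟩ := IsFilteredOrEmpty.cocone_objs k l
          obtain ⟨o, e, he⟩ := IsFilteredOrEmpty.cocone_maps (f ≫ p) (g₁ ≫ q)
          refine ⟨o, (f ≫ p) ≫ e, fun b hb => ?_⟩
          rcases Finset.mem_insert.1 hb with rfl | hb
          · rw [he]
            simp only [Functor.map_comp, ModuleCat.hom_comp, LinearMap.comp_apply]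
            rw [← map_smul, ← map_smul, hg1, map_zero, map_zero]
          · simp only [Functor.map_comp, ModuleCat.hom_comp, LinearMap.comp_apply]
            rw [← map_smul, ← map_smul, hf b hb, map_zero, map_zero]
      obtain ⟨k, f, hf⟩ := this T fun a ha => hT ▸ Submodule.subset_span ha
      refine ⟨k, ⟨(F.map f).hom y, n, fun a ha => ?_⟩, ?_⟩
      · rw [← hT] at ha
        induction ha using Submodule.span_induction with
        | mem z hz => exact hf z hz
        | zero => rw [zero_smul]
        | add p q _ _ hp hq => rw [add_smul, hp, hq, add_zero]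
        | smul r p _ hp => rw [smul_eq_mul, mul_smul, hp, smul_zero]
      · apply Subtype.ext
        show x = (c.ι.app k).hom ((F.map f).hom y)
        rw [← LinearMap.comp_apply, ← ModuleCat.hom_comp, Cocone.w]
        exact hy.symm
    · obtain ⟨k, f, g, e⟩ := Concrete.isColimit_exists_of_rep_eq F hc _ _ (congrArg Subtype.val h)
      exact ⟨k, f, g, Subtype.ext e⟩⟩

end Groth.LocCohTransform
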