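import Groth.Agent.LocCohTransform.HMap
import Groth.Agent.LocCohBase.CdLocal
import Mathlib.LinearAlgebra.TensorProduct.RightExactness

/-!
Top local cohomology is given by tensoring.
-/

set_option autoImplicit false
universe u
open CategoryTheory CategoryTheory.Limits TensorProduct

namespace Groth.LocCohTransform

open Groth.LocCohBase (HH' δ exact₂ exact₃)

variable {R : Type u} [CommRing R] (I : Ideal R) (d : ℕ)

/-- The functorial action on local cohomology, as a linear map in the morphism. -/
noncomputable def mapLin (M N : ModuleCat.{u} R) (x : HH' I d M) :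
    (M →ₗ[R] N) →ₗ[R] HH' I d N where
  toFun g := ((localCohomology I d).map (ModuleCat.ofHom g)).hom x
  map_add' g g' := map_add' I d (ModuleCat.ofHom g) (ModuleCat.ofHom g') x
  map_smul' r g := by
    show ((localCohomology I d).map (ModuleCat.ofHom (r • g))).hom x = r • _
    rw [show ModuleCat.ofHom (r • g) = ModuleCat.ofHom g ≫ (r • 𝟙 N) by ext y; rfl, map_comp',
      ← Groth.LocCohBase.smul_eq_map]

/-- `H^d(R) ⊗ M → H^d(M)`. -/
noncomputable def tensorToH (M : Type u) [AddCommGroup M] [Module R M] :
    LocCoh.H I d R ⊗[R] M →ₗ[R] LocCoh.H I d M :=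
  TensorProduct.lift
    { toFun := fun x => mapLin I d (ModuleCat.of R R) (ModuleCat.of R M) x ∘ₗ
        (LinearMap.ringLmapEquivSelf R R M).symm.toLinearMap
      map_add' := fun x y => LinearMap.ext fun m => map_add ((localCohomology I d).map
        (ModuleCat.ofHom ((LinearMap.ringLmapEquivSelf R R M).symm m))).hom x y
      map_smul' := fun r x => LinearMap.ext fun m => map_smul ((localCohomology I d).map
        (ModuleCat.ofHom ((LinearMap.ringLmapEquivSelf R R M).symm m))).hom r x }

lemma tensorToH_tmul {M : Type u} [AddCommGroup M] [Module R M] (x : LocCoh.H I d R) (m : M) :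
    tensorToH I d M (x ⊗ₜ[R] m) =
      ((localCohomology I d).map (ModuleCat.ofHom (LinearMap.toSpanSingleton R M m))).hom x := by
  show ((localCohomology I d).map (ModuleCat.ofHom ((LinearMap.ringLmapEquivSelf R R M).symm m))).hom x = _
  have h : (LinearMap.ringLmapEquivSelf R R M).symm m = LinearMap.toSpanSingleton R M m := by
    apply (LinearMap.ringLmapEquivSelf R R M).injective
    rw [LinearEquiv.apply_symm_apply]
    simp
  rw [h]

lemma tensorToH_natural {M N : Type u} [AddCommGroup M] [Module R M] [AddCommGroup N] [Module R N]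
    (g : M →ₗ[R] N) (z : LocCoh.H I d R ⊗[R] M) :
    tensorToH I d N (g.lTensor _ z) =
      ((localCohomology I d).map (ModuleCat.ofHom g)).hom (tensorToH I d M z) := by
  induction z using TensorProduct.induction_on with
  | zero => rw [map_zero, map_zero, map_zero, map_zero]
  | add p q hp hq => rw [map_add, map_add, map_add, map_add, hp, hq]
  | tmul x m =>
    rw [LinearMap.lTensor_tmul, tensorToH_tmul, tensorToH_tmul,
      show ModuleCat.ofHom (LinearMap.toSpanSingleton R N (g m)) =
        ModuleCat.ofHom (LinearMap.toSpanSingleton R M m) ≫ ModuleCat.ofHom g by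
          ext; simp]
    exact map_comp' I d _ _ x

variable [IsNoetherianRing R]

lemma tensorToH_finsupp_bijective (κ : Type u) : Function.Bijective (tensorToH I d (κ →₀ R)) := by
  classical
  constructor
  · refine (injective_iff_map_eq_zero _).2 fun z hz => ?_
    have hcoord : ∀ j, (Finsupp.lapply j).lTensor (LocCoh.H I d R) z = 0 := by
      intro j
      have h : ∀ w : LocCoh.H I d R ⊗[R] R, tensorToH I d R w = TensorProduct.rid R _ w := by
        intro w
        induction w using TensorProduct.induction_on with
        | zero => rw [map_zero, map_zero]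
        | add p q hp hq => rw [map_add, map_add, hp, hq]
        | tmul x r =>
          rw [tensorToH_tmul, TensorProduct.rid_tmul, show ModuleCat.ofHom
            (LinearMap.toSpanSingleton R R r) = r • 𝟙 (ModuleCat.of R R) by ext; simp [mul_comm]]
          exact (Groth.LocCohBase.smul_eq_map d (ModuleCat.of R R) r x).symm
      apply (TensorProduct.rid R (LocCoh.H I d R)).injective
      rw [← h, map_zero, tensorToH_natural, hz, map_zero]
    apply (TensorProduct.finsuppScalarRight R R (LocCoh.H I d R) κ).injective
    rw [map_zero]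
    ext j
    have h : ∀ w : LocCoh.H I d R ⊗[R] (κ →₀ R),
        TensorProduct.finsuppScalarRight R R (LocCoh.H I d R) κ w j =
          TensorProduct.rid R _ ((Finsupp.lapply j).lTensor (LocCoh.H I d R) w) := by
      intro w
      induction w using TensorProduct.induction_on with
      | zero => simp
      | add p q hp hq => simp only [map_add, Finsupp.add_apply, hp, hq]
      | tmul x f => simp [TensorProduct.finsuppScalarRight_apply_tmul_apply]
    rw [h, hcoord, map_zero]
    rfl
  · intro y
    obtain ⟨N, hN, y, rfl⟩ := Groth.LocCohBase.exists_fg_H I d (ModuleCat.of R (κ →₀ R)) y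
    obtain ⟨T, hT⟩ := hN
    let s : Finset κ := T.biUnion Finsupp.support
    refine ⟨∑ j ∈ s, ((localCohomology I d).map (ModuleCat.ofHom
      (Finsupp.lapply j ∘ₗ N.subtype))).hom y ⊗ₜ[R] Finsupp.single j 1, ?_⟩
    rw [map_sum]
    have hN : N.subtype = ∑ j ∈ s, LinearMap.toSpanSingleton R (κ →₀ R) (Finsupp.single j 1) ∘ₗ
        (Finsupp.lapply j ∘ₗ N.subtype) := by
      ext ⟨f, hf⟩ i
      simp only [LinearMap.sum_apply, LinearMap.comp_apply, Submodule.subtype_apply,
        LinearMap.toSpanSingleton_apply, Finsupp.lapply_apply, Finsupp.finsetSum_apply,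
        Finsupp.smul_apply, smul_eq_mul]
      have hsupp : ∀ g ∈ N, g ∈ Finsupp.supported R R (s : Set κ) := by
        intro g hg
        rw [← hT] at hg
        refine Submodule.span_le.2 (fun t ht => ?_) hg
        exact fun a ha => Finset.mem_biUnion.2 ⟨t, ht, ha⟩
      by_cases hi : i ∈ s
      · rw [Finset.sum_eq_single i]
        · simp
        · intro b _ hb; simp [Finsupp.single_apply, hb]
        · exact fun h => absurd hi h
      · rw [Finset.sum_eq_zero fun b hb => by
          have : b ≠ i := fun e => hi (e ▸ hb)
          simp [Finsupp.single_apply, this]]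
        exact Finsupp.notMem_support_iff.1 fun h => hi (hsupp f hf h)
    calc ∑ j ∈ s, tensorToH I d (κ →₀ R) (((localCohomology I d).map (ModuleCat.ofHom
          (Finsupp.lapply j ∘ₗ N.subtype))).hom y ⊗ₜ[R] Finsupp.single j 1)
        = ∑ j ∈ s, mapLin I d (ModuleCat.of R N) (ModuleCat.of R (κ →₀ R)) y
            (LinearMap.toSpanSingleton R (κ →₀ R) (Finsupp.single j 1) ∘ₗ
              (Finsupp.lapply j ∘ₗ N.subtype)) := by
          refine Finset.sum_congr rfl fun j _ => ?_
          rw [tensorToH_tmul]
          exact (map_comp' I d _ _ y).symm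
      _ = _ := by
          rw [← map_sum, ← hN]
          rfl

theorem tensorToH_bijective (hcd : LocCoh.CdLE R I d) (M : Type u) [AddCommGroup M] [Module R M] :
    Function.Bijective (tensorToH I d M) := by
  have pres : ∀ (N : Type u) [AddCommGroup N] [Module R N],
      Function.Surjective (tensorToH I d N) := by
    intro N _ _ y
    let p : (N →₀ R) →ₗ[R] N := Finsupp.linearCombination R id
    have hp : Function.Surjective p := fun n => ⟨Finsupp.single n 1, by simp [p]⟩
    have hS := LinearMap.shortExact_shortComplexKer hp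
    obtain ⟨w, rfl⟩ := (exact₃ (I := I) hS d y).1 ((hcd _ (d + 1) (Nat.lt_succ_self d)).elim _ _)
    obtain ⟨z, rfl⟩ := (tensorToH_finsupp_bijective I d N).2 w
    exact ⟨p.lTensor _ z, tensorToH_natural I d p z⟩
  refine ⟨(injective_iff_map_eq_zero _).2 fun z hz => ?_, pres M⟩
  let p : (M →₀ R) →ₗ[R] M := Finsupp.linearCombination R id
  have hp : Function.Surjective p := fun n => ⟨Finsupp.single n 1, by simp [p]⟩
  have hS := LinearMap.shortExact_shortComplexKer hp
  obtain ⟨w, rfl⟩ := LinearMap.lTensor_surjective (LocCoh.H I d R) hp z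
  rw [tensorToH_natural] at hz
  obtain ⟨v, hv⟩ : ∃ v : LocCoh.H I d (LinearMap.ker p),
      ((localCohomology I d).map (ModuleCat.ofHom (LinearMap.ker p).subtype)).hom v =
        tensorToH I d (M →₀ R) w := (exact₂ (I := I) hS d (tensorToH I d (M →₀ R) w)).1 hz
  obtain ⟨v', hv'⟩ := pres (LinearMap.ker p) v
  have h : w = (LinearMap.ker p).subtype.lTensor _ v' := by
    apply (tensorToH_finsupp_bijective I d M).1
    rw [← hv, ← hv']
    exact (tensorToH_natural I d (M := ↥(LinearMap.ker p)) (N := M →₀ R) (LinearMap.ker p).subtype v').symm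
  rw [h, ← LinearMap.comp_apply, ← LinearMap.lTensor_comp]
  rw [show p ∘ₗ (LinearMap.ker p).subtype = 0 from LinearMap.ext fun x => x.2, LinearMap.lTensor_zero]
  rfl

end Groth.LocCohTransform
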