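import Groth.Agent.LocCohTransform.LocSeqApp
import Groth.Agent.LocCohTransform.Independence
import Groth.Agent.LocCohBase.CdLocal

/-!
Vanishing of the top local cohomology.
-/

set_option autoImplicit false
universe u
open CategoryTheory CategoryTheory.Limits

namespace Groth.LocCohTransform

open Groth.LocCohBase (HH')

variable {R : Type u} [CommRing R] [IsNoetherianRing R] [IsLocalRing R] (d : ℕ)

omit [IsNoetherianRing R] in
lemma ringKrullDim_away_le (hd : ringKrullDim R ≤ ((d + 1 : ℕ) : WithBot ℕ∞)) {b : R}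
    (hb : b ∈ IsLocalRing.maximalIdeal R) :
    ringKrullDim (Localization.Away b) ≤ (d : WithBot ℕ∞) := by
  refine iSup_le fun l => ?_
  let φ : PrimeSpectrum (Localization.Away b) → PrimeSpectrum R :=
    fun p => p.comap (algebraMap R (Localization.Away b))
  have hφ : StrictMono φ := by
    intro p q hpq
    refine lt_of_le_of_ne (fun x hx => hpq.le hx) fun e => hpq.ne ?_
    exact PrimeSpectrum.localization_comap_injective (Localization.Away b) (Submonoid.powers b) e
  let l' := (l.map φ hφ)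
  have hlast : l'.last < IsLocalRing.closedPoint R := by
    refine lt_of_le_of_ne (IsLocalRing.le_maximalIdeal l'.last.2.ne_top) fun e => ?_
    have hmem : b ∈ l'.last.asIdeal := by rw [e]; exact hb
    rw [LTSeries.last_map] at hmem
    exact (l.last.2.ne_top) (Ideal.eq_top_of_isUnit_mem _ hmem
      (IsLocalization.map_units (Localization.Away b) ⟨b, Submonoid.mem_powers b⟩))
  have h := (Order.LTSeries.length_le_krullDim (l'.snoc _ hlast)).trans hd
  have hlen : (l'.snoc _ hlast).length = l.length + 1 := rfl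
  rw [hlen, Nat.cast_le] at h
  exact WithBot.coe_le_coe.2 (Nat.cast_le.2 (by omega))

variable {d}

/-- `H^d_{I+(b)} = 0 → H^d_I = 0` for `b` in the maximal ideal, `d` the dimension. -/
theorem subsingleton_H_of_sup_span (hd : ringKrullDim R ≤ (d : WithBot ℕ∞)) (hd0 : 0 < d) (I : Ideal R)
    {b : R} (hb : b ∈ IsLocalRing.maximalIdeal R)
    (h : Subsingleton (LocCoh.H (I ⊔ Ideal.span {b}) d R)) : Subsingleton (LocCoh.H I d R) := by
  obtain ⟨e, rfl⟩ : ∃ e, d = e + 1 := ⟨d - 1, by omega⟩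
  let A := Localization.Away b
  have : IsNoetherianRing A := IsLocalization.isNoetherianRing (Submonoid.powers b) A inferInstance
  have hz : Subsingleton (LocCoh.H (I.map (algebraMap R A)) (e + 1) (LocalizedModule (Submonoid.powers b) R)) :=
    Groth.LocCohBase.cdLE_of_dim_le _ e (ringKrullDim_away_le e hd hb) _ _ (Nat.lt_succ_self e)
  obtain ⟨φ, -⟩ := exists_restrict_addEquiv (R' := A) I (LocalizedModule (Submonoid.powers b) R) (e + 1)
  have hz' : Subsingleton (LocCoh.H I (e + 1) (LocalizedModule (Submonoid.powers b) R)) :=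
    φ.toEquiv.symm.subsingleton
  refine subsingleton_of_forall_eq 0 fun x => ?_
  obtain ⟨y, rfl⟩ := ((loc_sequence I b R (e + 1)).1 x).1 (hz'.elim _ _)
  exact (congrArg _ (h.elim y 0)).trans (map_zero _)

omit [IsNoetherianRing R] [IsLocalRing R] in
lemma subsingleton_H_of_radical_eq [IsNoetherianRing R] {I J : Ideal R} (h : I.radical = J.radical)
    (i : ℕ) (M : Type u) [AddCommGroup M] [Module R M] (hJ : Subsingleton (LocCoh.H J i M)) :
    Subsingleton (LocCoh.H I i M) :=
  ((localCohomology.isoOfSameRadical h i).app (ModuleCat.of R M)).toLinearEquiv.toEquiv.subsingleton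

omit [IsNoetherianRing R] in
lemma ringKrullDim_quotient_pos_iff (I : Ideal R) :
    0 < ringKrullDim (R ⧸ I) ↔
      ∃ Q : Ideal R, Q.IsPrime ∧ I ≤ Q ∧ Q ≠ IsLocalRing.maximalIdeal R := by
  rw [ringKrullDim_quotient]
  constructor
  · intro h
    obtain ⟨p, q, hpq⟩ := Order.krullDim_pos_iff.1 h
    refine ⟨p.1.asIdeal, p.1.2, p.2, fun e => ?_⟩
    exact (IsLocalRing.maximalIdeal.isMaximal R).1.2 _ (e ▸ (show p.1.asIdeal < q.1.asIdeal from hpq))
      |> q.1.2.ne_top
  · rintro ⟨Q, hQ, hIQ, hne⟩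
    exact Order.krullDim_pos_iff.2 ⟨⟨⟨Q, hQ⟩, hIQ⟩,
      ⟨IsLocalRing.closedPoint R, hIQ.trans (IsLocalRing.le_maximalIdeal hQ.ne_top)⟩,
      (show Q < IsLocalRing.maximalIdeal R from
        lt_of_le_of_ne (IsLocalRing.le_maximalIdeal hQ.ne_top) hne)⟩

/-- Top local cohomology vanishes for all positive-dimensional ideals as soon as it does for primes
of coheight one. -/
theorem top_vanish_of_primes (hd : ringKrullDim R = (d : WithBot ℕ∞))
    (h : ∀ (p : Ideal R) [p.IsPrime], ringKrullDim (R ⧸ p) = 1 → Subsingleton (LocCoh.H p d R)) :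
    ∀ I : Ideal R, 0 < ringKrullDim (R ⧸ I) → Subsingleton (LocCoh.H I d R) := by
  intro I
  induction I using WellFoundedGT.induction with
  | _ I ih =>
  intro hI
  obtain ⟨Q, hQ, hIQ, hQne⟩ := (ringKrullDim_quotient_pos_iff I).1 hI
  have hd0 : 0 < d := by
    have h1 := hI.trans_le ((ringKrullDim_quotient_le I).trans hd.le)
    exact_mod_cast h1
  have step : ∀ P : Ideal R, P.IsPrime → I ≤ P → P ≠ IsLocalRing.maximalIdeal R →
      ¬ P ≤ I.radical → Subsingleton (LocCoh.H I d R) := by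
    intro P hP hIP hPne hnot
    obtain ⟨b, hbP, hb⟩ := SetLike.not_le_iff_exists.1 hnot
    refine subsingleton_H_of_sup_span hd.le hd0 I (IsLocalRing.le_maximalIdeal hP.ne_top hbP) ?_
    refine ih _ (lt_of_le_of_ne le_sup_left fun e => hb ?_) ?_
    · exact Ideal.le_radical (e ▸ Submodule.mem_sup_right (Ideal.mem_span_singleton_self b) : b ∈ I)
    · exact (ringKrullDim_quotient_pos_iff _).2
        ⟨P, hP, sup_le hIP ((Ideal.span_singleton_le_iff_mem _).2 hbP), hPne⟩
  by_cases hQr : Q ≤ I.radical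
  · have heq : I.radical = Q := le_antisymm (hQ.radical_le_iff.2 hIQ) hQr
    by_cases h1 : ringKrullDim (R ⧸ Q) = 1
    · exact subsingleton_H_of_radical_eq (heq.trans hQ.radical.symm) d R (h Q h1)
    · have hpos : (0 : WithBot ℕ∞) < ringKrullDim (R ⧸ Q) :=
        (ringKrullDim_quotient_pos_iff Q).2 ⟨Q, hQ, le_rfl, hQne⟩
      obtain ⟨Q', hQ', hlt, hne'⟩ : ∃ Q' : Ideal R, Q'.IsPrime ∧ Q < Q' ∧
          Q' ≠ IsLocalRing.maximalIdeal R := by
        by_contra hcon
        push Not at hcon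
        refine h1 (le_antisymm ?_ ?_)
        · rw [ringKrullDim_quotient]
          refine iSup_le fun l => ?_
          by_contra hlen
          have h2 : 2 ≤ l.length := by
            by_contra h2
            exact hlen (WithBot.coe_le_coe.2 (Nat.cast_le.2 (by omega : l.length ≤ 1)))
          have hi : (l ⟨0, by omega⟩).1.asIdeal < (l ⟨1, by omega⟩).1.asIdeal :=
            l.strictMono (show (⟨0, by omega⟩ : Fin (l.length + 1)) < ⟨1, by omega⟩ from Nat.one_pos)
          have hj : (l ⟨1, by omega⟩).1.asIdeal < (l ⟨2, by omega⟩).1.asIdeal :=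
            l.strictMono (show (⟨1, by omega⟩ : Fin (l.length + 1)) < ⟨2, by omega⟩ from Nat.lt_succ_self 1)
          have hm := hcon _ (l ⟨1, by omega⟩).1.2 (lt_of_le_of_lt (l ⟨0, by omega⟩).2 hi)
          exact (l ⟨2, by omega⟩).1.2.ne_top
            ((IsLocalRing.maximalIdeal.isMaximal R).1.2 _ (hm ▸ hj))
        · exact Order.succ_le_of_lt hpos
      exact step Q' hQ' (hIQ.trans hlt.le) hne' fun hle => hlt.not_ge (heq ▸ hle)
  · exact step Q hQ hIQ hQne hQr

omit [IsNoetherianRing R] in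
lemma exists_between_of_dim_ne_one {Q : Ideal R} (hQ : Q.IsPrime)
    (hQne : Q ≠ IsLocalRing.maximalIdeal R) (h1 : ringKrullDim (R ⧸ Q) ≠ 1) :
    ∃ Q' : Ideal R, Q'.IsPrime ∧ Q < Q' ∧ Q' ≠ IsLocalRing.maximalIdeal R := by
  have hpos : (0 : WithBot ℕ∞) < ringKrullDim (R ⧸ Q) :=
    (ringKrullDim_quotient_pos_iff Q).2 ⟨Q, hQ, le_rfl, hQne⟩
  by_contra hcon
  push Not at hcon
  refine h1 (le_antisymm ?_ (Order.succ_le_of_lt hpos))
  rw [ringKrullDim_quotient]
  refine iSup_le fun l => ?_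
  by_contra hlen
  have h2 : 2 ≤ l.length := by
    by_contra h2
    exact hlen (WithBot.coe_le_coe.2 (Nat.cast_le.2 (by omega : l.length ≤ 1)))
  have hi : (l ⟨0, by omega⟩).1.asIdeal < (l ⟨1, by omega⟩).1.asIdeal :=
    l.strictMono (show (⟨0, by omega⟩ : Fin (l.length + 1)) < ⟨1, by omega⟩ from Nat.one_pos)
  have hj : (l ⟨1, by omega⟩).1.asIdeal < (l ⟨2, by omega⟩).1.asIdeal :=
    l.strictMono (show (⟨1, by omega⟩ : Fin (l.length + 1)) < ⟨2, by omega⟩ from Nat.lt_succ_self 1)
  have hm := hcon _ (l ⟨1, by omega⟩).1.2 (lt_of_le_of_lt (l ⟨0, by omega⟩).2 hi)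
  exact (l ⟨2, by omega⟩).1.2.ne_top
    ((IsLocalRing.maximalIdeal.isMaximal R).1.2 _ (hm ▸ hj))

/-- An ideal maximal among those with non-vanishing top cohomology and positive-dimensional quotient. -/
theorem isPrime_and_dim_one_of_maximal (hd : ringKrullDim R = (d : WithBot ℕ∞)) (p : Ideal R)
    (hp : Nontrivial (LocCoh.H p d R)) (hp' : 0 < ringKrullDim (R ⧸ p))
    (hmax : ∀ b : Ideal R, p < b → Nontrivial (LocCoh.H b d R) → ¬ 0 < ringKrullDim (R ⧸ b)) :
    p.IsPrime ∧ ringKrullDim (R ⧸ p) = 1 := by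
  obtain ⟨Q, hQ, hpQ, hQne⟩ := (ringKrullDim_quotient_pos_iff p).1 hp'
  have hd0 : 0 < d := by
    have h1 := hp'.trans_le ((ringKrullDim_quotient_le p).trans hd.le)
    exact_mod_cast h1
  have step : ∀ P : Ideal R, P.IsPrime → p ≤ P → P ≠ IsLocalRing.maximalIdeal R → P ≤ p.radical := by
    intro P hP hpP hPne
    by_contra hnot
    obtain ⟨b, hbP, hb⟩ := SetLike.not_le_iff_exists.1 hnot
    refine not_nontrivial_iff_subsingleton.2 (subsingleton_H_of_sup_span hd.le hd0 p
      (IsLocalRing.le_maximalIdeal hP.ne_top hbP) ?_) hp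
    rw [← not_nontrivial_iff_subsingleton]
    refine fun hnt => hmax _ (lt_of_le_of_ne le_sup_left fun e => hb ?_) hnt ?_
    · exact Ideal.le_radical (e ▸ Submodule.mem_sup_right (Ideal.mem_span_singleton_self b) : b ∈ p)
    · exact (ringKrullDim_quotient_pos_iff _).2
        ⟨P, hP, sup_le hpP ((Ideal.span_singleton_le_iff_mem _).2 hbP), hPne⟩
  have hrad : p.radical = Q := le_antisymm (hQ.radical_le_iff.2 hpQ) (step Q hQ hpQ hQne)
  have hpeq : p = Q := by
    by_contra hne
    refine hmax Q (lt_of_le_of_ne hpQ hne) ?_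
      ((ringKrullDim_quotient_pos_iff Q).2 ⟨Q, hQ, le_rfl, hQne⟩)
    by_contra h
    rw [not_nontrivial_iff_subsingleton] at h
    exact not_nontrivial_iff_subsingleton.2
      (subsingleton_H_of_radical_eq (hrad.trans hQ.radical.symm) d R h) hp
  subst hpeq
  refine ⟨hQ, ?_⟩
  by_contra h1
  obtain ⟨Q', hQ', hlt, hne'⟩ := exists_between_of_dim_ne_one hQ hQne h1
  exact hlt.not_ge ((step Q' hQ' hlt.le hne').trans hrad.le)

end Groth.LocCohTransform
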