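import Groth.Agent.LocCohTransform.SymbolicTop
import Groth.Agent.LocCohTransform.TopVanish
import Groth.Agent.LocCohTransform.TopTensor
import Groth.Agent.LocCohTransform.Independence
import Groth.Agent.LocCohBase.CdLocal
import Groth.Agent.Gorenstein.BaseChange
import Groth.Agent.LocDual.CompleteQuotient
import Groth.Agent.ArtfunDeform.PowerSeries
import Groth.Agent.AdicLinTop.Adic
import Groth.Agent.AdicLinTop.RigClosed
import Groth.Agent.Variety2.DimAffine
import Groth.Agent.Ega4Algebra1.RegularNormal
import Groth.Agent.S11641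

/-!
The Hartshorne–Lichtenbaum vanishing theorem for complete local domains.
-/

set_option autoImplicit false
universe u

open CategoryTheory IsLocalRing GrothGoren Groth.LocCohBase

namespace Groth.LocCohTransform.HLVT

/-- Vanishing at the ring gives vanishing at every module in the top degree. -/
theorem subsingleton_H_of_ring {A : Type u} [CommRing A] [IsNoetherianRing A] {I : Ideal A} {d : ℕ}
    (hcd : LocCoh.CdLE A I d) (h : Subsingleton (LocCoh.H I d A)) (M : Type u) [AddCommGroup M]
    [Module A M] : Subsingleton (LocCoh.H I d M) :=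
  haveI := TensorProduct.uniqueLeft (R := A) (M := LocCoh.H I d A) (N := M)
  (tensorToH_bijective I d hcd M).2.subsingleton

/-- The case of a prime of dimension one of a finite extension of a complete regular local ring. -/
theorem subsingleton_H_prime_of_regular (B A : Type u) [CommRing B] [CommRing A] [Algebra B A]
    [IsRegularLocalRing B] [IsAdicComplete (maximalIdeal B) B] [IsDomain A] [IsLocalRing A]
    [IsNoetherianRing A] [Module.Finite B A] (hinj : Function.Injective (algebraMap B A)) {d : ℕ}
    (hd : ringKrullDim A = d) (p : Ideal A) [p.IsPrime] (hp : ringKrullDim (A ⧸ p) = 1) :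
    Subsingleton (LocCoh.H p d A) := by
  classical
  haveI : IsDomain B := Groth.Ega4Algebra1.isDomain_of_isRegularLocalRing B
  haveI : IsIntegrallyClosed B := Groth.Ega4Algebra1.isIntegrallyClosed_of_isRegularLocalRing B
  haveI : Module.IsTorsionFree B A := (Module.isTorsionFree_iff_algebraMap_injective).2 hinj
  obtain ⟨b, hb⟩ := Groth.Agent.S11641.result B A hinj p hp
  let C := Algebra.adjoin B ({b} : Set A)
  have hbint : IsIntegral B b := IsIntegral.of_finite B b
  haveI : Module.Finite B C := Algebra.finite_adjoin_simple_of_isIntegral hbint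
  haveI : IsNoetherianRing C := IsNoetherianRing.of_finite B C
  haveI : Module.Finite C A := Module.Finite.of_restrictScalars_finite B C A
  haveI : Algebra.IsIntegral C A := inferInstance
  have hCA : Function.Injective (algebraMap C A) := Subtype.val_injective
  haveI : IsLocalRing C := by
    refine IsLocalRing.of_unique_max_ideal ⟨(maximalIdeal A).comap (algebraMap C A),
      Ideal.isMaximal_comap_of_isIntegral_of_isMaximal _, fun M hM => ?_⟩
    obtain ⟨Q, hQ, hQM⟩ := Ideal.exists_ideal_over_maximal_of_isIntegral M
      (S := A) (by rw [(RingHom.injective_iff_ker_eq_bot _).1 hCA]; exact bot_le)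
    rw [← hQM, IsLocalRing.eq_maximalIdeal hQ]
  have hdC : ringKrullDim C = d := by
    rw [← Groth.Variety2.Dim.ringKrullDim_eq_of_isIntegral C A hCA]
    exact hd
  have hdB : ringKrullDim B = d := by
    rw [← Groth.Variety2.Dim.ringKrullDim_eq_of_isIntegral B A hinj]
    exact hd
  -- completeness
  haveI : IsAdicComplete (maximalIdeal C) C := by
    have h1 : IsAdicComplete (maximalIdeal B) C := Groth.AdicLinTop.Adic.isAdicComplete_of_finite
    have h2 : IsAdicComplete ((maximalIdeal B).map (algebraMap B C)) C :=
      (IsAdicComplete.map_algebraMap_iff _ _).mpr h1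
    have hBC : Function.Injective (algebraMap B C) := fun x y h =>
      hinj (congrArg (fun z : C => (z : A)) h)
    have hle : (maximalIdeal B).map (algebraMap B C) ≤ maximalIdeal C := by
      refine IsLocalRing.le_maximalIdeal fun htop => ?_
      obtain ⟨Q, hQ, hQB⟩ := Ideal.exists_ideal_over_maximal_of_isIntegral (maximalIdeal B)
        (S := C) (by rw [(RingHom.injective_iff_ker_eq_bot _).1 hBC]; exact bot_le)
      exact hQ.ne_top (top_le_iff.1 (htop ▸ Ideal.map_le_iff_le_comap.2 hQB.ge))
    have hrad : maximalIdeal C ≤ ((maximalIdeal B).map (algebraMap B C)).radical := by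
      rw [Ideal.radical_eq_sInf]
      refine le_sInf fun Q ⟨hQle, hQp⟩ => ?_
      haveI := hQp
      have hmax : Q.IsMaximal := Ideal.IsIntegral.isMaximal_of_isMaximal_comap Q (by
        have h3 := Ideal.map_le_iff_le_comap.1 hQle
        rw [← (maximalIdeal.isMaximal B).eq_of_le (Ideal.IsPrime.ne_top inferInstance) h3]
        exact maximalIdeal.isMaximal B)
      rw [IsLocalRing.eq_maximalIdeal hmax]
    obtain ⟨N, hN⟩ := Ideal.exists_pow_le_of_le_radical_of_fg hrad (IsNoetherian.noetherian _)
    exact Groth.AdicLinTop.RigClosed.isAdicComplete_of_pow_le hle hN C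
  -- the Gorenstein property
  have hgor : ∃ n, InjLT C C n := by
    obtain ⟨k, hk⟩ := exists_injLT_of_regular _ B le_rfl
    haveI : LocCoh.IsGorensteinRing B := (isGorensteinRing_and_dim hk).1
    haveI := isGorensteinRing_polynomial B
    have hreg : IsSMulRegular (Polynomial B) (minpoly B b) :=
      IsSMulRegular.of_ne_zero (minpoly.ne_zero hbint)
    haveI := isGorensteinRing_quotient_span hreg
    let φ : Polynomial B →ₐ[B] C := (Polynomial.aeval b).codRestrict C fun q =>
      (Algebra.adjoin_singleton_eq_range_aeval B b).ge ⟨q, rfl⟩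
    have hφ : Function.Surjective φ := fun z => by
      obtain ⟨q, hq⟩ := (Algebra.adjoin_singleton_eq_range_aeval B b).le z.2
      exact ⟨q, Subtype.ext hq⟩
    have hker : RingHom.ker φ.toRingHom = Ideal.span {minpoly B b} := by
      rw [← minpoly.ker_eval hbint]
      ext q
      exact ⟨fun h => congrArg Subtype.val h, fun h => Subtype.ext h⟩
    haveI := isGorensteinRing_of_ringEquiv
      ((Ideal.quotEquivOfEq hker.symm).trans (RingHom.quotientKerEquivOfSurjective hφ))
    exact ⟨_, exists_injLT_of_isGorensteinRing (R := C) hdC.le⟩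
  -- descend the prime
  let p' := p.comap (algebraMap C A)
  have hp' : ringKrullDim (C ⧸ p') = 1 := by
    rw [← hp]
    exact (Groth.Variety2.Dim.ringKrullDim_eq_of_isIntegral (C ⧸ p') (A ⧸ p)
      Ideal.algebraMap_quotient_injective).symm
  have hrad : (p'.map (algebraMap C A)).radical = p.radical := by
    refine le_antisymm (Ideal.radical_mono Ideal.map_comap_le) ?_
    rw [Ideal.IsPrime.radical (inferInstance : p.IsPrime)]
    refine hb.ge.trans (Ideal.radical_mono (Ideal.span_le.2 ?_))
    rintro z ⟨hz, hzC⟩
    exact Ideal.mem_map_of_mem (algebraMap C A) (show (⟨z, hzC⟩ : C) ∈ p' from hz)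
  haveI : IsDomain C := hCA.isDomain (algebraMap C A)
  have hC := subsingleton_H_gorenstein hgor hdC p' hp'
  have hA := subsingleton_H_of_ring (cdLE_of_dim_le_local p' d hdC.le) hC A
  obtain ⟨ψ, -⟩ := exists_restrict_addEquiv (R' := A) p' A d
  exact subsingleton_H_of_radical_eq hrad.symm d A ψ.toEquiv.subsingleton

/-- Hartshorne–Lichtenbaum for a complete local domain. -/
theorem subsingleton_H_domain (A : Type u) [CommRing A] [IsDomain A] [IsLocalRing A]
    [IsNoetherianRing A] [IsAdicComplete (maximalIdeal A) A] {d : ℕ} (hd : ringKrullDim A = d)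
    (I : Ideal A) (hI : 0 < ringKrullDim (A ⧸ I)) : Subsingleton (LocCoh.H I d A) := by
  refine top_vanish_of_primes hd (fun p _ hp => ?_) I hI
  obtain ⟨Λ, _, n, f, hcase, hinj, hfin, -⟩ := Calg2.CompleteStructure.exists_finite_injective A
  obtain ⟨hreg, hcomp⟩ : Nonempty (IsRegularLocalRing Λ) ∧
      ∀ [IsLocalRing Λ], IsAdicComplete (maximalIdeal Λ) Λ := by
    rcases hcase with hF | ⟨hdom, hdvr, hc, -⟩
    · letI := hF.toField
      refine ⟨⟨inferInstance⟩, fun {_} => ?_⟩
      rw [IsLocalRing.maximalIdeal_eq_bot]
      infer_instance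
    · exact ⟨⟨inferInstance⟩, fun {_} => hc⟩
  obtain ⟨hreg⟩ := hreg
  haveI := hreg
  haveI : IsAdicComplete (maximalIdeal Λ) Λ := hcomp
  haveI := Groth.LocDual.isRegularLocalRing_mvPowerSeries Λ n
  haveI : IsAdicComplete (maximalIdeal (MvPowerSeries (Fin n) Λ)) (MvPowerSeries (Fin n) Λ) :=
    Groth.ArtfunDeform.isAdicComplete_ps
  letI := f.toAlgebra
  haveI : Module.Finite (MvPowerSeries (Fin n) Λ) A := hfin
  exact subsingleton_H_prime_of_regular (MvPowerSeries (Fin n) Λ) A hinj hd p hp

end Groth.LocCohTransform.HLVT
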