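import Groth.Agent.LocCohTransform.HomCompletionTri
import Groth.Agent.DAlg.DerCompKoszul
import Groth.Agent.Misc4.QCohTildeD
import Groth.Agent.QCohMod.Coherent

/-!
Sections over an affine open of the derived completion of an object with coherent cohomology.
-/

set_option autoImplicit false
set_option linter.style.haveILetI false
set_option linter.unusedSectionVars false
set_option backward.defeqAttrib.useBackward true
set_option backward.isDefEq.respectTransparency false
set_option synthInstance.maxHeartbeats 400000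
set_option maxHeartbeats 2000000

universe u

open CategoryTheory CategoryTheory.Limits CategoryTheory.Pretriangulated AlgebraicGeometry TopologicalSpace Opposite
open Groth.Misc4.DerivedLift (S0)

attribute [local instance] HasDerivedCategory.standard

namespace Groth.LocCohTransform.HomCompletion

open Groth.DAlg.DerCompKoszul Groth.DAlg.SiteTorsion
open Groth.DAlg Groth.DAlg.TelescopeHom

variable {X : Scheme.{u}} {V : X.Opens}

/-- Sections over an affine open only see cohomology in degree zero. -/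
theorem eq_zero_free (hV : IsAffineOpen V) (E : DerivedCategory (ModSite.Mod X.sheaf))
    (hE : WSerre.cohIn (Groth.Misc4.QCohCd.qc X) E) (m : ℤ)
    (hm : IsZero ((DerivedCategory.homologyFunctor (ModSite.Mod X.sheaf) m).obj E))
    (φ : S0.obj (ModSite.freeOn X.sheaf V) ⟶ E⟦m⟧) : φ = 0 := by
  haveI : HasExt.{u} (ModSite.Mod X.sheaf) := hasExt_of_enoughInjectives _
  haveI := Groth.Misc4.RpushTrunc.hasProduct_nat X.sheaf (CohCx.truncTower E)
  have hsub : ∀ (F : ModSite.Mod X.sheaf), Groth.Misc4.QCohCd.qc X F → ∀ k : ℕ, 0 < k →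
      Subsingleton (Abelian.Ext (ModSite.freeOn X.sheaf V) F k) := fun F hF k hk => by
    obtain ⟨k, rfl⟩ := Nat.exists_eq_succ_of_ne_zero (show k ≠ 0 by omega)
    haveI : Subsingleton (ModSite.HU X.sheaf F (k + 1) V) := @Groth.CohBase.hVanish_of_isAffineOpen X F hF _ hV k
    exact Groth.Misc4.ExtFree.subsingleton_ext_freeOn _ F _
  have hL := Groth.Misc4.RpushTrunc.isRlimVia E (Groth.Misc4.QCohCd.qc X) {U | IsAffineOpen U} (fun U => by
      obtain ⟨ι, Y, g, -, hY, hB⟩ := Groth.Misc4.QCohCd.exists_affine_cover U ⊤ (GrothendieckTopology.top_mem _ _)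
      exact ⟨ι, Y, g, hY, hB⟩)
    (fun U _ => ⟨0, fun T hT => by
      obtain ⟨ι, Y, g, hg, hY, hB⟩ := Groth.Misc4.QCohCd.exists_affine_cover U T hT
      refine ⟨ι, Y, g, hg, hY, fun i F hF k hk => ?_⟩
      obtain ⟨k, rfl⟩ := Nat.exists_eq_succ_of_ne_zero (show k ≠ 0 by omega)
      exact @Groth.CohBase.hVanish_of_isAffineOpen X F hF _ (hB i) k⟩) hE
  let N : ℕ := (-m).toNat + 1
  have hb := Groth.Misc4.RlimEventual.bijective_of_eventually hL (S0.obj (ModSite.freeOn X.sheaf V)) m N
    (fun n hn => Groth.Misc4.RlimTrunc.bijective_map E (ModSite.freeOn X.sheaf V) n m fun k hk =>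
      hsub _ (hE _) k (by omega))
    (fun n hn => (Groth.Misc4.RlimTrunc.bijective_map E (ModSite.freeOn X.sheaf V) n (m - 1) fun k hk =>
      hsub _ (hE _) k (by omega)).2) N le_rfl
  refine hb.1 ?_
  show φ ≫ _ = (0 : _ ⟶ _) ≫ _
  rw [zero_comp]
  have hge : (CohCx.truncTower E N).IsGE (-(N : ℤ)) :=
    inferInstanceAs (DerivedCategory.TStructure.t.IsGE _ _)
  have hP : WSerre.cohInPlus (Groth.Misc4.QCohCd.qc X) (CohCx.truncTower E N) :=
    ⟨fun q => by
      by_cases h : -(N : ℤ) ≤ q
      · haveI := Groth.Misc4.RlimTrunc.isIso_homology_toTrunc E N q h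
        exact (Groth.Misc4.QCohCd.qc X).prop_of_iso
          (asIso ((DerivedCategory.homologyFunctor _ q).map (CohCx.toTruncTower E N))) (hE q)
      · exact (Groth.Misc4.QCohCd.qc X).prop_of_isZero
          (DerivedCategory.isZero_of_isGE _ (-(N : ℤ)) q (by omega)),
    ⟨_, hge⟩⟩
  refine Groth.Misc4.RlimVanish.eq_zero_of_window (Groth.Misc4.QCohCd.qc X) (d := 0)
    (fun F hF k hk => hsub F hF k hk)
    (Groth.Misc4.RlimVanish.cohInPlus_shift (Groth.Misc4.QCohCd.qc X) hP m) (fun q h1 h2 => ?_) _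
  obtain rfl : q = 0 := by omega
  haveI := Groth.Misc4.RlimTrunc.isIso_homology_toTrunc E N m (by omega)
  exact (hm.of_iso (asIso ((DerivedCategory.homologyFunctor _ m).map (CohCx.toTruncTower E N))).symm).of_iso
    (Groth.Misc4.RlimVanish.hShift _ m 0 m (add_zero m))

/-- The unit module on the localised site, in degree zero. -/
noncomputable abbrev U₀ (V : X.Opens) : DerivedCategory (ModSite.Mod (X.sheaf.over V)) :=
  S0.obj (ModSite.unit (X.sheaf.over V))

/-- Maps out of the unit on the localised site are maps out of the free module on the open. -/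
theorem orth_unit_iff (E : DerivedCategory (ModSite.Mod X.sheaf)) :
    (∀ φ : U₀ V ⟶ (dRestr V).obj E, φ = 0) ↔ ∀ φ : S0.obj (ModSite.freeOn X.sheaf V) ⟶ E, φ = 0 := by
  obtain ⟨a⟩ := nonempty_extRestrAdj (O := X.sheaf) V
  let e : (dExt V).obj (U₀ V) ≅ S0.obj (ModSite.freeOn X.sheaf V) :=
    (ModSite.extZero X.sheaf V).mapDerivedCategoryFactors.app _ ≪≫ DerivedCategory.Q.mapIso
      ((HomologicalComplex.singleMapHomologicalComplex (ModSite.extZero X.sheaf V) (ComplexShape.up ℤ) 0).app _)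
  haveI : (dRestr (O := X.sheaf) V).Additive := a.right_adjoint_additive
  constructor
  · intro h φ
    rw [← cancel_epi e.hom, comp_zero]
    refine (a.homEquiv _ _).injective ?_
    exact (h _).trans (h _).symm
  · intro h φ
    refine (a.homEquiv _ _).symm.injective ?_
    rw [← cancel_epi e.inv]
    exact (h _).trans (h _).symm

/-- Global sections of the localised site are sections over the open. -/
noncomputable def ofSectEquiv (V : X.Opens) : Γ(X, V) ≃+* DerComp.GSec (X.sheaf.over V) where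
  toFun f := DerComp.GSec.ofSect X.sheaf V f
  invFun s := s.1 (Over.mk (𝟙 V))
  left_inv f := by
    show (X.sheaf.obj.map (𝟙 V).op).hom f = f
    simp
  right_inv s := Subtype.ext (funext fun W =>
    s.2 (Over.homMk (U := W) (V := Over.mk (𝟙 V)) W.hom (Category.comp_id _)))
  map_mul' f g := Subtype.ext (funext fun W => map_mul (X.sheaf.obj.map W.hom.op).hom f g)
  map_add' f g := Subtype.ext (funext fun W => map_add (X.sheaf.obj.map W.hom.op).hom f g)

theorem isNoetherianRing_gsec [IsLocallyNoetherian X] (hV : IsAffineOpen V) :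
    IsNoetherianRing (DerComp.GSec (X.sheaf.over V)) :=
  haveI : IsNoetherianRing Γ(X, V) := IsLocallyNoetherian.component_noetherian ⟨V, hV⟩
  isNoetherianRing_of_ringEquiv _ (ofSectEquiv V)

/-- Morphisms from the unit to a coherent module on the localised site form a finite module. -/
theorem finite_hom_coh (hV : IsAffineOpen V) (H : X.Modules) (hH : Coh.IsCoh H) :
    Module.Finite (DerComp.GSec (X.sheaf.over V))
      (ModSite.unit (X.sheaf.over V) ⟶ (ModSite.restr X.sheaf V).obj H) := by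
  classical
  have hfin : Module.Finite Γ(X, V) Γ(H, V) := ((Groth.QCohMod.isCoh_iff H).1 hH).2 V hV
  obtain ⟨S, hS⟩ := hfin
  let M : ModSite.Mod X.sheaf := H
  let e : (ModSite.unit (X.sheaf.over V) ⟶ (ModSite.restr X.sheaf V).obj M) ≃ Groth.SitesTopoi.ModH.sc M.val V :=
    ((ModSite.restr X.sheaf V).obj M).unitHomEquiv.trans (Groth.Misc4.FreeOn.sectionsOverEquiv M V)
  have e_add : ∀ φ ψ, e (φ + ψ) = e φ + e ψ := fun φ ψ => rfl
  have e_zero : e 0 = 0 := rfl
  have e_smul : ∀ (g : Γ(X, V)) φ,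
      e (DerComp.GSec.ofSect X.sheaf V g • φ) = (g : Groth.SitesTopoi.ModH.rsec X.sheaf V) • e φ := fun g φ => by
    rw [DerComp.smul_def, DerComp.smulEnd_comm]
    show (X.sheaf.obj.map (𝟙 V).op).hom g • e φ = _
    simp
  refine ⟨⟨S.image e.symm, ?_⟩⟩
  rw [eq_top_iff]
  intro φ _
  have hmem : ∀ x : Γ(H, V), x ∈ Submodule.span Γ(X, V) (S : Set Γ(H, V)) →
      e.symm x ∈ Submodule.span (DerComp.GSec (X.sheaf.over V)) ((S.image e.symm : Finset _) : Set _) := by
    intro x hx
    induction hx using Submodule.span_induction with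
    | mem y hy => exact Submodule.subset_span (Finset.mem_coe.2 (Finset.mem_image_of_mem _ hy))
    | zero =>
      rw [show e.symm (0 : Γ(H, V)) = 0 from e.injective ((e.apply_symm_apply _).trans e_zero.symm)]
      exact Submodule.zero_mem _
    | add y z _ _ hy hz =>
      rw [show e.symm (y + z) = e.symm y + e.symm z from e.injective (by
        rw [e_add]
        exact (e.apply_symm_apply _).trans (congrArg₂ (· + ·) (e.apply_symm_apply y).symm
          (e.apply_symm_apply z).symm))]
      exact Submodule.add_mem _ hy hz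
    | smul g y _ hy =>
      rw [show e.symm (g • y) = DerComp.GSec.ofSect X.sheaf V g • e.symm y from e.injective (by
        rw [e_smul]
        exact (e.apply_symm_apply _).trans
          (congrArg (fun t : Γ(H, V) => g • t) (e.apply_symm_apply y).symm))]
      exact Submodule.smul_mem _ _ hy
  have := hmem (e φ) (hS ▸ Submodule.mem_top)
  rwa [e.symm_apply_apply] at this

/-- The first map of a triangle is an isomorphism on cohomology where the third object has none. -/
theorem isIso_mor₁ {C : Type*} [Category C] [Abelian C] [HasDerivedCategory C] {T : Triangle (DerivedCategory C)}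
    (hT : T ∈ distTriang _) (i : ℤ) (h₀ : IsZero ((DerivedCategory.homologyFunctor C (i - 1)).obj T.obj₃))
    (h₁ : IsZero ((DerivedCategory.homologyFunctor C i).obj T.obj₃)) :
    IsIso ((DerivedCategory.homologyFunctor C i).map T.mor₁) := by
  haveI : Epi ((DerivedCategory.homologyFunctor C i).map T.mor₁) :=
    (DerivedCategory.HomologySequence.exact₂ T hT i).epi_f (h₁.eq_of_tgt _ _)
  haveI : Mono ((DerivedCategory.homologyFunctor C i).map T.mor₁) :=
    (DerivedCategory.HomologySequence.exact₁ T hT (i - 1) i (by omega)).mono_g (h₀.eq_of_src _ _)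
  exact isIso_of_mono_of_epi _

/-- The second map of a triangle is an isomorphism on cohomology where the first object has none. -/
theorem isIso_mor₂ {C : Type*} [Category C] [Abelian C] [HasDerivedCategory C] {T : Triangle (DerivedCategory C)}
    (hT : T ∈ distTriang _) (i : ℤ) (h₀ : IsZero ((DerivedCategory.homologyFunctor C i).obj T.obj₁))
    (h₁ : IsZero ((DerivedCategory.homologyFunctor C (i + 1)).obj T.obj₁)) :
    IsIso ((DerivedCategory.homologyFunctor C i).map T.mor₂) := by
  haveI : Epi ((DerivedCategory.homologyFunctor C i).map T.mor₂) :=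
    (DerivedCategory.HomologySequence.exact₃ T hT i (i + 1) rfl).epi_f (h₁.eq_of_tgt _ _)
  haveI : Mono ((DerivedCategory.homologyFunctor C i).map T.mor₂) :=
    (DerivedCategory.HomologySequence.exact₂ T hT i).mono_g (h₀.eq_of_src _ _)
  exact isIso_of_mono_of_epi _

theorem hom_eq_zero_of_isZero (hV : IsAffineOpen V) (E : DerivedCategory (ModSite.Mod X.sheaf))
    (hE : WSerre.cohIn (Groth.Misc4.QCohCd.qc X) E)
    (h0 : IsZero ((DerivedCategory.homologyFunctor (ModSite.Mod X.sheaf) 0).obj E))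
    (φ : U₀ V ⟶ (dRestr V).obj E) : φ = 0 :=
  (orth_unit_iff E).2 (fun φ => by
    rw [← cancel_mono ((shiftFunctorZero (DerivedCategory (ModSite.Mod X.sheaf)) ℤ).inv.app E), zero_comp]
    exact eq_zero_free hV E hE 0 h0 _) φ

/-- Finiteness for an object concentrated in degree zero. -/
theorem finite_hom_single [IsLocallyNoetherian X] (hV : IsAffineOpen V) (E : DerivedCategory (ModSite.Mod X.sheaf))
    [E.IsGE 0] [E.IsLE 0]
    (hE : Coh.IsCoh (X := X) ((DerivedCategory.homologyFunctor (ModSite.Mod X.sheaf) 0).obj E)) :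
    Module.Finite (DerComp.GSec (X.sheaf.over V)) (U₀ V ⟶ (dRestr V).obj E) := by
  obtain ⟨H, ⟨e⟩⟩ := DerivedCategory.exists_iso_singleFunctor_obj_of_isGE_of_isLE E 0
  have hH : Coh.IsCoh (X := X) H := Groth.QCohMod.isCoh_of_iso
    ((DerivedCategory.homologyFunctor _ 0).mapIso e ≪≫
      (DerivedCategory.singleFunctorCompHomologyFunctorIso _ 0).app H) hE
  haveI := finite_hom_coh hV H hH
  let F := DerivedCategory.singleFunctor (ModSite.Mod (X.sheaf.over V)) 0
  haveI : Module.Finite (DerComp.GSec (X.sheaf.over V))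
      (F.obj (ModSite.unit (X.sheaf.over V)) ⟶ (ModSite.restr X.sheaf V ⋙ F).obj H) :=
    Module.Finite.of_surjective
      ({ toFun := fun f => F.map f
         map_add' := fun a b => F.map_add
         map_smul' := fun a b => F.map_smul a b } :
        (ModSite.unit (X.sheaf.over V) ⟶ (ModSite.restr X.sheaf V).obj H) →ₗ[DerComp.GSec (X.sheaf.over V)]
          (F.obj (ModSite.unit (X.sheaf.over V)) ⟶ F.obj ((ModSite.restr X.sheaf V).obj H)))
      F.map_surjective
  exact Module.Finite.equiv (Linear.homCongr (DerComp.GSec (X.sheaf.over V))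
    ((DerivedCategory.singleFunctorIsoCompQ _ 0).app _)
    ((((dRestr (O := X.sheaf) V).mapIso e) ≪≫
      ((ModSite.restr X.sheaf V).mapDerivedCategorySingleFunctor 0).app H).symm))

/-- Finiteness for an object without positive cohomology. -/
theorem finite_hom_isLE [IsLocallyNoetherian X] (hV : IsAffineOpen V) (E : DerivedCategory (ModSite.Mod X.sheaf))
    [E.IsLE 0] (hqc : WSerre.cohIn (Groth.Misc4.QCohCd.qc X) E)
    (hE : Coh.IsCoh (X := X) ((DerivedCategory.homologyFunctor (ModSite.Mod X.sheaf) 0).obj E)) :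
    Module.Finite (DerComp.GSec (X.sheaf.over V)) (U₀ V ⟶ (dRestr V).obj E) := by
  haveI := isNoetherianRing_gsec hV
  let t : Triangulated.TStructure (DerivedCategory (ModSite.Mod X.sheaf)) := DerivedCategory.TStructure.t
  let T := (t.triangleLTGE 0).obj E
  have hT : T ∈ distTriang _ := t.triangleLTGE_distinguished 0 E
  haveI h₁ : T.obj₁.IsLE (-1) := t.isLE_truncLT_obj E 0 (-1) (by omega)
  haveI h₃ : T.obj₃.IsGE 0 := t.isGE_truncGE_obj E 0 0 le_rfl
  have hz1 : ∀ i : ℤ, 0 ≤ i → IsZero ((DerivedCategory.homologyFunctor _ i).obj T.obj₁) := fun i hi =>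
    DerivedCategory.isZero_of_isLE _ (-1) i (by omega)
  haveI : T.obj₃.IsLE 0 := (DerivedCategory.isLE_iff _ _).2 fun i hi =>
    (DerivedCategory.HomologySequence.exact₃ T hT i (i + 1) rfl).isZero_of_both_zeros
      ((DerivedCategory.isZero_of_isLE E 0 i hi).eq_of_src _ _) ((hz1 (i + 1) (by omega)).eq_of_tgt _ _)
  have hqc1 : WSerre.cohIn (Groth.Misc4.QCohCd.qc X) T.obj₁ := fun i => by
    rcases le_or_gt i (-1) with hi | hi
    · haveI := isIso_mor₁ hT i (DerivedCategory.isZero_of_isGE T.obj₃ 0 (i - 1) (by omega))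
        (DerivedCategory.isZero_of_isGE T.obj₃ 0 i (by omega))
      exact (Groth.Misc4.QCohCd.qc X).prop_of_iso
        (asIso ((DerivedCategory.homologyFunctor _ i).map T.mor₁)).symm (hqc i)
    · exact (Groth.Misc4.QCohCd.qc X).prop_of_isZero (hz1 i (by omega))
  haveI hiso := isIso_mor₂ hT 0 (hz1 0 le_rfl) (hz1 1 (by omega))
  have hF := finite_hom_single hV T.obj₃ (Groth.QCohMod.isCoh_of_iso
    (@asIso _ _ _ _ ((DerivedCategory.homologyFunctor (ModSite.Mod X.sheaf) 0).map T.mor₂) hiso) hE)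
  let T₁ := (dRestr (O := X.sheaf) V).mapTriangle.obj T
  have hT₁ : T₁ ∈ distTriang _ := (dRestr (O := X.sheaf) V).map_distinguished _ hT
  haveI : Module.Finite (DerComp.GSec (X.sheaf.over V)) (U₀ V ⟶ T₁.obj₃) := hF
  refine Module.Finite.of_injective (Linear.rightComp (DerComp.GSec (X.sheaf.over V)) (U₀ V) T₁.mor₂)
    ((injective_iff_map_eq_zero _).2 fun φ hφ => ?_)
  obtain ⟨g, hg⟩ := Triangle.coyoneda_exact₂ _ hT₁ φ hφ
  rw [hg, show g = 0 from hom_eq_zero_of_isZero hV _ hqc1 (hz1 0 le_rfl) g]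
  exact zero_comp

/-- Morphisms from the unit to the restriction of an object with coherent cohomology form finite modules. -/
theorem finite_hom_dRestr [IsLocallyNoetherian X] (hV : IsAffineOpen V) (K : DerivedCategory (ModSite.Mod X.sheaf))
    (hK : ∀ q : ℤ, Coh.IsCoh (X := X) ((DerivedCategory.homologyFunctor (ModSite.Mod X.sheaf) q).obj K)) (q : ℤ) :
    Module.Finite (DerComp.GSec (X.sheaf.over V)) (U₀ V ⟶ ((dRestr V).obj K)⟦q⟧) := by
  haveI := isNoetherianRing_gsec hV
  let K' : DerivedCategory (ModSite.Mod X.sheaf) := K⟦q⟧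
  have hK' : ∀ i : ℤ, Coh.IsCoh (X := X) ((DerivedCategory.homologyFunctor (ModSite.Mod X.sheaf) i).obj K') :=
    fun i => Groth.QCohMod.isCoh_of_iso (Groth.Misc4.RlimVanish.hShift K q i _ rfl).symm (hK _)
  suffices h : Module.Finite (DerComp.GSec (X.sheaf.over V)) (U₀ V ⟶ (dRestr V).obj K') by
    haveI : Module.Finite (DerComp.GSec (X.sheaf.over V))
        (U₀ V ⟶ (shiftFunctor (DerivedCategory (ModSite.Mod X.sheaf)) q ⋙ dRestr V).obj K) := h
    exact Module.Finite.equiv (Linear.homCongr (DerComp.GSec (X.sheaf.over V)) (Iso.refl _)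
      (((dRestr (O := X.sheaf) V).commShiftIso q).app K))
  let t : Triangulated.TStructure (DerivedCategory (ModSite.Mod X.sheaf)) := DerivedCategory.TStructure.t
  let T := (t.triangleLTGE 1).obj K'
  have hT : T ∈ distTriang _ := t.triangleLTGE_distinguished 1 K'
  haveI h₁ : T.obj₁.IsLE 0 := t.isLE_truncLT_obj K' 1 0 (by omega)
  haveI h₃ : T.obj₃.IsGE 1 := t.isGE_truncGE_obj K' 1 1 le_rfl
  have hz3 : ∀ i : ℤ, i ≤ 0 → IsZero ((DerivedCategory.homologyFunctor _ i).obj T.obj₃) := fun i hi =>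
    DerivedCategory.isZero_of_isGE _ 1 i (by omega)
  have hcoh1 : ∀ i : ℤ, i ≤ 0 → Coh.IsCoh (X := X) ((DerivedCategory.homologyFunctor _ i).obj T.obj₁) :=
    fun i hi => by
      haveI hiso := isIso_mor₁ hT i (hz3 (i - 1) (by omega)) (hz3 i hi)
      exact Groth.QCohMod.isCoh_of_iso
        (@asIso _ _ _ _ ((DerivedCategory.homologyFunctor (ModSite.Mod X.sheaf) i).map T.mor₁) hiso).symm (hK' i)
  have hqc1 : WSerre.cohIn (Groth.Misc4.QCohCd.qc X) T.obj₁ := fun i => by
    rcases le_or_gt i 0 with hi | hi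
    · exact (hcoh1 i hi).1
    · exact (Groth.Misc4.QCohCd.qc X).prop_of_isZero (DerivedCategory.isZero_of_isLE _ 0 i hi)
  have hF := finite_hom_isLE hV T.obj₁ hqc1 (hcoh1 0 le_rfl)
  let T₂ := (dRestr (O := X.sheaf) V).mapTriangle.obj T
  have hT₂ : T₂ ∈ distTriang _ := (dRestr (O := X.sheaf) V).map_distinguished _ hT
  haveI : Module.Finite (DerComp.GSec (X.sheaf.over V)) (U₀ V ⟶ T₂.obj₁) := hF
  refine Module.Finite.of_surjective (Linear.rightComp (DerComp.GSec (X.sheaf.over V)) (U₀ V) T₂.mor₁) fun φ => ?_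
  have h0 : φ ≫ T₂.mor₂ = 0 := by
    refine hom_eq_zero_of_isZero hV T.obj₃ (fun i => ?_) (hz3 0 le_rfl) _
    rcases le_or_gt i 0 with hi | hi
    · exact (Groth.Misc4.QCohCd.qc X).prop_of_isZero (hz3 i hi)
    · haveI hiso := isIso_mor₂ hT i (DerivedCategory.isZero_of_isLE T.obj₁ 0 i hi)
        (DerivedCategory.isZero_of_isLE T.obj₁ 0 (i + 1) (by omega))
      exact (Groth.Misc4.QCohCd.qc X).prop_of_iso
        (@asIso _ _ _ _ ((DerivedCategory.homologyFunctor (ModSite.Mod X.sheaf) i).map T.mor₂) hiso) (hK' i).1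
  obtain ⟨g, hg⟩ := Triangle.coyoneda_exact₂ _ hT₂ φ h0
  exact ⟨g, hg.symm⟩

/-- Sections over an affine open of the derived completion are completions of sections. -/
theorem main [IsLocallyNoetherian X] (hV : IsAffineOpen V) (𝓘 : DerComp.IdealSh X.sheaf)
    [DerComp.HasDerCompletion X.sheaf 𝓘] (l : List (X.sheaf.obj.obj (op V))) (hl : Gen 𝓘 V l)
    (K : DerivedCategory (ModSite.Mod X.sheaf))
    (hK : ∀ q : ℤ, Coh.IsCoh (X := X) ((DerivedCategory.homologyFunctor (ModSite.Mod X.sheaf) q).obj K)) (n : ℤ) :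
    Good (Ideal.span {t | ∃ a ∈ l, DerComp.GSec.ofSect X.sheaf V a = t})
      (Linear.rightComp (DerComp.GSec (X.sheaf.over V)) (U₀ V)
          (((dRestr (O := X.sheaf) V).map (DerComp.toDerCompletion 𝓘 K))⟦n⟧') :
        (U₀ V ⟶ ((dRestr V).obj K)⟦n⟧) →ₗ[DerComp.GSec (X.sheaf.over V)]
          (U₀ V ⟶ ((dRestr V).obj ((DerComp.derCompletion X.sheaf 𝓘).obj K).obj)⟦n⟧)) := by
  classical
  haveI := isNoetherianRing_gsec hV
  let c := DerComp.GSec.ofSect X.sheaf V
  let s : Finset (DerComp.GSec (X.sheaf.over V)) := (l.map c).toFinset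
  have hsl : ∀ t, t ∈ s ↔ ∃ a ∈ l, c a = t := fun t => by simp [s, c]
  have hset : (s : Set (DerComp.GSec (X.sheaf.over V))) = {t | ∃ a ∈ l, DerComp.GSec.ofSect X.sheaf V a = t} :=
    Set.ext hsl
  obtain ⟨D, b, d, hT⟩ := distinguished_cocone_triangle (DerComp.toDerCompletion 𝓘 K)
  have hD : Ct 𝓘 D := ct_cone 𝓘 K D b d hT
  obtain ⟨D₀, ⟨eD⟩⟩ : ∃ D₀, Nonempty (DerivedCategory.Q.obj D₀ ≅ D) := ⟨_, ⟨DerivedCategory.Q.objObjPreimageIso D⟩⟩
  have hDo : Ct 𝓘 (DerivedCategory.Q.obj D₀) := fun Z hZ => (hD Z hZ).of_iso_left eD.symm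
  have horth : ∀ P : DerivedCategory (ModSite.Mod (X.sheaf.over V)), (∀ t ∈ s, KosCx.Nil t P) →
      KosCx.Orth P ((dRestr V).obj D) := fun P hP => by
    refine KosCx.Orth.of_iso_right (Y := DerivedCategory.Q.obj
      (((ModSite.restr X.sheaf V).mapHomologicalComplex (ComplexShape.up ℤ)).obj D₀)) ?_
      (((ModSite.restr X.sheaf V).mapDerivedCategoryFactors.app D₀).symm ≪≫ (dRestr V).mapIso eD)
    exact KosCx.orth_of_orth_kos_right c l P _ (fun a ha => hP _ ((hsl _).2 ⟨a, ha, rfl⟩))
      fun m φ => ((shiftFunctor _ m).map_isZero (isZero_kos_restr hl D₀ hDo)).eq_of_tgt _ _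
  let T := (dRestr (O := X.sheaf) V).mapTriangle.obj (Triangle.mk (DerComp.toDerCompletion 𝓘 K) b d)
  have hTd : T ∈ distTriang _ := (dRestr (O := X.sheaf) V).map_distinguished _ hT
  refine good_hom ((dRestr (O := X.sheaf) V).map (DerComp.toDerCompletion 𝓘 K)) _ s (congrArg Ideal.span hset)
    (fun P m t ht => ?_) (fun P hP m => ?_) (U₀ V) (fun m => finite_hom_dRestr hV K hK m) n
  · refine Groth.DerComplete.dc_forall_mem_span (S := {t | ∃ a ∈ l, DerComp.GSec.ofSect X.sheaf V a = t}) ?_ t ht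
    rintro _ ⟨a, ha, rfl⟩
    exact van_restr a (hl.1 a ha) _ ((DerComp.derCompletion X.sheaf 𝓘).obj K).property P m
  · exact Groth.Misc4.RlimVanish.bijective_comp_of_cone (T := T) hTd m (fun f => horth P hP m f)
      (fun f => (horth P hP).shift_right (-1) m f)

end Groth.LocCohTransform.HomCompletion
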