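import Groth.Agent.DerComplete.Module
import Mathlib.RingTheory.AdicCompletion.Exactness
import Mathlib.RingTheory.AdicCompletion.Completeness
import Mathlib.RingTheory.Finiteness.Small
import Mathlib.Algebra.Module.Shrink

/-!
Modules which are adic completions, and their behaviour in long exact sequences of multiplications.
-/

set_option autoImplicit false
set_option linter.style.haveILetI false
set_option linter.unusedSectionVars false

universe u v

namespace Groth.LocCohTransform.HomCompletion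

open Groth.DerComplete

variable {A : Type u} [CommRing A] (I : Ideal A)

/-- `φ` exhibits its target as the adic completion of its source. -/
def Good {M N : Type v} [AddCommGroup M] [Module A M] [AddCommGroup N] [Module A N] (φ : M →ₗ[A] N) : Prop :=
  IsAdicComplete I N ∧ ∀ k : ℕ, (∀ y : N, ∃ x : M, φ x - y ∈ (I ^ k • ⊤ : Submodule A N)) ∧
    (∀ x : M, φ x ∈ (I ^ k • ⊤ : Submodule A N) → x ∈ (I ^ k • ⊤ : Submodule A M))

theorem smulTop_le {X Y : Type v} [AddCommGroup X] [Module A X] [AddCommGroup Y] [Module A Y] (J : Ideal A)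
    (f : X →ₗ[A] Y) {x : X} (hx : x ∈ (J • ⊤ : Submodule A X)) : f x ∈ (J • ⊤ : Submodule A Y) := by
  have h := Submodule.mem_map_of_mem (f := f) hx
  rw [Submodule.map_smul''] at h
  exact Submodule.smul_mono le_rfl le_top h

section Lemmas

variable {M N P : Type v} [AddCommGroup M] [Module A M] [AddCommGroup N] [Module A N] [AddCommGroup P] [Module A P]

/-- A good map induces an isomorphism from the completion. -/
theorem Good.exists_equiv {φ : M →ₗ[A] N} (h : Good I φ) :
    ∃ e : AdicCompletion I M ≃ₗ[A] N, ∀ x : M, e (AdicCompletion.of I M x) = φ x := by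
  obtain ⟨hN, hk⟩ := h
  have hb : Function.Bijective (AdicCompletion.map I φ) := by
    constructor
    · refine (injective_iff_map_eq_zero (AdicCompletion.map I φ).toAddMonoidHom).2 fun x hx => ?_
      refine AdicCompletion.ext fun n => ?_
      obtain ⟨a, ha⟩ := Submodule.Quotient.mk_surjective _ (x.val n)
      have h1 := congrArg (fun z => z.val n) hx
      simp only [LinearMap.toAddMonoidHom_coe, AdicCompletion.map_val_apply, ← ha, AdicCompletion.val_zero,
        Pi.zero_apply, LinearMap.reduceModIdeal_apply] at h1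
      simp only [AdicCompletion.val_zero, Pi.zero_apply, ← ha]
      exact (Submodule.Quotient.mk_eq_zero _).2 ((hk n).2 a ((Submodule.Quotient.mk_eq_zero _).1 h1))
    · intro y
      have h1 : ∀ n, ∃ a : M, Submodule.Quotient.mk (φ a) = y.val n := fun n => by
        obtain ⟨b, hb⟩ := Submodule.Quotient.mk_surjective _ (y.val n)
        obtain ⟨a, ha⟩ := (hk n).1 b
        exact ⟨a, ((Submodule.Quotient.eq _).2 ha).trans hb⟩
      choose a ha using h1
      have hc : ∀ {m n}, m ≤ n → a m ≡ a n [SMOD (I ^ m • ⊤ : Submodule A M)] := fun {m n} hmn => by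
        rw [SModEq.sub_mem]
        refine (hk m).2 _ ?_
        rw [map_sub, ← SModEq.sub_mem]
        show Submodule.Quotient.mk (φ (a m)) = Submodule.Quotient.mk (φ (a n))
        rw [ha m, ← y.property hmn, ← ha n]
        rfl
      refine ⟨AdicCompletion.mk I M ⟨a, fun {m n} hmn => hc hmn⟩, AdicCompletion.ext fun n => ?_⟩
      rw [AdicCompletion.map_val_apply]
      exact ha n
  let e₁ : AdicCompletion I M ≃ₗ[A] AdicCompletion I N :=
    LinearEquiv.ofBijective ((AdicCompletion.map I φ).restrictScalars A) hb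
  let e₂ : N ≃ₗ[A] AdicCompletion I N :=
    LinearEquiv.ofBijective (AdicCompletion.of I N) (AdicCompletion.of_bijective_iff.2 hN)
  refine ⟨e₁.trans e₂.symm, fun x => ?_⟩
  rw [LinearEquiv.trans_apply, LinearEquiv.symm_apply_eq]
  rfl

theorem dc_completion (hI : I.FG) {t : A} (ht : t ∈ I) : DC t (AdicCompletion I M) := by
  haveI := AdicCompletion.isAdicComplete (I := I) (M := M) hI
  exact dc_of_isAdicComplete I ht

theorem surj_mod_of (hI : I.FG) (y : AdicCompletion I M) :
    ∃ x : M, y - AdicCompletion.of I M x ∈ (I • ⊤ : Submodule A (AdicCompletion I M)) := by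
  obtain ⟨x, hx⟩ := Submodule.Quotient.mk_surjective _ (y.val 1)
  refine ⟨x, ?_⟩
  have h : y - AdicCompletion.of I M x ∈ (I ^ 1 • ⊤ : Submodule A (AdicCompletion I M)) := by
    rw [AdicCompletion.pow_smul_top_eq_ker_eval hI, LinearMap.mem_ker, map_sub, sub_eq_zero,
      AdicCompletion.eval_apply, AdicCompletion.eval_apply, AdicCompletion.of_apply]
    exact hx.symm
  exact Submodule.smul_mono_left (le_of_eq (pow_one I)) h

/-- Maps to derived complete modules are determined on a subset generating modulo the ideal. -/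
theorem eq_zero_of_comp (s : Finset A) (hs : Ideal.span (s : Set A) = I) (φ : P →ₗ[A] M)
    (hφ : ∀ y : M, ∃ x : P, y - φ x ∈ (I • ⊤ : Submodule A M))
    (hM : ∀ t ∈ s, DC t M) (hN : ∀ t ∈ s, DC t N) (h : M →ₗ[A] N) (h0 : ∀ x, h (φ x) = 0) : h = 0 := by
  have : Subsingleton (LinearMap.range h) := by
    refine subsingleton_of_span_smul_top s _ (fun t ht => (hM t ht).range (hN t ht) h) ?_
    rw [hs, eq_top_iff]
    rintro ⟨_, y, rfl⟩ -
    obtain ⟨x, hx⟩ := hφ y
    have := smulTop_le I h.rangeRestrict hx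
    rw [map_sub, show h.rangeRestrict (φ x) = 0 from Subtype.ext (h0 x), sub_zero] at this
    exact this
  exact LinearMap.ext fun y => congrArg Subtype.val
    (Subsingleton.elim (⟨h y, y, rfl⟩ : LinearMap.range h) 0)

theorem congr_apply_map {M' : Type u} [AddCommGroup M'] [Module A M'] (e : M ≃ₗ[A] M') :
    Function.Bijective (AdicCompletion.map I e.toLinearMap) :=
  ⟨Function.LeftInverse.injective (g := AdicCompletion.map I e.symm.toLinearMap) fun x => by
      rw [AdicCompletion.map_comp_apply]; simp [AdicCompletion.map_id],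
    Function.RightInverse.surjective (g := AdicCompletion.map I e.symm.toLinearMap) fun x => by
      rw [AdicCompletion.map_comp_apply]; simp [AdicCompletion.map_id]⟩

variable [IsNoetherianRing A] [Module.Finite A M] [Module.Finite A N] [Module.Finite A P]

/-- Completion is left exact on finite modules, in any universe. -/
theorem map_injective {f : M →ₗ[A] N} (hf : Function.Injective f) : Function.Injective (AdicCompletion.map I f) := by
  haveI : Small.{u} M := Module.Finite.small.{u} A M
  haveI : Small.{u} N := Module.Finite.small.{u} A N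
  let e := (Shrink.linearEquiv A M).symm
  let e' := (Shrink.linearEquiv A N).symm
  let f₀ : Shrink.{u} M →ₗ[A] Shrink.{u} N := e'.toLinearMap ∘ₗ f ∘ₗ e.symm.toLinearMap
  have h := AdicCompletion.map_injective I (f := f₀) (e'.injective.comp (hf.comp e.symm.injective))
  intro x y hxy
  refine (congr_apply_map I e).1 (h ?_)
  have key : ∀ z, AdicCompletion.map I f₀ (AdicCompletion.map I e.toLinearMap z) =
      AdicCompletion.map I e'.toLinearMap (AdicCompletion.map I f z) := fun z => by
    rw [AdicCompletion.map_comp_apply, AdicCompletion.map_comp_apply]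
    congr 2
    ext a
    simp [f₀]
  rw [key, key, hxy]

/-- Completion is exact on finite modules, in any universe. -/
theorem map_exact {f : M →ₗ[A] N} {g : N →ₗ[A] P} (hf : Function.Injective f) (hfg : Function.Exact f g)
    (hg : Function.Surjective g) : Function.Exact (AdicCompletion.map I f) (AdicCompletion.map I g) := by
  haveI : Small.{u} M := Module.Finite.small.{u} A M
  haveI : Small.{u} N := Module.Finite.small.{u} A N
  haveI : Small.{u} P := Module.Finite.small.{u} A P
  let e := (Shrink.linearEquiv A M).symm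
  let e' := (Shrink.linearEquiv A N).symm
  let e'' := (Shrink.linearEquiv A P).symm
  let f₀ : Shrink.{u} M →ₗ[A] Shrink.{u} N := e'.toLinearMap ∘ₗ f ∘ₗ e.symm.toLinearMap
  let g₀ : Shrink.{u} N →ₗ[A] Shrink.{u} P := e''.toLinearMap ∘ₗ g ∘ₗ e'.symm.toLinearMap
  have hex : Function.Exact f₀ g₀ := fun y => by
    constructor
    · intro hy
      obtain ⟨x, hx⟩ := (hfg (e'.symm y)).1 (e''.injective (hy.trans (map_zero e'').symm))
      exact ⟨e x, by simp [f₀, hx]⟩
    · rintro ⟨x, rfl⟩
      simp [f₀, g₀, hfg.apply_apply_eq_zero]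
  have h := AdicCompletion.map_exact (I := I) (f := f₀) (g := g₀) (e'.injective.comp (hf.comp e.symm.injective))
    hex (e''.surjective.comp (hg.comp e'.symm.surjective))
  have k1 : ∀ z, AdicCompletion.map I g₀ (AdicCompletion.map I e'.toLinearMap z) =
      AdicCompletion.map I e''.toLinearMap (AdicCompletion.map I g z) := fun z => by
    rw [AdicCompletion.map_comp_apply, AdicCompletion.map_comp_apply]
    congr 2
    ext a
    simp [g₀]
  have k2 : ∀ z, AdicCompletion.map I f₀ (AdicCompletion.map I e.toLinearMap z) =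
      AdicCompletion.map I e'.toLinearMap (AdicCompletion.map I f z) := fun z => by
    rw [AdicCompletion.map_comp_apply, AdicCompletion.map_comp_apply]
    congr 2
    ext a
    simp [f₀]
  intro y
  constructor
  · intro hy
    obtain ⟨x₀, hx₀⟩ := (h _).1 (show AdicCompletion.map I g₀ (AdicCompletion.map I e'.toLinearMap y) = 0 by
      rw [k1, hy, map_zero])
    obtain ⟨x, rfl⟩ := (congr_apply_map I e).2 x₀
    exact ⟨x, (congr_apply_map I e').1 ((k2 x).symm.trans hx₀)⟩
  · rintro ⟨x, rfl⟩
    refine (congr_apply_map I e'').1 ?_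
    rw [← k1, ← k2, map_zero]
    exact h.apply_apply_eq_zero _

end Lemmas

/-! ### Long exact sequences of multiplications by powers -/

section Step

variable [IsNoetherianRing A] (s : Finset A) (hs : Ideal.span (s : Set A) = I) {f : A}
variable {M N : ℤ → Type v} [∀ q, AddCommGroup (M q)] [∀ q, Module A (M q)] [∀ q, AddCommGroup (N q)]
  [∀ q, Module A (N q)] [∀ q, Module.Finite A (M q)]

/-- The long exact sequence of multiplication by a power of `f` on two families, with good middle terms. -/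
structure Seq (φ : ∀ q, M q →ₗ[A] N q) (g : A) where
  /-- the middle terms of the source -/
  M' : ℤ → Type v
  /-- the middle terms of the target -/
  N' : ℤ → Type v
  [i₁ : ∀ q, AddCommGroup (M' q)]
  [i₂ : ∀ q, Module A (M' q)]
  [i₃ : ∀ q, AddCommGroup (N' q)]
  [i₄ : ∀ q, Module A (N' q)]
  fin : ∀ q, Module.Finite A (M' q)
  φ' : ∀ q, M' q →ₗ[A] N' q
  good : ∀ q, Good I (φ' q)
  u : ∀ p q, p + 1 = q → (M p →ₗ[A] M' q)
  w : ∀ q, M' q →ₗ[A] M q
  v : ∀ p q, p + 1 = q → (N p →ₗ[A] N' q)
  z : ∀ q, N' q →ₗ[A] N q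
  u_v : ∀ p q (h : p + 1 = q) (x : M p), φ' q (u p q h x) = v p q h (φ p x)
  w_z : ∀ q (x : M' q), φ q (w q x) = z q (φ' q x)
  u_iff : ∀ p q (h : p + 1 = q) (x : M p), u p q h x = 0 ↔ ∃ y, g • y = x
  v_iff : ∀ p q (h : p + 1 = q) (x : N p), v p q h x = 0 ↔ ∃ y, g • y = x
  w_iff : ∀ p q (h : p + 1 = q) (x : M' q), w q x = 0 ↔ ∃ y, u p q h y = x
  z_iff : ∀ p q (h : p + 1 = q) (x : N' q), z q x = 0 ↔ ∃ y, v p q h y = x
  w_range : ∀ q (x : M q), g • x = 0 ↔ ∃ y, w q y = x
  z_range : ∀ q (x : N q), g • x = 0 ↔ ∃ y, z q y = x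

attribute [instance] Seq.i₁ Seq.i₂ Seq.i₃ Seq.i₄ Seq.fin

variable {φ : ∀ q, M q →ₗ[A] N q}

namespace Seq

variable {g : A} (S : Seq I φ g)

/-- The inclusion of the cokernel of `g`. -/
noncomputable def uBar (p q : ℤ) (h : p + 1 = q) : (M p ⧸ LinearMap.range (g • LinearMap.id : M p →ₗ[A] M p)) →ₗ[A]
    S.M' q :=
  Submodule.liftQ _ (S.u p q h) (by
    rintro _ ⟨y, rfl⟩
    exact (S.u_iff p q h _).2 ⟨y, rfl⟩)

theorem uBar_mk (p q : ℤ) (h : p + 1 = q) (x : M p) : S.uBar I p q h (Submodule.Quotient.mk x) = S.u p q h x := rfl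

theorem uBar_injective (p q : ℤ) (h : p + 1 = q) : Function.Injective (S.uBar I p q h) := by
  refine (injective_iff_map_eq_zero _).2 fun x hx => ?_
  obtain ⟨x, rfl⟩ := Submodule.Quotient.mk_surjective _ x
  obtain ⟨y, hy⟩ := (S.u_iff p q h x).1 hx
  exact (Submodule.Quotient.mk_eq_zero _).2 ⟨y, hy⟩

/-- The completion of the kernel of `g`, mapped to the target. -/
theorem exists_beta (hI : I.FG) (hN : ∀ q, ∀ t ∈ s, DC t (N q)) (hs' : Ideal.span (s : Set A) = I) (q : ℤ) :
    ∃ β : AdicCompletion I (LinearMap.range (S.w q)) →ₗ[A] N q,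
      (∀ x, β (AdicCompletion.of I _ x) = φ q x.1) ∧
      (∀ y : N q, g • y = 0 → ∃ x, β x = y) ∧
      ∀ y : S.N' q, S.z q y = 0 → ∀ e : AdicCompletion I (S.M' q) ≃ₗ[A] S.N' q,
        (∀ x, e (AdicCompletion.of I _ x) = S.φ' q x) →
          β (AdicCompletion.map I (S.w q).rangeRestrict (e.symm y)) = 0 := by
  obtain ⟨e, he⟩ := (S.good q).exists_equiv I
  let P := M (q - 1) ⧸ LinearMap.range (g • LinearMap.id : M (q - 1) →ₗ[A] M (q - 1))
  let h : AdicCompletion I (S.M' q) →ₗ[A] N q := S.z q ∘ₗ e.toLinearMap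
  let w' := (AdicCompletion.map I (S.w q).rangeRestrict).restrictScalars A
  have hw' : Function.Surjective w' :=
    AdicCompletion.map_surjective I (LinearMap.surjective_rangeRestrict (S.w q))
  have hex := map_exact I (f := S.uBar I (q - 1) q (by omega)) (g := (S.w q).rangeRestrict)
    (S.uBar_injective I _ _ _) (fun x => by
      constructor
      · intro hx
        obtain ⟨y, hy⟩ := (S.w_iff (q - 1) q (by omega) x).1 (congrArg Subtype.val hx)
        exact ⟨Submodule.Quotient.mk y, hy⟩
      · rintro ⟨y, rfl⟩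
        obtain ⟨y, rfl⟩ := Submodule.Quotient.mk_surjective _ y
        exact Subtype.ext ((S.w_iff (q - 1) q (by omega) _).2 ⟨y, rfl⟩))
    (LinearMap.surjective_rangeRestrict (S.w q))
  let m₁ := (AdicCompletion.map I (S.uBar I (q - 1) q (by omega))).restrictScalars A
  have h0 : h ∘ₗ m₁ = 0 := by
    refine eq_zero_of_comp I s hs' (AdicCompletion.of I P) (surj_mod_of I hI)
      (fun t ht => dc_completion I hI (hs' ▸ Ideal.subset_span ht)) (hN q) _ fun x => ?_
    obtain ⟨x, rfl⟩ := Submodule.Quotient.mk_surjective _ x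
    show S.z q (e (AdicCompletion.map I _ (AdicCompletion.of I _ _))) = 0
    rw [AdicCompletion.map_of, he, uBar_mk, S.u_v]
    exact (S.z_iff (q - 1) q (by omega) _).2 ⟨_, rfl⟩
  have hker : LinearMap.ker w' ≤ LinearMap.ker h := fun x hx => by
    obtain ⟨y, rfl⟩ := (hex x).1 hx
    exact LinearMap.congr_fun h0 y
  let β : AdicCompletion I (LinearMap.range (S.w q)) →ₗ[A] N q :=
    (Submodule.liftQ _ h hker) ∘ₗ (w'.quotKerEquivOfSurjective hw').symm.toLinearMap
  have hβ : ∀ x, β (w' x) = h x := fun x => by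
    have : (w'.quotKerEquivOfSurjective hw').symm (w' x) = Submodule.Quotient.mk x := by
      rw [LinearEquiv.symm_apply_eq]
      rfl
    show Submodule.liftQ _ h hker ((w'.quotKerEquivOfSurjective hw').symm (w' x)) = h x
    rw [this]
    rfl
  refine ⟨β, fun x => ?_, fun y hy => ?_, fun y hy e' he' => ?_⟩
  · obtain ⟨_, x, rfl⟩ := x
    refine Eq.trans ?_ (((hβ (AdicCompletion.of I _ x))).trans ?_)
    · rfl
    · show S.z q (e (AdicCompletion.of I _ x)) = _
      rw [he, ← S.w_z]
  · obtain ⟨y', rfl⟩ := (S.z_range q y).1 hy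
    exact ⟨w' (e.symm y'), (hβ _).trans (congrArg (S.z q) (e.apply_symm_apply y'))⟩
  · have hee : e.toLinearMap = e'.toLinearMap := sub_eq_zero.1
      (eq_zero_of_comp I s hs' (AdicCompletion.of I (S.M' q)) (surj_mod_of I hI)
        (fun t ht => dc_completion I hI (hs' ▸ Ideal.subset_span ht))
        (fun t ht => (dc_completion I hI (M := S.M' q) (hs' ▸ Ideal.subset_span ht)).congr e) _ fun x => by
          show e _ - e' _ = 0
          rw [he, he', sub_self])
    have : e = e' := LinearEquiv.toLinearMap_injective hee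
    subst this
    exact (hβ _).trans ((congrArg (S.z q) (e.apply_symm_apply y)).trans hy)

end Seq

omit [IsNoetherianRing A] in
theorem exists_torsion_bound [IsNoetherianRing A] (f : A) (q : ℤ) :
    ∃ c : ℕ, ∀ n x, (f ^ n) • x = (0 : M q) → (f ^ c) • x = 0 := by
  let T : ℕ →o Submodule A (M q) :=
    ⟨fun n => LinearMap.ker ((f ^ n) • LinearMap.id), fun a b hab x hx => by
      obtain ⟨d, rfl⟩ := Nat.exists_eq_add_of_le hab
      simp only [LinearMap.mem_ker, LinearMap.smul_apply, LinearMap.id_coe, id_eq] at hx ⊢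
      rw [pow_add, mul_comm, mul_smul, hx, smul_zero]⟩
  have : IsNoetherian A (M q) := isNoetherian_of_isNoetherianRing_of_finite A (M q)
  obtain ⟨c, hc⟩ := monotone_stabilizes_iff_noetherian.2 inferInstance T
  refine ⟨c, fun n x hx => ?_⟩
  rcases le_or_gt c n with h | h
  · have : x ∈ T n := hx
    rw [← hc n h] at this
    exact this
  · exact T.monotone h.le hx

include hs in
/-- The comparison map out of the completion of the kernel of a power of `f` is injective. -/
theorem beta_injective (S : ∀ n : ℕ, Seq I φ (f ^ n)) (q : ℤ) (n : ℕ)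
    (β : AdicCompletion I (LinearMap.range ((S n).w q)) →ₗ[A] N q)
    (hβ1 : ∀ x, β (AdicCompletion.of I _ x) = φ q x.1) : Function.Injective β := by
  have hI : I.FG := IsNoetherian.noetherian I
  have hIs : ∀ t ∈ s, t ∈ I := fun t ht => hs ▸ Ideal.subset_span ht
  obtain ⟨c, hc⟩ := exists_torsion_bound (M := M) f q
  let Sm := S (c + n)
  obtain ⟨e, he⟩ := (Sm.good (q + 1)).exists_equiv I
  let ι := Sm.u q (q + 1) rfl ∘ₗ (LinearMap.range ((S n).w q)).subtype
  have hι : Function.Injective ι := by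
    refine (injective_iff_map_eq_zero _).2 fun x hx => ?_
    obtain ⟨y, hy⟩ := (Sm.u_iff q (q + 1) rfl x.1).1 hx
    have h0 : (f ^ n) • x.1 = 0 := ((S n).w_range q x.1).2 x.2
    have h1 : (f ^ (n + (c + n))) • y = 0 := by rw [pow_add, mul_smul, hy, h0]
    have h2 := hc _ _ h1
    refine Subtype.ext ?_
    rw [← hy, pow_add, mul_comm, mul_smul, h2, smul_zero]
    rfl
  have key : (Sm.v q (q + 1) rfl) ∘ₗ β = e.toLinearMap ∘ₗ (AdicCompletion.map I ι).restrictScalars A :=
    sub_eq_zero.1 (eq_zero_of_comp I s hs (AdicCompletion.of I _) (surj_mod_of I hI)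
      (fun t ht => dc_completion I hI (hIs t ht))
      (fun t ht => (dc_completion I hI (M := Sm.M' (q + 1)) (hIs t ht)).congr e) _ fun x => by
        show Sm.v q (q + 1) rfl (β (AdicCompletion.of I _ x)) -
          e (AdicCompletion.map I ι (AdicCompletion.of I _ x)) = 0
        rw [AdicCompletion.map_of, he, hβ1, ← Sm.u_v, sub_eq_zero]
        rfl)
  intro x y hxy
  refine map_injective I hι (e.injective ?_)
  have hx := LinearMap.congr_fun key x
  have hy := LinearMap.congr_fun key y
  simp only [LinearMap.coe_comp, Function.comp_apply, LinearMap.coe_restrictScalars, LinearEquiv.coe_coe]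
    at hx hy
  rw [← hx, ← hy, hxy]

include hs in
/-- A family is good if all its long exact sequences of powers of `f` have good middle terms. -/
theorem good_of_seq (hf : f ∈ I) (hN : ∀ q, ∀ t ∈ I, DC t (N q)) (S : ∀ n : ℕ, Seq I φ (f ^ n)) (q : ℤ) :
    Good I (φ q) := by
  classical
  have hI : I.FG := IsNoetherian.noetherian I
  have hIs : ∀ t ∈ s, t ∈ I := fun t ht => hs ▸ Ideal.subset_span ht
  have hN' : ∀ q, ∀ t ∈ s, DC t (N q) := fun q t ht => hN q t (hIs t ht)
  obtain ⟨c, hc⟩ := exists_torsion_bound (M := M) f q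
  -- bounded torsion of the target
  have hcN : ∀ n (y : N q), (f ^ n) • y = 0 → (f ^ c) • y = 0 := fun n y hy => by
    obtain ⟨β, hβ1, hβ2, -⟩ := (S n).exists_beta I s hI hN' hs q
    obtain ⟨x, rfl⟩ := hβ2 y hy
    have : (f ^ c) • β = 0 := eq_zero_of_comp I s hs (AdicCompletion.of I _) (surj_mod_of I hI)
      (fun t ht => dc_completion I hI (hIs t ht)) (hN' q) _ fun a => by
        show (f ^ c) • β (AdicCompletion.of I _ a) = 0
        rw [hβ1, ← map_smul, hc n a.1 (((S n).w_range q a.1).2 a.2), map_zero]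
    exact LinearMap.congr_fun this x
  -- the cokernels of powers of `f` on the target are the completions
  have hC : ∀ n, (∀ k (y : N q), ∃ (x : M q) (b : N q) (r : N q),
      r ∈ (I ^ k • ⊤ : Submodule A (N q)) ∧ y = φ q x + r + (f ^ n) • b) ∧
      (∀ x : M q, ∀ k, (∃ r ∈ (I ^ k • ⊤ : Submodule A (N q)), ∃ b, φ q x = r + (f ^ n) • b) →
        ∃ r ∈ (I ^ k • ⊤ : Submodule A (M q)), ∃ b, x = r + (f ^ n) • b) ∧
      (∀ y : N q, (∀ k, ∃ r ∈ (I ^ k • ⊤ : Submodule A (N q)), ∃ b, y = r + (f ^ n) • b) → ∃ b, y = (f ^ n) • b) ∧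
      ∀ ys : ℕ → N q, (∀ k, ys k - ys (k + 1) ∈ (I ^ k • ⊤ : Submodule A (N q))) →
        ∃ y, ∀ k, ∃ r ∈ (I ^ k • ⊤ : Submodule A (N q)), ∃ b, y - ys k = r + (f ^ n) • b := by
    intro n
    obtain ⟨e, he⟩ := ((S n).good (q + 1)).exists_equiv I
    obtain ⟨β, hβ1, -, hβ3⟩ := (S n).exists_beta I s hI hN' hs (q + 1)
    have hβi : Function.Injective β := beta_injective I s hs S (q + 1) n β hβ1
    let vn := (S n).v q (q + 1) rfl
    let L := AdicCompletion I (M q ⧸ LinearMap.range ((f ^ n) • LinearMap.id : M q →ₗ[A] M q))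
    let j : L →ₗ[A] (S n).N' (q + 1) :=
      e.toLinearMap ∘ₗ (AdicCompletion.map I ((S n).uBar I q (q + 1) rfl)).restrictScalars A
    have hj : Function.Injective j := e.injective.comp (map_injective I ((S n).uBar_injective I q (q + 1) rfl))
    have hjle : LinearMap.range j ≤ LinearMap.range vn := by
      have h0 : ((S n).z (q + 1)) ∘ₗ j = 0 := eq_zero_of_comp I s hs (AdicCompletion.of I _) (surj_mod_of I hI)
        (fun t ht => dc_completion I hI (hIs t ht)) (hN' (q + 1)) _ fun x => by
          obtain ⟨x, rfl⟩ := Submodule.Quotient.mk_surjective _ x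
          show (S n).z (q + 1) (e (AdicCompletion.map I _ (AdicCompletion.of I _ _))) = 0
          rw [AdicCompletion.map_of, he, Seq.uBar_mk, (S n).u_v]
          exact ((S n).z_iff q (q + 1) rfl _).2 ⟨_, rfl⟩
      rintro _ ⟨x, rfl⟩
      obtain ⟨y, hy⟩ := ((S n).z_iff q (q + 1) rfl (j x)).1 (LinearMap.congr_fun h0 x)
      exact ⟨y, hy⟩
    have hlej : LinearMap.range vn ≤ LinearMap.range j := by
      rintro _ ⟨y, rfl⟩
      have h0 : (S n).z (q + 1) (vn y) = 0 := ((S n).z_iff q (q + 1) rfl _).2 ⟨y, rfl⟩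
      have h1 := hβi ((hβ3 (vn y) h0 e he).trans (map_zero β).symm)
      obtain ⟨x, hx⟩ := (map_exact I (f := (S n).uBar I q (q + 1) rfl) (g := ((S n).w (q + 1)).rangeRestrict)
        ((S n).uBar_injective I _ _ _) (fun x => by
          constructor
          · intro hx
            obtain ⟨y, hy⟩ := ((S n).w_iff q (q + 1) rfl x).1 (congrArg Subtype.val hx)
            exact ⟨Submodule.Quotient.mk y, hy⟩
          · rintro ⟨y, rfl⟩
            obtain ⟨y, rfl⟩ := Submodule.Quotient.mk_surjective _ y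
            exact Subtype.ext (((S n).w_iff q (q + 1) rfl _).2 ⟨y, rfl⟩))
        (LinearMap.surjective_rangeRestrict _) _).1 h1
      exact ⟨x, (congrArg e hx).trans (e.apply_symm_apply _)⟩
    have hsurj : ∀ y : N q, ∃ l : L, j l = vn y := fun y => hlej ⟨y, rfl⟩
    choose lof hlof using hsurj
    have hpre : ∀ l : L, ∃ y : N q, vn y = j l := fun l => hjle ⟨l, rfl⟩
    choose pre hpre using hpre
    let τ : N q →ₗ[A] L :=
      { toFun := lof
        map_add' := fun a b => hj (by rw [hlof, map_add, map_add, hlof, hlof])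
        map_smul' := fun a b => hj (by rw [hlof, RingHom.id_apply, map_smul, map_smul, hlof]) }
    have hτs : Function.Surjective τ := fun l => ⟨pre l, hj ((hlof _).trans (hpre l))⟩
    have hτk : ∀ y, τ y = 0 ↔ ∃ b, y = (f ^ n) • b := fun y => by
      rw [← map_eq_zero_iff j hj, show j (τ y) = vn y from hlof y, (S n).v_iff q (q + 1) rfl y]
      exact exists_congr fun b => eq_comm
    have hτφ : ∀ x, τ (φ q x) = AdicCompletion.of I _ (Submodule.Quotient.mk x) := fun x => hj (by
      rw [show j (τ (φ q x)) = vn (φ q x) from hlof _]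
      show vn (φ q x) = e (AdicCompletion.map I _ (AdicCompletion.of I _ _))
      rw [AdicCompletion.map_of, he, Seq.uBar_mk, (S n).u_v])
    have hLc : IsAdicComplete I L := AdicCompletion.isAdicComplete hI
    have hmemL : ∀ k (l : L), l ∈ (I ^ k • ⊤ : Submodule A L) ↔ l.val k = 0 := fun k l => by
      rw [AdicCompletion.pow_smul_top_eq_ker_eval hI]
      exact Iff.rfl
    have hdec : ∀ k (y : N q), τ y ∈ (I ^ k • ⊤ : Submodule A L) →
        ∃ r ∈ (I ^ k • ⊤ : Submodule A (N q)), ∃ b, y = r + (f ^ n) • b := fun k y hy => by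
      have : (I ^ k • ⊤ : Submodule A L) = Submodule.map τ (I ^ k • ⊤) := by
        rw [Submodule.map_smul'', Submodule.map_top, LinearMap.range_eq_top.2 hτs]
      rw [this] at hy
      obtain ⟨r, hr, hr'⟩ := hy
      obtain ⟨b, hb⟩ := (hτk (y - r)).1 (by rw [map_sub, hr', sub_self])
      exact ⟨r, hr, b, by rw [← hb, add_sub_cancel]⟩
    have hτr : ∀ k (r b : N q), r ∈ (I ^ k • ⊤ : Submodule A (N q)) →
        τ (r + (f ^ n) • b) ∈ (I ^ k • ⊤ : Submodule A L) := fun k r b hr => by
      rw [map_add, (hτk ((f ^ n) • b)).2 ⟨b, rfl⟩, add_zero]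
      exact smulTop_le _ τ hr
    refine ⟨fun k y => ?_, fun x k => ?_, fun y hy => ?_, fun ys hys => ?_⟩
    · obtain ⟨m, hm⟩ := Submodule.Quotient.mk_surjective _ ((τ y).val k)
      obtain ⟨x, rfl⟩ := Submodule.Quotient.mk_surjective _ m
      obtain ⟨r, hr, b, hb⟩ := hdec k (y - φ q x) (by
        rw [hmemL, map_sub, hτφ, AdicCompletion.val_sub, Pi.sub_apply, AdicCompletion.of_apply, ← hm]
        exact sub_self _)
      exact ⟨x, b, r, hr, by rw [add_assoc, ← hb, add_sub_cancel]⟩
    · rintro ⟨r, hr, b, hb⟩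
      have h1 : τ (φ q x) ∈ (I ^ k • ⊤ : Submodule A L) := hb ▸ hτr k r b hr
      rw [hτφ, hmemL, AdicCompletion.of_apply] at h1
      have h2 := (Submodule.Quotient.mk_eq_zero _).1 h1
      rw [smul_top_quot] at h2
      obtain ⟨r', hr', h3⟩ := h2
      obtain ⟨b', hb'⟩ := (Submodule.Quotient.eq _).1 h3.symm
      exact ⟨r', hr', b', (sub_eq_iff_eq_add'.1 hb'.symm).trans rfl⟩
    · refine (hτk y).1 (hLc.toIsHausdorff.haus _ fun k => ?_)
      obtain ⟨r, hr, b, rfl⟩ := hy k
      exact SModEq.zero.2 (hτr k r b hr)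
    · have hcauchy : ∀ {m m' : ℕ}, m ≤ m' →
          τ (ys m) ≡ τ (ys m') [SMOD (I ^ m • ⊤ : Submodule A L)] := fun {m m'} hmm => by
        induction m', hmm using Nat.le_induction with
        | base => exact SModEq.refl _
        | succ i hi ih =>
          refine ih.trans (SModEq.sub_mem.2 ?_)
          rw [← map_sub]
          exact smulTop_le _ τ (Submodule.smul_mono_left (Ideal.pow_le_pow_right hi) (hys i))
      obtain ⟨l, hl⟩ := hLc.toIsPrecomplete.prec hcauchy
      obtain ⟨y, rfl⟩ := hτs l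
      refine ⟨y, fun k => hdec k (y - ys k) ?_⟩
      rw [map_sub]
      exact SModEq.sub_mem.1 (hl k).symm
  -- `N q` is `f`-adically separated
  have hsep : ∀ y : N q, (∀ n, ∃ b, y = (f ^ n) • b) → y = 0 := fun y hy => by
    choose b hb using hy
    have h1 : ∀ n, (f ^ c) • b n = f • ((f ^ c) • b (n + 1)) := fun n => by
      have h0 : (f ^ n) • (b n - f • b (n + 1)) = 0 := by
        rw [smul_sub, ← mul_smul, ← pow_succ, ← hb n, ← hb (n + 1), sub_self]
      have := hcN n _ h0
      rw [smul_sub, sub_eq_zero] at this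
      rw [this, smul_comm]
    rw [hb c]
    exact (hN q f hf).eq_zero (fun n => (f ^ c) • b n) h1 c
  have hfk : ∀ k (b : N q), (f ^ k) • b ∈ (I ^ k • ⊤ : Submodule A (N q)) := fun k b =>
    Submodule.smul_mem_smul (Ideal.pow_mem_pow hf k) Submodule.mem_top
  refine ⟨{ toIsHausdorff := ⟨fun y hy => hsep y fun n => (hC n).2.2.1 y fun k => ?_⟩
            toIsPrecomplete := ⟨fun {ys} hys => ?_⟩ }, fun k => ⟨fun y => ?_, fun x hx => ?_⟩⟩
  · exact ⟨y, SModEq.zero.1 (hy k), 0, by rw [smul_zero, add_zero]⟩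
  · -- precompleteness
    choose l hl using fun n => (hC n).2.2.2 ys (fun k => SModEq.sub_mem.1 (hys (Nat.le_succ k)))
    have hsurj := surjective_of_completion (Ideal.span {f}) (M := N q) ⟨{f}, by simp⟩ fun t ht => by
      obtain ⟨a, rfl⟩ := Ideal.mem_span_singleton'.1 ht
      exact (hN q f hf).mul_left a
    have hmem : ∀ n (b : N q), (f ^ n) • b ∈ (Ideal.span {f} ^ n • ⊤ : Submodule A (N q)) := fun n b =>
      Submodule.smul_mem_smul (Ideal.pow_mem_pow (Ideal.mem_span_singleton_self f) n) Submodule.mem_top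
    have hcs : ∀ n, l n ≡ l (n + 1) [SMOD (Ideal.span {f} ^ n • ⊤ : Submodule A (N q))] := fun n => by
      obtain ⟨b, hb⟩ := (hC n).2.2.1 (l n - l (n + 1)) fun k => by
        obtain ⟨r, hr, b, hb⟩ := hl n k
        obtain ⟨r', hr', b', hb'⟩ := hl (n + 1) k
        refine ⟨r - r', Submodule.sub_mem _ hr hr', b - f • b', ?_⟩
        rw [smul_sub, ← mul_smul, ← pow_succ, show l n - l (n + 1) = (l n - ys k) - (l (n + 1) - ys k) by abel,
          hb, hb']
        abel
      rw [SModEq.sub_mem, hb]
      exact hmem n b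
    obtain ⟨y, hy⟩ := hsurj (AdicCompletion.mk _ _ (AdicCompletion.AdicCauchySequence.mk _ _ l hcs))
    refine ⟨y, fun k => SModEq.symm (SModEq.sub_mem.2 ?_)⟩
    have h1 := congrArg (fun z => z.val k) hy
    simp only [AdicCompletion.of_apply, AdicCompletion.mk_apply_coe] at h1
    have h2 : y - l k ∈ (Ideal.span {f} ^ k • ⊤ : Submodule A (N q)) := (Submodule.Quotient.eq _).1 h1
    obtain ⟨r, hr, b, hb⟩ := hl k k
    rw [show y - ys k = (y - l k) + (r + (f ^ k) • b) by rw [← hb]; abel]
    refine Submodule.add_mem _ ?_ (Submodule.add_mem _ hr (hfk k b))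
    exact Submodule.smul_mono_left (Ideal.pow_right_mono ((Ideal.span_singleton_le_iff_mem I).2 hf) k) h2
  · obtain ⟨x, b, r, hr, rfl⟩ := (hC k).1 k y
    refine ⟨x, ?_⟩
    rw [show φ q x - (φ q x + r + (f ^ k) • b) = -(r + (f ^ k) • b) by abel]
    exact Submodule.neg_mem _ (Submodule.add_mem _ hr (hfk k b))
  · obtain ⟨r, hr, b, rfl⟩ := (hC k).2.1 x k ⟨φ q x, hx, 0, by rw [smul_zero, add_zero]⟩
    exact Submodule.add_mem _ hr (Submodule.smul_mem_smul (Ideal.pow_mem_pow hf k) Submodule.mem_top)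

end Step

end Groth.LocCohTransform.HomCompletion
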