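import Groth.Agent.LocCohTransform.HomCompletionAffine

/-!
Global forms of the computation of sections of derived completions on affine opens.
-/

set_option autoImplicit false
set_option linter.style.haveILetI false
set_option linter.unusedSectionVars false
set_option backward.defeqAttrib.useBackward true
set_option backward.isDefEq.respectTransparency false
set_option synthInstance.maxHeartbeats 400000
set_option maxHeartbeats 2000000

universe u v w

open CategoryTheory CategoryTheory.Limits CategoryTheory.Pretriangulated AlgebraicGeometry TopologicalSpace Opposite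
open Groth.Misc4.DerivedLift (S0)

attribute [local instance] HasDerivedCategory.standard

namespace Groth.LocCohTransform.HomCompletion

open Groth.DAlg.DerCompKoszul Groth.DAlg.SiteTorsion

section Transfer

variable {A : Type u} [CommRing A] {B : Type u} [CommRing B] (τ : A ≃+* B) (I : Ideal A)

theorem mem_smul_top_of_semilinear {M M' : Type v} [AddCommGroup M] [Module A M] [AddCommGroup M'] [Module B M']
    (e : M →+ M') (he : ∀ a x, e (a • x) = τ a • e x) {x : M} (hx : x ∈ (I • ⊤ : Submodule A M)) :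
    e x ∈ (I.map (τ : A →+* B) • ⊤ : Submodule B M') := by
  refine Submodule.smul_induction_on hx (fun a ha y _ => ?_) fun a b ha hb => ?_
  · rw [he]
    exact Submodule.smul_mem_smul (Ideal.mem_map_of_mem _ ha) Submodule.mem_top
  · rw [map_add]
    exact Submodule.add_mem _ ha hb

/-- Goodness along bijections which are semilinear. -/
theorem Good.transfer {M N M' N' : Type v} [AddCommGroup M] [Module A M] [AddCommGroup N] [Module A N]
    [AddCommGroup M'] [Module B M'] [AddCommGroup N'] [Module B N'] {φ : M →ₗ[A] N} {φ' : M' →ₗ[B] N'}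
    (eM : M ≃+ M') (heM : ∀ a x, eM (a • x) = τ a • eM x) (eN : N ≃+ N') (heN : ∀ a x, eN (a • x) = τ a • eN x)
    (hc : ∀ x, eN (φ x) = φ' (eM x)) (h : Good (I.map (τ : A →+* B)) φ') : Good I φ := by
  obtain ⟨hN, hk⟩ := h
  have hsymm : ∀ {L L' : Type v} [AddCommGroup L] [Module A L] [AddCommGroup L'] [Module B L'] (e : L ≃+ L'),
      (∀ a x, e (a • x) = τ a • e x) → ∀ b y, e.symm (b • y) = τ.symm b • e.symm y := by
    intro L L' _ _ _ _ e he b y
    apply e.injective
    rw [he, e.apply_symm_apply, e.apply_symm_apply, τ.apply_symm_apply]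
  have hI : (I.map (τ : A →+* B)).map (τ.symm : B →+* A) = I := Ideal.map_of_equiv τ
  have hmem : ∀ {L L' : Type v} [AddCommGroup L] [Module A L] [AddCommGroup L'] [Module B L'] (e : L ≃+ L'),
      (∀ a x, e (a • x) = τ a • e x) → ∀ (k : ℕ) (x : L),
        x ∈ (I ^ k • ⊤ : Submodule A L) ↔ e x ∈ ((I.map (τ : A →+* B)) ^ k • ⊤ : Submodule B L') := by
    intro L L' _ _ _ _ e he k x
    constructor
    · intro hx
      have := mem_smul_top_of_semilinear τ (I ^ k) e.toAddMonoidHom he hx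
      rwa [Ideal.map_pow] at this
    · intro hx
      have := mem_smul_top_of_semilinear τ.symm ((I.map (τ : A →+* B)) ^ k) e.symm.toAddMonoidHom (hsymm e he) hx
      rw [Ideal.map_pow, hI] at this
      simpa using this
  refine ⟨{ toIsHausdorff := ⟨fun x hx => eN.injective ?_⟩
            toIsPrecomplete := ⟨fun {f} hf => ?_⟩ }, fun k => ⟨fun y => ?_, fun x hx => ?_⟩⟩
  · rw [map_zero]
    exact hN.toIsHausdorff.haus _ fun n => SModEq.zero.2 ((hmem eN heN n x).1 (SModEq.zero.1 (hx n)))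
  · obtain ⟨L, hL⟩ := hN.toIsPrecomplete.prec (f := fun n => eN (f n)) fun {m n} hmn => by
      rw [SModEq.sub_mem, ← map_sub]
      exact (hmem eN heN m _).1 (SModEq.sub_mem.1 (hf hmn))
    refine ⟨eN.symm L, fun n => SModEq.sub_mem.2 ((hmem eN heN n _).2 ?_)⟩
    rw [map_sub, eN.apply_symm_apply]
    exact SModEq.sub_mem.1 (hL n)
  · obtain ⟨x, hx⟩ := (hk k).1 (eN y)
    refine ⟨eM.symm x, (hmem eN heN k _).2 ?_⟩
    rw [map_sub, hc, eM.apply_symm_apply]
    exact hx
  · exact (hmem eM heM k x).2 ((hk k).2 _ (hc x ▸ (hmem eN heN k _).1 hx))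

theorem Good.subsingleton {M N : Type v} [AddCommGroup M] [Module A M] [AddCommGroup N] [Module A N]
    {φ : M →ₗ[A] N} (h : Good I φ) [Subsingleton M] : Subsingleton N := by
  refine subsingleton_of_forall_eq 0 fun y => h.1.toIsHausdorff.haus y fun k => SModEq.zero.2 ?_
  obtain ⟨x, hx⟩ := (h.2 k).1 y
  rw [Subsingleton.elim x 0, map_zero, zero_sub] at hx
  simpa using (Submodule.neg_mem_iff _).1 hx

end Transfer

variable {X : Scheme.{u}} {V : X.Opens}

theorem coh_inD (F : X.Modules) (hF : Coh.IsCoh F) (q : ℤ) :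
    Coh.IsCoh (X := X) ((DerivedCategory.homologyFunctor (ModSite.Mod X.sheaf) q).obj (SiteCmp.inD X.sheaf F)) := by
  by_cases hq : q = 0
  · subst hq
    exact Groth.QCohMod.isCoh_of_iso
      ((DerivedCategory.singleFunctorCompHomologyFunctorIso (ModSite.Mod X.sheaf) 0).app F).symm hF
  · have hz : IsZero ((DerivedCategory.homologyFunctor (ModSite.Mod X.sheaf) q).obj (SiteCmp.inD X.sheaf F)) := by
      rcases lt_or_gt_of_ne hq with h | h
      · exact DerivedCategory.isZero_of_isGE ((DerivedCategory.singleFunctor (ModSite.Mod X.sheaf) 0).obj F) 0 q h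
      · exact DerivedCategory.isZero_of_isLE ((DerivedCategory.singleFunctor (ModSite.Mod X.sheaf) 0).obj F) 0 q h
    haveI : HasBinaryBiproducts X.Modules := inferInstance
    refine (Groth.QCohMod.isCoh_iff _).2 ⟨(Groth.Misc4.QCohCd.qc X).prop_of_isZero hz, fun U _ => ?_⟩
    let G : X.Modules := (DerivedCategory.homologyFunctor (ModSite.Mod X.sheaf) q).obj (SiteCmp.inD X.sheaf F)
    have hG : IsZero G := hz
    have : Subsingleton Γ(G, U) := ⟨fun a b => by
      have h0 : (𝟙 G : G ⟶ G) = 0 := hG.eq_of_src _ _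
      have ha := congrArg (fun f : G ⟶ G => (f.app U).hom a) h0
      have hb := congrArg (fun f : G ⟶ G => (f.app U).hom b) h0
      simp at ha hb
      rw [ha, hb]⟩
    exact Module.Finite.of_finite

theorem isZero_homology_inD (F : ModSite.Mod X.sheaf) {q : ℤ} (hq : q ≠ 0) :
    IsZero ((DerivedCategory.homologyFunctor (ModSite.Mod X.sheaf) q).obj (SiteCmp.inD X.sheaf F)) := by
  rcases lt_or_gt_of_ne hq with h | h
  · exact DerivedCategory.isZero_of_isGE ((DerivedCategory.singleFunctor (ModSite.Mod X.sheaf) 0).obj F) 0 q h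
  · exact DerivedCategory.isZero_of_isLE ((DerivedCategory.singleFunctor (ModSite.Mod X.sheaf) 0).obj F) 0 q h

/-- Finitely many generators of the sections of a quasi-coherent ideal over an affine open generate it there. -/
theorem exists_gen_of_qcoh [IsLocallyNoetherian X] (hV : IsAffineOpen V) (𝓘 : DerComp.IdealSh X.sheaf)
    (hqc : ∀ (U : X.affineOpens) (g : Γ(X, ↑U)), 𝓘.ideal (X.basicOpen g) =
      Ideal.map (X.presheaf.map (homOfLE (X.basicOpen_le g)).op).hom (𝓘.ideal ↑U)) :
    ∃ l : List (X.sheaf.obj.obj (op V)), Gen 𝓘 V l := by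
  classical
  haveI : IsNoetherianRing Γ(X, V) := IsLocallyNoetherian.component_noetherian ⟨V, hV⟩
  obtain ⟨S, hS⟩ := IsNoetherian.noetherian (show Ideal Γ(X, V) from 𝓘.ideal V)
  refine ⟨S.toList, fun a ha => ?_, fun K hK W x hx => ?_⟩
  · show a ∈ (show Ideal Γ(X, V) from 𝓘.ideal V)
    rw [← hS]
    exact Ideal.subset_span (Finset.mem_toList.1 ha)
  · -- locally on basic opens of `V`
    have hWV : W.left ≤ V := W.hom.le
    let T : Sieve W.left :=
      { arrows := fun Y h => ∃ g : Γ(X, V), Y ≤ X.basicOpen g ∧ X.basicOpen g ≤ W.left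
        downward_closed := fun {Y Y'} h hh f => by
          obtain ⟨g, h1, h2⟩ := hh
          exact ⟨g, f.le.trans h1, h2⟩ }
    have hT : T ∈ Opens.grothendieckTopology X W.left := fun y hy => by
      obtain ⟨g, hg, hyg⟩ := hV.exists_basicOpen_le ⟨y, hy⟩ (hWV hy)
      exact ⟨X.basicOpen g, homOfLE hg, ⟨g, le_rfl, hg⟩, hyg⟩
    refine K.glue ((Sieve.overEquiv W).symm T) ?_ fun Y h hh => ?_
    · rw [GrothendieckTopology.mem_over_iff]
      simpa using hT
    · change T.arrows h.left at hh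
      obtain ⟨g, h1, h2⟩ := hh
      let D : Over V := Over.mk (homOfLE (X.basicOpen_le g))
      let j : Y ⟶ D := Over.homMk (homOfLE h1) (Subsingleton.elim _ _)
      let i : D ⟶ W := Over.homMk (homOfLE h2) (Subsingleton.elim _ _)
      rw [Subsingleton.elim h (j ≫ i)]
      change ((X.sheaf.over V).obj.map (j ≫ i).op).hom x ∈ _
      rw [op_comp, Functor.map_comp, CommRingCat.comp_apply]
      refine K.map_mem j ?_
      have h3 : ((X.sheaf.over V).obj.map i.op).hom x ∈ 𝓘.ideal (X.basicOpen g) := 𝓘.map_mem (homOfLE h2) hx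
      have h4 : 𝓘.ideal (X.basicOpen g) ≤ K.ideal D := by
        rw [hqc ⟨V, hV⟩ g, Ideal.map_le_iff_le_comap]
        show (show Ideal Γ(X, V) from 𝓘.ideal V) ≤ _
        rw [← hS, Ideal.span_le]
        exact fun a ha => hK a (Finset.mem_toList.2 ha) D
      exact h4 h3

/-- `H^p` of the derived completion of a coherent module on an affine open vanishes for `p ≠ 0`. -/
theorem subsingleton_hom_completion [IsLocallyNoetherian X] (hV : IsAffineOpen V) (𝓘 : DerComp.IdealSh X.sheaf)
    [DerComp.HasDerCompletion X.sheaf 𝓘] (l : List (X.sheaf.obj.obj (op V))) (hl : Gen 𝓘 V l)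
    (F : X.Modules) (hF : Coh.IsCoh F) (p : ℤ) (hp : p ≠ 0) :
    Subsingleton (SiteCmp.inD X.sheaf (ModSite.freeOn X.sheaf V) ⟶
      ((DerComp.derCompletion X.sheaf 𝓘).obj (SiteCmp.inD X.sheaf F)).obj⟦p⟧) := by
  let K := SiteCmp.inD X.sheaf F
  let Z := ((DerComp.derCompletion X.sheaf 𝓘).obj K).obj
  let e := ((dRestr (O := X.sheaf) V).commShiftIso p).app K
  haveI : Subsingleton (U₀ V ⟶ ((dRestr V).obj K)⟦p⟧) := by
    refine subsingleton_of_forall_eq 0 fun φ => ?_
    rw [← cancel_mono e.inv, zero_comp]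
    refine (orth_unit_iff (K⟦p⟧)).2 (fun ψ => ?_) _
    exact eq_zero_free hV K (fun q => (coh_inD F hF q).1) p (isZero_homology_inD F hp) ψ
  haveI := (main hV 𝓘 l hl K (coh_inD F hF) p).subsingleton
  let e' := ((dRestr (O := X.sheaf) V).commShiftIso p).app Z
  have h0 : ∀ φ : U₀ V ⟶ (dRestr V).obj (Z⟦p⟧), φ = 0 := fun φ => by
    rw [← cancel_mono e'.hom, zero_comp]
    exact Subsingleton.elim (α := U₀ V ⟶ ((dRestr V).obj Z)⟦p⟧) _ _
  let ι : SiteCmp.inD X.sheaf (ModSite.freeOn X.sheaf V) ≅ S0.obj (ModSite.freeOn X.sheaf V) :=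
    (DerivedCategory.singleFunctorIsoCompQ _ 0).app _
  refine subsingleton_of_forall_eq 0 fun φ => ?_
  rw [← cancel_epi ι.inv, comp_zero]
  exact (orth_unit_iff (Z⟦p⟧)).1 h0 _

/-! ### The global sections -/

/-- Restriction to the whole space is fully faithful. -/
theorem full_restr_top (M N : ModSite.Mod X.sheaf) :
    Function.Bijective fun f : M ⟶ N => (ModSite.restr X.sheaf (⊤ : X.Opens)).map f := by
  let j : ∀ U : X.Opens, Over (⊤ : X.Opens) := fun U => Over.mk (homOfLE (le_top : U ≤ ⊤))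
  constructor
  · intro f g h
    ext U x
    exact congrArg (fun φ : (ModSite.restr X.sheaf (⊤ : X.Opens)).obj M ⟶ _ =>
      (φ.val.app (op (j U.unop))).hom x) h
  · intro ψ
    let app : ∀ U : (X.Opens)ᵒᵖ, M.val.obj U ⟶ _ := fun U => ModuleCat.ofHom (Y := N.val.obj U)
      { toFun := fun x => (ψ.val.app (op (j U.unop))).hom x
        map_add' := fun x y => map_add _ x y
        map_smul' := fun r x => (ψ.val.app (op (j U.unop))).hom.map_smul r x }
    have hnat : ∀ {U U' : (X.Opens)ᵒᵖ} (g : U ⟶ U') (x : M.val.obj U),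
        (app U').hom ((M.val.map g).hom x) = (N.val.map g).hom ((app U).hom x) := fun {U U'} g x =>
      PresheafOfModules.naturality_apply ψ.val
        (Over.homMk (U := j U'.unop) (V := j U.unop) g.unop (Subsingleton.elim _ _)).op x
    refine ⟨⟨{ app := app
               naturality := fun g => by ext x; exact hnat g x }⟩, ?_⟩
    ext W x
    rfl

/-- Evaluation of global sections on the whole space. -/
noncomputable def evalTop : DerComp.GSec X.sheaf ≃+* Γ(X, ⊤) where
  toFun s := s.1 ⊤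
  invFun f := ⟨fun U => (X.sheaf.obj.map (homOfLE (le_top : U ≤ ⊤)).op).hom f, fun U W g => by
    rw [← CommRingCat.comp_apply, ← Functor.map_comp]
    rfl⟩
  left_inv s := Subtype.ext (funext fun U => s.2 (homOfLE (le_top : U ≤ ⊤)))
  right_inv f := by
    show (X.sheaf.obj.map (𝟙 (⊤ : X.Opens)).op).hom f = f
    simp
  map_mul' s t := rfl
  map_add' s t := rfl

/-- Global sections of the localisation at the whole space. -/
noncomputable def τTop : DerComp.GSec X.sheaf ≃+* DerComp.GSec (X.sheaf.over (⊤ : X.Opens)) :=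
  evalTop.trans (ofSectEquiv ⊤)

theorem τTop_apply (s : DerComp.GSec X.sheaf) : τTop s = DerComp.GSec.toOver s (⊤ : X.Opens) :=
  Subtype.ext (funext fun W => s.2 W.hom)

theorem mapDerived_smul {C₁ : Type*} [Category C₁] [Abelian C₁] [HasDerivedCategory C₁] {C₂ : Type*} [Category C₂]
    [Abelian C₂] [HasDerivedCategory C₂] {A B : Type*} [CommRing A] [CommRing B] [Linear A C₁] [Linear B C₂]
    (F : C₁ ⥤ C₂) [F.Additive] [PreservesFiniteLimits F] [PreservesFiniteColimits F] (a : A) (b : B)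
    (h : ∀ M : C₁, F.map (a • 𝟙 M) = b • 𝟙 (F.obj M)) {W W' : DerivedCategory C₁} (x : W ⟶ W') :
    F.mapDerivedCategory.map (a • x) = b • F.mapDerivedCategory.map x := by
  obtain ⟨K, ⟨e⟩⟩ : ∃ K, Nonempty (DerivedCategory.Q.obj K ≅ W) := ⟨_, ⟨DerivedCategory.Q.objObjPreimageIso W⟩⟩
  let j := F.mapDerivedCategoryFactors
  have h1 : (F.mapHomologicalComplex (ComplexShape.up ℤ)).map (a • 𝟙 K) =
      b • 𝟙 ((F.mapHomologicalComplex (ComplexShape.up ℤ)).obj K) := by
    ext q : 1
    simp [h]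
  have h2 : F.mapDerivedCategory.map (DerivedCategory.Q.map (a • 𝟙 K)) =
      b • 𝟙 (F.mapDerivedCategory.obj (DerivedCategory.Q.obj K)) := by
    rw [← cancel_mono (j.hom.app K)]
    refine (j.hom.naturality (a • 𝟙 K)).trans ?_
    show j.hom.app K ≫ DerivedCategory.Q.map ((F.mapHomologicalComplex (ComplexShape.up ℤ)).map (a • 𝟙 K)) = _
    rw [h1, Functor.map_smul, CategoryTheory.Functor.map_id, Linear.comp_smul, Linear.smul_comp,
      Category.id_comp]
    simp
  have h3 : a • 𝟙 W = e.inv ≫ DerivedCategory.Q.map (a • 𝟙 K) ≫ e.hom := by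
    rw [Functor.map_smul, CategoryTheory.Functor.map_id, Linear.smul_comp, Category.id_comp, Linear.comp_smul,
      Iso.inv_hom_id]
  rw [← Category.id_comp x, ← Linear.smul_comp, Functor.map_comp, h3, Functor.map_comp, Functor.map_comp, h2,
    Linear.smul_comp (r := b), Category.id_comp, Linear.comp_smul, ← Functor.map_comp, Iso.inv_hom_id,
    CategoryTheory.Functor.map_id, Linear.smul_comp, Category.id_comp, Category.id_comp]

theorem restr_map_smul_id (s : DerComp.GSec X.sheaf) (M : ModSite.Mod X.sheaf) :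
    (ModSite.restr X.sheaf (⊤ : X.Opens)).map (s • 𝟙 M) = τTop s • 𝟙 ((ModSite.restr X.sheaf (⊤ : X.Opens)).obj M) := by
  rw [τTop_apply, DerComp.smul_def, DerComp.smul_def, Category.comp_id, Category.comp_id]
  rfl

theorem dRestr_map_smul (s : DerComp.GSec X.sheaf) {W W' : DerivedCategory (ModSite.Mod X.sheaf)} (x : W ⟶ W') :
    (dRestr (⊤ : X.Opens)).map (s • x) = τTop s • (dRestr (⊤ : X.Opens)).map x :=
  mapDerived_smul (ModSite.restr X.sheaf (⊤ : X.Opens)) s (τTop s) (restr_map_smul_id s) x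

theorem semilinear_key {D₁ : Type*} [Category D₁] [Preadditive D₁] {D₂ : Type*} [Category D₂] [Preadditive D₂]
    {A B : Type*} [CommRing A] [CommRing B] [Linear A D₁] [Linear B D₂] {L : D₂ ⥤ D₁} {R : D₁ ⥤ D₂} (adj : L ⊣ R)
    (τ : A → B) (hR : ∀ (a : A) {W W' : D₁} (x : W ⟶ W'), R.map (a • x) = τ a • R.map x)
    {P : D₂} {Q W : D₁} (ι : L.obj P ⟶ Q) (a : A) (x : Q ⟶ W) :
    adj.homEquiv _ _ (ι ≫ (a • x)) = τ a • adj.homEquiv _ _ (ι ≫ x) := by
  rw [Adjunction.homEquiv_unit, Adjunction.homEquiv_unit, Linear.comp_smul, hR, Linear.comp_smul]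

/-- Morphisms out of the structure sheaf, seen on the localisation at the whole space. -/
theorem exists_homEquiv : ∃ e : ∀ W : DerivedCategory (ModSite.Mod X.sheaf),
    (SiteCmp.inD X.sheaf (ModSite.unit X.sheaf) ⟶ W) ≃+ (U₀ (⊤ : X.Opens) ⟶ (dRestr (⊤ : X.Opens)).obj W),
      (∀ W (s : DerComp.GSec X.sheaf) x, e W (s • x) = τTop s • e W x) ∧
      ∀ W W' (g : W ⟶ W') x, e W' (x ≫ g) = e W x ≫ (dRestr (⊤ : X.Opens)).map g := by
  let R := ModSite.restr X.sheaf (⊤ : X.Opens)
  haveI : R.Faithful := ⟨fun {M N} _ _ h => (full_restr_top M N).1 h⟩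
  haveI : R.Full := ⟨fun {M N} f => (full_restr_top M N).2 f⟩
  let adj := ModSite.extZeroAdj X.sheaf (⊤ : X.Opens)
  haveI : IsIso adj.counit := inferInstance
  let ι₀ : ModSite.freeOn X.sheaf (⊤ : X.Opens) ≅ ModSite.unit X.sheaf := by
    let κ : ModSite.unit (X.sheaf.over (⊤ : X.Opens)) ≅ R.obj (ModSite.unit X.sheaf) := Iso.refl _
    exact (ModSite.extZero X.sheaf (⊤ : X.Opens)).mapIso κ ≪≫ asIso (adj.counit.app _)
  let ι : (dExt (⊤ : X.Opens)).obj (U₀ (⊤ : X.Opens)) ≅ SiteCmp.inD X.sheaf (ModSite.unit X.sheaf) :=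
    (ModSite.extZero X.sheaf (⊤ : X.Opens)).mapDerivedCategoryFactors.app _ ≪≫ DerivedCategory.Q.mapIso
      ((HomologicalComplex.singleMapHomologicalComplex (ModSite.extZero X.sheaf (⊤ : X.Opens))
        (ComplexShape.up ℤ) 0).app _ ≪≫
        (HomologicalComplex.single _ (ComplexShape.up ℤ) 0).mapIso ι₀) ≪≫
      ((DerivedCategory.singleFunctorIsoCompQ _ 0).app _).symm
  obtain ⟨a⟩ := nonempty_extRestrAdj (O := X.sheaf) (⊤ : X.Opens)
  haveI : (dRestr (O := X.sheaf) (⊤ : X.Opens)).Additive := a.right_adjoint_additive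
  refine ⟨fun W => AddEquiv.mk' (ι.symm.homFromEquiv.trans (a.homEquiv _ _)) fun x y => ?_, fun W s x => ?_,
    fun W W' g x => ?_⟩
  · show a.homEquiv _ _ (ι.hom ≫ (x + y)) = a.homEquiv _ _ (ι.hom ≫ x) + a.homEquiv _ _ (ι.hom ≫ y)
    simp only [Adjunction.homEquiv_unit, Preadditive.comp_add, Functor.map_add]
  · exact semilinear_key a (fun s => τTop s) (fun s {_ _} y => dRestr_map_smul s y) ι.hom s x
  · show a.homEquiv _ _ (ι.hom ≫ x ≫ g) = a.homEquiv _ _ (ι.hom ≫ x) ≫ _
    rw [← Category.assoc, Adjunction.homEquiv_naturality_right]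

/-- Global sections of the derived completion on an affine scheme. -/
theorem main_top [IsAffine X] [IsNoetherian X] (I : Ideal (DerComp.GSec X.sheaf)) (𝓘 : DerComp.IdealSh X.sheaf)
    (h𝓘 : 𝓘.IsGenBy (fun a : I => (a : DerComp.GSec X.sheaf))) [DerComp.HasDerCompletion X.sheaf 𝓘]
    (K : DerivedCategory (ModSite.Mod X.sheaf))
    (hK : ∀ q : ℤ, Coh.IsCoh (X := X) ((DerivedCategory.homologyFunctor (ModSite.Mod X.sheaf) q).obj K)) (p : ℤ) :
    Good I (Linear.rightComp (DerComp.GSec X.sheaf) (SiteCmp.inD X.sheaf (ModSite.unit X.sheaf))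
      ((DerComp.toDerCompletion 𝓘 K)⟦p⟧') :
        (SiteCmp.inD X.sheaf (ModSite.unit X.sheaf) ⟶ K⟦p⟧) →ₗ[DerComp.GSec X.sheaf]
          (SiteCmp.inD X.sheaf (ModSite.unit X.sheaf) ⟶ ((DerComp.derCompletion X.sheaf 𝓘).obj K).obj⟦p⟧)) := by
  classical
  have hV : IsAffineOpen (⊤ : X.Opens) := isAffineOpen_top X
  haveI := isNoetherianRing_gsec hV
  haveI : IsNoetherianRing (DerComp.GSec X.sheaf) :=
    isNoetherianRing_of_ringEquiv _ (τTop (X := X)).symm
  obtain ⟨S, hS⟩ := IsNoetherian.noetherian I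
  let l : List (X.sheaf.obj.obj (op (⊤ : X.Opens))) := S.toList.map fun s => s.1 ⊤
  have hl : Gen 𝓘 (⊤ : X.Opens) l := by
    refine ⟨fun a ha => ?_, fun K' hK' W x hx => ?_⟩
    · obtain ⟨s, hs, rfl⟩ := List.mem_map.1 ha
      have hsI : s ∈ I := by
        rw [← hS]
        exact Submodule.subset_span (Finset.mem_toList.1 hs)
      exact h𝓘.1 ⟨s, hsI⟩ ⊤
    · let j : ∀ U : X.Opens, Over (⊤ : X.Opens) := fun U => Over.mk (homOfLE (le_top : U ≤ ⊤))
      let 𝓙 : DerComp.IdealSh X.sheaf :=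
        { ideal := fun U => K'.ideal (j U)
          map_mem := fun {U U'} g f hf =>
            K'.map_mem (Over.homMk (U := j U') (V := j U) g (Subsingleton.elim _ _)) hf
          glue := fun {U} f T hT h => K'.glue (U := j U) (f := f) ((Sieve.overEquiv (j U)).symm T)
            (GrothendieckTopology.overEquiv_symm_mem_over (Opens.grothendieckTopology X) (j U) T hT)
            fun Y g hg => h g.left hg }
      have hle : 𝓘 ≤ 𝓙 := h𝓘.2 𝓙 fun s U => by
        let N : Ideal (DerComp.GSec X.sheaf) :=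
          { carrier := {t | t.1 U ∈ 𝓙.ideal U}
            add_mem' := fun {a b} ha hb => (𝓙.ideal U).add_mem ha hb
            zero_mem' := (𝓙.ideal U).zero_mem
            smul_mem' := fun c {a} ha => (𝓙.ideal U).mul_mem_left (c.1 U) ha }
        have hN : I ≤ N := by
          rw [← hS, Submodule.span_le]
          intro t ht
          have := hK' (t.1 ⊤) (List.mem_map.2 ⟨t, Finset.mem_toList.2 ht, rfl⟩) (j U)
          show t.1 U ∈ K'.ideal (j U)
          rw [← t.2 (homOfLE (le_top : U ≤ ⊤))]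
          exact this
        exact hN s.2
      exact hle W.left hx
  have hmap : I.map ((τTop (X := X) : DerComp.GSec X.sheaf ≃+* _) :
      DerComp.GSec X.sheaf →+* DerComp.GSec (X.sheaf.over (⊤ : X.Opens))) =
      Ideal.span {t | ∃ a ∈ l, DerComp.GSec.ofSect X.sheaf (⊤ : X.Opens) a = t} := by
    rw [← hS, Ideal.submodule_span_eq, Ideal.map_span]
    congr 1
    ext t
    constructor
    · rintro ⟨s, hs, rfl⟩
      exact ⟨s.1 ⊤, List.mem_map.2 ⟨s, Finset.mem_toList.2 hs, rfl⟩, rfl⟩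
    · rintro ⟨a, ha, rfl⟩
      obtain ⟨s, hs, rfl⟩ := List.mem_map.1 ha
      exact ⟨s, Finset.mem_toList.1 hs, rfl⟩
  have hgood := main hV 𝓘 l hl K hK p
  rw [← hmap] at hgood
  obtain ⟨e, he, hnat⟩ := exists_homEquiv (X := X)
  let sh := fun W => ((dRestr (O := X.sheaf) (⊤ : X.Opens)).commShiftIso p).app W
  let E : ∀ W : DerivedCategory (ModSite.Mod X.sheaf), (SiteCmp.inD X.sheaf (ModSite.unit X.sheaf) ⟶ W⟦p⟧) ≃+
      (U₀ (⊤ : X.Opens) ⟶ ((dRestr (⊤ : X.Opens)).obj W)⟦p⟧) := fun W =>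
    (e (W⟦p⟧)).trans (Linear.homCongr (DerComp.GSec (X.sheaf.over (⊤ : X.Opens))) (Iso.refl _) (sh W)).toAddEquiv
  have hE : ∀ W (s : DerComp.GSec X.sheaf) x, E W (s • x) = τTop s • E W x := fun W s x => by
    exact (congrArg (Linear.homCongr (DerComp.GSec (X.sheaf.over (⊤ : X.Opens))) (Iso.refl _) (sh W))
      (he (W⟦p⟧) s x)).trans (LinearEquiv.map_smul _ _ _)
  refine Good.transfer τTop I (E K) (hE K) (E _) (hE _) (fun x => ?_) hgood
  show Linear.homCongr _ (Iso.refl _) (sh _) (e _ (x ≫ (DerComp.toDerCompletion 𝓘 K)⟦p⟧')) =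
    Linear.homCongr _ (Iso.refl _) (sh K) (e _ x) ≫ _
  rw [hnat]
  simp only [Linear.homCongr_apply, Iso.refl_inv, Category.id_comp, Category.assoc, sh, Iso.app_hom]
  congr 1
  exact (dRestr (O := X.sheaf) (⊤ : X.Opens)).commShiftIso_hom_naturality (DerComp.toDerCompletion 𝓘 K) p

end Groth.LocCohTransform.HomCompletion
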