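import Groth.Agent.LocCohTransform.HomCompletionGlobal
import Groth.Agent.DerivedCoh.HomFinite
import Groth.Agent.HensPair.ProperClopenNoeth
import Groth.Agent.CohFin.ProjFinite
import Groth.Agent.AdicLinTop.Adic
import Groth.Prelude.Def_KLin
import Mathlib.CategoryTheory.Monad.Adjunction

/-!
Derived completion is fully faithful on coherent complexes on schemes proper over complete rings.
-/

set_option autoImplicit false
set_option linter.style.haveILetI false
set_option linter.unusedSectionVars false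
set_option backward.defeqAttrib.useBackward true
set_option backward.isDefEq.respectTransparency false
set_option synthInstance.maxHeartbeats 400000
set_option maxHeartbeats 2000000

universe u v

open CategoryTheory CategoryTheory.Limits CategoryTheory.Pretriangulated AlgebraicGeometry TopologicalSpace Opposite

attribute [local instance] HasDerivedCategory.standard

namespace Groth.LocCohTransform.HomCompletion

open Groth.DAlg.DerCompKoszul Groth.DAlg.SiteTorsion Groth.DAlg

variable {X : Scheme.{u}} {V : X.Opens}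

/-- The general form: morphisms into the restriction of a derived completion. -/
theorem good_dRestr [IsNoetherianRing (DerComp.GSec (X.sheaf.over V))] (𝓘 : DerComp.IdealSh X.sheaf)
    [DerComp.HasDerCompletion X.sheaf 𝓘] (l : List (X.sheaf.obj.obj (op V))) (hl : Gen 𝓘 V l)
    (K : DerivedCategory (ModSite.Mod X.sheaf)) (P : DerivedCategory (ModSite.Mod (X.sheaf.over V)))
    (hfin : ∀ n : ℤ, Module.Finite (DerComp.GSec (X.sheaf.over V)) (P ⟶ ((dRestr V).obj K)⟦n⟧)) (n : ℤ) :
    Good (Ideal.span {t | ∃ a ∈ l, DerComp.GSec.ofSect X.sheaf V a = t})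
      (Linear.rightComp (DerComp.GSec (X.sheaf.over V)) P
          (((dRestr (O := X.sheaf) V).map (DerComp.toDerCompletion 𝓘 K))⟦n⟧') :
        (P ⟶ ((dRestr V).obj K)⟦n⟧) →ₗ[DerComp.GSec (X.sheaf.over V)]
          (P ⟶ ((dRestr V).obj ((DerComp.derCompletion X.sheaf 𝓘).obj K).obj)⟦n⟧)) := by
  classical
  let c := DerComp.GSec.ofSect X.sheaf V
  let s : Finset (DerComp.GSec (X.sheaf.over V)) := (l.map c).toFinset
  have hsl : ∀ t, t ∈ s ↔ ∃ a ∈ l, c a = t := fun t => by simp [s, c]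
  have hset : (s : Set (DerComp.GSec (X.sheaf.over V))) = {t | ∃ a ∈ l, DerComp.GSec.ofSect X.sheaf V a = t} :=
    Set.ext hsl
  obtain ⟨D, b, d, hT⟩ := distinguished_cocone_triangle (DerComp.toDerCompletion 𝓘 K)
  have hD : Ct 𝓘 D := ct_cone 𝓘 K D b d hT
  obtain ⟨D₀, ⟨eD⟩⟩ : ∃ D₀, Nonempty (DerivedCategory.Q.obj D₀ ≅ D) := ⟨_, ⟨DerivedCategory.Q.objObjPreimageIso D⟩⟩
  have hDo : Ct 𝓘 (DerivedCategory.Q.obj D₀) := fun Z hZ => (hD Z hZ).of_iso_left eD.symm
  have horth : ∀ P : DerivedCategory (ModSite.Mod (X.sheaf.over V)), (∀ t ∈ s, KosCx.Nil t P) →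
      KosCx.Orth P ((dRestr V).obj D) := fun P hP => by
    refine KosCx.Orth.of_iso_right (Y := DerivedCategory.Q.obj
      (((ModSite.restr X.sheaf V).mapHomologicalComplex (ComplexShape.up ℤ)).obj D₀)) ?_
      (((ModSite.restr X.sheaf V).mapDerivedCategoryFactors.app D₀).symm ≪≫ (dRestr V).mapIso eD)
    exact KosCx.orth_of_orth_kos_right c l P _ (fun a ha => hP _ ((hsl _).2 ⟨a, ha, rfl⟩))
      fun m φ => ((shiftFunctor _ m).map_isZero (isZero_kos_restr hl D₀ hDo)).eq_of_tgt _ _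
  let T := (dRestr (O := X.sheaf) V).mapTriangle.obj (Triangle.mk (DerComp.toDerCompletion 𝓘 K) b d)
  have hTd : T ∈ distTriang _ := (dRestr (O := X.sheaf) V).map_distinguished _ hT
  refine good_hom ((dRestr (O := X.sheaf) V).map (DerComp.toDerCompletion 𝓘 K)) _ s (congrArg Ideal.span hset)
    (fun P' m t ht => ?_) (fun P' hP m => ?_) P hfin n
  · refine Groth.DerComplete.dc_forall_mem_span (S := {t | ∃ a ∈ l, DerComp.GSec.ofSect X.sheaf V a = t}) ?_ t ht
    rintro _ ⟨a, ha, rfl⟩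
    exact van_restr a (hl.1 a ha) _ ((DerComp.derCompletion X.sheaf 𝓘).obj K).property P' m
  · exact Groth.Misc4.RlimVanish.bijective_comp_of_cone (T := T) hTd m (fun f => horth P' hP m f)
      (fun f => (horth P' hP).shift_right (-1) m f)

/-- A derived functor composite is isomorphic to the identity when the functors are. -/
theorem nonempty_mapDerived_comp_iso {C₁ : Type*} [Category C₁] [Abelian C₁] [HasDerivedCategory C₁] {C₂ : Type*}
    [Category C₂] [Abelian C₂] [HasDerivedCategory C₂] (F : C₁ ⥤ C₂) [F.Additive] [PreservesFiniteLimits F]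
    [PreservesFiniteColimits F] (G : C₂ ⥤ C₁) [G.Additive] [PreservesFiniteLimits G] [PreservesFiniteColimits G]
    (e : F ⋙ G ≅ 𝟭 C₁) : Nonempty (F.mapDerivedCategory ⋙ G.mapDerivedCategory ≅ 𝟭 (DerivedCategory C₁)) := by
  let up := ComplexShape.up ℤ
  let e₂ : F.mapHomologicalComplex up ⋙ G.mapHomologicalComplex up ≅ 𝟭 (CochainComplex C₁ ℤ) :=
    NatIso.ofComponents (fun K => HomologicalComplex.Hom.isoOfComponents (fun i => e.app (K.X i))
      (fun i j _ => (e.hom.naturality (K.d i j)).symm)) (fun {K L} f => by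
        ext i
        exact e.hom.naturality (f.f i))
  let e₁ : DerivedCategory.Q ⋙ F.mapDerivedCategory ⋙ G.mapDerivedCategory ≅
      DerivedCategory.Q ⋙ 𝟭 (DerivedCategory C₁) :=
    (Functor.associator _ _ _).symm ≪≫ Functor.isoWhiskerRight F.mapDerivedCategoryFactors _ ≪≫
      Functor.associator _ _ _ ≪≫ Functor.isoWhiskerLeft _ G.mapDerivedCategoryFactors ≪≫
      (Functor.associator _ _ _).symm ≪≫ Functor.isoWhiskerRight e₂ _ ≪≫ Functor.leftUnitor _ ≪≫
      (Functor.rightUnitor _).symm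
  exact ⟨Localization.liftNatIso DerivedCategory.Q (HomologicalComplex.quasiIso C₁ up)
    (DerivedCategory.Q ⋙ F.mapDerivedCategory ⋙ G.mapDerivedCategory) (DerivedCategory.Q ⋙ 𝟭 _) _ _ e₁⟩

/-- Derived restriction to the whole space is fully faithful. -/
theorem bijective_dRestr_top (W W' : DerivedCategory (ModSite.Mod X.sheaf)) :
    Function.Bijective fun f : W ⟶ W' => (dRestr (⊤ : X.Opens)).map f := by
  let R := ModSite.restr X.sheaf (⊤ : X.Opens)
  haveI : R.Faithful := ⟨fun {M N} _ _ h => (full_restr_top M N).1 h⟩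
  haveI : R.Full := ⟨fun {M N} f => (full_restr_top M N).2 f⟩
  let adj := ModSite.extZeroAdj X.sheaf (⊤ : X.Opens)
  haveI : IsIso adj.counit := inferInstance
  obtain ⟨e⟩ := nonempty_mapDerived_comp_iso R (ModSite.extZero X.sheaf (⊤ : X.Opens)) (asIso adj.counit)
  obtain ⟨a⟩ := nonempty_extRestrAdj (O := X.sheaf) (⊤ : X.Opens)
  haveI := Adjunction.isIso_counit_of_iso a e
  exact (Adjunction.fullyFaithfulROfIsIsoCounit a).map_bijective W W'

theorem smulTop_map {A : Type*} [CommRing A] {B : Type*} [CommRing B] [Algebra A B] (I : Ideal A) {M : Type*}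
    [AddCommGroup M] [Module A M] [Module B M] [IsScalarTower A B M] (x : M) :
    x ∈ (I.map (algebraMap A B) • ⊤ : Submodule B M) ↔ x ∈ (I • ⊤ : Submodule A M) := by
  have key : ∀ b ∈ I.map (algebraMap A B), ∀ m : M, b • m ∈ (I • ⊤ : Submodule A M) := by
    intro b hb
    rw [Ideal.map] at hb
    induction hb using Submodule.span_induction with
    | mem b hb =>
      obtain ⟨a, ha, rfl⟩ := hb
      intro m
      rw [algebraMap_smul]
      exact Submodule.smul_mem_smul ha Submodule.mem_top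
    | zero => intro m; rw [zero_smul]; exact Submodule.zero_mem _
    | add b c _ _ hb hc => intro m; rw [add_smul]; exact Submodule.add_mem _ (hb m) (hc m)
    | smul c b _ hb => intro m; rw [smul_eq_mul, mul_comm, mul_smul]; exact hb _
  constructor
  · intro hx
    exact Submodule.smul_induction_on hx (fun b hb m _ => key b hb m) fun _ _ => Submodule.add_mem _
  · intro hx
    refine Submodule.smul_induction_on hx (fun a ha m _ => ?_) fun _ _ => Submodule.add_mem _
    rw [← algebraMap_smul B a m]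
    exact Submodule.smul_mem_smul (Ideal.mem_map_of_mem _ ha) Submodule.mem_top

/-- Finiteness along a semilinear bijection. -/
theorem finite_of_semilinear {B C : Type*} [CommRing B] [CommRing C] (τ : B ≃+* C) {M M' : Type*} [AddCommGroup M]
    [Module B M] [AddCommGroup M'] [Module C M'] (e : M ≃+ M') (he : ∀ b x, e (b • x) = τ b • e x)
    (h : Module.Finite B M) : Module.Finite C M' := by
  classical
  obtain ⟨S, hS⟩ := h
  refine ⟨⟨S.image e, eq_top_iff.2 fun y h' => ?_⟩⟩
  clear h'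
  obtain ⟨x, rfl⟩ := e.surjective y
  have hx : x ∈ Submodule.span B (S : Set M) := hS ▸ Submodule.mem_top
  clear hS
  induction hx using Submodule.span_induction with
  | mem z hz => exact Submodule.subset_span (Finset.mem_coe.2 (Finset.mem_image_of_mem _ hz))
  | zero => rw [map_zero]; exact Submodule.zero_mem _
  | add z w _ _ hz hw => rw [map_add]; exact Submodule.add_mem _ (hz) (hw)
  | smul c z _ hz => rw [he]; exact Submodule.smul_mem _ _ hz

/-- A completion map with complete source is bijective. -/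
theorem Good.bijective {B : Type u} [CommRing B] {C : Type u} [CommRing C] [Algebra B C] (I : Ideal B) {M N : Type v}
    [AddCommGroup M] [Module C M] [AddCommGroup N] [Module C N] [Module B M] [IsScalarTower B C M]
    [IsAdicComplete I M] {φ : M →ₗ[C] N} (h : Good (I.map (algebraMap B C)) φ) : Function.Bijective φ := by
  obtain ⟨hN, hk⟩ := h
  have hpow : ∀ (k : ℕ) (x : M), x ∈ ((I.map (algebraMap B C)) ^ k • ⊤ : Submodule C M) ↔
      x ∈ (I ^ k • ⊤ : Submodule B M) := fun k x => by rw [← Ideal.map_pow, smulTop_map]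
  constructor
  · refine (injective_iff_map_eq_zero _).2 fun x hx => IsHausdorff.haus' (I := I) x fun k => SModEq.zero.2 ?_
    exact (hpow k x).1 ((hk k).2 x (hx ▸ Submodule.zero_mem _))
  · intro y
    choose x hx using fun k => (hk k).1 y
    obtain ⟨L, hL⟩ := IsPrecomplete.prec' (I := I) x fun {m n} hmn => SModEq.sub_mem.2 ((hpow m _).1
      ((hk m).2 _ (by
        rw [map_sub, show φ (x m) - φ (x n) = (φ (x m) - y) - (φ (x n) - y) by abel]
        exact Submodule.sub_mem _ (hx m) (Submodule.smul_mono_left (Ideal.pow_le_pow_right hmn) (hx n)))))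
    refine ⟨L, sub_eq_zero.1 (hN.toIsHausdorff.haus _ fun k => SModEq.zero.2 ?_)⟩
    rw [show φ L - y = φ (L - x k) + (φ (x k) - y) by rw [map_sub]; abel]
    exact Submodule.add_mem _ (smulTop_le _ φ ((hpow k _).2 (SModEq.sub_mem.1 (hL k).symm))) (hx k)

/-- Generation by global sections over the whole space. -/
theorem gen_top {ι : Type u} (σ : ι → DerComp.GSec X.sheaf) (𝓙 : DerComp.IdealSh X.sheaf) (h𝓙 : 𝓙.IsGenBy σ)
    (L : List (DerComp.GSec X.sheaf)) (hL : ∀ t ∈ L, t ∈ Ideal.span (Set.range σ))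
    (hσ : ∀ i, σ i ∈ Ideal.span {t | t ∈ L}) : Gen 𝓙 (⊤ : X.Opens) (L.map fun t => t.1 ⊤) := by
  refine ⟨fun c hc => ?_, fun K' hK' W x hx => ?_⟩
  · obtain ⟨t, ht, rfl⟩ := List.mem_map.1 hc
    have hN : Ideal.span (Set.range σ) ≤ (𝓙.ideal ⊤).comap
        ((Pi.evalRingHom (fun U : X.Opens => X.sheaf.obj.obj (op U)) ⊤).comp (DerComp.GSec X.sheaf).subtype) := by
      rw [Ideal.span_le]
      rintro _ ⟨i, rfl⟩
      exact h𝓙.1 i ⊤
    exact hN (hL t ht)
  · let j : ∀ U : X.Opens, Over (⊤ : X.Opens) := fun U => Over.mk (homOfLE (le_top : U ≤ ⊤))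
    let 𝓚 : DerComp.IdealSh X.sheaf :=
      { ideal := fun U => K'.ideal (j U)
        map_mem := fun {U U'} g f hf =>
          K'.map_mem (Over.homMk (U := j U') (V := j U) g (Subsingleton.elim _ _)) hf
        glue := fun {U} f T hT h => K'.glue (U := j U) (f := f) ((Sieve.overEquiv (j U)).symm T)
          (GrothendieckTopology.overEquiv_symm_mem_over (Opens.grothendieckTopology X) (j U) T hT)
          fun Y g hg => h g.left hg }
    have hle : 𝓙 ≤ 𝓚 := h𝓙.2 𝓚 fun i U => by
      have hN : Ideal.span {t | t ∈ L} ≤ (𝓚.ideal U).comap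
          ((Pi.evalRingHom (fun U : X.Opens => X.sheaf.obj.obj (op U)) U).comp (DerComp.GSec X.sheaf).subtype) := by
        rw [Ideal.span_le]
        intro t ht
        have := hK' (t.1 ⊤) (List.mem_map.2 ⟨t, ht, rfl⟩) (j U)
        show t.1 U ∈ K'.ideal (j U)
        rw [← t.2 (homOfLE (le_top : U ≤ ⊤))]
        exact this
      exact hN (hσ i)
    exact hle W.left hx

/-- Morphisms seen on the localisation at the whole space. -/
noncomputable def topEquiv (F W : DerivedCategory (ModSite.Mod X.sheaf)) :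
    (F ⟶ W) ≃+ ((dRestr (⊤ : X.Opens)).obj F ⟶ (dRestr (⊤ : X.Opens)).obj W) :=
  haveI : (dRestr (O := X.sheaf) (⊤ : X.Opens)).Additive :=
    (nonempty_extRestrAdj (O := X.sheaf) (⊤ : X.Opens)).some.right_adjoint_additive
  AddEquiv.ofBijective ((dRestr (⊤ : X.Opens)).mapAddHom) (bijective_dRestr_top F W)

theorem topEquiv_apply (F W : DerivedCategory (ModSite.Mod X.sheaf)) (x : F ⟶ W) :
    topEquiv F W x = (dRestr (⊤ : X.Opens)).map x := rfl

/-- Morphisms into a shift seen on the localisation at the whole space. -/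
noncomputable def topShift (F W : DerivedCategory (ModSite.Mod X.sheaf)) (n : ℤ) :
    (F ⟶ W⟦n⟧) ≃+ ((dRestr (⊤ : X.Opens)).obj F ⟶ ((dRestr (⊤ : X.Opens)).obj W)⟦n⟧) :=
  (topEquiv F (W⟦n⟧)).trans (Linear.homCongr (DerComp.GSec (X.sheaf.over (⊤ : X.Opens))) (Iso.refl _)
    (((dRestr (O := X.sheaf) (⊤ : X.Opens)).commShiftIso n).app W)).toAddEquiv

theorem topShift_apply (F W : DerivedCategory (ModSite.Mod X.sheaf)) (n : ℤ) (x : F ⟶ W⟦n⟧) :
    topShift F W n x =
      (dRestr (⊤ : X.Opens)).map x ≫ ((dRestr (O := X.sheaf) (⊤ : X.Opens)).commShiftIso n).hom.app W := by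
  show Linear.homCongr _ _ _ (topEquiv F _ x) = _
  rw [Linear.homCongr_apply, topEquiv_apply, Iso.refl_inv, Category.id_comp]
  rfl

theorem topShift_smul (F W : DerivedCategory (ModSite.Mod X.sheaf)) (n : ℤ) (c : DerComp.GSec X.sheaf)
    (x : F ⟶ W⟦n⟧) : topShift F W n (c • x) = τTop c • topShift F W n x := by
  exact (topShift_apply F W n _).trans ((congrArg (· ≫ _) (dRestr_map_smul c x)).trans
    ((Linear.smul_comp _ _ _ _ _ _).trans (congrArg (τTop c • ·) (topShift_apply F W n x).symm)))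

theorem topShift_comp (F : DerivedCategory (ModSite.Mod X.sheaf)) {W W' : DerivedCategory (ModSite.Mod X.sheaf)}
    (η : W ⟶ W') (n : ℤ) (x : F ⟶ W⟦n⟧) :
    topShift F W' n (x ≫ η⟦n⟧') = topShift F W n x ≫ ((dRestr (⊤ : X.Opens)).map η)⟦n⟧' := by
  rw [topShift_apply, topShift_apply, Functor.map_comp, Category.assoc, Category.assoc]
  congr 1
  exact (dRestr (O := X.sheaf) (⊤ : X.Opens)).commShiftIso_hom_naturality η n

variable (A : Type u) [CommRing A] [X.Over (Spec (CommRingCat.of A))]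

/-- Scalars on the base as global sections. -/
noncomputable def toGSec : A →+* DerComp.GSec X.sheaf :=
  (evalTop (X := X)).symm.toRingHom.comp (Coh.toGlobal (X ↘ Spec (CommRingCat.of A)))

theorem smul_mod (a : A) (M : X.Modules) :
    (a • 𝟙 M : M ⟶ M) = DerComp.smulEnd (O := X.sheaf) (toGSec (X := X) A a) M := by
  refine Scheme.Modules.hom_ext _ _ fun U => ?_
  ext m
  rw [KLin.smul_app_apply, Scheme.Modules.Hom.id_app]
  rfl

theorem smul_hom (a : A) {M N : X.Modules} (f : M ⟶ N) :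
    (a • f : M ⟶ N) = (DerComp.smulEnd (O := X.sheaf) (toGSec (X := X) A a) M ≫ f : (M : ModSite.Mod X.sheaf) ⟶ N) := by
  rw [← Category.id_comp f, ← Linear.smul_comp, smul_mod]
  rfl

/-- The two scalar actions on the derived category agree. -/
theorem smul_derived (a : A) {W W' : DCoh.D X} (x : W ⟶ W') :
    a • x = toGSec (X := X) A a •
      (show @Quiver.Hom (DerivedCategory (ModSite.Mod X.sheaf)) _ W W' from x) := by
  obtain ⟨K, ⟨e⟩⟩ : ∃ K, Nonempty (DerivedCategory.Q.obj K ≅ W) := ⟨_, ⟨DerivedCategory.Q.objObjPreimageIso W⟩⟩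
  let s := toGSec (X := X) A a
  let K' : CochainComplex (ModSite.Mod X.sheaf) ℤ := K
  have h1 : (a • 𝟙 K : K ⟶ K) = (s • 𝟙 K' : K' ⟶ K') := by
    ext i : 1
    rw [HomologicalComplex.smul_f_apply, HomologicalComplex.id_f, smul_hom]
    rfl
  have h3 : a • x = (e.inv ≫ DerivedCategory.Q.map (a • 𝟙 K) ≫ e.hom) ≫ x := by
    rw [Functor.map_smul, CategoryTheory.Functor.map_id, Linear.smul_comp, Category.id_comp, Linear.comp_smul,
      Iso.inv_hom_id, Linear.smul_comp, Category.id_comp]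
  let W₁ : DerivedCategory (ModSite.Mod X.sheaf) := W
  let W₂ : DerivedCategory (ModSite.Mod X.sheaf) := W'
  let e' : DerivedCategory.Q.obj K' ≅ W₁ := e
  let x' : W₁ ⟶ W₂ := x
  have h4 : s • x' = (e'.inv ≫ DerivedCategory.Q.map (s • 𝟙 K') ≫ e'.hom) ≫ x' := by
    rw [Functor.map_smul, CategoryTheory.Functor.map_id, Linear.smul_comp, Category.id_comp, Linear.comp_smul,
      Iso.inv_hom_id, Linear.smul_comp, Category.id_comp]
  refine h3.trans (Eq.trans ?_ h4.symm)
  rw [h1]

/-- Morphisms between coherent complexes form finite modules over the global sections. -/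
theorem finite_hom_gsec [IsNoetherianRing A] [IsProper (X ↘ Spec (CommRingCat.of A))]
    (F G : DerivedCategory (ModSite.Mod X.sheaf)) (hF : DCoh.IsCohD (X := X) F)
    (hG : DCoh.IsCohD (X := X) G) (a b : ℤ) (hFa : F.IsLE a) (hGb : G.IsGE b) (n : ℤ) :
    Module.Finite (DerComp.GSec X.sheaf) (F ⟶ G⟦n⟧) := by
  let F' : DCoh.D X := F
  let G' : DCoh.D X := G
  obtain ⟨S, hS⟩ := Groth.DerivedCoh.HomFinite.finite_hom A (K := F') hF a hFa (L := G') hG b hGb n
  let S' : Finset (F ⟶ G⟦n⟧) := S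
  refine ⟨⟨S', eq_top_iff.2 fun x _ => ?_⟩⟩
  let x' : F' ⟶ G'⟦n⟧ := x
  have hx : x' ∈ Submodule.span A (S : Set (F' ⟶ G'⟦n⟧)) := hS ▸ Submodule.mem_top
  exact Submodule.span_induction
    (p := fun (z : F' ⟶ G'⟦n⟧) _ =>
      (show F ⟶ G⟦n⟧ from z) ∈ Submodule.span (DerComp.GSec X.sheaf) (S' : Set (F ⟶ G⟦n⟧)))
    (fun z hz => Submodule.subset_span hz) (Submodule.zero_mem _)
    (fun z w _ _ hz hw => Submodule.add_mem _ hz hw)
    (fun c z _ hz => by
      rw [smul_derived]
      exact Submodule.smul_mem _ _ hz) hx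

/-- The completion map is bijective on morphisms out of bounded above coherent complexes. -/
theorem bijective_comp_unit [IsNoetherianRing A] [IsProper (X ↘ Spec (CommRingCat.of A))] (I : Ideal A)
    [IsAdicComplete I A] (𝓙 : DerComp.IdealSh X.sheaf)
    (h𝓙 : 𝓙.IsGenBy fun a : I => toGSec (X := X) A a.1)
    [DerComp.HasDerCompletion X.sheaf 𝓙] (F G : DerivedCategory (ModSite.Mod X.sheaf)) (hF : DCoh.IsCohD (X := X) F)
    (hG : DCoh.IsCohD (X := X) G) (a b : ℤ) (hFa : F.IsLE a) (hGb : G.IsGE b) :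
    Function.Bijective fun x : F ⟶ G⟦(0 : ℤ)⟧ => x ≫ (DerComp.toDerCompletion 𝓙 G)⟦(0 : ℤ)⟧' := by
  classical
  let f := X ↘ Spec (CommRingCat.of A)
  let ρ : A →+* DerComp.GSec (X.sheaf.over (⊤ : X.Opens)) := (τTop (X := X)).toRingHom.comp (toGSec A)
  letI : Algebra A (DerComp.GSec (X.sheaf.over (⊤ : X.Opens))) := ρ.toAlgebra
  letI : Algebra A Γ(X, ⊤) := (Groth.HensPair.toΓ f).toAlgebra
  haveI : Module.Finite A Γ(X, ⊤) := Groth.HensPair.finite_globalSections_of_proper Groth.CohFin.projFinite f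
  haveI : Module.Finite A (DerComp.GSec (X.sheaf.over (⊤ : X.Opens))) := Module.Finite.equiv
    ({ ((evalTop (X := X)).symm.trans (τTop (X := X))).toAddEquiv with
        map_smul' := fun c y => by
          show τTop (evalTop.symm (Groth.HensPair.toΓ f c * y)) = ρ c * τTop (evalTop.symm y)
          rw [map_mul, map_mul]
          rfl } : Γ(X, ⊤) ≃ₗ[A] DerComp.GSec (X.sheaf.over (⊤ : X.Opens)))
  haveI : IsNoetherianRing (DerComp.GSec (X.sheaf.over (⊤ : X.Opens))) := IsNoetherianRing.of_finite A _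
  let P := (dRestr (O := X.sheaf) (⊤ : X.Opens)).obj F
  have hfin : ∀ n : ℤ, Module.Finite (DerComp.GSec (X.sheaf.over (⊤ : X.Opens)))
      (P ⟶ ((dRestr (⊤ : X.Opens)).obj G)⟦n⟧) := fun n =>
    finite_of_semilinear τTop (topShift F G n) (topShift_smul F G n) (finite_hom_gsec A F G hF hG a b hFa hGb n)
  obtain ⟨S, hS⟩ := IsNoetherian.noetherian I
  let L : List (DerComp.GSec X.sheaf) := S.toList.map (toGSec (X := X) A)
  have hrange : Ideal.span {t | t ∈ L} = I.map (toGSec (X := X) A) := by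
    rw [← hS, Ideal.submodule_span_eq, Ideal.map_span]
    congr 1
    ext t
    simp [L]
  have hl : Gen 𝓙 (⊤ : X.Opens) (L.map fun t => t.1 ⊤) :=
    gen_top _ 𝓙 h𝓙 L (fun t ht => by
      obtain ⟨c, hc, rfl⟩ := List.mem_map.1 ht
      exact Ideal.subset_span ⟨⟨c, hS ▸ Submodule.subset_span (Finset.mem_toList.1 hc)⟩, rfl⟩)
      fun i => hrange ▸ Ideal.mem_map_of_mem _ i.2
  have hmap : I.map (algebraMap A (DerComp.GSec (X.sheaf.over (⊤ : X.Opens)))) =
      Ideal.span {t | ∃ c ∈ L.map (fun t => t.1 ⊤), DerComp.GSec.ofSect X.sheaf (⊤ : X.Opens) c = t} := by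
    rw [← hS, Ideal.submodule_span_eq, Ideal.map_span]
    congr 1
    ext t
    constructor
    · rintro ⟨s, hs, rfl⟩
      exact ⟨_, List.mem_map.2 ⟨_, List.mem_map.2 ⟨s, Finset.mem_toList.2 hs, rfl⟩, rfl⟩, rfl⟩
    · rintro ⟨c, hc, rfl⟩
      obtain ⟨s', hs', rfl⟩ := List.mem_map.1 hc
      obtain ⟨s, hs, rfl⟩ := List.mem_map.1 hs'
      exact ⟨s, Finset.mem_toList.1 hs, rfl⟩
  have hgood := good_dRestr 𝓙 _ hl G P hfin 0
  rw [← hmap] at hgood
  letI : Module A (P ⟶ ((dRestr (⊤ : X.Opens)).obj G)⟦(0 : ℤ)⟧) := Module.compHom _ ρ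
  haveI : IsScalarTower A (DerComp.GSec (X.sheaf.over (⊤ : X.Opens))) (P ⟶ ((dRestr (⊤ : X.Opens)).obj G)⟦(0 : ℤ)⟧) :=
    IsScalarTower.of_algebraMap_smul fun _ _ => rfl
  haveI := hfin 0
  haveI : Module.Finite A (P ⟶ ((dRestr (⊤ : X.Opens)).obj G)⟦(0 : ℤ)⟧) :=
    Module.Finite.trans (DerComp.GSec (X.sheaf.over (⊤ : X.Opens))) _
  haveI : IsAdicComplete I (P ⟶ ((dRestr (⊤ : X.Opens)).obj G)⟦(0 : ℤ)⟧) :=
    Groth.AdicLinTop.Adic.isAdicComplete_of_finite
  have hφ := Good.bijective I hgood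
  have key : (fun x : F ⟶ G⟦(0 : ℤ)⟧ => x ≫ (DerComp.toDerCompletion 𝓙 G)⟦(0 : ℤ)⟧') =
      (topShift F _ 0).symm ∘ (fun y => y ≫ ((dRestr (⊤ : X.Opens)).map (DerComp.toDerCompletion 𝓙 G))⟦(0 : ℤ)⟧') ∘
        topShift F G 0 := by
    funext x
    exact (topShift F _ 0).eq_symm_apply.2 (topShift_comp F _ 0 x)
  rw [key]
  exact (topShift F _ 0).symm.bijective.comp (hφ.comp (topShift F G 0).bijective)

/-- Derived completion is bijective on morphisms between coherent complexes. -/
theorem bijective_derCompletion [IsNoetherianRing A] [IsProper (X ↘ Spec (CommRingCat.of A))] (I : Ideal A)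
    [IsAdicComplete I A] (𝓙 : DerComp.IdealSh X.sheaf)
    (h𝓙 : 𝓙.IsGenBy fun a : I => toGSec (X := X) A a.1)
    [DerComp.HasDerCompletion X.sheaf 𝓙] (F G : DerivedCategory (ModSite.Mod X.sheaf)) (hF : DCoh.IsCohD (X := X) F)
    (hG : DCoh.IsCohD (X := X) G) (a b : ℤ) (hFa : F.IsLE a) (hGb : G.IsGE b) :
    Function.Bijective fun ψ : F ⟶ G => (DerComp.derCompletion X.sheaf 𝓙).map ψ := by
  let η := DerComp.toDerCompletion 𝓙 G
  let Z := ((DerComp.derCompletion X.sheaf 𝓙).obj G).obj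
  have h0 := bijective_comp_unit A I 𝓙 h𝓙 F G hF hG a b hFa hGb
  let z := fun W : DerivedCategory (ModSite.Mod X.sheaf) =>
    (shiftFunctorZero (DerivedCategory (ModSite.Mod X.sheaf)) ℤ).app W
  have h1 : Function.Bijective fun x : F ⟶ G => x ≫ η := by
    have : (fun x : F ⟶ G => x ≫ η) =
        (fun y => y ≫ (z Z).hom) ∘ (fun x : F ⟶ G⟦(0 : ℤ)⟧ => x ≫ η⟦(0 : ℤ)⟧') ∘ fun x => x ≫ (z G).inv := by
      funext x
      show x ≫ η = ((x ≫ (z G).inv) ≫ η⟦(0 : ℤ)⟧') ≫ (z Z).hom
      simp only [Category.assoc, z, Iso.app_hom, Iso.app_inv]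
      rw [(shiftFunctorZero (DerivedCategory (ModSite.Mod X.sheaf)) ℤ).hom.naturality η, Iso.inv_hom_id_app_assoc]
      rfl
    rw [this]
    exact (z Z).homToEquiv.bijective.comp (h0.comp (z G).symm.homToEquiv.bijective)
  let adj := DerComp.derCompletionAdj X.sheaf 𝓙
  have key : ((adj.homEquiv F ((DerComp.derCompletion X.sheaf 𝓙).obj G)) ∘
      fun ψ : F ⟶ G => (DerComp.derCompletion X.sheaf 𝓙).map ψ) = fun x : F ⟶ G => x ≫ η := by
    funext x
    show adj.homEquiv _ _ ((DerComp.derCompletion X.sheaf 𝓙).map x) = x ≫ η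
    rw [← Category.comp_id ((DerComp.derCompletion X.sheaf 𝓙).map x), Adjunction.homEquiv_naturality_left,
      Adjunction.homEquiv_id]
  exact ((Equiv.bijective _).of_comp_iff' _).1 (key ▸ h1)

end Groth.LocCohTransform.HomCompletion
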