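import Groth.Agent.LocCohTransform.HomCompletionAlg
import Mathlib.CategoryTheory.Linear.LinearFunctor
import Mathlib.CategoryTheory.Linear.Basic
import Mathlib.CategoryTheory.Triangulated.Pretriangulated
import Mathlib.RingTheory.Ideal.Colon

/-!
Morphism groups into derived complete objects of a linear pretriangulated category are completions.
-/

set_option autoImplicit false
set_option linter.style.haveILetI false
set_option linter.unusedSectionVars false

universe u v w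

open CategoryTheory CategoryTheory.Limits CategoryTheory.Pretriangulated

namespace Groth.LocCohTransform.HomCompletion

variable {A : Type u} [CommRing A] [IsNoetherianRing A]
  {D : Type w} [Category.{v} D] [HasZeroObject D] [HasShift D ℤ] [Preadditive D]
  [∀ n : ℤ, (shiftFunctor D n).Additive] [Pretriangulated D] [Linear A D] [∀ n : ℤ, Functor.Linear A (shiftFunctor D n)]

theorem finite_of_exact {M N P : Type v} [AddCommGroup M] [Module A M] [AddCommGroup N]
    [Module A N] [AddCommGroup P] [Module A P] (f : M →ₗ[A] N) (g : N →ₗ[A] P) [Module.Finite A M]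
    [Module.Finite A P] (h : LinearMap.range f = LinearMap.ker g) : Module.Finite A N :=
  haveI : IsNoetherian A M := isNoetherian_of_isNoetherianRing_of_finite A M
  haveI : IsNoetherian A P := isNoetherian_of_isNoetherianRing_of_finite A P
  haveI := isNoetherian_of_range_eq_ker f g h
  Module.IsNoetherian.finite A N

variable {P C : D} {p : P ⟶ C} {r : C ⟶ P⟦(1 : ℤ)⟧} {a : A}
  (hT : Triangle.mk (a • 𝟙 P) p r ∈ distTriang D)

include hT in
/-- On a cone of a multiplication, what kills the object kills the cone up to squares. -/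
theorem nil_cone_of_comp_zero {b : A} (hb : p ≫ (b • 𝟙 C) = 0) (hb' : b • r = 0) : (b * b) • 𝟙 C = 0 := by
  obtain ⟨(g : P⟦(1 : ℤ)⟧ ⟶ C), hg⟩ := Triangle.yoneda_exact₃ _ hT (b • 𝟙 C) hb
  change b • 𝟙 C = r ≫ g at hg
  rw [mul_smul, hg, ← Linear.smul_comp, hb', zero_comp]

theorem comp_smul_shift (b : A) : b • r = r ≫ ((b • 𝟙 P)⟦(1 : ℤ)⟧') := by
  rw [Functor.map_smul, CategoryTheory.Functor.map_id, Linear.comp_smul, Category.comp_id]

include hT in
theorem nil_cone_self : (a * a) • 𝟙 C = 0 := by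
  refine nil_cone_of_comp_zero hT ?_ ?_
  · have h := comp_distTriang_mor_zero₁₂ _ hT
    change (a • 𝟙 P) ≫ p = 0 at h
    rw [Linear.comp_smul, Category.comp_id]
    rwa [Linear.smul_comp, Category.id_comp] at h
  · have h := comp_distTriang_mor_zero₃₁ _ hT
    change r ≫ ((a • 𝟙 P)⟦(1 : ℤ)⟧') = 0 at h
    rwa [comp_smul_shift]

include hT in
theorem nil_cone_other {b : A} (hb : b • 𝟙 P = 0) : (b * b) • 𝟙 C = 0 := by
  refine nil_cone_of_comp_zero hT ?_ ?_
  · rw [Linear.comp_smul, Category.comp_id, ← Category.id_comp p, ← Linear.smul_comp, hb, zero_comp]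
  · rw [comp_smul_shift, hb, Functor.map_zero, comp_zero]

variable (A) in
/-- The connecting map of the contravariant long exact sequence. -/
noncomputable def uMap (r : C ⟶ P⟦(1 : ℤ)⟧) (X : D) (m n : ℤ) (h : m + 1 = n) : (P ⟶ X⟦m⟧) →ₗ[A] (C ⟶ X⟦n⟧) where
  toFun x := r ≫ x⟦(1 : ℤ)⟧' ≫ ((shiftFunctorAdd' D m 1 n h).app X).inv
  map_add' x y := by simp
  map_smul' c x := by simp [Functor.map_smul]

include hT in
theorem u_eq_zero_iff (X : D) (m n : ℤ) (h : m + 1 = n) (x : P ⟶ X⟦m⟧) :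
    uMap A r X m n h x = 0 ↔ ∃ y, a • y = x := by
  let e := (shiftFunctorAdd' D m 1 n h).app X
  constructor
  · intro hx
    have h0 : r ≫ x⟦(1 : ℤ)⟧' = 0 := by
      rw [← cancel_mono e.inv, Category.assoc, zero_comp]
      exact hx
    obtain ⟨(g : P⟦(1 : ℤ)⟧ ⟶ (X⟦m⟧)⟦(1 : ℤ)⟧), hg⟩ :=
      Triangle.yoneda_exact₃ _ (rot_of_distTriang _ hT) (x⟦(1 : ℤ)⟧') h0
    obtain ⟨y, rfl⟩ := (shiftFunctor D (1 : ℤ)).map_surjective g
    refine ⟨-y, (shiftFunctor D (1 : ℤ)).map_injective ?_⟩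
    change x⟦(1 : ℤ)⟧' = (-(a • 𝟙 P)⟦(1 : ℤ)⟧') ≫ y⟦(1 : ℤ)⟧' at hg
    rw [hg, Functor.map_smul, Functor.map_neg, smul_neg, Functor.map_smul, CategoryTheory.Functor.map_id,
      Preadditive.neg_comp, Linear.smul_comp, Category.id_comp]
  · rintro ⟨y, rfl⟩
    have h0 := comp_distTriang_mor_zero₃₁ _ hT
    change r ≫ ((a • 𝟙 P)⟦(1 : ℤ)⟧') = 0 at h0
    show r ≫ (a • y)⟦(1 : ℤ)⟧' ≫ e.inv = 0
    rw [show a • y = (a • 𝟙 P) ≫ y by rw [Linear.smul_comp, Category.id_comp], Functor.map_comp, Category.assoc,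
      reassoc_of% h0, zero_comp]

include hT in
theorem w_eq_zero_iff (X : D) (m n : ℤ) (h : m + 1 = n) (y : C ⟶ X⟦n⟧) :
    p ≫ y = 0 ↔ ∃ x, uMap A r X m n h x = y := by
  let e := (shiftFunctorAdd' D m 1 n h).app X
  constructor
  · intro hy
    obtain ⟨(g : P⟦(1 : ℤ)⟧ ⟶ X⟦n⟧), hg⟩ := Triangle.yoneda_exact₃ _ hT y hy
    obtain ⟨x, hx⟩ := (shiftFunctor D (1 : ℤ)).map_surjective (g ≫ e.hom)
    refine ⟨x, ?_⟩
    show r ≫ x⟦(1 : ℤ)⟧' ≫ e.inv = y
    rw [hx, Category.assoc, Iso.hom_inv_id, Category.comp_id]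
    exact hg.symm
  · rintro ⟨x, rfl⟩
    have h0 := comp_distTriang_mor_zero₂₃ _ hT
    change p ≫ r = 0 at h0
    show p ≫ r ≫ _ = 0
    rw [reassoc_of% h0, zero_comp]

include hT in
theorem w_range_iff (X : D) (n : ℤ) (x : P ⟶ X⟦n⟧) : a • x = 0 ↔ ∃ y, p ≫ y = x := by
  constructor
  · intro hx
    obtain ⟨y, hy⟩ := Triangle.yoneda_exact₂ _ hT x (by
      show (a • 𝟙 P) ≫ x = 0
      rw [Linear.smul_comp, Category.id_comp, hx])
    exact ⟨y, hy.symm⟩
  · rintro ⟨y, rfl⟩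
    have h0 := comp_distTriang_mor_zero₁₂ _ hT
    change (a • 𝟙 P) ≫ p = 0 at h0
    rw [← Category.id_comp (p ≫ y), ← Linear.smul_comp, reassoc_of% h0, zero_comp]

include hT in
theorem finite_hom_cone (X : D) (hfin : ∀ n : ℤ, Module.Finite A (P ⟶ X⟦n⟧)) (n : ℤ) :
    Module.Finite A (C ⟶ X⟦n⟧) :=
  finite_of_exact (uMap A r X (n - 1) n (by omega)) (Linear.leftComp A (X⟦n⟧) p) (by
    ext y
    exact (w_eq_zero_iff hT X (n - 1) n (by omega) y).symm)

omit hT

variable {K Z : D} (φ : K ⟶ Z) (I : Ideal A) (s : Finset A) (hs : Ideal.span (s : Set A) = I)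
  (hDC : ∀ (P : D) (n : ℤ), ∀ t ∈ I, Groth.DerComplete.DC t (P ⟶ Z⟦n⟧))
  (hbij : ∀ P : D, (∀ t ∈ s, ∃ N : ℕ, (t ^ N) • 𝟙 P = 0) →
    ∀ n : ℤ, Function.Bijective fun x : P ⟶ K⟦n⟧ => x ≫ φ⟦n⟧')

include hs hbij in
theorem good_base (P : D) (hnil : ∀ t ∈ s, ∃ N : ℕ, (t ^ N) • 𝟙 P = 0) (n : ℤ) :
    Good I (Linear.rightComp A P (φ⟦n⟧') : (P ⟶ K⟦n⟧) →ₗ[A] (P ⟶ Z⟦n⟧)) := by
  have hann : ∀ (X : D), ∀ t ∈ s, t ∈ (Module.annihilator A (P ⟶ X)).radical := fun X t ht => by
    obtain ⟨N, hN⟩ := hnil t ht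
    exact ⟨N, Module.mem_annihilator.2 fun x => by
      rw [← Category.id_comp x, ← Linear.smul_comp, hN, zero_comp]⟩
  have hpow : ∀ (X : D), ∃ N, (I ^ N • ⊤ : Submodule A (P ⟶ X)) = ⊥ := fun X => by
    obtain ⟨N, hN⟩ := Ideal.exists_pow_le_of_le_radical_of_fg
      (show I ≤ (Module.annihilator A (P ⟶ X)).radical by rw [← hs, Ideal.span_le]; exact fun t ht => hann X t ht)
      (IsNoetherian.noetherian I)
    exact ⟨N, eq_bot_iff.2 (Submodule.smul_le.2 fun t ht x _ => (Submodule.mem_bot A).2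
      (Module.mem_annihilator.1 (hN ht) x))⟩
  obtain ⟨N, hN⟩ := hpow (Z⟦n⟧)
  have hb := hbij P hnil n
  refine ⟨{ toIsHausdorff := ⟨fun x hx => by simpa [hN, SModEq.zero] using hx N⟩
            toIsPrecomplete := ⟨fun {f} hf => ⟨f N, fun k => ?_⟩⟩ }, fun k => ⟨fun y => ?_, fun x hx => ?_⟩⟩
  · rcases le_or_gt k N with h | h
    · exact hf h
    · have h1 : f N = f k := by
        have := hf h.le
        rwa [SModEq.sub_mem, hN, Submodule.mem_bot, sub_eq_zero] at this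
      rw [h1]
  · obtain ⟨x, hx⟩ := hb.2 y
    exact ⟨x, by simp only [Linear.rightComp_apply, show x ≫ φ⟦n⟧' = y from hx, sub_self, Submodule.zero_mem]⟩
  · let e := LinearEquiv.ofBijective (Linear.rightComp A P (φ⟦n⟧') : (P ⟶ K⟦n⟧) →ₗ[A] (P ⟶ Z⟦n⟧)) hb
    have := smulTop_le (I ^ k) e.symm.toLinearMap hx
    rwa [show e.symm.toLinearMap (Linear.rightComp A P (φ⟦n⟧') x) = x from e.symm_apply_apply x] at this

include hs hDC hbij in
theorem good_induction : ∀ l : List A, (∀ t ∈ l, t ∈ s) → ∀ P : D,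
    (∀ t ∈ s, t ∉ l → ∃ N : ℕ, (t ^ N) • 𝟙 P = 0) → (∀ n : ℤ, Module.Finite A (P ⟶ K⟦n⟧)) →
      ∀ n : ℤ, Good I (Linear.rightComp A P (φ⟦n⟧') : (P ⟶ K⟦n⟧) →ₗ[A] (P ⟶ Z⟦n⟧))
  | [], _, P, hnil, _, n => good_base φ I s hs hbij P (fun t ht => hnil t ht List.not_mem_nil) n
  | f :: l, hl, P, hnil, hfin, n => by
    have hf : f ∈ I := hs ▸ Ideal.subset_span (hl f List.mem_cons_self)
    haveI := hfin
    choose C p r hT using fun k : ℕ => distinguished_cocone_triangle ((f ^ k) • 𝟙 P)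
    refine good_of_seq I s hs (f := f) hf (M := fun n => (P ⟶ K⟦n⟧)) (N := fun n => (P ⟶ Z⟦n⟧))
      (φ := fun n => Linear.rightComp A P (φ⟦n⟧')) (fun q => hDC P q) (fun k => ?_) n
    exact
      { M' := fun q => (C k ⟶ K⟦q⟧)
        N' := fun q => (C k ⟶ Z⟦q⟧)
        fin := fun q => finite_hom_cone (hT k) K hfin q
        φ' := fun q => Linear.rightComp A (C k) (φ⟦q⟧')
        good := fun q => good_induction l (fun t ht => hl t (List.mem_cons_of_mem _ ht)) (C k) (fun t ht htl => by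
          by_cases htf : t = f
          · subst htf
            rcases Nat.eq_zero_or_pos k with hk | hk
            · exact ⟨0, by simpa [hk] using nil_cone_self (hT k)⟩
            · exact ⟨k + k, by rw [pow_add]; exact nil_cone_self (hT k)⟩
          · obtain ⟨N, hN⟩ := hnil t ht (by simp [htf, htl])
            exact ⟨N + N, by rw [pow_add]; exact nil_cone_other (hT k) hN⟩)
          (fun q => finite_hom_cone (hT k) K hfin q) q
        u := uMap A (r k) K
        w := fun q => Linear.leftComp A (K⟦q⟧) (p k)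
        v := uMap A (r k) Z
        z := fun q => Linear.leftComp A (Z⟦q⟧) (p k)
        u_v := fun a b h x => by
          show (r k ≫ x⟦(1 : ℤ)⟧' ≫ ((shiftFunctorAdd' D a 1 b h).app K).inv) ≫ φ⟦b⟧' =
            r k ≫ (x ≫ φ⟦a⟧')⟦(1 : ℤ)⟧' ≫ ((shiftFunctorAdd' D a 1 b h).app Z).inv
          simp only [Functor.map_comp, Category.assoc, Iso.app_inv]
          congr 2
          exact ((shiftFunctorAdd' D a 1 b h).inv.naturality φ).symm
        w_z := fun q x => Category.assoc _ _ _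
        u_iff := fun a b h x => u_eq_zero_iff (hT k) K a b h x
        v_iff := fun a b h x => u_eq_zero_iff (hT k) Z a b h x
        w_iff := fun a b h x => w_eq_zero_iff (hT k) K a b h x
        z_iff := fun a b h x => w_eq_zero_iff (hT k) Z a b h x
        w_range := fun q x => w_range_iff (hT k) K q x
        z_range := fun q x => w_range_iff (hT k) Z q x }

include hs hDC hbij in
/-- Morphism groups out of an object into a derived completion are adic completions. -/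
theorem good_hom (P : D) (hfin : ∀ n : ℤ, Module.Finite A (P ⟶ K⟦n⟧)) (n : ℤ) :
    Good I (Linear.rightComp A P (φ⟦n⟧') : (P ⟶ K⟦n⟧) →ₗ[A] (P ⟶ Z⟦n⟧)) :=
  good_induction φ I s hs hDC hbij s.toList (fun _ ht => Finset.mem_toList.1 ht) P
    (fun t ht htl => absurd (Finset.mem_toList.2 ht) htl) hfin n

end Groth.LocCohTransform.HomCompletion
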