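import Groth.Agent.LocCohTransform.HMap

/-!
The sequence `H^i_{a+(b)}(M) → H^i_a(M) → H^i_a(M_b) → H^{i+1}_{a+(b)}(M)`.
-/

set_option autoImplicit false
universe u
open CategoryTheory CategoryTheory.Limits Opposite

namespace Groth.LocCohTransform

open Groth.LocCohBase (HH' δ)

variable {R : Type u} [CommRing R] [IsNoetherianRing R] (a : Ideal R) (b : R)
  (M : Type u) [AddCommGroup M] [Module R M]

/-- `M → M_b`. -/
noncomputable abbrev locHom :
    ModuleCat.of R M ⟶ ModuleCat.of R (LocalizedModule (Submonoid.powers b) M) :=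
  ModuleCat.ofHom (LocalizedModule.mkLinearMap (Submonoid.powers b) M)

omit [IsNoetherianRing R] in
lemma bijective_smul_localized :
    Function.Bijective fun m : LocalizedModule (Submonoid.powers b) M => b • m :=
  (Module.End.isUnit_iff _).1
    (IsLocalizedModule.map_units (LocalizedModule.mkLinearMap (Submonoid.powers b) M)
      ⟨b, Submonoid.mem_powers b⟩)

omit [IsNoetherianRing R] in
lemma pow_smul_of_loc_eq_zero {m : M} (h : LocalizedModule.mkLinearMap (Submonoid.powers b) M m = 0) :
    m ∈ DRing.torsionSub (Ideal.span {b}) M := by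
  obtain ⟨⟨_, k, rfl⟩, hs⟩ := (IsLocalizedModule.eq_zero_iff (Submonoid.powers b)
    (LocalizedModule.mkLinearMap _ M)).1 h
  refine ⟨k, fun r hr => ?_⟩
  rw [Ideal.span_singleton_pow] at hr
  obtain ⟨c, rfl⟩ := Ideal.mem_span_singleton'.1 hr
  rw [mul_smul]; exact (congrArg (c • ·) hs).trans (smul_zero c)

lemma exists_ext_torsion : ∃ t : M →ₗ[R] torUnder (Ideal.span {b})
      (ModuleCat.of R (DRing.torsionSub (Ideal.span {b}) M)),
    ∀ m, LocalizedModule.mkLinearMap (Submonoid.powers b) M m = 0 → t m = 0 → m = 0 := by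
  let J := Ideal.span {b}
  let P := ModuleCat.of R (DRing.torsionSub J M)
  have hinj : Injective (torUnder J P) := inferInstance
  have : Module.Injective R (torUnder J P) :=
    @Module.injective_module_of_injective_object R (torUnder J P : Type u) _ _ _ hinj
  obtain ⟨t, ht⟩ := Module.Injective.out (Q := torUnder J P) (DRing.torsionSub J M).subtype
    Subtype.val_injective (torι J P (isPowerTorsion_torsionSub J M)).hom
  refine ⟨t, fun m hm htm => ?_⟩
  exact congrArg Subtype.val ((torι_injective J P (isPowerTorsion_torsionSub J M))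
    (((ht ⟨m, pow_smul_of_loc_eq_zero b M hm⟩).symm.trans htm).trans (map_zero _).symm))

/-- The localization sequence. -/
theorem loc_sequence (i : ℕ) :
    Function.Exact (hmap (le_sup_left : a ≤ a ⊔ Ideal.span {b}) i (ModuleCat.of R M))
        ((localCohomology a i).map (locHom b M)).hom ∧
    Nonempty ((LocCoh.H a i (LocalizedModule (Submonoid.powers b) M) ⧸
        LinearMap.range ((localCohomology a i).map (locHom b M)).hom) ≃ₗ[R]
      LinearMap.ker (hmap (le_sup_left : a ≤ a ⊔ Ideal.span {b}) (i + 1) (ModuleCat.of R M))) := by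
  set J := Ideal.span {b}
  set hle : a ≤ a ⊔ J := le_sup_left
  obtain ⟨t, ht⟩ := exists_ext_torsion b M
  let T := torUnder J (ModuleCat.of R (DRing.torsionSub J M))
  let Mb := ModuleCat.of R (LocalizedModule (Submonoid.powers b) M)
  let P := ModuleCat.of R (Mb × T)
  let uL : M →ₗ[R] (Mb × T : Type u) := (LocalizedModule.mkLinearMap (Submonoid.powers b) M).prod t
  let p₁ : P ⟶ Mb := ModuleCat.ofHom (LinearMap.fst R Mb T)
  let p₂ : P ⟶ T := ModuleCat.ofHom (LinearMap.snd R Mb T)
  let i₁ : Mb ⟶ P := ModuleCat.ofHom (LinearMap.inl R Mb T)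
  let i₂ : T ⟶ P := ModuleCat.ofHom (LinearMap.inr R Mb T)
  let S := ShortComplex.mk (X₁ := ModuleCat.of R M) (X₂ := P)
    (X₃ := ModuleCat.of R ((Mb × T) ⧸ LinearMap.range uL)) (ModuleCat.ofHom uL)
    (ModuleCat.ofHom (LinearMap.range uL).mkQ)
    (by ext x; exact (Submodule.Quotient.mk_eq_zero _).2 ⟨x, rfl⟩)
  have hS : S.ShortExact :=
    { exact := (ShortComplex.moduleCat_exact_iff _).2 fun x hx => (Submodule.Quotient.mk_eq_zero _).1 hx
      mono_f := (ModuleCat.mono_iff_injective _).2 ((injective_iff_map_eq_zero uL).2 fun m hm =>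
        ht m (congrArg Prod.fst hm) (congrArg Prod.snd hm))
      epi_g := (ModuleCat.epi_iff_surjective _).2 (Submodule.mkQ_surjective _) }
  have hC : LocCoh.IsPowerTorsion J S.X₃ := by
    intro z
    obtain ⟨⟨y, s⟩, rfl⟩ := Submodule.Quotient.mk_surjective _ z
    obtain ⟨⟨m, ⟨_, n, rfl⟩⟩, hy⟩ := IsLocalizedModule.surj (Submonoid.powers b)
      (LocalizedModule.mkLinearMap _ M) y
    obtain ⟨k, hk⟩ := isPowerTorsion_torUnder J _ (b ^ n • s - t m)
    refine ⟨k + n, fun r hr => ?_⟩
    rw [Ideal.span_singleton_pow] at hr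
    obtain ⟨c, rfl⟩ := Ideal.mem_span_singleton'.1 hr
    rw [← Submodule.Quotient.mk_smul, Submodule.Quotient.mk_eq_zero]
    refine ⟨(c * b ^ k) • m, ?_⟩
    refine Prod.ext ?_ ?_
    · show LocalizedModule.mkLinearMap (Submonoid.powers b) M ((c * b ^ k) • m) = (c * b ^ (k + n)) • y
      rw [map_smul, ← hy, Submonoid.smul_def, ← mul_smul, mul_assoc, ← pow_add]
    · show t ((c * b ^ k) • m) = (c * b ^ (k + n)) • s
      rw [map_smul, pow_add, ← mul_assoc, mul_smul _ (b ^ n) s]
      rw [← sub_eq_zero, ← smul_sub, mul_smul]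
      have : b ^ k • (t m - b ^ n • s) = 0 := by
        rw [← neg_sub, smul_neg, hk _ (Ideal.pow_mem_pow (Ideal.mem_span_singleton_self b) k), neg_zero]
      rw [this, smul_zero]
  have hT : LocCoh.IsPowerTorsion J T := isPowerTorsion_torUnder J _
  -- morphism identities
  have e1 : S.f ≫ p₁ = locHom b M := rfl
  have eid : p₁ ≫ i₁ + p₂ ≫ i₂ = 𝟙 P := by
    apply ModuleCat.hom_ext
    refine LinearMap.ext fun z => ?_
    exact Prod.ext (add_zero _) (zero_add _)
  have e11 : i₁ ≫ p₁ = 𝟙 Mb := rfl
  have e21 : i₂ ≫ p₁ = 0 := rfl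
  have hbij := fun (j : ℕ) => hmap_bijective hle (J := J) le_rfl j
  have hMb : ∀ (j : ℕ) (x : HH' (a ⊔ J) j Mb), x = 0 := fun j x =>
    eq_zero_of_bijective_smul _ j Mb
      (Submodule.mem_sup_right (Ideal.mem_span_singleton_self b)) (bijective_smul_localized b M) x
  have decomp : ∀ (K : Ideal R) (j : ℕ) (z : HH' K j P),
      z = ((localCohomology K j).map i₁).hom (((localCohomology K j).map p₁).hom z) +
        ((localCohomology K j).map i₂).hom (((localCohomology K j).map p₂).hom z) := by
    intro K j z
    rw [← map_comp', ← map_comp', ← map_add', eid, map_id']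
  have hP : ∀ (j : ℕ) (z : HH' (a ⊔ J) j P),
      z = ((localCohomology (a ⊔ J) j).map i₂).hom (((localCohomology (a ⊔ J) j).map p₂).hom z) := by
    intro j z
    conv_lhs => rw [decomp _ j z, hMb j (((localCohomology (a ⊔ J) j).map p₁).hom z), map_zero, zero_add]
  have hPinj : ∀ j : ℕ, Function.Injective (hmap hle j P) := by
    intro j
    refine (injective_iff_map_eq_zero _).2 fun z hz => ?_
    have h1 : hmap hle j T (((localCohomology (a ⊔ J) j).map p₂).hom z) = 0 := by
      rw [hmap_naturality, hz, map_zero]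
    rw [hP j z, (hbij j T hT).1 (h1.trans (map_zero _).symm), map_zero]
  -- exactness
  have hex : Function.Exact (hmap hle i (ModuleCat.of R M)) ((localCohomology a i).map (locHom b M)).hom := by
    intro x
    constructor
    · intro hx
      have hu : ((localCohomology a i).map S.f).hom x =
          ((localCohomology a i).map i₂).hom (((localCohomology a i).map p₂).hom
            (((localCohomology a i).map S.f).hom x)) := by
        conv_lhs => rw [decomp a i (((localCohomology a i).map S.f).hom x)]
        rw [← map_comp' (f := S.f) (g := p₁), e1, hx, map_zero, zero_add]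
      obtain ⟨s', hs'⟩ := (hbij i T hT).2
        (((localCohomology a i).map p₂).hom (((localCohomology a i).map S.f).hom x))
      let z' := ((localCohomology (a ⊔ J) i).map i₂).hom s'
      have hz : hmap hle i P z' = ((localCohomology a i).map S.f).hom x := by
        rw [hmap_naturality, hs', ← hu]
      have hgz : ((localCohomology (a ⊔ J) i).map S.g).hom z' = 0 := by
        apply (hbij i S.X₃ hC).1
        rw [hmap_naturality, hz, map_zero]
        exact (Groth.LocCohBase.exact₂ (I := a) hS i).apply_apply_eq_zero x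
      obtain ⟨x', hx'⟩ := (Groth.LocCohBase.exact₂ (I := a ⊔ J) hS i z').1 hgz
      have hd : ((localCohomology a i).map S.f).hom (x - hmap hle i (ModuleCat.of R M) x') = 0 := by
        rw [map_sub, ← hmap_naturality]
        show ((localCohomology a i).map S.f).hom x - hmap hle i P (((localCohomology (a ⊔ J) i).map S.f) x') = 0
        rw [hx', hz, sub_self]
      rcases i with _ | k
      · refine ⟨x', (sub_eq_zero.1 ?_).symm⟩
        exact (Groth.LocCohBase.map_f_injective_zero (I := a) hS) (hd.trans (map_zero _).symm)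
      · obtain ⟨c, hc⟩ := (Groth.LocCohBase.exact₁ (I := a) hS k _).1 hd
        obtain ⟨c', rfl⟩ := (hbij k S.X₃ hC).2 c
        refine ⟨δ hS k c' + x', ?_⟩
        rw [map_add]
        exact (congrArg (· + hmap hle (k + 1) _ x') ((hmap_δ hle hS k c').trans hc)).trans
          (sub_add_cancel x _)
    · rintro ⟨x', rfl⟩
      rw [← hmap_naturality, hMb i (((localCohomology (a ⊔ J) i).map (locHom b M)).hom x'), map_zero]
  refine ⟨hex, ?_⟩
  -- the connecting map
  let φC := LinearEquiv.ofBijective (hmap hle i S.X₃) (hbij i S.X₃ hC)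
  let Ψ : HH' a i Mb →ₗ[R] HH' (a ⊔ J) (i + 1) (ModuleCat.of R M) :=
    δ hS i ∘ₗ φC.symm.toLinearMap ∘ₗ ((localCohomology a i).map S.g).hom ∘ₗ
      ((localCohomology a i).map i₁).hom
  have hΨ : ∀ y, hmap hle (i + 1) _ (Ψ y) = 0 := fun y => by
    refine (hmap_δ hle hS i _).trans ?_
    show δ hS i (φC (φC.symm _)) = 0
    rw [LinearEquiv.apply_symm_apply]
    exact (Groth.LocCohBase.exact₃ (I := a) hS i).apply_apply_eq_zero _
  have hker : LinearMap.ker Ψ = LinearMap.range ((localCohomology a i).map (locHom b M)).hom := by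
    ext y
    rw [LinearMap.mem_ker]
    constructor
    · intro hy
      obtain ⟨z', hz'⟩ := (Groth.LocCohBase.exact₃ (I := a ⊔ J) hS i _).1 hy
      have h1 : ((localCohomology a i).map S.g).hom
          (((localCohomology a i).map i₁).hom y - hmap hle i P z') = 0 := by
        rw [map_sub, sub_eq_zero, ← hmap_naturality]
        exact ((congrArg φC hz').trans (φC.apply_symm_apply _)).symm
      obtain ⟨x, hx⟩ := (Groth.LocCohBase.exact₂ (I := a) hS i _).1 h1
      refine ⟨x, ?_⟩
      show ((localCohomology a i).map (S.f ≫ p₁)).hom x = y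
      rw [map_comp']
      rw [show ((localCohomology a i).map S.f).hom x = _ from hx, map_sub, ← map_comp', e11, map_id',
        hP i z', hmap_naturality, ← map_comp', e21, map_zero', sub_zero]
    · rintro ⟨x, rfl⟩
      set z := ((localCohomology a i).map S.f).hom x
      obtain ⟨s', hs'⟩ := (hbij i T hT).2 (((localCohomology a i).map p₂).hom z)
      have h1 : ((localCohomology a i).map i₁).hom (((localCohomology a i).map (locHom b M)).hom x) =
          z - hmap hle i P (((localCohomology (a ⊔ J) i).map i₂).hom s') := by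
        rw [hmap_naturality, hs', eq_sub_iff_add_eq]
        conv_rhs => rw [decomp a i z]
        rw [← map_comp' (f := S.f) (g := p₁)]
        rfl
      have h2 : φC.symm (((localCohomology a i).map S.g).hom (((localCohomology a i).map i₁).hom
          (((localCohomology a i).map (locHom b M)).hom x))) =
          - ((localCohomology (a ⊔ J) i).map S.g).hom (((localCohomology (a ⊔ J) i).map i₂).hom s') := by
        rw [LinearEquiv.symm_apply_eq, h1, map_sub, map_neg]
        show _ = - hmap hle i S.X₃ _
        simp only [hmap_naturality]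
        exact (congrArg (· - _) ((Groth.LocCohBase.exact₂ (I := a) hS i).apply_apply_eq_zero x)).trans
          (zero_sub _)
      show δ hS i _ = 0
      exact (congrArg (δ hS i) h2).trans ((map_neg _ _).trans (neg_eq_zero.2
        ((Groth.LocCohBase.exact₃ (I := a ⊔ J) hS i).apply_apply_eq_zero _)))
  have hrange : LinearMap.range Ψ = LinearMap.ker (hmap hle (i + 1) (ModuleCat.of R M)) := by
    refine le_antisymm (by rintro _ ⟨y, rfl⟩; exact hΨ y) fun x hx => ?_
    have hu : ((localCohomology (a ⊔ J) (i + 1)).map S.f).hom x = 0 := by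
      apply hPinj (i + 1)
      rw [hmap_naturality, LinearMap.mem_ker.1 hx, map_zero, map_zero]
    obtain ⟨c', rfl⟩ := (Groth.LocCohBase.exact₁ (I := a ⊔ J) hS i x).1 hu
    have h1 : δ hS i (hmap hle i S.X₃ c') = 0 := (hmap_δ hle hS i c').symm.trans (LinearMap.mem_ker.1 hx)
    obtain ⟨z, hz⟩ := (Groth.LocCohBase.exact₃ (I := a) hS i _).1 h1
    obtain ⟨s', hs'⟩ := (hbij i T hT).2 (((localCohomology a i).map p₂).hom z)
    refine ⟨((localCohomology a i).map p₁).hom z, ?_⟩
    have h3 : φC.symm (((localCohomology a i).map S.g).hom (((localCohomology a i).map i₁).hom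
          (((localCohomology a i).map p₁).hom z))) =
        c' - ((localCohomology (a ⊔ J) i).map S.g).hom (((localCohomology (a ⊔ J) i).map i₂).hom s') := by
      rw [LinearEquiv.symm_apply_eq, map_sub]
      show _ = hmap hle i S.X₃ c' - hmap hle i S.X₃ _
      rw [hmap_naturality, hmap_naturality, hs', eq_sub_iff_add_eq, ← map_add, ← decomp]
      exact hz
    show δ hS i _ = _
    exact (congrArg (δ hS i) h3).trans ((map_sub _ _ _).trans ((congrArg (δ hS i c' - ·)
      ((Groth.LocCohBase.exact₃ (I := a ⊔ J) hS i).apply_apply_eq_zero _)).trans (sub_zero _)))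
  exact ⟨((Submodule.quotEquivOfEq _ _ hker.symm).trans Ψ.quotKerEquivRange).trans
    (LinearEquiv.ofEq _ _ hrange)⟩

end Groth.LocCohTransform
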