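import Groth.Agent.LocCohTransform.LocSeq
import Groth.Agent.LocCohTransform.HOne

set_option autoImplicit false
universe u
open CategoryTheory CategoryTheory.Limits Opposite

namespace Groth.LocCohTransform

open Groth.LocCohBase (HH')

variable {R : Type u} [CommRing R] [IsNoetherianRing R] (a : Ideal R) (b : R)
  (M : Type u) [AddCommGroup M] [Module R M]

omit [IsNoetherianRing R] in
lemma pow_smul_eq_zero_of_mem {J : Ideal R} {i : ℕ} {N : ModuleCat.{u} R} (hb : b ∈ J)
    (x : HH' J i N) : ∃ n : ℕ, b ^ n • x = 0 := by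
  obtain ⟨n, hn⟩ := Groth.LocCohBase.exists_pow_smul_eq_zero i N x
  exact ⟨n, hn _ (Ideal.pow_mem_pow hb n)⟩

omit [IsNoetherianRing R] in
lemma smul_bijective_localized_H (i : ℕ) :
    Function.Bijective fun x : LocCoh.H a i (LocalizedModule (Submonoid.powers b) M) => b • x := by
  let e : LocalizedModule (Submonoid.powers b) M ≃ₗ[R] LocalizedModule (Submonoid.powers b) M :=
    LinearEquiv.ofBijective (LinearMap.lsmul R _ b) (bijective_smul_localized b M)
  let E := ((localCohomology a i).mapIso e.toModuleIso).toLinearEquiv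
  have h : (fun x : LocCoh.H a i (LocalizedModule (Submonoid.powers b) M) => b • x) = E := by
    funext x
    rw [Groth.LocCohBase.smul_eq_map]
    rfl
  rw [h]
  exact E.bijective

/-- `H^i_a(M_b)` is the localization of `H^i_a(M)` at `b`. -/
theorem isLocalizedModule_map_loc (i : ℕ) :
    IsLocalizedModule (Submonoid.powers b) ((localCohomology a i).map (locHom b M)).hom := by
  obtain ⟨hex, ⟨e⟩⟩ := loc_sequence a b M i
  constructor
  · rintro ⟨_, n, rfl⟩
    rw [map_pow]
    exact IsUnit.pow n ((Module.End.isUnit_iff _).2 (smul_bijective_localized_H a b M i))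
  · intro y
    obtain ⟨n, hn⟩ := pow_smul_eq_zero_of_mem (J := a ⊔ Ideal.span {b}) b
      (Submodule.mem_sup_right (Ideal.mem_span_singleton_self b)) (e (Submodule.Quotient.mk y)).1
    have h : e (Submodule.Quotient.mk (b ^ n • y)) = 0 := by
      rw [Submodule.Quotient.mk_smul, map_smul]; exact Subtype.ext hn
    obtain ⟨x, hx⟩ := (Submodule.Quotient.mk_eq_zero _).1 (e.injective (h.trans (map_zero e).symm))
    exact ⟨(x, ⟨b ^ n, n, rfl⟩), hx.symm⟩
  · intro x y h
    obtain ⟨z, hz⟩ := (hex (x - y)).1 (by rw [map_sub, h, sub_self])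
    obtain ⟨n, hn⟩ := pow_smul_eq_zero_of_mem (J := a ⊔ Ideal.span {b}) b
      (Submodule.mem_sup_right (Ideal.mem_span_singleton_self b)) z
    refine ⟨⟨b ^ n, n, rfl⟩, ?_⟩
    show b ^ n • x = b ^ n • y
    rw [← sub_eq_zero, ← smul_sub, ← hz, ← map_smul, hn, map_zero]

/-- The image of `H_{a+(b)} → H_a` is the `b`-torsion. -/
theorem mem_range_hmap_iff (i : ℕ) (x : LocCoh.H a i M) :
    x ∈ LinearMap.range (hmap (le_sup_left : a ≤ a ⊔ Ideal.span {b}) i (ModuleCat.of R M)) ↔
      ∃ n : ℕ, b ^ n • x = 0 := by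
  have hl := isLocalizedModule_map_loc a b M i
  constructor
  · rintro ⟨z, rfl⟩
    obtain ⟨n, hn⟩ := pow_smul_eq_zero_of_mem (J := a ⊔ Ideal.span {b}) b
      (Submodule.mem_sup_right (Ideal.mem_span_singleton_self b)) z
    exact ⟨n, by rw [← map_smul, hn, map_zero]⟩
  · rintro ⟨n, hn⟩
    refine ((loc_sequence a b M i).1 x).1 ?_
    exact (IsLocalizedModule.eq_zero_iff (Submonoid.powers b) _).2 ⟨⟨b ^ n, n, rfl⟩, hn⟩

/-- `H^1_{(b)}(N)` as a cokernel of localization. -/
theorem exists_loc_coker_equiv (N : Type u) [AddCommGroup N] [Module R N] :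
    Nonempty ((LocalizedModule (Submonoid.powers b) N ⧸
      LinearMap.range (LocalizedModule.mkLinearMap (Submonoid.powers b) N)) ≃ₗ[R]
        LocCoh.H (Ideal.span {b}) 1 N) := by
  obtain ⟨hex, ⟨e⟩⟩ := loc_sequence (Ideal.span {b}) b N 0
  obtain ⟨ψ, hψ, -⟩ := existsUnique_factor (Ideal.span {b}) N
    (LocalizedModule.mkLinearMap (Submonoid.powers b) N) (fun m hm => pow_smul_of_loc_eq_zero b N hm)
    (fun x => by
      obtain ⟨x, rfl⟩ := Submodule.Quotient.mk_surjective _ x
      obtain ⟨⟨m, ⟨_, k, rfl⟩⟩, hs⟩ := IsLocalizedModule.surj (Submonoid.powers b)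
        (LocalizedModule.mkLinearMap _ N) x
      refine ⟨k, fun r hr => ?_⟩
      rw [Ideal.span_singleton_pow] at hr
      obtain ⟨c, rfl⟩ := Ideal.mem_span_singleton'.1 hr
      rw [← Submodule.Quotient.mk_smul, Submodule.Quotient.mk_eq_zero, mul_smul]
      exact Submodule.smul_mem _ _ ⟨m, hs.symm⟩) LinearMap.id
  have hψ' : ∀ m, ψ (LocalizedModule.mkLinearMap _ N m) = LocCoh.toDT (Ideal.span {b}) N m :=
    fun m => LinearMap.congr_fun hψ m
  have htf : ∀ (n : ℕ) (z : LocCoh.DT (Ideal.span {b}) N), b ^ n • z = 0 → z = 0 := fun n z hz => by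
    rw [← Submodule.mem_bot R, ← torsionSub_DT (Ideal.span {b}) (M := N)]
    refine ⟨n, fun r hr => ?_⟩
    rw [Ideal.span_singleton_pow] at hr
    obtain ⟨c, rfl⟩ := Ideal.mem_span_singleton'.1 hr
    rw [mul_smul, hz, smul_zero]
  have hbij : Function.Bijective ψ := by
    constructor
    · refine (injective_iff_map_eq_zero _).2 fun x hx => ?_
      obtain ⟨⟨m, ⟨_, n, rfl⟩⟩, hs⟩ := IsLocalizedModule.surj (Submonoid.powers b)
        (LocalizedModule.mkLinearMap _ N) x
      refine IsLocalizedModule.smul_injective (LocalizedModule.mkLinearMap (Submonoid.powers b) N)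
        (⟨b ^ n, n, rfl⟩ : Submonoid.powers b) ?_
      show b ^ n • x = b ^ n • (0 : LocalizedModule (Submonoid.powers b) N)
      have : LocCoh.toDT (Ideal.span {b}) N m = 0 := by
        rw [← hψ', ← hs, Submonoid.smul_def, map_smul, hx, smul_zero]
      obtain ⟨k, hk⟩ := (toDT_eq_zero_iff _ m).1 this
      rw [smul_zero]
      exact hs.trans ((IsLocalizedModule.eq_zero_iff (Submonoid.powers b) _).2
        ⟨⟨b ^ k, k, rfl⟩, hk _ (Ideal.pow_mem_pow (Ideal.mem_span_singleton_self b) k)⟩)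
    · intro y
      obtain ⟨n, hn⟩ := exists_pow_smul_mem_range (Ideal.span {b}) y
      obtain ⟨m, hm⟩ := hn _ (Ideal.pow_mem_pow (Ideal.mem_span_singleton_self b) n)
      refine ⟨LocalizedModule.mk m ⟨b ^ n, n, rfl⟩, sub_eq_zero.1 (htf n _ ?_)⟩
      rw [smul_sub, ← map_smul, LocalizedModule.smul'_mk, sub_eq_zero, ← hm, ← hψ']
      exact congrArg ψ (LocalizedModule.mk_cancel (⟨b ^ n, n, rfl⟩ : Submonoid.powers b) m)
  obtain ⟨e'⟩ := exists_coker_equiv (Ideal.span {b}) N
  refine ⟨(Submodule.Quotient.equiv _ _ (LinearEquiv.ofBijective ψ hbij) ?_).trans e'⟩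
  rw [← LinearMap.range_comp]
  exact congrArg LinearMap.range (LinearMap.ext hψ')

set_option maxHeartbeats 800000 in
/-- The kernel of `H^{i+1}_{a+(b)} → H^{i+1}_a` is `H^1_{(b)}(H^i_a)`. -/
theorem ker_hmap_equiv (i : ℕ) :
    Nonempty (LinearMap.ker (hmap (le_sup_left : a ≤ a ⊔ Ideal.span {b}) (i + 1) (ModuleCat.of R M))
      ≃ₗ[R] LocCoh.H (Ideal.span {b}) 1 (LocCoh.H a i M)) := by
  obtain ⟨-, ⟨e⟩⟩ := loc_sequence a b M i
  have hl := isLocalizedModule_map_loc a b M i
  let ε := IsLocalizedModule.linearEquiv (Submonoid.powers b)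
    ((localCohomology a i).map (locHom b M)).hom
    (LocalizedModule.mkLinearMap (Submonoid.powers b) (LocCoh.H a i M))
  obtain ⟨e'⟩ := exists_loc_coker_equiv b (LocCoh.H a i M)
  refine ⟨e.symm.trans ((Submodule.Quotient.equiv _ _ ε ?_).trans e')⟩
  rw [← LinearMap.range_comp]
  exact congrArg LinearMap.range (LinearMap.ext fun x => IsLocalizedModule.linearEquiv_apply _ _ _ x)

end Groth.LocCohTransform
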