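import Groth.Agent.LocCohTransform.PointExtend
import Groth.Prelude.Def_FEt

/-!
# Extending invertible modules from a neighbourhood of `V(f)` to the punctured spectrum
-/

set_option autoImplicit false
set_option backward.isDefEq.respectTransparency.types false

universe u

open CategoryTheory Limits AlgebraicGeometry TopologicalSpace Opposite

noncomputable section

namespace Groth.LocCohTransform.LocalPicExtend

open Groth.PicAux PrimeSpectrum

variable {A : Type u} [CommRing A] [IsLocalRing A]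

attribute [local instance] Classical.propDecidable

theorem mem_punctured {p : ↥(Spec (CommRingCat.of A))} :
    p ∈ FEt.puncturedSpec A ↔ p.asIdeal ≠ IsLocalRing.maximalIdeal A := by
  show p ≠ IsLocalRing.closedPoint A ↔ _
  exact not_congr PrimeSpectrum.ext_iff

theorem mem_of_mem (f : A) (U' : (Spec (CommRingCat.of A)).Opens)
    (h : Formal2.specQuotMap A f ⁻¹ᵁ FEt.puncturedSpec A ≤ Formal2.specQuotMap A f ⁻¹ᵁ U')
    {p : ↥(Spec (CommRingCat.of A))} (hf : f ∈ p.asIdeal) (hp : p ∈ FEt.puncturedSpec A) : p ∈ U' := by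
  have : p ∈ Set.range (PrimeSpectrum.comap (Ideal.Quotient.mk (Ideal.span {f}))) := by
    rw [range_comap_of_surjective _ _ Ideal.Quotient.mk_surjective, Ideal.mk_ker]
    exact (Ideal.span_singleton_le_iff_mem _).2 hf
  obtain ⟨p₀, rfl⟩ := this
  exact h (x := p₀) hp

omit [IsLocalRing A] in
theorem le_mem {U : (Spec (CommRingCat.of A)).Opens} {p q : ↥(Spec (CommRingCat.of A))}
    (h : p.asIdeal ≤ q.asIdeal) (hq : q ∈ U) : p ∈ U :=
  ((PrimeSpectrum.le_iff_specializes p q).1 h).mem_open U.2 hq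

variable [IsNoetherianRing A]

/-- The points outside a neighbourhood of `V(f)` are closed in the punctured spectrum. -/
theorem eq_of_le (f : A) (hf : f ∈ IsLocalRing.maximalIdeal A)
    (U' : (Spec (CommRingCat.of A)).Opens)
    (h : Formal2.specQuotMap A f ⁻¹ᵁ FEt.puncturedSpec A ≤ Formal2.specQuotMap A f ⁻¹ᵁ U')
    {y z : ↥(Spec (CommRingCat.of A))} (hy : y ∉ U') (hyz : y.asIdeal ≤ z.asIdeal)
    (hz : z ∈ FEt.puncturedSpec A) : y = z := by
  refine PrimeSpectrum.ext (le_antisymm hyz ?_)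
  by_contra hne
  have hlt : y.asIdeal < z.asIdeal := lt_of_le_not_ge hyz hne
  let π := Ideal.Quotient.mk y.asIdeal
  have hπ : Function.Surjective π := Ideal.Quotient.mk_surjective
  have hker : RingHom.ker π = y.asIdeal := Ideal.mk_ker
  haveI hm : (Ideal.map π (IsLocalRing.maximalIdeal A)).IsPrime :=
    Ideal.map_isPrime_of_surjective hπ (le_of_eq_of_le hker (IsLocalRing.le_maximalIdeal y.2.ne_top))
  haveI hz' : (Ideal.map π z.asIdeal).IsPrime := Ideal.map_isPrime_of_surjective hπ (le_of_eq_of_le hker hyz)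
  have hmin : Ideal.map π (IsLocalRing.maximalIdeal A) ∈ (Ideal.span {π f}).minimalPrimes := by
    refine ⟨⟨hm, (Ideal.span_singleton_le_iff_mem _).2 (Ideal.mem_map_of_mem π hf)⟩, ?_⟩
    rintro q ⟨hq, hfq⟩ -
    haveI := hq
    let p : ↥(Spec (CommRingCat.of A)) := ⟨q.comap π, inferInstance⟩
    have hyp : y.asIdeal ≤ p.asIdeal := by
      rw [← hker]
      exact Ideal.ker_le_comap π
    have hpm : p.asIdeal = IsLocalRing.maximalIdeal A := by
      by_contra hp
      exact hy (le_mem hyp (mem_of_mem f U' h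
        (hfq (Ideal.mem_span_singleton_self _) : π f ∈ q) (mem_punctured.2 hp)))
    rw [← hpm]
    exact (Ideal.map_comap_of_surjective π hπ q).le
  haveI : (Ideal.span {π f}).IsPrincipal := ⟨⟨π f, rfl⟩⟩
  have h1 := Ideal.height_le_one_of_isPrincipal_of_mem_minimalPrimes _ _ hmin
  haveI hb : (⊥ : Ideal (A ⧸ y.asIdeal)).IsPrime := Ideal.isPrime_bot
  have hlt1 : (⊥ : Ideal (A ⧸ y.asIdeal)) < Ideal.map π z.asIdeal := by
    refine bot_lt_iff_ne_bot.2 fun e => hne ?_
    have := (Ideal.map_eq_bot_iff_le_ker π).1 e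
    rwa [hker] at this
  have hlt2 : Ideal.map π z.asIdeal < Ideal.map π (IsLocalRing.maximalIdeal A) := by
    refine lt_of_le_of_ne (Ideal.map_mono (IsLocalRing.le_maximalIdeal z.2.ne_top)) fun e => ?_
    have := congrArg (Ideal.comap π) e
    rw [Ideal.comap_map_of_surjective' π hπ, Ideal.comap_map_of_surjective' π hπ, hker,
      sup_eq_left.2 hyz, sup_eq_left.2 (IsLocalRing.le_maximalIdeal y.2.ne_top)] at this
    exact mem_punctured.1 hz this
  have ha := Ideal.height_strict_mono_of_isPrime_of_isPrime hlt1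
  have hb := Ideal.height_strict_mono_of_isPrime_of_isPrime hlt2
  exact absurd (lt_of_lt_of_le hb h1) (not_lt.2 (Order.one_le_iff_pos.2 (lt_of_le_of_lt bot_le ha)))

omit [IsLocalRing A] [IsNoetherianRing A] in
/-- The trace of `U'` on the spectrum of the local ring at such a point is its punctured spectrum. -/
theorem picTrivial_pullback (U' : (Spec (CommRingCat.of A)).Opens)
    (y : ↥(Spec (CommRingCat.of A))) (hy : y ∉ U')
    (hgen : ∀ p : ↥(Spec (CommRingCat.of A)), p.asIdeal < y.asIdeal → p ∈ U')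
    (h : Formal2.PicTrivial (↑(FEt.puncturedSpec (Localization.AtPrime y.asIdeal)) : Scheme.{u})) :
    Formal2.PicTrivial (pullback U'.ι ((Spec (CommRingCat.of A)).fromSpecStalk y)) := by
  let g := Spec.map (CommRingCat.ofHom (algebraMap A (Localization.AtPrime y.asIdeal)))
  let e := Spec.map (Spec.stalkIso (CommRingCat.of A) y).inv
  have he : e ≫ g = (Spec (CommRingCat.of A)).fromSpecStalk y := by
    rw [Spec.fromSpecStalk_eq, ← Spec.map_comp]
    exact congrArg Spec.map (Spec.algebraMap_stalkIso_inv ..)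
  have hpre : g ⁻¹ᵁ U' = FEt.puncturedSpec (Localization.AtPrime y.asIdeal) := by
    ext p
    change PrimeSpectrum.comap (algebraMap A (Localization.AtPrime y.asIdeal)) p ∈ U' ↔
      p ≠ IsLocalRing.closedPoint _
    refine ⟨fun hp e => hy ?_, fun hp => hgen _ ?_⟩
    · subst e
      exact (congrArg (· ∈ U')
        (PrimeSpectrum.ext (Localization.AtPrime.under_maximalIdeal (I := y.asIdeal)))).mp hp
    · refine lt_of_le_of_ne ?_ fun e => hp ?_
      · exact (Ideal.comap_mono (IsLocalRing.le_maximalIdeal p.2.ne_top)).trans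
          (Localization.AtPrime.under_maximalIdeal (I := y.asIdeal)).le
      · refine (PrimeSpectrum.localization_comap_injective _ y.asIdeal.primeCompl) ?_
        exact PrimeSpectrum.ext (e.trans (Localization.AtPrime.under_maximalIdeal (I := y.asIdeal)).symm)
  refine PointExtend.picTrivial_of_iso ?_ h
  exact asIso (pullback.map U'.ι _ U'.ι g (𝟙 _) e (𝟙 _) (by simp) (by rw [Category.comp_id, he])) ≪≫
    pullbackSymmetry _ _ ≪≫ pullbackRestrictIsoRestrict g U' ≪≫ Scheme.isoOfEq _ hpre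

/-- Extension to the punctured spectrum. -/
theorem exists_extension (f : A) (hf : f ∈ IsLocalRing.maximalIdeal A)
    (h₅ : ∀ (q : Ideal A) [q.IsPrime], f ∉ q →
      (∀ (q' : Ideal A), q'.IsPrime → q ≤ q' → f ∉ q' → q' = q) →
      Formal2.PicTrivial (↑(FEt.puncturedSpec (Localization.AtPrime q)) : Scheme.{u}))
    (U' : (Spec (CommRingCat.of A)).Opens)
    (h : Formal2.specQuotMap A f ⁻¹ᵁ FEt.puncturedSpec A ≤ Formal2.specQuotMap A f ⁻¹ᵁ U')
    (L : (↑U' : Scheme.{u}).Modules) (hL : PicF.IsInvertible L) :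
    ∃ L' : (↑(FEt.puncturedSpec A) : Scheme.{u}).Modules, PicF.IsInvertible L' ∧
      Nonempty ((Scheme.Modules.pullback (Formal2.specQuotMap A f ∣_ FEt.puncturedSpec A)).obj L' ≅
        (Scheme.Modules.pullback ((Formal2.specQuotMap A f).resLE U' _ h)).obj L) := by
  let S := Spec (CommRingCat.of A)
  let U := FEt.puncturedSpec A
  let Z : Set ↥S := {y | y ∈ U ∧ y ∉ U'}
  have hmax : ∀ {y z : ↥S}, y ∈ Z → y.asIdeal ≤ z.asIdeal → z ∈ U → y = z :=
    fun hy => eq_of_le f hf U' h hy.2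
  have hZfin : Z.Finite := by
    let J := PrimeSpectrum.vanishingIdeal ((U' : Set ↥S)ᶜ)
    have hJ : ∀ p : ↥S, J ≤ p.asIdeal ↔ p ∉ U' := fun p => by
      change p ∈ PrimeSpectrum.zeroLocus (J : Set A) ↔ _
      rw [PrimeSpectrum.zeroLocus_vanishingIdeal_eq_closure]
      exact iff_of_eq (congrArg (p ∈ ·) (U'.2.isClosed_compl.closure_eq))
    refine ((J.finite_minimalPrimes_of_isNoetherianRing A).preimage
      (f := PrimeSpectrum.asIdeal) (fun a _ b _ e => PrimeSpectrum.ext e)).subset fun y hy => ?_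
    refine ⟨⟨y.2, (hJ y).2 hy.2⟩, fun q hq hqy => ?_⟩
    have hq' : (⟨q, hq.1⟩ : ↥S) ∈ Z := ⟨le_mem hqy hy.1, (hJ ⟨q, hq.1⟩).1 hq.2⟩
    exact (congrArg PrimeSpectrum.asIdeal (hmax hq' hqy hy.1)).ge
  have hqc : QuasiCompact U'.ι := inferInstance
  have hgenZ : ∀ y : Z, ∃ (V : S.Opens) (e : Γ(L, U'.ι ⁻¹ᵁ V)),
      y.1 ∈ V ∧ Gen L (U'.ι ⁻¹ᵁ V) e := fun y =>
    PointExtend.exists_gen_nhd U' y.1 L hL (picTrivial_pullback U' y.1 y.2.2
      (fun p hp => by
        by_contra hpU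
        have := hmax (y := p) ⟨le_mem hp.le y.2.1, hpU⟩ hp.le y.2.1
        exact hp.ne (congrArg PrimeSpectrum.asIdeal this))
      (@h₅ y.1.asIdeal y.1.2 (fun hfy => y.2.2 (mem_of_mem f U' h hfy y.2.1)) fun q' hq' hle hfq =>
        (congrArg PrimeSpectrum.asIdeal (hmax (z := ⟨q', hq'⟩) y.2 hle
          (mem_punctured.2 fun e => hfq (by rw [show q' = IsLocalRing.maximalIdeal A from e]; exact hf)))).symm))
  choose V e hyV he using hgenZ
  obtain ⟨P, t, hPcov, hPmem, ht⟩ := exists_gen_cover hL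
  let sep : Z → S.Opens := fun y =>
    ⟨⋂ z ∈ hZfin.toFinset.erase y.1, (PrimeSpectrum.zeroLocus (z.asIdeal : Set A))ᶜ,
      isOpen_biInter_finset fun z _ => (PrimeSpectrum.isClosed_zeroLocus _).isOpen_compl⟩
  let κ := Z ⊕ ↥(U' : Scheme.{u})
  let B : κ → S.Opens := Sum.elim (fun y => V y ⊓ sep y) (fun p => U'.ι ''ᵁ P p)
  have hBgen : ∀ k, ∃ s : Γ(L, U'.ι ⁻¹ᵁ B k), Gen L _ s := by
    rintro (y | p)
    · exact ⟨res L (U'.ι.preimage_mono inf_le_left) (e y), (he y).res _⟩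
    · exact ⟨res L (U'.ι.preimage_image_eq (P p)).le (t p), (ht p).res _⟩
  choose b hb using hBgen
  let U'' : (U : Scheme.{u}).Opens := U.ι ⁻¹ᵁ U'
  let j : (U'' : Scheme.{u}) ⟶ (U' : Scheme.{u}) :=
    IsOpenImmersion.lift U'.ι (U''.ι ≫ U.ι) (by
      rintro _ ⟨p, rfl⟩
      rw [Scheme.Opens.range_ι]
      exact p.2)
  have hj : j ≫ U'.ι = U''.ι ≫ U.ι := IsOpenImmersion.lift_fac _ _ _
  have hpre : ∀ B : S.Opens, U''.ι ⁻¹ᵁ (U.ι ⁻¹ᵁ B) ≤ j ⁻¹ᵁ (U'.ι ⁻¹ᵁ B) := fun B => by
    rw [← Scheme.Hom.comp_preimage, ← Scheme.Hom.comp_preimage, hj]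
  have hW : iSup (fun k => U.ι ⁻¹ᵁ B k) = ⊤ := eq_top_iff.2 fun p _ => by
    by_cases hp : (U.ι p) ∈ U'
    · refine Opens.mem_iSup.2 ⟨.inr ⟨U.ι p, hp⟩, ?_⟩
      exact ⟨⟨U.ι p, hp⟩, hPmem _, rfl⟩
    · refine Opens.mem_iSup.2 ⟨.inl ⟨U.ι p, p.2, hp⟩, hyV _, ?_⟩
      refine Set.mem_iInter₂.2 fun z hz hzp => ?_
      rw [Finset.mem_erase, Set.Finite.mem_toFinset] at hz
      exact hz.1 (hmax hz.2 hzp p.2)
  obtain ⟨L', hL', ⟨E⟩⟩ := PointExtend.exists_extension_of_cover U'' ((Scheme.Modules.pullback j).obj L)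
    (fun k => U.ι ⁻¹ᵁ B k) hW
    (fun k l hkl p hp => by
      rcases k with y | k
      · rcases l with z | l
        · by_contra hpU
          have h1 : (U.ι p) = y.1 := by
            by_contra hne
            refine (Set.mem_iInter₂.1 hp.1.2 (U.ι p) ?_) (le_refl (U.ι p).asIdeal)
            exact Finset.mem_erase.2 ⟨hne, hZfin.mem_toFinset.2 ⟨p.2, hpU⟩⟩
          have h2 : (U.ι p) = z.1 := by
            by_contra hne
            refine (Set.mem_iInter₂.1 hp.2.2 (U.ι p) ?_) (le_refl (U.ι p).asIdeal)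
            exact Finset.mem_erase.2 ⟨hne, hZfin.mem_toFinset.2 ⟨p.2, hpU⟩⟩
          exact hkl (congrArg Sum.inl (Subtype.ext (h1.symm.trans h2)))
        · exact U'.ι_image_le _ hp.2
      · exact U'.ι_image_le _ hp.1)
    (fun k => res _ (hpre (B k)) (pullSec j L (b k))) (fun k => ((hb k).pull j).res _)
  let k : (↑(Formal2.specQuotMap A f ⁻¹ᵁ U) : Scheme.{u}) ⟶ U'' :=
    IsOpenImmersion.lift U''.ι (Formal2.specQuotMap A f ∣_ U) (by
      rintro _ ⟨p, rfl⟩
      rw [Scheme.Opens.range_ι]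
      change U.ι ((Formal2.specQuotMap A f ∣_ U) p) ∈ U'
      rw [← Scheme.Hom.comp_apply, morphismRestrict_ι]
      exact h p.2)
  have hk : k ≫ U''.ι = Formal2.specQuotMap A f ∣_ U := IsOpenImmersion.lift_fac _ _ _
  have hkj : k ≫ j = (Formal2.specQuotMap A f).resLE U' _ h := by
    rw [← cancel_mono U'.ι, Category.assoc, hj, reassoc_of% hk, morphismRestrict_ι,
      Scheme.Hom.resLE_comp_ι]
  refine ⟨L', hL', ⟨((Scheme.Modules.pullbackCongr hk).app L').symm ≪≫
    ((Scheme.Modules.pullbackComp k U''.ι).app L').symm ≪≫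
    (Scheme.Modules.pullback k).mapIso (((Scheme.Modules.restrictFunctorIsoPullback _).app L').symm ≪≫ E) ≪≫
    (Scheme.Modules.pullbackComp k j).app L ≪≫ (Scheme.Modules.pullbackCongr hkj).app L⟩⟩

end Groth.LocCohTransform.LocalPicExtend
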