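import Groth.Agent.PicAux.UFDExtend
import Groth.Agent.PicAux.SpreadLocal
import Groth.Agent.PicAux.FibTrivClosed
import Groth.Agent.LimitMod.Modules
import Groth.Agent.PicAux.QCoh
import Groth.Prelude.Def_Formal2
import Mathlib.RingTheory.Ideal.KrullsHeightTheorem

/-!
# Extending invertible modules over closed points with trivial punctured local Picard group
-/

set_option autoImplicit false
set_option backward.isDefEq.respectTransparency false
set_option backward.defeqAttrib.useBackward true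

universe u

open CategoryTheory Limits AlgebraicGeometry TopologicalSpace Opposite

noncomputable section

namespace Groth.LocCohTransform.PointExtend

open Groth.PicAux

theorem picTrivial_of_iso {Y Y' : Scheme.{u}} (e : Y ≅ Y') (h : Formal2.PicTrivial Y') :
    Formal2.PicTrivial Y := fun L hL =>
  have := isIso_pullUnit e.hom
  ⟨((Scheme.Modules.pullbackId Y).app L).symm ≪≫
    ((Scheme.Modules.pullbackCongr e.hom_inv_id).app L).symm ≪≫
    ((Scheme.Modules.pullbackComp e.hom e.inv).app L).symm ≪≫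
    (Scheme.Modules.pullback e.hom).mapIso (h _ (isInvertible_pullback e.inv hL)).some ≪≫
    asIso (pullUnit e.hom)⟩

theorem isInvertible_structure' (X : Scheme.{u}) : PicF.IsInvertible (Coh.structureModule X) :=
  isInvertible_of_gen_cover (fun _ : PUnit.{1} => (⊤ : X.Opens)) (by simp) _ fun _ => gen_oneSec ⊤

variable {X : Scheme.{u}}

/-- An invertible module on an open extends over a cover whose members meet pairwise inside it. -/
theorem exists_extension_of_cover (U : X.Opens) (L : (U : Scheme.{u}).Modules) {κ : Type u}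
    (W : κ → X.Opens) (hW : iSup W = ⊤) (hpair : ∀ p q, p ≠ q → W p ⊓ W q ≤ U)
    (e : ∀ p, Γ(L, U.ι ⁻¹ᵁ W p)) (he : ∀ p, Gen L (U.ι ⁻¹ᵁ W p) (e p)) :
    ∃ L' : X.Modules, PicF.IsInvertible L' ∧ Nonempty (L'.restrict U.ι ≅ L) := by
  classical
  let V : κ → (U : Scheme.{u}).Opens := fun p => U.ι ⁻¹ᵁ W p
  choose c hc using fun a b =>
    (he b).exists_coeff (inf_le_right : V a ⊓ V b ≤ V b) (res L inf_le_left (e a))
  have hcu : ∀ a b, IsUnit (c a b) := fun a b =>
    ((he b).res inf_le_right).isUnit_of_smul (hc a b ▸ (he a).res inf_le_left)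
  have hone : ∀ a, c a a = 1 := fun a => by
    refine (he a).smul_inj inf_le_right ?_
    rw [one_smul]
    exact (hc a a).symm
  have hle : ∀ {a b}, a ≠ b → W a ⊓ W b ≤ U.ι ''ᵁ (V a ⊓ V b) := fun {a b} hab x hx =>
    ⟨⟨x, hpair a b hab hx⟩, hx, rfl⟩
  let η : ∀ a b, Γ(X, W a ⊓ W b) := fun a b =>
    if h : a = b then 1 else resX X (hle h) (c a b)
  have hηu : ∀ a b, IsUnit (η a b) := fun a b => by
    by_cases h : a = b
    · simp only [η, dif_pos h]; exact isUnit_one
    · simp only [η, dif_neg h]; exact (hcu a b).map _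
  have hηc : ∀ a b (Z : (U : Scheme.{u}).Opens) (h1 : U.ι ''ᵁ Z ≤ W a ⊓ W b) (h2 : Z ≤ V a ⊓ V b),
      resX X h1 (η a b) = resX (U : Scheme.{u}) h2 (c a b) := by
    intro a b Z h1 h2
    by_cases h : a = b
    · subst h
      simp only [η, dif_pos rfl, map_one, hone]
    · simp only [η, dif_neg h, resX_resX]
      rfl
  have hcc : ∀ a b d,
      resX (U : Scheme.{u}) (inf_le_inf_right _ inf_le_left : V a ⊓ V b ⊓ V d ≤ V a ⊓ V d) (c a d) =
      resX (U : Scheme.{u}) (inf_le_left : V a ⊓ V b ⊓ V d ≤ V a ⊓ V b) (c a b) *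
        resX (U : Scheme.{u}) (inf_le_inf_right _ inf_le_right : V a ⊓ V b ⊓ V d ≤ V b ⊓ V d)
          (c b d) := by
    intro a b d
    refine (he d).smul_inj inf_le_right ?_
    have h1 := congrArg (res L (inf_le_inf_right _ inf_le_left : V a ⊓ V b ⊓ V d ≤ V a ⊓ V d))
      (hc a d)
    have h2 := congrArg (res L (inf_le_left : V a ⊓ V b ⊓ V d ≤ V a ⊓ V b)) (hc a b)
    have h3 := congrArg (res L (inf_le_inf_right _ inf_le_right : V a ⊓ V b ⊓ V d ≤ V b ⊓ V d))
      (hc b d)
    simp only [res_smul, res_res] at h1 h2 h3 ⊢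
    rw [mul_smul, ← h3, ← h2, ← h1]
  obtain ⟨L', s, hs, hL', hrel⟩ := exists_module_of_cocycle W η hW hηu fun a b d => by
    by_cases habd : a = b ∧ b = d
    · obtain ⟨rfl, rfl⟩ := habd
      simp [η]
    · have hin : W a ⊓ W b ⊓ W d ≤ U := by
        by_cases hab : a = b
        · exact (inf_le_inf_right _ inf_le_right).trans (hpair b d fun h => habd ⟨hab, h⟩)
        · exact inf_le_left.trans (hpair a b hab)
      have hle3 : W a ⊓ W b ⊓ W d ≤ U.ι ''ᵁ (V a ⊓ V b ⊓ V d) := fun x hx => ⟨⟨x, hin hx⟩, hx, rfl⟩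
      have hi : ∀ {p q}, (W a ⊓ W b ⊓ W d ≤ W p ⊓ W q) → U.ι ''ᵁ (V a ⊓ V b ⊓ V d) ≤ W p ⊓ W q :=
        fun {p q} h => by rintro _ ⟨y, hy, rfl⟩; exact h hy
      have h0 := hcc a b d
      rw [← hηc a d _ (hi (inf_le_inf_right _ inf_le_left)), ← hηc a b _ (hi inf_le_left),
        ← hηc b d _ (hi (inf_le_inf_right _ inf_le_right))] at h0
      have h0' := (congrArg (resX X hle3) h0).trans (map_mul (resX X hle3) _ _)
      simpa only [resX_resX] using h0'
  refine ⟨L', hL', ?_⟩
  have hV : iSup V = ⊤ := eq_top_iff.2 fun x _ => by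
    obtain ⟨p, hp⟩ := Opens.mem_iSup.1 (hW.ge (Set.mem_univ (U.ι x)))
    exact Opens.mem_iSup.2 ⟨p, hp⟩
  have himg : ∀ p, U.ι ''ᵁ V p ≤ W p := fun p => by rintro _ ⟨y, hy, rfl⟩; exact hy
  obtain ⟨i, -⟩ := exists_iso_of_gen hV (L := L'.restrict U.ι) (M := L)
    (fun a => (res L' (himg a) (s a) : Γ(L', U.ι ''ᵁ V a)))
    (fun a => ((hs a).res (himg a)).to_restrict) e he fun a b r hr => by
      have hi : U.ι ''ᵁ (V a ⊓ V b) ≤ W a ⊓ W b :=
        le_inf ((U.ι.image_mono inf_le_left).trans (himg a)) ((U.ι.image_mono inf_le_right).trans (himg b))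
      have h1 := congrArg (res L' hi) (hrel a b)
      simp only [res_smul, res_res] at h1
      rw [hηc a b _ hi le_rfl, resX_self] at h1
      have h2 : res L' (U.ι.image_mono (inf_le_left : V a ⊓ V b ≤ V a)) (res L' (himg a) (s a)) =
          HSMul.hSMul (α := Γ(X, U.ι ''ᵁ (V a ⊓ V b))) r
            (res L' (U.ι.image_mono (inf_le_right : V a ⊓ V b ≤ V b)) (res L' (himg b) (s b))) :=
        hr.trans (restrict_smul U _ r _)
      simp only [res_res] at h2
      have h3 := (hs b).smul_inj ((U.ι.image_mono inf_le_right).trans (himg b)) (h1.symm.trans h2)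
      rw [← h3]
      exact hc a b
  exact ⟨i⟩

/-- Trivial on the trace of a local scheme, hence trivial on the trace of a neighbourhood. -/
theorem exists_gen_nhd (U : X.Opens) [QuasiCompact U.ι] (x : X)
    (L : (U : Scheme.{u}).Modules) (hL : PicF.IsInvertible L)
    (h : Formal2.PicTrivial (pullback U.ι (X.fromSpecStalk x))) :
    ∃ (V : X.Opens) (e : Γ(L, U.ι ⁻¹ᵁ V)), x ∈ V ∧ Gen L (U.ι ⁻¹ᵁ V) e := by
  obtain ⟨_, ⟨W, hW, rfl⟩, hxW, -⟩ :=
    X.isBasis_affineOpens.exists_subset_of_mem_open (Set.mem_univ x) isOpen_univ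
  have := Groth.Limits.nonempty_basicNhd (W := W) hxW
  let D := SpreadLocal.preDiagram U.ι W x
  have hcpt : ∀ V, CompactSpace (D.obj V) := fun V =>
    isCompact_iff_compactSpace.mp
      (U.ι.isCompact_preimage (Groth.Limits.isAffineOpen_nhd hW V).isCompact)
  have hqsι : QuasiSeparated U.ι := inferInstance
  have hqs : ∀ V, QuasiSeparatedSpace (D.obj V) := fun V =>
    have := Groth.Limits.isAffine_nhdDiagram hW V
    have : IsAffine (V.1 : Scheme.{u}) := this
    have : QuasiSeparated (U.ι ∣_ V.1) := IsZariskiLocalAtTarget.restrict hqsι V.1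
    quasiSeparatedSpace_of_quasiSeparated (U.ι ∣_ V.1)
  have haff : ∀ (V V' : Groth.Limits.BasicNhd W x) (m : V ⟶ V'), IsAffineHom (D.map m) := fun V V' m => by
    have h1 : IsAffineHom (X.homOfLE (leOfHom m)) := Groth.Limits.isAffineHom_nhdDiagram hW m
    exact MorphismProperty.of_isPullback (P := @IsAffineHom) (IsPullback.of_right
      (h₁₁ := Scheme.homOfLE _ (U.ι.preimage_mono (leOfHom m))) (v₁₁ := U.ι ∣_ V.1)
      (h₂₁ := X.homOfLE (leOfHom m))
      (by simpa only [Scheme.homOfLE_ι] using (isPullback_morphismRestrict U.ι V.1).flip)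
      (by rw [← cancel_mono V'.1.ι]; simp [morphismRestrict_ι])
      (isPullback_morphismRestrict U.ι V'.1).flip).flip h1
  obtain ⟨hl⟩ := SpreadLocal.nonempty_isLimit U.ι hW hxW
  let V₀ := Groth.Limits.BasicNhd.top (W := W) hxW
  let L₀ : (D.obj V₀).Modules := (Scheme.Modules.pullback (U.ι ⁻¹ᵁ V₀.1).ι).obj L
  have hL₀ : PicF.IsInvertible L₀ := isInvertible_pullback _ hL
  let O₀ := Coh.structureModule (D.obj V₀)
  have := isIso_pullUnit ((SpreadLocal.preCone U.ι W x).π.app V₀)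
  have : L₀.IsQuasicoherent := isQCoh_of_isInvertible hL₀
  have : O₀.IsQuasicoherent := isQCoh_of_isInvertible (isInvertible_structure' (D.obj V₀))
  obtain ⟨V, φ, ⟨E⟩⟩ := Groth.LimitMod.exists_iso_stage hl (i := V₀) (F := L₀) (G := O₀)
    (FibTrivClosed.isFP_of_isInvertible hL₀)
    (FibTrivClosed.isFP_of_isInvertible (isInvertible_structure' _))
    ((h _ (isInvertible_pullback _ hL₀)).some ≪≫
      (asIso (pullUnit ((SpreadLocal.preCone U.ι W x).π.app V₀))).symm)
  have := isIso_pullUnit (D.map φ)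
  have hcomp : D.map φ ≫ (U.ι ⁻¹ᵁ V₀.1).ι = (U.ι ⁻¹ᵁ V.1).ι := Scheme.homOfLE_ι _ (U.ι.preimage_mono (leOfHom φ))
  obtain ⟨s, hs⟩ := (nonempty_restrict_iso_iff (M := L) (U.ι ⁻¹ᵁ V.1)).1
    ⟨(Scheme.Modules.restrictFunctorIsoPullback _).app L ≪≫
      ((Scheme.Modules.pullbackCongr hcomp).app L).symm ≪≫
      ((Scheme.Modules.pullbackComp (D.map φ) (U.ι ⁻¹ᵁ V₀.1).ι).app L).symm ≪≫ E ≪≫
      asIso (pullUnit (D.map φ))⟩
  exact ⟨V.1, s, V.2.1, hs⟩

end Groth.LocCohTransform.PointExtend
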