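import Groth.Agent.LocCohTransform.PuncturedFunctor
import Groth.Agent.LocCohTransform.NonVanish
import Groth.Agent.CohBase.FlatBC.AffineBase
import Groth.Agent.CohBase.AffineVanishing

/-!
`H^i(U, M~)` is Artinian for `i > 0` on the punctured spectrum of a Noetherian local ring.
-/

set_option autoImplicit false
universe u

open CategoryTheory CategoryTheory.Limits AlgebraicGeometry Opposite TopologicalSpace Pointwise
open IsLocalRing (maximalIdeal)

namespace Groth.LocCohTransform.Punct

variable {A : Type u} [CommRing A] [IsNoetherianRing A]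

instance compactSpace_UU (I : Ideal A) : CompactSpace (UU I) :=
  isCompact_iff_compactSpace.1
    (PrimeSpectrum.isCompact_isOpen_iff_ideal.2 ⟨I, IsNoetherian.noetherian I, rfl⟩).1

theorem quasiSeparatedSpace_UU (I : Ideal A) : QuasiSeparatedSpace (UU I) :=
  (isQuasiSeparated_iff_quasiSeparatedSpace _ (LocCoh.puncturedOpen A I).isOpen).1
    (isQuasiSeparated_univ.of_subset (Set.subset_univ _))

theorem subsingleton_HH_Spec {B : CommRingCat.{u}} (F : (Spec B).Modules) [F.IsQuasicoherent]
    (i : ℕ) : Subsingleton (Coh.HH (Spec B) F (i + 1)) :=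
  @Equiv.subsingleton _ _ (CohBase.equivHTop _ _).toEquiv
    (CohBase.hVanish_of_isAffineOpen F (isAffineOpen_top _) i)

/-- Cohomology in positive degree of a quasi-coherent module on the punctured open is torsion. -/
theorem exists_pow_smul_eq_zero_HH (I : Ideal A) {x : A} (hx : x ∈ I) (F : (UU I).Modules)
    [F.IsQuasicoherent] (i : ℕ) (h : Coh.HH (UU I) F (i + 1)) : ∃ n : ℕ, x ^ n • h = 0 := by
  have := quasiSeparatedSpace_UU I
  let B := Localization.Away x
  let g : Spec (CommRingCat.of B) ⟶ Spec (CommRingCat.of A) :=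
    Spec.map (CommRingCat.ofHom (algebraMap A B))
  let ι := (LocCoh.puncturedOpen A I).ι
  have hrange : Set.range g ⊆ Set.range ι := by
    rw [Scheme.Opens.range_ι]
    rintro _ ⟨q, rfl⟩ hq
    have hu : IsUnit (algebraMap A B x) := IsLocalization.Away.algebraMap_isUnit x
    exact q.2.ne_top (Ideal.eq_top_of_isUnit_mem _ (hq hx) hu)
  let g' : Spec (CommRingCat.of B) ⟶ UU I := IsOpenImmersion.lift ι g hrange
  letI : (Spec (CommRingCat.of B)).Over (Spec (CommRingCat.of B)) := ⟨𝟙 _⟩
  have hfac : g' ≫ ι = g := IsOpenImmersion.lift_fac ι g hrange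
  have hsq : IsPullback g' (𝟙 (Spec (CommRingCat.of B))) ι g := by
    refine IsPullback.of_isLimit' ⟨by rw [hfac, Category.id_comp]⟩ (PullbackCone.IsLimit.mk _
      (fun s => s.snd) (fun s => ?_) (fun s => Category.comp_id _) fun s m _ hm => ?_)
    · rw [← cancel_mono ι, Category.assoc, hfac]
      exact s.condition.symm
    · rw [← hm, Category.comp_id]
  obtain ⟨e⟩ := Groth.CohBase.FlatBC.exists_affine_base_linEquiv (A := A) (B := B) g' hsq F (i + 1)
  have hv : Subsingleton (TensorProduct A B (Coh.HH (UU I) F (i + 1))) := by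
    have := Groth.QCohMod.isQCoh_pullback_obj g' F
    have := subsingleton_HH_Spec ((Scheme.Modules.pullback g').obj F) i
    exact e.toEquiv.subsingleton
  have hloc : IsLocalizedModule (Submonoid.powers x)
      (TensorProduct.mk A B (Coh.HH (UU I) F (i + 1)) 1) :=
    (isLocalizedModule_iff_isBaseChange (Submonoid.powers x) B _).2 (TensorProduct.isBaseChange A _ B)
  obtain ⟨⟨_, n, rfl⟩, hn⟩ := (IsLocalizedModule.eq_zero_iff (Submonoid.powers x)
    (TensorProduct.mk A B (Coh.HH (UU I) F (i + 1)) 1) (m := h)).1 (Subsingleton.elim _ _)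
  exact ⟨n, hn⟩

variable [IsLocalRing A]

/-- The cokernel of `N → Γ(U, N~)` is Artinian for finite `N`. -/
theorem isArtinian_coker_toOpen (N : ModuleCat.{u} A) [Module.Finite A N] :
    IsArtinian A (TildeSec.sec (R := A) N (LocCoh.puncturedOpen A (maximalIdeal A)) ⧸
      LinearMap.range (tilde.toOpen (R := CommRingCat.of A) N
        (LocCoh.puncturedOpen A (maximalIdeal A))).hom) := by
  classical
  let U := LocCoh.puncturedOpen A (maximalIdeal A)
  let sN := TildeSec.sec (R := A) N U
  let P : Submodule A sN := LinearMap.range (tilde.toOpen (R := CommRingCat.of A) N U).hom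
  have : Module.Finite A P := Module.Finite.range _
  obtain ⟨t, ht⟩ := IsNoetherian.noetherian (maximalIdeal A)
  let S : Submodule A sN :=
    { carrier := {s | ∀ a ∈ maximalIdeal A, a • s ∈ P}
      add_mem' := fun ha hb a m => by rw [smul_add]; exact add_mem (ha a m) (hb a m)
      zero_mem' := fun a _ => by rw [smul_zero]; exact zero_mem _
      smul_mem' := fun c s hs a m => by rw [smul_comm]; exact P.smul_mem c (hs a m) }
  let f : S →ₗ[A] (t → P) := LinearMap.pi fun a =>
    LinearMap.codRestrict P ((LinearMap.lsmul A sN (a : A)).comp S.subtype) fun s =>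
      s.2 _ (ht ▸ Submodule.subset_span a.2)
  have hf : Function.Injective f := by
    refine (injective_iff_map_eq_zero f).2 fun s hs => Subtype.ext ?_
    refine TildeSec.eq_zero_of_pow_smul (R := A) N (le_refl U) (n := 1) fun r hr => ?_
    rw [pow_one, ← ht] at hr
    induction hr using Submodule.span_induction with
    | mem a ha => exact congrArg Subtype.val (congrFun hs ⟨a, ha⟩)
    | zero => exact zero_smul A _
    | add a b _ _ ha hb => rw [add_smul, ha, hb, add_zero]
    | smul c a _ ha => rw [smul_eq_mul, mul_smul, ha, smul_zero]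
  have : Module.Finite A S := Module.Finite.of_injective f hf
  refine isArtinian_of_isArtinian_torsionBy' (maximalIdeal A) (IsNoetherian.noetherian _)
    (TildeSec.isPowerTorsion_coker_toOpen (R := A) N (maximalIdeal A)) ?_
  have hle : LocCoh.torsionBy (maximalIdeal A) (sN ⧸ P) ≤ S.map P.mkQ := by
    intro q hq
    obtain ⟨s, rfl⟩ := P.mkQ_surjective q
    refine ⟨s, fun a ha => ?_, rfl⟩
    rw [← Submodule.Quotient.mk_eq_zero, Submodule.Quotient.mk_smul]
    exact (Submodule.mem_torsionBySet_iff _ _).1 hq ⟨a, ha⟩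
  have : Module.Finite A (LocCoh.torsionBy (maximalIdeal A) (sN ⧸ P)) :=
    Module.Finite.of_injective (Submodule.inclusion hle) (Submodule.inclusion_injective hle)
  refine isArtinian_of_killed _ 1 fun a ha q => Subtype.ext ?_
  rw [pow_one] at ha
  exact (Submodule.mem_torsionBySet_iff _ _).1 q.2 ⟨a, ha⟩

/-- `H^i(U, M~)` is Artinian for finite `M` and `i > 0`. -/
theorem isArtinian_HH_Φ : ∀ (i : ℕ) (M : ModuleCat.{u} A), Module.Finite A M →
    IsArtinian A (Coh.HH (UU (maximalIdeal A)) ((Φ (maximalIdeal A)).obj M) (i + 1)) := by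
  intro i
  induction i using Nat.strong_induction_on with
  | _ i ih =>
  intro M _
  let M' := M ⧸ DRing.torsionSub (maximalIdeal A) M
  suffices h' : IsArtinian A
      (Coh.HH (UU (maximalIdeal A)) ((Φ (maximalIdeal A)).obj (ModuleCat.of A M')) (i + 1)) from
    isArtinian_of_injective _ (bijective_hMap_mkQ (maximalIdeal A) M
      (DRing.torsionSub (maximalIdeal A) M)
      (isPowerTorsion_torsionSub (maximalIdeal A) M) (i + 1)).1
  obtain ⟨x, hxm, hx, -⟩ := exists_regular_mem M' (torsionSub_quotient_torsionSub _ M) ∅ (by simp)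
  have hqc : (((Φ (maximalIdeal A)).obj (ModuleCat.of A M'))).IsQuasicoherent :=
    Scheme.Modules.isQuasicoherent_restrictFunctor (LocCoh.puncturedOpen A (maximalIdeal A)).ι
      (tilde (R := CommRingCat.of A) (ModuleCat.of A M'))
  refine isArtinian_of_isArtinian_ker_smul x
    (fun h => exists_pow_smul_eq_zero_HH (maximalIdeal A) hxm _ i h) ?_
  let hS := shortExact_Φ (maximalIdeal A) (smulSeq_shortExact hx)
  let δ := Groth.EulerDeg.hDelta A hS i
  have hker : ∀ h, h ∈ LinearMap.ker (LinearMap.lsmul A
      (Coh.HH (UU (maximalIdeal A)) ((Φ (maximalIdeal A)).obj (ModuleCat.of A M')) (i + 1)) x) →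
      ∃ y, δ y = h := by
    intro h hh
    refine (Groth.EulerDeg.exact_left A hS i h).1 ?_
    have e : (smulSeq M' x).f = mulHom (ModuleCat.of A M') x := by
      ext m; rfl
    change Groth.EulerDeg.hMap A ((Φ (maximalIdeal A)).map (smulSeq M' x).f) (i + 1) h = 0
    rw [e]
    exact (hMap_mulHom (maximalIdeal A) (ModuleCat.of A M') x (i + 1) h).trans hh
  have key : IsArtinian A (LinearMap.range δ) := by
    cases i with
    | succ j =>
      have := ih j (Nat.lt_succ_self j) (ModuleCat.of A (M' ⧸ x • (⊤ : Submodule A M'))) inferInstance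
      exact @isArtinian_of_surjective A _ _ _ _ _ _ _ δ.rangeRestrict δ.surjective_rangeRestrict this
    | zero =>
      let Q := ModuleCat.of A (M' ⧸ x • (⊤ : Submodule A M'))
      let θ := toH0ₗ (maximalIdeal A) Q
      let P : Submodule A (TildeSec.sec (R := A) Q (LocCoh.puncturedOpen A (maximalIdeal A))) :=
        LinearMap.range (tilde.toOpen (R := CommRingCat.of A) Q
          (LocCoh.puncturedOpen A (maximalIdeal A))).hom
      have hk : P ≤ LinearMap.ker (δ.rangeRestrict ∘ₗ θ) := by
        rintro _ ⟨q, rfl⟩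
        obtain ⟨p, rfl⟩ := Submodule.mkQ_surjective _ q
        refine Subtype.ext ?_
        change δ (toH0 (maximalIdeal A) Q _) = 0
        refine (congrArg δ (toH0_toOpen_map (maximalIdeal A) (smulSeq M' x).g p)).trans ?_
        exact (Groth.EulerDeg.exact_right A hS 0 _).2 ⟨_, rfl⟩
      have := isArtinian_coker_toOpen Q
      refine isArtinian_of_surjective _ (P.liftQ (δ.rangeRestrict ∘ₗ θ) hk) ?_
      rintro ⟨_, y, rfl⟩
      obtain ⟨s, rfl⟩ := toH0_surjective (maximalIdeal A) Q y
      exact ⟨P.mkQ s, Subtype.ext rfl⟩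
  exact isArtinian_of_injective (Submodule.inclusion fun h hh => hker h hh :
    _ →ₗ[A] LinearMap.range δ) (Submodule.inclusion_injective _)

end Groth.LocCohTransform.Punct
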