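import Groth.Prelude.Def_DRing3
import Groth.Agent.DerivedAdj.Basic
import Groth.Agent.DerivedCoh.KInj.Resolution
import Groth.Agent.BiextChow.HomologyElem
import Groth.Agent.LocCohBase.Torsion
import Mathlib.Algebra.Category.ModuleCat.AB
import Mathlib.Algebra.Category.ModuleCat.Injective

/-!
The total right derived torsion functor, computed by complexes of injectives.
-/

set_option autoImplicit false
set_option linter.style.haveILetI false
set_option linter.unusedSectionVars false

universe u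

open CategoryTheory CategoryTheory.Limits ZeroObject

attribute [local instance] HasDerivedCategory.standard

namespace Groth.LocCohTransform.RgammaCompute

variable {A : Type u} [CommRing A]

/-- `Γ_I` on complexes. -/
noncomputable abbrev gam (I : Ideal A) :
    CochainComplex (ModuleCat.{u} A) ℤ ⥤ CochainComplex (ModuleCat.{u} A) ℤ :=
  (DRing.gammaI I).mapHomologicalComplex (ComplexShape.up ℤ)

/-- The inclusion of the torsion subcomplex. -/
noncomputable def incl (I : Ideal A) (K : CochainComplex (ModuleCat.{u} A) ℤ) : (gam I).obj K ⟶ K :=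
  (NatTrans.mapHomologicalComplex (DRing.gammaIι I) (ComplexShape.up ℤ)).app K ≫
    (Functor.mapHomologicalComplexIdIso (ModuleCat.{u} A) (ComplexShape.up ℤ)).hom.app K

theorem incl_f_apply (I : Ideal A) (K : CochainComplex (ModuleCat.{u} A) ℤ) (n : ℤ)
    (x : DRing.torsionSub I (K.X n)) : ((incl I K).f n).hom x = x.1 := rfl

theorem exists_resolution (K : CochainComplex (ModuleCat.{u} A) ℤ) :
    ∃ (L : CochainComplex (ModuleCat.{u} A) ℤ) (i : K ⟶ L),
      QuasiIso i ∧ L.IsKInjective ∧ ∀ n, Injective (L.X n) := by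
  obtain ⟨L, i, -, h⟩ := Groth.DerivedCoh.KInjRes.exists_resolution K
  exact ⟨L, i, h⟩

theorem enoughKInj : Groth.DerivedAdj.EnoughKInj (ModuleCat.{u} A) := fun K => by
  obtain ⟨L, i, h, h', -⟩ := exists_resolution K
  exact ⟨L, i, h', h⟩

variable (I : Ideal A) [DRing.HasRgammaI I]

/-- The unit is invertible on K-injective complexes. -/
theorem isIso_unit (J : CochainComplex (ModuleCat.{u} A) ℤ) [J.IsKInjective] :
    IsIso (((DRing.gammaIKh I).totalRightDerivedUnit DerivedCategory.Qh
      (HomotopyCategory.quasiIso (ModuleCat.{u} A) (ComplexShape.up ℤ))).app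
        ((HomotopyCategory.quotient _ _).obj J)) :=
  Groth.DerivedAdj.isIso_app_of_bijective
    (HomotopyCategory.quasiIso (ModuleCat.{u} A) (ComplexShape.up ℤ)) (DRing.RgammaI I) _
    (Groth.DerivedAdj.exists_good enoughKInj) _
    (fun K => CochainComplex.IsKInjective.Qh_map_bijective K J)

/-- `RΓ_I` of a K-injective complex. -/
noncomputable def rgammaIso (J : CochainComplex (ModuleCat.{u} A) ℤ) [J.IsKInjective] :
    (DRing.RgammaI I).obj (DerivedCategory.Q.obj J) ≅ DerivedCategory.Q.obj ((gam I).obj J) :=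
  (DRing.RgammaI I).mapIso ((DerivedCategory.quotientCompQhIso (ModuleCat.{u} A)).app J).symm ≪≫
    (haveI := isIso_unit I J
     (asIso (((DRing.gammaIKh I).totalRightDerivedUnit DerivedCategory.Qh
      (HomotopyCategory.quasiIso (ModuleCat.{u} A) (ComplexShape.up ℤ))).app
        ((HomotopyCategory.quotient _ _).obj J))).symm) ≪≫
    DerivedCategory.Qh.mapIso (((DRing.gammaI I).mapHomotopyCategoryFactors (ComplexShape.up ℤ)).app J) ≪≫
    (DerivedCategory.quotientCompQhIso (ModuleCat.{u} A)).app ((gam I).obj J)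

theorem gammaIτ_app (J : CochainComplex (ModuleCat.{u} A) ℤ) :
    (DRing.gammaIτ I).app ((HomotopyCategory.quotient _ _).obj J) =
      DerivedCategory.Qh.map (((DRing.gammaI I).mapHomotopyCategoryFactors (ComplexShape.up ℤ)).hom.app J) ≫
        DerivedCategory.Qh.map ((HomotopyCategory.quotient _ _).map (incl I J)) := by
  show (DRing.gammaIτ0 I).app J = _
  rw [incl, Functor.map_comp, Functor.map_comp]
  simp [DRing.gammaIτ0]

/-- The counit on a K-injective complex is the inclusion of the torsion. -/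
theorem rgammaε_app (J : CochainComplex (ModuleCat.{u} A) ℤ) [J.IsKInjective] :
    (DRing.RgammaIε I).app (DerivedCategory.Q.obj J) =
      (rgammaIso I J).hom ≫ DerivedCategory.Q.map (incl I J) := by
  set q := (HomotopyCategory.quotient (ModuleCat.{u} A) (ComplexShape.up ℤ)).obj J
  set η := ((DRing.gammaIKh I).totalRightDerivedUnit DerivedCategory.Qh
    (HomotopyCategory.quasiIso (ModuleCat.{u} A) (ComplexShape.up ℤ)))
  have hfac : η.app q ≫ (DRing.RgammaIε I).app (DerivedCategory.Qh.obj q) = (DRing.gammaIτ I).app q := by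
    have := Functor.rightDerived_fac_app (DRing.RgammaI I) η
      (HomotopyCategory.quasiIso (ModuleCat.{u} A) (ComplexShape.up ℤ)) (𝟭 _)
      (DRing.gammaIτ I ≫ (Functor.rightUnitor _).inv) q
    refine this.trans ?_
    simp
  haveI := isIso_unit I J
  have hq := (IsIso.eq_inv_comp (η.app q)).2 hfac
  have hnat := (DRing.RgammaIε I).naturality ((DerivedCategory.quotientCompQhIso (ModuleCat.{u} A)).inv.app J)
  have hnat' : (DRing.RgammaIε I).app (DerivedCategory.Q.obj J) =
      (DRing.RgammaI I).map ((DerivedCategory.quotientCompQhIso (ModuleCat.{u} A)).inv.app J) ≫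
        (DRing.RgammaIε I).app (DerivedCategory.Qh.obj q) ≫
        (DerivedCategory.quotientCompQhIso (ModuleCat.{u} A)).hom.app J := by
    rw [← Category.assoc]
    refine Eq.trans ?_ (congrArg (· ≫ _) hnat).symm
    simp
  rw [hnat', hq, gammaIτ_app]
  simp only [rgammaIso, Iso.trans_hom, Functor.mapIso_hom, Iso.symm_hom, Iso.app_inv, Iso.app_hom,
    asIso_inv, Category.assoc]
  rw [← DerivedCategory.quotientCompQhIso_hom_naturality]

theorem exists_iso (K : Dual.D A) :
    ∃ (J : CochainComplex (ModuleCat.{u} A) ℤ), J.IsKInjective ∧ (∀ n, Injective (J.X n)) ∧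
      Nonempty (DerivedCategory.Q.obj J ≅ K) := by
  obtain ⟨L, i, hi, hL, hinj⟩ := exists_resolution ((DerivedCategory.Q (C := ModuleCat.{u} A)).objPreimage K)
  haveI := (DerivedCategory.isIso_Q_map_iff_quasiIso (C := ModuleCat.{u} A) i).2 hi
  exact ⟨L, hL, hinj, ⟨(asIso (DerivedCategory.Q.map i)).symm ≪≫ DerivedCategory.Q.objObjPreimageIso K⟩⟩

omit [DRing.HasRgammaI I] in
theorem isPowerTorsion_homology (K : CochainComplex (ModuleCat.{u} A) ℤ) (i : ℤ) :
    LocCoh.IsPowerTorsion I (((gam I).obj K).homology i) := by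
  intro a
  obtain ⟨z, rfl⟩ := Groth.BiextChow.homologyπ_surjective _ i a
  obtain ⟨n, hn⟩ := (((gam I).obj K).iCycles i z).2
  refine ⟨n, fun r hr => ?_⟩
  rw [← map_smul]
  refine (Groth.BiextChow.homologyπ_eq_zero_iff _ (j := i - 1) (by simp) _).2 ⟨0, ?_⟩
  rw [map_zero, map_smul]
  exact (Subtype.ext (hn r hr)).symm

omit [DRing.HasRgammaI I] in
/-- A complex without cohomology is zero in the derived category. -/
theorem isZero_Q (K : CochainComplex (ModuleCat.{u} A) ℤ) (h : ∀ i, IsZero (K.homology i)) :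
    IsZero (DerivedCategory.Q.obj K) := by
  haveI : QuasiIso (0 : K ⟶ 0) := by
    refine ⟨fun i => ?_⟩
    rw [quasiIsoAt_iff_isIso_homologyMap]
    exact isIso_of_source_target_iso_zero _ (h i).isoZero
      ((HomologicalComplex.homologyFunctor (ModuleCat.{u} A) (ComplexShape.up ℤ) i).map_isZero (isZero_zero _)).isoZero
  haveI := (DerivedCategory.isIso_Q_map_iff_quasiIso (C := ModuleCat.{u} A) (0 : K ⟶ 0)).2 inferInstance
  exact ((DerivedCategory.Q (C := ModuleCat.{u} A)).map_isZero (isZero_zero _)).of_iso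
    (asIso (DerivedCategory.Q.map (0 : K ⟶ 0)))

/-- Multiplication by `f` on a complex. -/
noncomputable def smulHom (f : A) (K : CochainComplex (ModuleCat.{u} A) ℤ) : K ⟶ K where
  f n := ModuleCat.ofHom (f • (LinearMap.id : K.X n →ₗ[A] K.X n))
  comm' i j _ := by ext x; exact (K.d i j).hom.map_smul f x

theorem smulHom_naturality (f : A) {K L : CochainComplex (ModuleCat.{u} A) ℤ} (g : K ⟶ L) :
    g ≫ smulHom f L = smulHom f K ≫ g := by
  ext n x
  exact ((g.f n).hom.map_smul f x).symm

omit [DRing.HasRgammaI I] in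
theorem gam_map_smulHom (f : A) (K : CochainComplex (ModuleCat.{u} A) ℤ) :
    (gam I).map (smulHom f K) = smulHom f ((gam I).obj K) := by
  ext n x
  rfl

theorem homologyMap_smulHom (f : A) (K : CochainComplex (ModuleCat.{u} A) ℤ) (i : ℤ) (a : K.homology i) :
    (HomologicalComplex.homologyMap (smulHom f K) i).hom a = f • a := by
  obtain ⟨z, rfl⟩ := Groth.BiextChow.homologyπ_surjective K i a
  rw [Groth.BiextChow.homologyMap_π_apply, ← map_smul]
  congr 1
  apply Groth.BiextChow.iCycles_injective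
  rw [Groth.BiextChow.iCycles_cyclesMap, map_smul]
  rfl

/-- If some element of `I` acts invertibly on every term, `RΓ_I` vanishes. -/
theorem isZero_of_smul_bijective (K : CochainComplex (ModuleCat.{u} A) ℤ) {f : A} (hf : f ∈ I)
    (hK : ∀ n, Function.Bijective fun x : K.X n => f • x) :
    IsZero ((DRing.RgammaI I).obj (DerivedCategory.Q.obj K)) := by
  obtain ⟨J, i, hi, hJ, -⟩ := exists_resolution K
  haveI := hJ
  haveI := (DerivedCategory.isIso_Q_map_iff_quasiIso (C := ModuleCat.{u} A) i).2 hi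
  refine IsZero.of_iso ?_ ((DRing.RgammaI I).mapIso (asIso (DerivedCategory.Q.map i)) ≪≫ rgammaIso I J)
  refine isZero_Q _ fun n => ?_
  haveI : ∀ n, IsIso ((smulHom f K).f n) := fun n =>
    (ConcreteCategory.isIso_iff_bijective _).2 (hK n)
  haveI : IsIso (smulHom f K) := HomologicalComplex.Hom.isIso_of_components _
  haveI := hi
  haveI : QuasiIso (smulHom f J) := by
    have h : QuasiIso (i ≫ smulHom f J) := by rw [smulHom_naturality]; infer_instance
    exact (quasiIso_iff_comp_left i (smulHom f J)).1 h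
  obtain ⟨g, hg⟩ := (CochainComplex.IsKInjective.Qh_map_bijective
    ((HomotopyCategory.quotient (ModuleCat.{u} A) (ComplexShape.up ℤ)).obj J) J).2
      (haveI := (DerivedCategory.isIso_Q_map_iff_quasiIso (C := ModuleCat.{u} A) (smulHom f J)).2 inferInstance
       haveI : IsIso (DerivedCategory.Qh.map ((HomotopyCategory.quotient _ _).map (smulHom f J))) :=
        (NatIso.isIso_map_iff (DerivedCategory.quotientCompQhIso (ModuleCat.{u} A)) (smulHom f J)).2 inferInstance
       inv (DerivedCategory.Qh.map ((HomotopyCategory.quotient _ _).map (smulHom f J))))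
  obtain ⟨g, rfl⟩ := (HomotopyCategory.quotient (ModuleCat.{u} A) (ComplexShape.up ℤ)).map_surjective g
  have hh : DerivedCategory.Qh.map ((HomotopyCategory.quotient _ _).map (smulHom f J ≫ g)) =
      DerivedCategory.Qh.map ((HomotopyCategory.quotient _ _).map (𝟙 J)) := by
    rw [Functor.map_comp, Functor.map_comp, hg, IsIso.hom_inv_id, CategoryTheory.Functor.map_id,
      CategoryTheory.Functor.map_id]
  have hhom := HomotopyCategory.homotopyOfEq _ _ ((CochainComplex.IsKInjective.Qh_map_bijective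
    ((HomotopyCategory.quotient (ModuleCat.{u} A) (ComplexShape.up ℤ)).obj J) J).1 hh)
  have hmap := ((DRing.gammaI I).mapHomotopy hhom).homologyMap_eq n
  rw [Functor.map_comp, CategoryTheory.Functor.map_id, HomologicalComplex.homologyMap_id,
    HomologicalComplex.homologyMap_comp, gam_map_smulHom] at hmap
  haveI : Subsingleton (((gam I).obj J).homology n) := by
    refine subsingleton_of_forall_eq 0 fun a => ?_
    have hinj : ∀ b : ((gam I).obj J).homology n, f • b = 0 → b = 0 := fun b hb => by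
      have h2 := congr(($hmap).hom b)
      simp only [ModuleCat.hom_comp, LinearMap.comp_apply, ModuleCat.hom_id, LinearMap.id_apply,
        homologyMap_smulHom, hb, map_zero] at h2
      exact h2.symm
    obtain ⟨m, hm⟩ := isPowerTorsion_homology I J n a
    have hpow : ∀ m (b : ((gam I).obj J).homology n), f ^ m • b = 0 → b = 0 := by
      intro m
      induction m with
      | zero => intro b hb; rwa [pow_zero, one_smul] at hb
      | succ m ih => intro b hb; exact ih b (hinj _ (by rw [smul_smul, ← pow_succ', hb]))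
    exact hpow m a (hm _ (Ideal.pow_mem_pow hf m))
  exact ModuleCat.isZero_of_subsingleton _

section Noetherian

variable [IsNoetherianRing A]

/-- Divisibility in injective modules up to torsion. -/
theorem exists_div (f : A) (E : Type u) [AddCommGroup E] [Module A E] [Module.Injective A E] (n : ℕ) (y : E) :
    ∃ (y' : E) (m : ℕ), f ^ m • (y - f ^ n • y') = 0 := by
  obtain ⟨m, hm⟩ := monotone_stabilizes_iff_noetherian.2 (inferInstance : IsNoetherian A A)
    ⟨fun k => LinearMap.ker (LinearMap.mulRight A (f ^ k)), fun a b hab z hz => by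
      have hz' : z * f ^ a = 0 := hz
      show z * f ^ b = 0
      rw [← Nat.add_sub_cancel' hab, pow_add, ← mul_assoc, hz', zero_mul]⟩
  have hker : ∀ z : A, z * f ^ (m + n) = 0 → z * f ^ m = 0 := fun z hz => by
    have h := hm (m + n) (Nat.le_add_right m n)
    exact (h.ge (show z ∈ LinearMap.ker (LinearMap.mulRight A (f ^ (m + n))) from hz) :)
  let p : A →ₗ[A] A := LinearMap.mulRight A (f ^ (m + n))
  let g : A →ₗ[A] E := (LinearMap.toSpanSingleton A E y).comp (LinearMap.mulRight A (f ^ m))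
  have hpg : LinearMap.ker p ≤ LinearMap.ker g := fun z hz => by
    show (z * f ^ m) • y = 0
    rw [hker z hz, zero_smul]
  obtain ⟨h, hh⟩ := Module.Injective.out ((LinearMap.ker p).liftQ p le_rfl)
    (LinearMap.ker_eq_bot.1 (Submodule.ker_liftQ_eq_bot _ _ _ le_rfl)) ((LinearMap.ker p).liftQ g hpg)
  refine ⟨h 1, m, ?_⟩
  have h1 := hh (Submodule.Quotient.mk 1)
  simp only [Submodule.liftQ_apply, p, g, LinearMap.mulRight_apply, one_mul, LinearMap.comp_apply,
    LinearMap.toSpanSingleton_apply] at h1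
  rw [show f ^ (m + n) = f ^ (m + n) • (1 : A) by rw [smul_eq_mul, mul_one], map_smul] at h1
  rw [smul_sub, smul_smul, ← pow_add, h1, sub_self]

/-- Cutting a family of injective submodules, stable under the differential and with `f`-power torsion
cohomology, down to its `f`-power torsion. -/
theorem step (f : A) (C : CochainComplex (ModuleCat.{u} A) ℤ) (N : ∀ n, Submodule A (C.X n))
    (hd : ∀ i j, ∀ x ∈ N i, (C.d i j).hom x ∈ N j) (hinj : ∀ n, Module.Injective A (N n))
    (ht : ∀ n, ∀ x ∈ N n, (C.d n (n + 1)).hom x = 0 →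
      ∃ (k : ℕ), ∃ y ∈ N (n - 1), (C.d (n - 1) n).hom y = f ^ k • x) :
    (∀ n, ∀ x ∈ N n, (C.d n (n + 1)).hom x = 0 →
      ∃ y ∈ N (n - 1), ∃ k : ℕ, f ^ k • (x - (C.d (n - 1) n).hom y) = 0) ∧
    (∀ n, ∀ x ∈ N n, (∃ k : ℕ, f ^ k • x = 0) → ∀ y ∈ N (n - 1), (C.d (n - 1) n).hom y = x →
      ∃ y' ∈ N (n - 1), (∃ k : ℕ, f ^ k • y' = 0) ∧ (C.d (n - 1) n).hom y' = x) := by
  refine ⟨fun n x hx hdx => ?_, fun n x hx ⟨k, hk⟩ y hy hyx => ?_⟩
  · obtain ⟨k, y, hy, hyx⟩ := ht n x hx hdx
    haveI := hinj (n - 1)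
    obtain ⟨y', m, hy'⟩ := exists_div f ↥(N (n - 1)) k ⟨y, hy⟩
    have h' : f ^ m • (y - f ^ k • (y' : C.X (n - 1))) = 0 := congrArg Subtype.val hy'
    refine ⟨y', y'.2, m + k, ?_⟩
    rw [pow_add, mul_smul, smul_sub (f ^ k), ← hyx, ← map_smul, ← map_sub, ← map_smul, h', map_zero]
  · have hcyc : (C.d (n - 1) (n - 1 + 1)).hom (f ^ k • y) = 0 := by
      rw [sub_add_cancel, map_smul, hyx, hk]
    obtain ⟨l, z, hz, hzy⟩ := ht (n - 1) (f ^ k • y) ((N _).smul_mem _ hy) hcyc
    haveI := hinj (n - 1 - 1)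
    obtain ⟨z', m, hz'⟩ := exists_div f ↥(N (n - 1 - 1)) (l + k) ⟨z, hz⟩
    have h' : f ^ m • (z - f ^ (l + k) • (z' : C.X (n - 1 - 1))) = 0 := congrArg Subtype.val hz'
    refine ⟨y - (C.d (n - 1 - 1) (n - 1)).hom z', (N _).sub_mem hy (hd _ _ _ z'.2), ⟨m + (l + k), ?_⟩, ?_⟩
    · rw [pow_add, mul_smul, smul_sub (f ^ (l + k)), pow_add, mul_smul (f ^ l) (f ^ k) y, ← hzy, ← pow_add,
        ← map_smul, ← map_sub, ← map_smul, h', map_zero]
    · rw [map_sub, hyx, show (C.d (n - 1) n).hom ((C.d (n - 1 - 1) (n - 1)).hom z') = 0 from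
        congr(($(C.d_comp_d (n - 1 - 1) (n - 1) n)).hom z'), sub_zero]

/-- Complexes of injectives with torsion cohomology: every cycle is homologous to a torsion one, and
torsion boundaries bound torsion elements. -/
theorem good (s : Finset A) (C : CochainComplex (ModuleCat.{u} A) ℤ)
    (hC : ∀ n, Module.Injective A (C.X n))
    (ht : ∀ f ∈ s, ∀ n, ∀ x : C.X n, (C.d n (n + 1)).hom x = 0 →
      ∃ (k : ℕ) (y : C.X (n - 1)), (C.d (n - 1) n).hom y = f ^ k • x) :
    (∀ n, ∀ x : C.X n, (C.d n (n + 1)).hom x = 0 →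
      ∃ y : C.X (n - 1), x - (C.d (n - 1) n).hom y ∈ DRing.torsionSub (Ideal.span (s : Set A)) (C.X n)) ∧
    (∀ n, ∀ y : C.X (n - 1), (C.d (n - 1) n).hom y ∈ DRing.torsionSub (Ideal.span (s : Set A)) (C.X n) →
      ∃ y' ∈ DRing.torsionSub (Ideal.span (s : Set A)) (C.X (n - 1)),
        (C.d (n - 1) n).hom y' = (C.d (n - 1) n).hom y) := by
  classical
  induction s using Finset.induction_on with
  | empty =>
    have htop : ∀ n, ∀ x : C.X n, x ∈ DRing.torsionSub (Ideal.span ((∅ : Finset A) : Set A)) (C.X n) :=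
      fun n x => ⟨1, fun a ha => by
        rw [Finset.coe_empty, Ideal.span_empty, pow_one, Ideal.mem_bot] at ha
        rw [ha, zero_smul]⟩
    exact ⟨fun n x _ => ⟨0, htop _ _⟩, fun n y _ => ⟨y, htop _ _, rfl⟩⟩
  | insert f s hfs ih =>
    obtain ⟨ih1, ih2⟩ := ih fun g hg => ht g (Finset.mem_insert_of_mem hg)
    set J := Ideal.span (s : Set A)
    have hsplit : Ideal.span ((insert f s : Finset A) : Set A) = Ideal.span {f} ⊔ J := by
      rw [Finset.coe_insert, Ideal.span_insert]
    have hmem : ∀ n (x : C.X n), x ∈ DRing.torsionSub (Ideal.span ((insert f s : Finset A) : Set A)) (C.X n) ↔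
        x ∈ DRing.torsionSub J (C.X n) ∧ ∃ k : ℕ, f ^ k • x = 0 := by
      intro n x
      rw [hsplit]
      constructor
      · rintro ⟨k, hk⟩
        exact ⟨⟨k, fun a ha => hk a (Ideal.pow_right_mono le_sup_right k ha)⟩,
          k, hk _ (Ideal.pow_right_mono le_sup_left k (Ideal.pow_mem_pow (Ideal.mem_span_singleton_self f) k))⟩
      · rintro ⟨⟨k, hk⟩, l, hl⟩
        refine ⟨k + l, fun a ha => ?_⟩
        rw [add_comm k l] at ha
        have hle : (Ideal.span {f} ⊔ J) ^ (l + k) ≤ Ideal.span {f} ^ l ⊔ J ^ k := Ideal.sup_pow_add_le_pow_sup_pow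
        obtain ⟨b, hb, c, hc, rfl⟩ := Submodule.mem_sup.1 (hle ha)
        rw [Ideal.span_singleton_pow, Ideal.mem_span_singleton'] at hb
        obtain ⟨b, rfl⟩ := hb
        rw [add_smul, mul_smul, hl, smul_zero, hk c hc, add_zero]
    have hd : ∀ i j, ∀ x ∈ DRing.torsionSub J (C.X i), (C.d i j).hom x ∈ DRing.torsionSub J (C.X j) :=
      fun i j x hx => DRing.map_mem_torsionSub J (C.d i j).hom hx
    obtain ⟨s1, s2⟩ := step f C (fun n => DRing.torsionSub J (C.X n)) hd
      (fun n => haveI := hC n; Groth.LocCohBase.injective_torsionSub J (C.X n)) (fun n x hx hdx => by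
        obtain ⟨k, y, hy⟩ := ht f (Finset.mem_insert_self f s) n x hdx
        obtain ⟨y', hy', he⟩ := ih2 n y (hy ▸ Submodule.smul_mem _ _ hx)
        exact ⟨k, y', hy', he.trans hy⟩)
    refine ⟨fun n x hdx => ?_, fun n y hy => ?_⟩
    · obtain ⟨y, hy⟩ := ih1 n x hdx
      have hdx' : (C.d n (n + 1)).hom (x - (C.d (n - 1) n).hom y) = 0 := by
        rw [map_sub, hdx, show (C.d n (n + 1)).hom ((C.d (n - 1) n).hom y) = 0 from
          congr(($(C.d_comp_d (n - 1) n (n + 1))).hom y), sub_zero]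
      obtain ⟨z, hz, k, hk⟩ := s1 n _ hy hdx'
      refine ⟨y + z, (hmem n _).2 ⟨?_, k, ?_⟩⟩
      · rw [map_add, ← sub_sub]; exact Submodule.sub_mem _ hy (hd _ _ _ hz)
      · rw [map_add, ← sub_sub]; exact hk
    · obtain ⟨h1, h2⟩ := (hmem n _).1 hy
      obtain ⟨y₁, hy₁, he⟩ := ih2 n y h1
      obtain ⟨y₂, hy₂, hk, he₂⟩ := s2 n _ h1 h2 y₁ hy₁ he
      exact ⟨y₂, (hmem _ _).2 ⟨hy₂, hk⟩, he₂⟩

omit [DRing.HasRgammaI I] in
/-- A complex of injectives with `I`-power torsion cohomology is quasi-isomorphic to its torsion. -/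
theorem quasiIso_incl (C : CochainComplex (ModuleCat.{u} A) ℤ) (hC : ∀ n, Module.Injective A (C.X n))
    (ht : ∀ i, LocCoh.IsPowerTorsion I (C.homology i)) : QuasiIso (incl I C) := by
  obtain ⟨s, hs⟩ := I.fg_of_isNoetherianRing
  obtain ⟨g1, g2⟩ := good s C hC fun f hf n x hx => by
    obtain ⟨z, rfl⟩ := Groth.BiextChow.exists_cycle C (k := n + 1) (by simp) x hx
    obtain ⟨k, hk⟩ := ht n ((C.homologyπ n).hom z)
    have h := hk (f ^ k) (Ideal.pow_mem_pow (hs ▸ Ideal.subset_span hf) k)
    rw [← map_smul] at h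
    obtain ⟨w, hw⟩ := (Groth.BiextChow.homologyπ_eq_zero_iff C (j := n - 1) (by simp) _).1 h
    exact ⟨k, w, by rw [hw, map_smul]⟩
  have hs' : Ideal.span (s : Set A) = I := hs
  rw [hs'] at g1 g2
  refine ⟨fun n => ?_⟩
  rw [quasiIsoAt_iff_isIso_homologyMap]
  haveI : Mono (HomologicalComplex.homologyMap (incl I C) n) := by
    refine (Groth.BiextChow.mono_homologyMap_iff _ (j := n - 1) (k := n + 1) (by simp) (by simp)).2
      fun x _ w hw => ?_
    obtain ⟨y', hy', he⟩ := g2 n w (by rw [hw]; exact x.2)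
    exact ⟨⟨y', hy'⟩, Subtype.ext (he.trans hw)⟩
  haveI : Epi (HomologicalComplex.homologyMap (incl I C) n) := by
    refine (Groth.BiextChow.epi_homologyMap_iff _ (j := n - 1) (k := n + 1) (by simp) (by simp)).2
      fun y hy => ?_
    obtain ⟨w, hw⟩ := g1 n y hy
    refine ⟨⟨_, hw⟩, Subtype.ext ?_, w, ?_⟩
    · show (C.d n (n + 1)).hom (y - (C.d (n - 1) n).hom w) = 0
      rw [map_sub, hy, show (C.d n (n + 1)).hom ((C.d (n - 1) n).hom w) = 0 from
        congr(($(C.d_comp_d (n - 1) n (n + 1))).hom w), sub_zero]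
    · show _ = y - (y - (C.d (n - 1) n).hom w)
      rw [sub_sub_cancel]
  exact isIso_of_mono_of_epi _

end Noetherian

end Groth.LocCohTransform.RgammaCompute
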