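import Groth.Agent.DualCore.Representing
import Groth.Agent.LocCohTransform.RgammaTorsion
import Groth.Agent.LocCohTransform.CompletionAmplitude

/-!
`RΓ_m ω` is the injective hull of the residue field.
-/

set_option autoImplicit false
set_option linter.style.haveILetI false
set_option linter.unusedSectionVars false

universe u

open CategoryTheory CategoryTheory.Limits CategoryTheory.Pretriangulated IsLocalRing HomologicalComplex

attribute [local instance] HasDerivedCategory.standard

namespace Groth.LocCohTransform.RgammaDualizing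

open CompletionAmplitude Groth.DualCore

section General

variable {A : Type u} [CommRing A]

theorem subsingleton_shift_left (Y Z : Dual.D A) (i : ℤ) (h : Subsingleton (Y ⟶ Z⟦i⟧)) :
    Subsingleton (Y⟦-i⟧ ⟶ Z) :=
  ⟨fun φ ψ => (shiftFunctor (Dual.D A) i).map_injective
    ((cancel_epi ((shiftFunctorCompIsoId (Dual.D A) (-i) i (neg_add_cancel i)).inv.app Y)).1 (h.elim _ _))⟩

theorem hdShift (Z : Dual.D A) (c j l : ℤ) (h : c + j = l) :
    Nonempty (Dual.HD A (Z⟦c⟧) j ≃ₗ[A] Dual.HD A Z l) :=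
  ⟨(((DerivedCategory.homologyFunctor (ModuleCat.{u} A) 0).shiftIso c j l h).app Z).toLinearEquiv⟩

theorem isPowerTorsion_shift (I : Ideal A) (Z : Dual.D A) (hZ : ∀ i, LocCoh.IsPowerTorsion I (Dual.HD A Z i))
    (c j : ℤ) : LocCoh.IsPowerTorsion I (Dual.HD A (Z⟦c⟧) j) := by
  obtain ⟨e⟩ := hdShift Z c j _ rfl
  exact RgammaTorsion.isPowerTorsion_of_linearEquiv I e.symm (hZ _)

theorem isPowerTorsion_inD (I : Ideal A) (N : Type u) [AddCommGroup N] [Module A N]
    (hN : LocCoh.IsPowerTorsion I N) (i : ℤ) : LocCoh.IsPowerTorsion I (Dual.HD A (Dual.inD A N) i) := by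
  by_cases hi : i = 0
  · subst hi
    exact RgammaTorsion.isPowerTorsion_of_linearEquiv I (Groth.DerComplete.HDinDEquiv N).symm hN
  · haveI := Groth.DerComplete.subsingleton_HD_inD (A := A) N hi
    exact fun x => ⟨0, fun a _ => Subsingleton.elim _ _⟩

/-- Maps from an object in degrees `≤ b` lift uniquely to the truncation. -/
theorem postcomp_bijective {T : Triangle (Dual.D A)} (hT : T ∈ distTriang (Dual.D A)) (b : ℤ)
    [T.obj₃.IsGE (b + 1)] (Z : Dual.D A) [Z.IsLE b] : Function.Bijective fun φ : Z ⟶ T.obj₁ => φ ≫ T.mor₁ := by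
  constructor
  · intro φ ψ h
    have h' : (φ - ψ) ≫ T.mor₁ = 0 := by rw [Preadditive.sub_comp, sub_eq_zero]; exact h
    obtain ⟨w, hw⟩ := T.invRotate.coyoneda_exact₂ (inv_rot_of_distTriang _ hT) (φ - ψ) h'
    haveI : DerivedCategory.TStructure.t.IsGE (T.obj₃⟦(-1 : ℤ)⟧) (b + 2) :=
      DerivedCategory.TStructure.t.isGE_shift _ (b + 1) (-1) (b + 2) (by omega)
    have hz : ∀ v : Z ⟶ T.obj₃⟦(-1 : ℤ)⟧, v = 0 := fun v =>
      DerivedCategory.TStructure.t.zero_of_isLE_of_isGE v b (b + 2) (by omega) inferInstance inferInstance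
    have hw0 : w = 0 := hz w
    rw [← sub_eq_zero, hw, hw0]
    exact zero_comp
  · intro φ
    obtain ⟨ψ, hψ⟩ := T.coyoneda_exact₂ hT φ
      (DerivedCategory.TStructure.t.zero_of_isLE_of_isGE _ b (b + 1) (by omega) inferInstance inferInstance)
    exact ⟨ψ, hψ.symm⟩

theorem isLE_shift_inD (N : Type u) [AddCommGroup N] [Module A N] (b : ℤ) :
    DerivedCategory.IsLE ((Dual.inD A N)⟦-b⟧) b :=
  DerivedCategory.TStructure.t.isLE_shift _ 0 (-b) b (by omega)

theorem hom_inj_eq_zero (N H : Type u) [AddCommGroup N] [Module A N] [AddCommGroup H] [Module A H]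
    [Module.Injective A H] (c : ℤ) (hc : c ≠ 0) : Subsingleton ((Dual.inD A N)⟦c⟧ ⟶ Dual.inD A H) := by
  let S0 := fun M : ModuleCat.{u} A => (CochainComplex.singleFunctor (ModuleCat.{u} A) 0).obj M
  let eS := (DerivedCategory.singleFunctorIsoCompQ (ModuleCat.{u} A) 0)
  haveI : Injective (ModuleCat.of A H) := Module.injective_object_of_injective_module A H
  haveI : ∀ n, Injective ((S0 (ModuleCat.of A H)).X n) := fun n => by
    by_cases hn : n = 0
    · exact Injective.of_iso (singleObjXIsoOfEq (ComplexShape.up ℤ) 0 (ModuleCat.of A H) n hn).symm inferInstance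
    · exact (isZero_single_obj_X (ComplexShape.up ℤ) 0 (ModuleCat.of A H) n hn).injective
  haveI : CochainComplex.IsKInjective (S0 (ModuleCat.of A H)) := CochainComplex.isKInjective_of_injective _ 0
  let eN : DerivedCategory.Q.obj ((S0 (ModuleCat.of A N))⟦c⟧) ≅ (Dual.inD A N)⟦c⟧ :=
    (DerivedCategory.Q.commShiftIso c).app _ ≪≫ (shiftFunctor _ c).mapIso (eS.app (ModuleCat.of A N)).symm
  refine subsingleton_of_forall_eq 0 fun φ => ?_
  obtain ⟨g, hg⟩ := Groth.DualCore.Q_map_surjective (eN.hom ≫ φ ≫ (eS.app (ModuleCat.of A H)).hom)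
  have hg0 : g = 0 := HomologicalComplex.hom_ext _ _ fun i => by
    by_cases hi : i = 0
    · exact ((isZero_single_obj_X (ComplexShape.up ℤ) 0 (ModuleCat.of A N) (i + c) (by omega))).eq_of_src _ _
    · exact (isZero_single_obj_X (ComplexShape.up ℤ) 0 (ModuleCat.of A H) i hi).eq_of_tgt _ _
  rw [hg0, Functor.map_zero] at hg
  have h2 : φ ≫ (eS.app (ModuleCat.of A H)).hom = 0 := (cancel_epi eN.hom).1 (hg.symm.trans comp_zero.symm)
  exact (cancel_mono (eS.app (ModuleCat.of A H)).hom).1 (h2.trans zero_comp.symm)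

end General

variable {A : Type u} [CommRing A] [IsLocalRing A] [IsNoetherianRing A]

theorem isFiniteLength_residue : IsFiniteLength A (ResidueField A) := by
  haveI := GrothMatlis.isSimpleModule_residueField A
  exact Module.length_ne_top_iff.1 (by rw [Module.length_eq_one A (ResidueField A)]; simp)

theorem isPowerTorsion_finiteLength (N : Type u) [AddCommGroup N] [Module A N] (hN : IsFiniteLength A N) :
    LocCoh.IsPowerTorsion (maximalIdeal A) N := by
  obtain ⟨k, hk⟩ := Groth.DualCore.exists_pow_killed hN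
  exact fun x => ⟨k, fun a ha => hk a ha x⟩

/-- A cohomology module in the lowest degree without socle vanishes. -/
theorem subsingleton_step (X : Dual.D A) (b : ℤ) (htor : LocCoh.IsPowerTorsion (maximalIdeal A) (Dual.HD A X b))
    (hlow : ∀ i < b, Subsingleton (Dual.HD A X i))
    (hk : Subsingleton ((Dual.inD A (ResidueField A))⟦-b⟧ ⟶ X)) : Subsingleton (Dual.HD A X b) := by
  obtain ⟨T, hT, h2, h1, h3⟩ := exists_trunc X (b + 1)
  haveI := h1
  haveI := h3
  obtain ⟨o₁, o₂, o₃, m₁, m₂, m₃⟩ := T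
  obtain rfl : o₂ = _ := h2
  haveI : o₁.IsGE b := isGE_of_subsingleton o₁ b fun i hi => by
    haveI := hlow i hi
    exact (bijective_trunc₁ hT (b + 1) i (by omega)).1.subsingleton
  haveI : o₁.IsLE b := isLE_of_subsingleton o₁ b fun i hi => subsingleton_of_isLE o₁ (b + 1 - 1) i (by omega)
  obtain ⟨Y, ⟨e⟩⟩ := DerivedCategory.exists_iso_singleFunctor_obj_of_isGE_of_isLE o₁ b
  let e' : o₁ ≅ (Dual.inD A Y)⟦-b⟧ :=
    e ≪≫ ((((DerivedCategory.singleFunctors (ModuleCat.{u} A)).shiftIso (-b) b 0 (by omega))).app Y).symm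
  obtain ⟨eY⟩ := hdShift (Dual.inD A Y) (-b) b 0 (by omega)
  let d : Y ≃ₗ[A] Dual.HD A o₂ b :=
    ((((DerivedCategory.homologyFunctor (ModuleCat.{u} A) b).mapIso e').toLinearEquiv.trans
      (eY.trans (Groth.DerComplete.HDinDEquiv Y)))).symm.trans
        (LinearEquiv.ofBijective _ (bijective_trunc₁ hT (b + 1) b (by omega)))
  suffices hY : Subsingleton Y from d.symm.toEquiv.subsingleton
  refine subsingleton_of_forall_eq 0 fun y => ?_
  by_contra hy
  obtain ⟨k, hk'⟩ := RgammaTorsion.isPowerTorsion_of_linearEquiv (maximalIdeal A) d.symm htor y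
  obtain ⟨r, hr0, hr⟩ := GrothMatlis.exists_smul_torsion k hy hk'
  let u : ResidueField A →ₗ[A] Y := (maximalIdeal A).liftQ (LinearMap.toSpanSingleton A Y (r • y))
    fun a ha => LinearMap.mem_ker.2 (hr a ha)
  haveI := isLE_shift_inD (A := A) (ResidueField A) b
  have h0 : (inDmap u)⟦-b⟧' ≫ e'.inv = 0 :=
    (postcomp_bijective hT b ((Dual.inD A (ResidueField A))⟦-b⟧)).1 (hk.elim _ _)
  have h4 : (inDmap u)⟦-b⟧' = 0 := (cancel_mono e'.inv).1 (h0.trans zero_comp.symm)
  have h5 : inDmap u = 0 := (shiftFunctor (Dual.D A) (-b)).map_injective (h4.trans (Functor.map_zero _ _ _).symm)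
  have h6 : ModuleCat.ofHom u = 0 :=
    (DerivedCategory.singleFunctor (ModuleCat.{u} A) 0).map_injective (h5.trans (Functor.map_zero _ _ _).symm)
  refine hr0 ?_
  have h7 : u (Submodule.Quotient.mk 1) = 0 := congr(($h6).hom (Submodule.Quotient.mk 1))
  exact (one_smul A (r • y)).symm.trans h7

variable {ω : Dual.D A} (hω : Dual.IsDualizing A ω) (hn : Dual.IsNormalized A ω) {E : Type u} [AddCommGroup E]
  [Module A E] {f : ResidueField A →ₗ[A] E} (hf : InjHull.IsInjectiveHull f)
  [DRing.HasRgammaI (maximalIdeal A)]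

include hω hn in
theorem subsingleton_hom_rgamma (N : Type u) [AddCommGroup N] [Module A N] (hN : IsFiniteLength A N) (i : ℤ)
    (hi : i ≠ 0) : Subsingleton ((Dual.inD A N)⟦-i⟧ ⟶ (DRing.RgammaI (maximalIdeal A)).obj ω) := by
  exact @Function.Injective.subsingleton _ _ _ (RgammaTorsion.comp_ε_bijective (maximalIdeal A) _ ω
    (isPowerTorsion_shift _ _ (isPowerTorsion_inD _ N (isPowerTorsion_finiteLength N hN)) _)).1
    (subsingleton_shift_left (Dual.inD A N) ω i
      (subsingleton_hom_finiteLength (hasResidue_of_normalized hω hn) hN i hi))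

include hω hn in
theorem subsingleton_neg : ∀ i : ℤ, i < 0 →
    Subsingleton (Dual.HD A ((DRing.RgammaI (maximalIdeal A)).obj ω) i) := by
  set X := (DRing.RgammaI (maximalIdeal A)).obj ω
  have htor := RgammaTorsion.isPowerTorsion_rgamma (maximalIdeal A) ω
  obtain ⟨a, b, hab⟩ := hω.finite_injective_dimension
  obtain ⟨r⟩ := exists_injRep ω a b hab
  haveI : r.I.IsStrictlyGE r.a := r.hGE
  haveI : ω.IsGE r.a := DerivedCategory.TStructure.t.isGE_of_iso r.iso r.a
  have hbase : ∀ i < r.a, Subsingleton (Dual.HD A X i) := by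
    intro i hi
    obtain ⟨T, hT, h2, h1, h3⟩ := exists_trunc X r.a
    haveI := h1
    haveI := h3
    obtain ⟨o₁, o₂, o₃, m₁, m₂, m₃⟩ := T
    obtain rfl : o₂ = _ := h2
    have ho : ∀ j, LocCoh.IsPowerTorsion (maximalIdeal A) (Dual.HD A o₁ j) := fun j => by
      by_cases hj : j < r.a
      · exact RgammaTorsion.isPowerTorsion_of_linearEquiv (maximalIdeal A)
          (LinearEquiv.ofBijective _ (bijective_trunc₁ hT r.a j hj)).symm (htor j)
      · haveI := subsingleton_of_isLE o₁ (r.a - 1) j (by omega)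
        exact fun x => ⟨0, fun c _ => Subsingleton.elim _ _⟩
    have hzz : ∀ φ : o₁ ⟶ ω, φ = 0 := fun φ =>
      DerivedCategory.TStructure.t.zero_of_isLE_of_isGE φ (r.a - 1) r.a (by omega) inferInstance inferInstance
    have hm : m₁ = 0 := (RgammaTorsion.comp_ε_bijective (maximalIdeal A) o₁ ω ho).1
      ((hzz _).trans (hzz _).symm)
    refine subsingleton_of_forall_eq 0 fun x => ?_
    obtain ⟨y, rfl⟩ := (bijective_trunc₁ hT r.a i hi).2 x
    show CompletionAmplitude.hmap m₁ i y = 0
    rw [hm]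
    simp [CompletionAmplitude.hmap]
  suffices ∀ (k : ℕ) (i : ℤ), i < r.a + k → i < 0 → Subsingleton (Dual.HD A X i) from
    fun i hi => this ((i - r.a).toNat + 1) i (by omega) hi
  intro k
  induction k with
  | zero => exact fun i hi _ => hbase i (by simpa using hi)
  | succ k ih =>
    intro i hi hi0
    rcases lt_or_ge i (r.a + k) with h | h
    · exact ih i h hi0
    · exact subsingleton_step X i (htor i) (fun j hj => ih j (by push_cast at hi; omega) (by omega))
        (subsingleton_hom_rgamma hω hn _ isFiniteLength_residue i (by omega))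

include hω hn hf in
/-- `RΓ_m ω ≅ E`. -/
theorem nonempty_iso_hull : Nonempty ((DRing.RgammaI (maximalIdeal A)).obj ω ≅ Dual.inD A E) := by
  set X := (DRing.RgammaI (maximalIdeal A)).obj ω with hX
  have htor := RgammaTorsion.isPowerTorsion_rgamma (maximalIdeal A) ω
  have hres := hasResidue_of_normalized hω hn
  obtain ⟨T, hT, h2, h1, h3⟩ := exists_trunc X 1
  haveI := h1
  haveI := h3
  obtain ⟨o₁, o₂, o₃, m₁, m₂, m₃⟩ := T
  obtain rfl : o₂ = _ := h2
  haveI : o₁.IsGE 0 := isGE_of_subsingleton o₁ 0 fun i hi => by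
    haveI := subsingleton_neg hω hn i hi
    exact (bijective_trunc₁ hT 1 i (by omega)).1.subsingleton
  haveI : o₁.IsLE 0 := isLE_of_subsingleton o₁ 0 fun i hi => subsingleton_of_isLE o₁ (1 - 1) i (by omega)
  obtain ⟨Y, ⟨e⟩⟩ := DerivedCategory.exists_iso_singleFunctor_obj_of_isGE_of_isLE o₁ 0
  have hYtor : LocCoh.IsPowerTorsion (maximalIdeal A) Y :=
    RgammaTorsion.isPowerTorsion_of_linearEquiv (maximalIdeal A)
      ((LinearEquiv.ofBijective _ (bijective_trunc₁ hT 1 0 (by omega))).symm.trans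
        (((DerivedCategory.homologyFunctor (ModuleCat.{u} A) 0).mapIso e).toLinearEquiv.trans
          (Groth.DerComplete.HDinDEquiv Y))) (htor 0)
  -- the functor of points on finite length modules
  let c : Dual.inD A Y ⟶ ω⟦(0 : ℤ)⟧ := e.inv ≫ m₁ ≫ (DRing.RgammaIε (maximalIdeal A)).app ω ≫
    (shiftFunctorZero (Dual.D A) ℤ).inv.app ω
  have hdual : ∀ (N : Type u) [AddCommGroup N] [Module A N], IsFiniteLength A N →
      Nonempty ((N →ₗ[A] Y) ≃ₗ[A] (Dual.inD A N ⟶ ω⟦(0 : ℤ)⟧)) := by
    intro N _ _ hN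
    let L : (N →ₗ[A] Y) →ₗ[A] (Dual.inD A N ⟶ ω⟦(0 : ℤ)⟧) :=
      { toFun := fun u => inDmap u ≫ c
        map_add' := fun u v => by rw [inDmap_add]; exact Preadditive.add_comp _ _ _ _ _ _
        map_smul' := fun r u => by rw [inDmap_smul]; exact Linear.smul_comp _ _ _ _ _ _ }
    refine ⟨LinearEquiv.ofBijective L ?_⟩
    have hb1 : Function.Bijective fun u : N →ₗ[A] Y => inDmap u := by
      refine ⟨fun u v h => congrArg ModuleCat.Hom.hom
        ((DerivedCategory.singleFunctor (ModuleCat.{u} A) 0).map_injective h), fun φ => ?_⟩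
      obtain ⟨ψ, rfl⟩ := (DerivedCategory.singleFunctor (ModuleCat.{u} A) 0).map_surjective φ
      exact ⟨ψ.hom, rfl⟩
    haveI : (Dual.inD A N).IsLE 0 := inferInstanceAs
      (((DerivedCategory.singleFunctor (ModuleCat.{u} A) 0).obj (ModuleCat.of A N)).IsLE 0)
    have hb2 := @postcomp_bijective A _ (Triangle.mk m₁ m₂ m₃) hT 0 (by rw [zero_add]; exact h3) (Dual.inD A N) _
    have hb3 := RgammaTorsion.comp_ε_bijective (maximalIdeal A) (Dual.inD A N) ω
      (isPowerTorsion_inD _ N (isPowerTorsion_finiteLength N hN))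
    have := ((((Iso.refl (Dual.inD A N)).homCongr ((shiftFunctorZero (Dual.D A) ℤ).app ω).symm).bijective.comp hb3).comp
      hb2).comp (((Iso.refl (Dual.inD A N)).homCongr e.symm).bijective.comp hb1)
    refine Eq.mp (congrArg Function.Bijective (funext fun u => ?_)) this
    simp [Iso.homCongr, L, c]
    exact (Category.assoc _ _ _).trans (Category.assoc _ _ _)
  have hY : ∃ g : ResidueField A →ₗ[A] Y, InjHull.IsInjectiveHull g := by
    refine GrothMatlis.hull_of_length_cofinal hYtor ?_ (fun n => maximalIdeal A ^ n) (fun n => ⟨n, le_rfl⟩)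
      (fun N => ⟨N, le_rfl⟩) fun n => ?_
    · obtain ⟨d⟩ := hdual (ResidueField A) isFiniteLength_residue
      obtain ⟨e₀⟩ := hres.equiv
      haveI := GrothMatlis.isSimpleModule_residueField A
      exact IsSimpleModule.congr (d.trans e₀)
    · obtain ⟨d⟩ := hdual _ (GrothMatlis.isFiniteLength_quotient_pow (R := A) n)
      rw [d.length_eq, length_hom_finiteLength hres (GrothMatlis.isFiniteLength_quotient_pow (R := A) n)]
  obtain ⟨g, hg⟩ := hY
  haveI : Module.Injective A Y := hg.isInjective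
  have hpos : ∀ (k : ℕ) (i : ℤ), i < 1 + k → Subsingleton (Dual.HD A o₃ i) := by
    intro k
    induction k with
    | zero => exact fun i hi => subsingleton_of_isGE o₃ 1 i (by simpa using hi)
    | succ k ih =>
      intro i hi
      rcases lt_or_ge i (1 + k) with h | h
      · exact ih i h
      · refine subsingleton_step o₃ i ?_ (fun j hj => ih j (by push_cast at hi; omega)) ?_
        · exact RgammaTorsion.isPowerTorsion_of_linearEquiv (maximalIdeal A)
            (LinearEquiv.ofBijective _ (bijective_trunc₃ hT 1 i (by omega))) (htor i)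
        · haveI := subsingleton_hom_rgamma hω hn _ (isFiniteLength_residue (A := A)) i (by omega)
          refine subsingleton_of_forall_eq 0 fun φ => ?_
          haveI : Subsingleton ((Dual.inD A (ResidueField A))⟦-i⟧ ⟶ o₁⟦(1 : ℤ)⟧) := by
            haveI h' := hom_inj_eq_zero (A := A) (ResidueField A) Y (-i - 1) (by omega)
            refine ⟨fun a b => ?_⟩
            let s := (shiftFunctorAdd' (Dual.D A) (-i) (-1) (-i - 1) (by omega)).app (Dual.inD A (ResidueField A))
            let z := (shiftFunctorCompIsoId (Dual.D A) (1 : ℤ) (-1) (by omega)).app o₁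
            have h'' := h'.elim (s.hom ≫ a⟦(-1 : ℤ)⟧' ≫ z.hom ≫ e.hom) (s.hom ≫ b⟦(-1 : ℤ)⟧' ≫ z.hom ≫ e.hom)
            exact (shiftFunctor (Dual.D A) (-1 : ℤ)).map_injective
              ((cancel_mono (z.hom ≫ e.hom)).1 ((cancel_epi s.hom).1 h''))
          obtain ⟨ψ, hψ⟩ := (Triangle.mk m₁ m₂ m₃).coyoneda_exact₃ hT φ
            (Subsingleton.elim (α := (Dual.inD A (ResidueField A))⟦-i⟧ ⟶ o₁⟦(1 : ℤ)⟧) _ _)
          rw [hψ, show ψ = 0 from Subsingleton.elim (α := (Dual.inD A (ResidueField A))⟦-i⟧ ⟶ X) _ _]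
          exact zero_comp
  have hiso : IsIso m₁ := by
    refine (DerivedCategory.isIso_iff (C := ModuleCat.{u} A) m₁).2 fun i => (ConcreteCategory.isIso_iff_bijective _).2 ?_
    by_cases hi : i < 1
    · exact bijective_trunc₁ hT 1 i hi
    · haveI := subsingleton_of_isLE o₁ (1 - 1) i (by omega)
      haveI := hpos i.toNat i (by omega)
      haveI : Subsingleton (Dual.HD A X i) := (bijective_trunc₃ hT 1 i (by omega)).1.subsingleton
      exact ⟨fun a b _ => @Subsingleton.elim (Dual.HD A o₁ i) _ a b,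
        fun x => ⟨0, @Subsingleton.elim (Dual.HD A X i) _ _ x⟩⟩
  obtain ⟨eE, -⟩ := GrothMatlis.hull_unique hg hf
  exact ⟨(asIso m₁).symm ≪≫ e ≪≫ (DerivedCategory.singleFunctor (ModuleCat.{u} A) 0).mapIso eE.toModuleIso⟩

end Groth.LocCohTransform.RgammaDualizing
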