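import Groth.Agent.LocCohTransform.CompletionFunctor
import Groth.Agent.LocCohTransform.RgammaTorsion
import Groth.Agent.Misc7.HDU.Rlim
import Groth.Prelude.Def_DCoh2
import Mathlib.Algebra.Homology.DerivedCategory.ShortExact
import Mathlib.CategoryTheory.Shift.ShiftSequence

/-!
Derived limits of towers of complexes of modules with surjective transition maps.
-/

set_option autoImplicit false
set_option linter.style.haveILetI false
set_option linter.unusedSectionVars false

universe u

open CategoryTheory CategoryTheory.Limits CategoryTheory.Pretriangulated HomologicalComplex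

attribute [local instance] HasDerivedCategory.standard

namespace Groth.LocCohTransform.RlimModules

open Groth.Misc7.HDU RgammaTorsion

variable {A : Type u} [CommRing A]

/-- Elements of cohomology as morphisms from `A`. -/
noncomputable def homHD (K : Dual.D A) (k : ℤ) (φ : Dual.inD A A ⟶ K⟦k⟧) : Dual.HD A K k :=
  (((DerivedCategory.homologyFunctor (ModuleCat.{u} A) 0).shiftIso k 0 k (add_zero k)).hom.app K).hom
    ((Groth.DerComplete.toHomH0 (ModuleCat.of A A) (K⟦k⟧) φ).hom (1 : A))

theorem homHD_natural {K L : Dual.D A} (g : K ⟶ L) (k : ℤ) (φ : Dual.inD A A ⟶ K⟦k⟧) :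
    homHD L k (φ ≫ g⟦k⟧') = ((DerivedCategory.homologyFunctor (ModuleCat.{u} A) k).map g).hom (homHD K k φ) := by
  unfold homHD
  have h := congr(($(((DerivedCategory.homologyFunctor (ModuleCat.{u} A) 0).shiftIso k 0 k (add_zero k)).hom.naturality g)).hom
    ((Groth.DerComplete.toHomH0 (ModuleCat.of A A) (K⟦k⟧) φ).hom (1 : A)))
  refine Eq.trans ?_ h
  refine congrArg (((DerivedCategory.homologyFunctor (ModuleCat.{u} A) 0).shiftIso k 0 k (add_zero k)).hom.app L).hom ?_
  have h1 : Groth.DerComplete.toHomH0 (ModuleCat.of A A) (L⟦k⟧) (φ ≫ g⟦k⟧') =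
      Groth.DerComplete.toHomH0 (ModuleCat.of A A) (K⟦k⟧) φ ≫
        (DerivedCategory.homologyFunctor (ModuleCat.{u} A) 0).map (g⟦k⟧') := by
    show _ ≫ (DerivedCategory.homologyFunctor (ModuleCat.{u} A) 0).map (φ ≫ g⟦k⟧') = _
    rw [Functor.map_comp]
    exact (Category.assoc _ _ _).symm
  exact LinearMap.congr_fun (congrArg ModuleCat.Hom.hom h1) (1 : A)

theorem homHD_bijective (K : Dual.D A) (k : ℤ) : Function.Bijective (homHD K k) := by
  have : Projective (ModuleCat.of A A) := (IsProjective.iff_projective (R := A) A).1 inferInstance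
  refine (((DerivedCategory.homologyFunctor (ModuleCat.{u} A) 0).shiftIso k 0 k (add_zero k)).app K).toLinearEquiv.bijective.comp
    ((show Function.Bijective fun q : ModuleCat.of A A ⟶ (DerivedCategory.homologyFunctor (ModuleCat.{u} A) 0).obj (K⟦k⟧) =>
        q.hom (1 : A) from ⟨fun p q h => ModuleCat.hom_ext (LinearMap.ext_ring h),
      fun y => ⟨ModuleCat.ofHom (LinearMap.toSpanSingleton A _ y), by simp⟩⟩).comp
      (Groth.DerComplete.toHomH0_bijective (ModuleCat.of A A) (K⟦k⟧)))

section Products

variable (K : ℕ → Dual.D A) [HasProduct K]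

/-- Cohomology commutes with countable products. -/
theorem pi_bijective (k : ℤ) : Function.Bijective fun x : Dual.HD A (∏ᶜ K) k =>
    fun n => ((DerivedCategory.homologyFunctor (ModuleCat.{u} A) k).map (Pi.π K n)).hom x := by
  constructor
  · intro x y h
    obtain ⟨φ, rfl⟩ := (homHD_bijective _ k).2 x
    obtain ⟨ψ, rfl⟩ := (homHD_bijective _ k).2 y
    refine congrArg _ (shift_hom_ext K _ k fun n => (homHD_bijective (K n) k).1 ?_)
    rw [homHD_natural, homHD_natural]
    exact congrFun h n
  · intro y
    choose φ hφ using fun n => (homHD_bijective (K n) k).2 (y n)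
    obtain ⟨X, hX⟩ := exists_lift_shift K _ k φ
    refine ⟨homHD _ k X, funext fun n => ?_⟩
    show ((DerivedCategory.homologyFunctor (ModuleCat.{u} A) k).map (Pi.π K n)).hom (homHD _ k X) = y n
    rw [← homHD_natural, hX, hφ]

theorem complete_pi {I : Ideal A} (h : ∀ n, DRing.IsDerivedComplete I (K n)) :
    DRing.IsDerivedComplete I (∏ᶜ K) := fun f hf k =>
  ⟨fun a b => shift_hom_ext K _ k fun n => by
    have := h n f hf k
    exact Subsingleton.elim _ _⟩

end Products

section ProductComplex

variable (E : ℕ → DRing.Cx A)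

/-- The termwise product. -/
noncomputable def prod : DRing.Cx A where
  X k := ModuleCat.of A (∀ n, (E n).X k)
  d i j := ModuleCat.ofHom (LinearMap.pi fun n => ((E n).d i j).hom ∘ₗ LinearMap.proj n)
  shape i j h := by
    ext x n
    show ((E n).d i j).hom (x n) = 0
    rw [(E n).shape i j h]
    rfl
  d_comp_d' i j k _ _ := by
    ext x n
    show ((E n).d j k).hom (((E n).d i j).hom (x n)) = 0
    rw [← LinearMap.comp_apply, ← ModuleCat.hom_comp, (E n).d_comp_d]
    rfl

/-- The projections. -/
noncomputable def proj (n : ℕ) : prod E ⟶ E n where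
  f k := ModuleCat.ofHom (LinearMap.proj n)
  comm' i j _ := rfl

theorem homology_surj {C : DRing.Cx A} {k : ℤ} (y : C.homology k) :
    ∃ z : C.cycles k, (C.homologyπ k).hom z = y :=
  (ModuleCat.epi_iff_surjective _).1 inferInstance y

theorem exists_cycle {C : DRing.Cx A} {k : ℤ} (x : C.X k) (hx : (C.d k (k + 1)).hom x = 0) :
    ∃ z : C.cycles k, (C.iCycles k).hom z = x := by
  let g : ModuleCat.of A A ⟶ C.X k := ModuleCat.ofHom (LinearMap.toSpanSingleton A _ x)
  have hg : g ≫ C.d k (k + 1) = 0 := ModuleCat.hom_ext (LinearMap.ext_ring (by simp [g, hx]))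
  refine ⟨(C.liftCycles g (k + 1) (by simp) hg).hom (1 : A), ?_⟩
  rw [← LinearMap.comp_apply, ← ModuleCat.hom_comp, liftCycles_i]
  simp [g]

theorem homologyπ_eq_zero_iff {C : DRing.Cx A} {k : ℤ} (z : C.cycles k) :
    (C.homologyπ k).hom z = 0 ↔ ∃ w : C.X (k - 1), (C.d (k - 1) k).hom w = (C.iCycles k).hom z := by
  have hex : (ShortComplex.mk _ _ (C.toCycles_comp_homologyπ (k - 1) k)).Exact :=
    ShortComplex.exact_of_g_is_cokernel _ (C.homologyIsCokernel (k - 1) k (by simp))
  rw [ShortComplex.ShortExact.moduleCat_exact_iff_function_exact] at hex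
  constructor
  · intro h
    obtain ⟨w, hw⟩ := (hex z).1 h
    refine ⟨w, ?_⟩
    rw [← hw, ← LinearMap.comp_apply]
    exact congr(($(C.toCycles_i (k - 1) k)).hom w).symm
  · rintro ⟨w, hw⟩
    refine (hex z).2 ⟨w, (ModuleCat.mono_iff_injective (C.iCycles k)).1 inferInstance ?_⟩
    exact (congr(($(C.toCycles_i (k - 1) k)).hom w)).trans hw

/-- Cohomology of the termwise product. -/
theorem proj_homology_bijective (k : ℤ) : Function.Bijective fun x : (prod E).homology k =>
    fun n => (homologyMap (proj E n) k).hom x := by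
  have hπ : ∀ (z : (prod E).cycles k) (n : ℕ), (homologyMap (proj E n) k).hom (((prod E).homologyπ k).hom z) =
      ((E n).homologyπ k).hom ((cyclesMap (proj E n) k).hom z) := fun z n =>
    congr(($(homologyπ_naturality (proj E n) k)).hom z)
  have hi : ∀ (z : (prod E).cycles k) (n : ℕ), ((E n).iCycles k).hom ((cyclesMap (proj E n) k).hom z) =
      ((prod E).iCycles k).hom z n := fun z n => congr(($(cyclesMap_i (proj E n) k)).hom z)
  constructor
  · intro x y h
    rw [← sub_eq_zero]
    obtain ⟨z, hz⟩ := homology_surj (x - y)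
    rw [← hz]
    have h0 : ∀ n, ∃ w : (E n).X (k - 1), ((E n).d (k - 1) k).hom w = ((prod E).iCycles k).hom z n := fun n => by
      rw [← hi]
      refine (homologyπ_eq_zero_iff _).1 ?_
      rw [← hπ, hz, map_sub, sub_eq_zero]
      exact congrFun h n
    choose w hw using h0
    exact (homologyπ_eq_zero_iff _).2 ⟨w, funext hw⟩
  · intro y
    choose z hz using fun n => homology_surj (y n)
    obtain ⟨Z, hZ⟩ := exists_cycle (C := prod E) (k := k) (fun n => ((E n).iCycles k).hom (z n)) (by
      funext n
      exact congr(($((E n).iCycles_d k (k + 1))).hom (z n)))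
    refine ⟨((prod E).homologyπ k).hom Z, funext fun n => ?_⟩
    show (homologyMap (proj E n) k).hom (((prod E).homologyπ k).hom Z) = y n
    rw [hπ, ← hz n]
    refine congrArg _ ((ModuleCat.mono_iff_injective ((E n).iCycles k)).1 inferInstance ?_)
    exact (hi Z n).trans (congrFun hZ n)

variable [HasProduct fun n => DerivedCategory.Q.obj (E n)]

theorem isIso_prodComparison :
    IsIso (Pi.lift fun n => DerivedCategory.Q.map (proj E n) :
      DerivedCategory.Q.obj (prod E) ⟶ ∏ᶜ fun n => DerivedCategory.Q.obj (E n)) := by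
  set u : DerivedCategory.Q.obj (prod E) ⟶ ∏ᶜ fun n => DerivedCategory.Q.obj (E n) :=
    Pi.lift fun n => DerivedCategory.Q.map (proj E n)
  have h : ∀ k, IsIso ((DerivedCategory.homologyFunctor (ModuleCat.{u} A) k).map u) := fun k => by
    refine (ConcreteCategory.isIso_iff_bijective _).2 ?_
    refine (Function.Bijective.of_comp_iff' (pi_bijective (fun n => DerivedCategory.Q.obj (E n)) k) _).1 ?_
    have e : (fun x : Dual.HD A (∏ᶜ fun n => DerivedCategory.Q.obj (E n)) k => fun n =>
        ((DerivedCategory.homologyFunctor (ModuleCat.{u} A) k).map (Pi.π _ n)).hom x) ∘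
        ((DerivedCategory.homologyFunctor (ModuleCat.{u} A) k).map u).hom =
        (LinearEquiv.piCongrRight fun n => (hdEquiv (E n) k).symm) ∘
          (fun x : (prod E).homology k => fun n => (homologyMap (proj E n) k).hom x) ∘ hdEquiv (prod E) k := by
      funext x n
      show ((DerivedCategory.homologyFunctor (ModuleCat.{u} A) k).map (Pi.π _ n)).hom
        (((DerivedCategory.homologyFunctor (ModuleCat.{u} A) k).map u).hom x) = _
      rw [← LinearMap.comp_apply, ← ModuleCat.hom_comp, ← Functor.map_comp, Pi.lift_π]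
      refine (hdEquiv (E n) k).injective (Eq.trans ?_ ((hdEquiv (E n) k).apply_symm_apply _).symm)
      exact congr(($((DerivedCategory.homologyFunctorFactors (ModuleCat.{u} A) k).hom.naturality (proj E n))).hom x)
    rw [show (⇑(ConcreteCategory.hom ((DerivedCategory.homologyFunctor (ModuleCat.{u} A) k).map u))) =
      ⇑((DerivedCategory.homologyFunctor (ModuleCat.{u} A) k).map u).hom from rfl]
    rw [e]
    exact (LinearEquiv.piCongrRight fun n => (hdEquiv (E n) k).symm).bijective.comp
      ((proj_homology_bijective E k).comp (hdEquiv (prod E) k).bijective)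
  exact (DerivedCategory.isIso_iff (C := ModuleCat.{u} A) u).2 h

end ProductComplex

section Tower

variable (E : ℕ → DRing.Cx A) (t : ∀ n, E (n + 1) ⟶ E n)

/-- Compatible families. -/
def compatible (k : ℤ) : Submodule A (∀ n, (E n).X k) :=
  ⨅ n : ℕ, LinearMap.eqLocus (((t n).f k).hom ∘ₗ LinearMap.proj (n + 1)) (LinearMap.proj n)

theorem mem_compatible {k : ℤ} {x : ∀ n, (E n).X k} :
    x ∈ compatible E t k ↔ ∀ n, ((t n).f k).hom (x (n + 1)) = x n := by
  simp [compatible]

/-- The termwise limit. -/
noncomputable def lim : DRing.Cx A where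
  X k := ModuleCat.of A (compatible E t k)
  d i j := ModuleCat.ofHom (((prod E).d i j).hom.restrict (p := compatible E t i) (q := compatible E t j)
    fun x hx => (mem_compatible E t).2 fun n => by
      refine Eq.trans ?_ (congrArg ((E n).d i j).hom ((mem_compatible E t).1 hx n))
      exact (congr(($((t n).comm i j)).hom (x (n + 1)))).symm)
  shape i j h := by
    ext x n
    show ((E n).d i j).hom (x.1 n) = 0
    rw [(E n).shape i j h]
    rfl
  d_comp_d' i j k _ _ := by
    ext x n
    show ((E n).d j k).hom (((E n).d i j).hom (x.1 n)) = 0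
    rw [← LinearMap.comp_apply, ← ModuleCat.hom_comp, (E n).d_comp_d]
    rfl

/-- The inclusion of the termwise limit. -/
noncomputable def incl : lim E t ⟶ prod E where
  f k := ModuleCat.ofHom (compatible E t k).subtype
  comm' i j _ := rfl

/-- Identity minus shift. -/
noncomputable def diff : prod E ⟶ prod E where
  f k := ModuleCat.ofHom (LinearMap.pi fun n =>
    (LinearMap.proj n : (∀ m, (E m).X k) →ₗ[A] (E n).X k) -
      ((t n).f k).hom ∘ₗ (LinearMap.proj (n + 1) : (∀ m, (E m).X k) →ₗ[A] (E (n + 1)).X k))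
  comm' i j _ := by
    refine ModuleCat.hom_ext (LinearMap.ext fun x => funext fun n => ?_)
    show ((E n).d i j).hom (x n - ((t n).f i).hom (x (n + 1))) =
      ((E n).d i j).hom (x n) - ((t n).f j).hom (((E (n + 1)).d i j).hom (x (n + 1)))
    rw [map_sub]
    exact congrArg (_ - ·) (congr(($((t n).comm i j)).hom (x (n + 1))))

theorem incl_diff : incl E t ≫ diff E t = 0 :=
  HomologicalComplex.hom_ext _ _ fun k => ModuleCat.hom_ext <| LinearMap.ext fun x => funext fun n => by
    show x.1 n - ((t n).f k).hom (x.1 (n + 1)) = 0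
    rw [(mem_compatible E t).1 x.2 n, sub_self]

variable (ht : ∀ n k, Function.Surjective ((t n).f k).hom)

include ht in
theorem shortExact : (ShortComplex.mk (incl E t) (diff E t) (incl_diff E t)).ShortExact := by
  refine HomologicalComplex.shortExact_of_degreewise_shortExact _ fun k => ?_
  exact
    { exact := (ShortComplex.moduleCat_exact_iff _).2 fun x hx =>
        ⟨(⟨x, (mem_compatible E t).2 fun n => (sub_eq_zero.1 (congrFun hx n)).symm⟩ : compatible E t k), rfl⟩
      mono_f := (ModuleCat.mono_iff_injective _).2 Subtype.val_injective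
      epi_g := (ModuleCat.epi_iff_surjective _).2 fun y => by
        let x : ∀ n, (E n).X k := fun n => Nat.rec 0
          (fun m v => Function.surjInv (ht m k) (v - y m)) n
        refine ⟨x, funext fun n => ?_⟩
        show x n - ((t n).f k).hom (x (n + 1)) = y n
        rw [show ((t n).f k).hom (x (n + 1)) = x n - y n from Function.surjInv_eq (ht n k) _, sub_sub_cancel] }

variable [HasProduct fun n => DerivedCategory.Q.obj (E n)]

include ht in
/-- The termwise limit is a derived limit. -/
theorem isRlim : DCoh.IsRlim (fun n => DerivedCategory.Q.obj (E n)) (fun n => DerivedCategory.Q.map (t n))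
    (DerivedCategory.Q.obj (lim E t)) := by
  have := isIso_prodComparison E
  set u : DerivedCategory.Q.obj (prod E) ⟶ ∏ᶜ fun n => DerivedCategory.Q.obj (E n) :=
    Pi.lift fun n => DerivedCategory.Q.map (proj E n) with hu
  have hT := DerivedCategory.triangleOfSES_distinguished (shortExact E t ht)
  set T := DerivedCategory.triangleOfSES (shortExact E t ht) with hTdef
  refine ⟨DerivedCategory.Q.map (incl E t) ≫ u, inv u ≫ T.mor₃, isomorphic_distinguished _ hT _
    (Triangle.isoMk _ _ (Iso.refl _) (asIso u).symm (asIso u).symm ?_ ?_ ?_)⟩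
  · show (DerivedCategory.Q.map (incl E t) ≫ u) ≫ inv u = 𝟙 _ ≫ DerivedCategory.Q.map (incl E t)
    simp
  · show Pi.lift _ ≫ inv u = inv u ≫ DerivedCategory.Q.map (diff E t)
    rw [IsIso.comp_inv_eq, Category.assoc, IsIso.eq_inv_comp]
    refine Limits.Pi.hom_ext _ _ fun n => ?_
    rw [Category.assoc, Category.assoc, Pi.lift_π, Preadditive.comp_sub, Pi.lift_π, Pi.lift_π_assoc,
      ← Functor.map_comp, ← Functor.map_comp, ← Functor.map_sub]
    rfl
  · show (inv u ≫ T.mor₃) ≫ _⟦(1 : ℤ)⟧' = inv u ≫ T.mor₃
    exact (congrArg ((inv u ≫ T.mor₃) ≫ ·) ((shiftFunctor _ (1 : ℤ)).map_id _)).trans (Category.comp_id _)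

include ht in
theorem complete_lim {I : Ideal A} (h : ∀ n, DRing.IsDerivedComplete I (DerivedCategory.Q.obj (E n))) :
    DRing.IsDerivedComplete I (DerivedCategory.Q.obj (lim E t)) := by
  obtain ⟨a, c, hd⟩ := isRlim E t ht
  exact ObjectProperty.ext_of_isTriangulatedClosed₁ (DRing.IsDerivedComplete I) _ hd (complete_pi _ h) (complete_pi _ h)

end Tower

end Groth.LocCohTransform.RlimModules
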