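import Groth.Prelude.Def_DualLC
import Groth.Agent.LocCohBase.Basic
import Mathlib.CategoryTheory.Abelian.Injective.Ext
import Mathlib.CategoryTheory.Abelian.Injective.Resolution
import Mathlib.RingTheory.Spectrum.Prime.Topology

/-!
Local cohomology with supports in a specialization stable subset, by elements of an injective resolution.
-/

set_option autoImplicit false
set_option linter.unusedSectionVars false

universe u

open CategoryTheory CategoryTheory.Limits Opposite

namespace Groth.LocCohTransform.SupportExt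

open Groth.LocCohBase (extBifunctor extIso)

variable {R : Type u} [CommRing R]

section Level

variable (J : Ideal R)

/-- The map `R/J → X` given by an element killed by `J`. -/
noncomputable def eltHom {X : ModuleCat.{u} R} (x : X) (h : ∀ a ∈ J, a • x = 0) :
    ModuleCat.of R (R ⧸ J) ⟶ X :=
  ModuleCat.ofHom (J.liftQ (LinearMap.toSpanSingleton R X x) fun a ha => h a ha)

theorem eltHom_comp {X Y : ModuleCat.{u} R} (x : X) (h : ∀ a ∈ J, a • x = 0) (f : X ⟶ Y) :
    eltHom J x h ≫ f = eltHom J (f.hom x) (fun a ha => by rw [← map_smul, h a ha, map_zero]) :=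
  ModuleCat.hom_ext (Submodule.linearMap_qext _ (LinearMap.ext_ring (by
    show f.hom ((1 : R) • x) = (1 : R) • f.hom x
    rw [one_smul, one_smul])))

theorem eltHom_zero {X : ModuleCat.{u} R} (h : ∀ a ∈ J, a • (0 : X) = 0) : eltHom J (0 : X) h = 0 :=
  ModuleCat.hom_ext (Submodule.linearMap_qext _ (LinearMap.ext_ring (smul_zero _)))

theorem eltHom_congr {X : ModuleCat.{u} R} {x y : X} (e : x = y) (h : ∀ a ∈ J, a • x = 0) :
    eltHom J x h = eltHom J y (fun a ha => e ▸ h a ha) := by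
  subst e; rfl

theorem exists_eltHom {X : ModuleCat.{u} R} (f : ModuleCat.of R (R ⧸ J) ⟶ X) :
    ∃ (x : X) (h : ∀ a ∈ J, a • x = 0), f = eltHom J x h := by
  let g : (R ⧸ J) →ₗ[R] X := f.hom
  refine ⟨g (Submodule.Quotient.mk 1), fun a ha => ?_, ?_⟩
  · rw [← map_smul, ← Submodule.Quotient.mk_smul, smul_eq_mul, mul_one,
      (Submodule.Quotient.mk_eq_zero _).2 ha, map_zero]
  · exact ModuleCat.hom_ext (Submodule.linearMap_qext _ (LinearMap.ext_ring (one_smul _ _).symm))

variable {M : ModuleCat.{u} R} (E : InjectiveResolution M) (i : ℕ)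

theorem eltHom_cycle (z : E.cocomplex.X i) (hJ : ∀ a ∈ J, a • z = 0)
    (hz : (E.cocomplex.d i (i + 1)).hom z = 0) : eltHom J z hJ ≫ E.cocomplex.d i (i + 1) = 0 := by
  rw [eltHom_comp, eltHom_congr J hz, eltHom_zero]

/-- The class in `Ext^i(R/J, M)` of a cocycle killed by `J`. -/
noncomputable def lcl (z : E.cocomplex.X i) (hJ : ∀ a ∈ J, a • z = 0)
    (hz : (E.cocomplex.d i (i + 1)).hom z = 0) : Abelian.Ext (ModuleCat.of R (R ⧸ J)) M i :=
  E.extMk (eltHom J z hJ) (i + 1) rfl (eltHom_cycle J E i z hJ hz)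

theorem exists_lcl (α : Abelian.Ext (ModuleCat.of R (R ⧸ J)) M i) :
    ∃ (z : E.cocomplex.X i) (hJ : ∀ a ∈ J, a • z = 0) (hz : (E.cocomplex.d i (i + 1)).hom z = 0),
      lcl J E i z hJ hz = α := by
  obtain ⟨f, hf, rfl⟩ := E.extMk_surjective α (i + 1) rfl
  obtain ⟨z, hJ, rfl⟩ := exists_eltHom J f
  refine ⟨z, hJ, ?_, rfl⟩
  have h := congr(($hf).hom (Submodule.Quotient.mk 1))
  refine Eq.trans ?_ h
  show _ = (E.cocomplex.d i (i + 1)).hom ((1 : R) • z)
  rw [one_smul]

theorem lcl_trans {J' : Ideal R} (hle : J' ≤ J) (z : E.cocomplex.X i) (hJ : ∀ a ∈ J, a • z = 0)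
    (hz : (E.cocomplex.d i (i + 1)).hom z = 0) (f : ModuleCat.of R (R ⧸ J') ⟶ ModuleCat.of R (R ⧸ J))
    (hf : f.hom (Submodule.Quotient.mk 1) = Submodule.Quotient.mk 1) :
    (Abelian.Ext.mk₀ f).comp (lcl J E i z hJ hz) (zero_add i) =
      lcl J' E i z (fun a ha => hJ a (hle ha)) hz := by
  rw [lcl, E.mk₀_comp_extMk]
  unfold lcl
  congr 1
  refine ModuleCat.hom_ext (Submodule.linearMap_qext _ (LinearMap.ext_ring ?_))
  show (eltHom J z hJ).hom (f.hom (Submodule.Quotient.mk 1)) = (1 : R) • z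
  rw [hf]
  rfl

theorem lcl_map {M' : ModuleCat.{u} R} {E' : InjectiveResolution M'} {g : M ⟶ M'}
    (φ : InjectiveResolution.Hom E E' g) (z : E.cocomplex.X i) (hJ : ∀ a ∈ J, a • z = 0)
    (hz : (E.cocomplex.d i (i + 1)).hom z = 0) :
    ∃ (hJ' : ∀ a ∈ J, a • (φ.hom.f i).hom z = 0)
      (hz' : (E'.cocomplex.d i (i + 1)).hom ((φ.hom.f i).hom z) = 0),
    (lcl J E i z hJ hz).comp (Abelian.Ext.mk₀ g) (add_zero i) = lcl J E' i ((φ.hom.f i).hom z) hJ' hz' := by
  refine ⟨fun a ha => by rw [← map_smul, hJ a ha, map_zero], ?_, ?_⟩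
  · have h := congr(($(φ.hom.comm i (i + 1))).hom z)
    simp only [ModuleCat.hom_comp, LinearMap.comp_apply] at h
    rw [h, hz, map_zero]
  · rw [lcl, InjectiveResolution.extMk_comp_mk₀ _ _ _ _ φ]
    unfold lcl
    congr 1
    exact eltHom_comp J z hJ _

theorem lcl_eq_zero_iff (z : E.cocomplex.X i) (hJ : ∀ a ∈ J, a • z = 0)
    (hz : (E.cocomplex.d i (i + 1)).hom z = 0) :
    lcl J E i z hJ hz = 0 ↔
      ∃ w : E.cocomplex.X (i - 1), (∀ a ∈ J, a • w = 0) ∧ (E.cocomplex.d (i - 1) i).hom w = z := by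
  rcases i with _ | p
  · constructor
    · intro h
      have h0 : eltHom J z hJ = 0 := by
        have hinj : Function.Injective (E.extEquivCohomologyClass (X := ModuleCat.of R (R ⧸ J)) (n := 0)) :=
          E.extEquivCohomologyClass.injective
        have h' := congrArg E.extEquivCohomologyClass h
        rw [lcl, InjectiveResolution.extEquivCohomologyClass_extMk,
          InjectiveResolution.extEquivCohomologyClass_zero,
          CochainComplex.HomComplex.CohomologyClass.mk_eq_zero_iff,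
          CochainComplex.HomComplex.Cocycle.fromSingleMk_mem_coboundaries_iff _ _ _ _ _ (-1) (by lia)] at h'
        obtain ⟨g, hg⟩ := h'
        have : IsZero (E.cochainComplex.X (-1)) := E.cochainComplex.isZero_of_isStrictlyGE 0 (-1) (by lia)
        rw [this.eq_of_tgt g 0, zero_comp] at hg
        rw [← cancel_mono (E.cochainComplexXIso ((0 : ℕ) : ℤ) 0 rfl).inv]
        simpa using hg.symm
      have h1 : z = 0 := by
        have h2 := congr(($h0).hom (Submodule.Quotient.mk 1))
        refine Eq.trans ?_ h2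
        exact (one_smul _ _).symm
      exact ⟨0, fun a _ => smul_zero a, by rw [map_zero, h1]⟩
    · rintro ⟨w, -, hw⟩
      have h1 : z = 0 := by
        rw [← hw, HomologicalComplex.shape _ _ _ (by simp)]
        rfl
      subst h1
      simp [lcl, eltHom_zero]
  · rw [lcl, E.extMk_eq_zero_iff _ _ rfl _ p rfl]
    constructor
    · rintro ⟨g, hg⟩
      obtain ⟨w, hw, rfl⟩ := exists_eltHom J g
      refine ⟨w, hw, ?_⟩
      rw [eltHom_comp] at hg
      have h2 := congr(($hg).hom (Submodule.Quotient.mk 1))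
      refine ((one_smul R _).symm.trans h2).trans (one_smul R _)
    · rintro ⟨w, hw, e⟩
      exact ⟨eltHom J w hw, (eltHom_comp J w hw _).trans (eltHom_congr J e _)⟩

end Level

/-- The sections supported in `T`. -/
def Gam (T : Set (PrimeSpectrum R)) (M : Type u) [AddCommGroup M] [Module R M] : Submodule R M where
  carrier := {x | ∀ p ∉ T, ∃ t ∉ p.asIdeal, t • x = 0}
  add_mem' := by
    intro x y hx hy p hp
    obtain ⟨s, hs, hsx⟩ := hx p hp
    obtain ⟨t, ht, hty⟩ := hy p hp
    exact ⟨s * t, p.asIdeal.primeCompl.mul_mem hs ht, by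
      rw [smul_add, mul_comm s t, mul_smul, hsx, smul_zero, mul_comm t s, mul_smul, hty, smul_zero, add_zero]⟩
  zero_mem' p _ := ⟨1, p.asIdeal.primeCompl.one_mem, smul_zero _⟩
  smul_mem' := by
    intro r x hx p hp
    obtain ⟨s, hs, hsx⟩ := hx p hp
    exact ⟨s, hs, by rw [smul_comm, hsx, smul_zero]⟩

variable {T : Set (PrimeSpectrum R)}

theorem map_mem_gam {M N : Type u} [AddCommGroup M] [Module R M] [AddCommGroup N] [Module R N]
    (f : M →ₗ[R] N) {x : M} (hx : x ∈ Gam T M) : f x ∈ Gam T N := fun p hp => by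
  obtain ⟨s, hs, hsx⟩ := hx p hp
  exact ⟨s, hs, by rw [← map_smul, hsx, map_zero]⟩

theorem gam_mono {T' : Set (PrimeSpectrum R)} (h : T' ⊆ T) {M : Type u} [AddCommGroup M] [Module R M]
    {x : M} (hx : x ∈ Gam T' M) : x ∈ Gam T M := fun p hp => hx p fun h' => hp (h h')

theorem eq_zero_of_mem_gam_empty {M : Type u} [AddCommGroup M] [Module R M] {x : M}
    (hx : x ∈ Gam (R := R) ∅ M) : x = 0 := by
  by_contra hne
  obtain ⟨m, hm, hle⟩ := Ideal.exists_le_maximal (LinearMap.ker (LinearMap.toSpanSingleton R M x))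
    (fun h => hne (by
      have : (1 : R) ∈ LinearMap.ker (LinearMap.toSpanSingleton R M x) := h ▸ trivial
      simpa using this))
  obtain ⟨t, ht, h⟩ := hx ⟨m, hm.isPrime⟩ (Set.notMem_empty _)
  exact ht (hle h)

theorem mem_gam_of_killed {J : Ideal R} (hJ : PrimeSpectrum.zeroLocus (J : Set R) ⊆ T)
    {M : Type u} [AddCommGroup M] [Module R M] {x : M} (hx : ∀ a ∈ J, a • x = 0) : x ∈ Gam T M := by
  intro p hp
  obtain ⟨a, ha, hap⟩ := SetLike.not_le_iff_exists.1
    (show ¬ J ≤ p.asIdeal from fun h => hp (hJ h))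
  exact ⟨a, hap, hx a ha⟩

theorem zeroLocus_ann_subset {M : Type u} [AddCommGroup M] [Module R M] {x : M} (hx : x ∈ Gam T M) :
    PrimeSpectrum.zeroLocus ((LinearMap.ker (LinearMap.toSpanSingleton R M x) : Ideal R) : Set R) ⊆ T := by
  intro p hp
  by_contra hpT
  obtain ⟨t, ht, h⟩ := hx p hpT
  exact ht (hp h)

section Colim

variable (T)

instance : IsFilteredOrEmpty (Dual2.IdealsIn T)ᵒᵖ where
  cocone_objs a b :=
    ⟨op ⟨a.unop.obj ⊓ b.unop.obj, by
      have ha := a.unop.property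
      have hb := b.unop.property
      intro p hp
      rcases (Ideal.IsPrime.inf_le p.2).1 hp with h | h
      · exact ha h
      · exact hb h⟩,
      (ObjectProperty.homMk (homOfLE inf_le_left)).op,
      (ObjectProperty.homMk (homOfLE inf_le_right)).op, trivial⟩
  cocone_maps a b f g := ⟨b, 𝟙 b, by
    congr 1
    exact Quiver.Hom.unop_inj (InducedCategory.hom_ext (Subsingleton.elim _ _))⟩

instance : IsFiltered (Dual2.IdealsIn T)ᵒᵖ where
  nonempty := ⟨op ⟨⊤, fun p hp => absurd (top_le_iff.1 hp) p.2.ne_top⟩⟩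

/-- The directed system. -/
noncomputable abbrev sys (i : ℕ) (M : ModuleCat.{u} R) : (Dual2.IdealsIn T)ᵒᵖ ⥤ ModuleCat.{u} R :=
  localCohomology.diagram (Dual2.idealsInDiagram T) i ⋙
    (evaluation (ModuleCat.{u} R) (ModuleCat.{u} R)).obj M

/-- The cocone. -/
noncomputable def sysCocone (i : ℕ) (M : ModuleCat.{u} R) : Cocone (sys T i M) :=
  ((evaluation (ModuleCat.{u} R) (ModuleCat.{u} R)).obj M).mapCocone
    (colimit.cocone (localCohomology.diagram (Dual2.idealsInDiagram T) i))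

/-- It is a colimit. -/
noncomputable def sysIsColimit (i : ℕ) (M : ModuleCat.{u} R) : IsColimit (sysCocone T i M) :=
  isColimitOfPreserves _ (colimit.isColimit _)

/-- The level comparison. -/
noncomputable def lvl (i : ℕ) (M : ModuleCat.{u} R) (J : Dual2.IdealsIn T) :
    Abelian.Ext (ModuleCat.of R (R ⧸ J.obj)) M i ≃ₗ[R] (sys T i M).obj (op J) :=
  (((extIso (R := R) i).app (op (ModuleCat.of R (R ⧸ J.obj)))).app M).symm.toLinearEquiv

/-- The canonical map `Ext^i(R/J, M) → H^i_T(M)`. -/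
noncomputable def hι (i : ℕ) (M : ModuleCat.{u} R) (J : Dual2.IdealsIn T) :
    Abelian.Ext (ModuleCat.of R (R ⧸ J.obj)) M i →ₗ[R]
      (localCohomology.ofDiagram (Dual2.idealsInDiagram T) i).obj M :=
  ((sysCocone T i M).ι.app (op J)).hom ∘ₗ (lvl T i M J).toLinearMap

variable {T}

/-- The transition map. -/
noncomputable def itr {J J' : Dual2.IdealsIn T} (w : J' ⟶ J) :
    ModuleCat.of R (R ⧸ J'.obj) ⟶ ModuleCat.of R (R ⧸ J.obj) :=
  (localCohomology.ringModIdeals (Dual2.idealsInDiagram T)).map w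

theorem lvl_trans (i : ℕ) (M : ModuleCat.{u} R) {J J' : Dual2.IdealsIn T} (w : J' ⟶ J)
    (α : Abelian.Ext (ModuleCat.of R (R ⧸ J.obj)) M i) :
    (sys T i M).map w.op (lvl T i M J α) =
      lvl T i M J' ((Abelian.Ext.mk₀ (itr w)).comp α (zero_add i)) := by
  have := ConcreteCategory.congr_hom
    (NatTrans.congr_app ((extIso (R := R) i).inv.naturality (itr w).op) M) α
  exact this.symm

theorem hι_naturality (i : ℕ) {M N : ModuleCat.{u} R} (g : M ⟶ N) (J : Dual2.IdealsIn T)
    (α : Abelian.Ext (ModuleCat.of R (R ⧸ J.obj)) M i) :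
    ((localCohomology.ofDiagram (Dual2.idealsInDiagram T) i).map g).hom (hι T i M J α) =
      hι T i N J (α.comp (Abelian.Ext.mk₀ g) (add_zero i)) := by
  have h1 := ConcreteCategory.congr_hom
    (((extIso (R := R) i).inv.app (op (ModuleCat.of R (R ⧸ J.obj)))).naturality g) α
  have h2 := ConcreteCategory.congr_hom
    (((colimit.cocone (localCohomology.diagram (Dual2.idealsInDiagram T) i)).ι.app
      (op J)).naturality g) (lvl T i M J α)
  exact h2.symm.trans (congrArg _ h1.symm)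

theorem exists_hι (i : ℕ) (M : ModuleCat.{u} R)
    (x : (localCohomology.ofDiagram (Dual2.idealsInDiagram T) i).obj M) :
    ∃ (J : Dual2.IdealsIn T) (α : Abelian.Ext (ModuleCat.of R (R ⧸ J.obj)) M i), hι T i M J α = x := by
  obtain ⟨j, y, hy⟩ := Concrete.isColimit_exists_rep _ (sysIsColimit T i M) x
  refine ⟨j.unop, (lvl T i M _).symm y, ?_⟩
  refine Eq.trans ?_ hy
  change (sysCocone T i M).ι.app j (lvl T i M _ ((lvl T i M _).symm y)) = _
  rw [LinearEquiv.apply_symm_apply]

theorem hι_eq_zero_iff (i : ℕ) (M : ModuleCat.{u} R) {J : Dual2.IdealsIn T}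
    (α : Abelian.Ext (ModuleCat.of R (R ⧸ J.obj)) M i) :
    hι T i M J α = 0 ↔ ∃ (J' : Dual2.IdealsIn T) (w : J' ⟶ J),
      (Abelian.Ext.mk₀ (itr w)).comp α (zero_add i) = 0 := by
  constructor
  · intro h0
    have h1 : (sysCocone T i M).ι.app (op J) (lvl T i M J α) =
        (sysCocone T i M).ι.app (op J) 0 := h0.trans (map_zero _).symm
    obtain ⟨k, f, g, hfg⟩ := (Concrete.isColimit_rep_eq_iff_exists _ (sysIsColimit T i M) _ _).1 h1
    refine ⟨k.unop, f.unop, (lvl T i M _).injective ?_⟩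
    rw [← lvl_trans i M f.unop, map_zero (lvl T i M k.unop)]
    exact hfg.trans (map_zero _)
  · rintro ⟨J', w, hz⟩
    have h1 := ConcreteCategory.congr_hom ((sysCocone T i M).w w.op) (lvl T i M J α)
    refine h1.symm.trans ?_
    show (sysCocone T i M).ι.app (op J') ((sys T i M).map w.op (lvl T i M J α)) = 0
    rw [lvl_trans i M w, hz, map_zero (lvl T i M J'), map_zero]

end Colim

theorem map_hι_lcl_eq_zero_iff {i : ℕ} {M N : ModuleCat.{u} R} {E : InjectiveResolution M}
    {E' : InjectiveResolution N} {g : M ⟶ N} (φ : InjectiveResolution.Hom E E' g)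
    (J : Dual2.IdealsIn T) (z : E.cocomplex.X i) (hJ : ∀ a ∈ J.obj, a • z = 0)
    (hz : (E.cocomplex.d i (i + 1)).hom z = 0) :
    ((localCohomology.ofDiagram (Dual2.idealsInDiagram T) i).map g).hom (hι T i M J (lcl J.obj E i z hJ hz)) = 0 ↔
      ∃ w : E'.cocomplex.X (i - 1), w ∈ Gam T (E'.cocomplex.X (i - 1)) ∧
        (E'.cocomplex.d (i - 1) i).hom w = (φ.hom.f i).hom z := by
  obtain ⟨hJ', hz', e⟩ := lcl_map J.obj E i φ z hJ hz
  rw [hι_naturality, e, hι_eq_zero_iff]
  constructor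
  · rintro ⟨J', w, hw⟩
    rw [lcl_trans J.obj E' i (leOfHom w.hom) _ hJ' hz' (itr w) rfl, lcl_eq_zero_iff] at hw
    obtain ⟨v, hv, hdv⟩ := hw
    exact ⟨v, mem_gam_of_killed J'.property hv, hdv⟩
  · rintro ⟨v, hv, hdv⟩
    let K : Ideal R := LinearMap.ker (LinearMap.toSpanSingleton R (E'.cocomplex.X (i - 1)) v)
    let J' : Dual2.IdealsIn T := ⟨J.obj ⊓ K, fun p hp => by
      rcases (Ideal.IsPrime.inf_le p.2).1 hp with h | h
      · exact J.property h
      · exact zeroLocus_ann_subset hv h⟩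
    let w : J' ⟶ J := ObjectProperty.homMk (homOfLE inf_le_left)
    refine ⟨J', w, ?_⟩
    rw [lcl_trans J.obj E' i (leOfHom w.hom) _ hJ' hz' (itr w) rfl, lcl_eq_zero_iff]
    exact ⟨v, fun a ha => ha.2, hdv⟩

/-- The class of a cocycle supported in `T`. -/
theorem exists_classOf {i : ℕ} {M : ModuleCat.{u} R} (E : InjectiveResolution M) (z : E.cocomplex.X i)
    (hz : z ∈ Gam T (E.cocomplex.X i)) (hdz : (E.cocomplex.d i (i + 1)).hom z = 0) :
    ∃ x : (localCohomology.ofDiagram (Dual2.idealsInDiagram T) i).obj M,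
      ∀ {N : ModuleCat.{u} R} (E' : InjectiveResolution N) (g : M ⟶ N)
        (φ : InjectiveResolution.Hom E E' g),
        ((localCohomology.ofDiagram (Dual2.idealsInDiagram T) i).map g).hom x = 0 ↔
          ∃ w : E'.cocomplex.X (i - 1), w ∈ Gam T (E'.cocomplex.X (i - 1)) ∧
            (E'.cocomplex.d (i - 1) i).hom w = (φ.hom.f i).hom z :=
  ⟨hι T i M ⟨_, zeroLocus_ann_subset hz⟩ (lcl _ E i z (fun _ ha => ha) hdz),
    fun _ _ φ => map_hι_lcl_eq_zero_iff φ _ z _ hdz⟩

/-- Every class comes from a cocycle supported in `T`; vanishing of images is being a boundary. -/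
theorem exists_class {i : ℕ} {M : ModuleCat.{u} R} (E : InjectiveResolution M)
    (x : (localCohomology.ofDiagram (Dual2.idealsInDiagram T) i).obj M) :
    ∃ z : E.cocomplex.X i, z ∈ Gam T (E.cocomplex.X i) ∧ (E.cocomplex.d i (i + 1)).hom z = 0 ∧
      ∀ {N : ModuleCat.{u} R} (E' : InjectiveResolution N) (g : M ⟶ N)
        (φ : InjectiveResolution.Hom E E' g),
        ((localCohomology.ofDiagram (Dual2.idealsInDiagram T) i).map g).hom x = 0 ↔
          ∃ w : E'.cocomplex.X (i - 1), w ∈ Gam T (E'.cocomplex.X (i - 1)) ∧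
            (E'.cocomplex.d (i - 1) i).hom w = (φ.hom.f i).hom z := by
  obtain ⟨J, α, rfl⟩ := exists_hι i M x
  obtain ⟨z, hJ, hz, rfl⟩ := exists_lcl J.obj E i α
  exact ⟨z, mem_gam_of_killed J.property hJ, hz, fun _ _ φ => map_hι_lcl_eq_zero_iff φ J z hJ hz⟩

end Groth.LocCohTransform.SupportExt
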