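import Groth.Agent.LocCohTransform.SupportExt
import Groth.Agent.LocCohBase.Comparison
import Mathlib.RingTheory.LocalProperties.Injective
import Mathlib.Algebra.Homology.QuasiIso
import Mathlib.Algebra.Homology.HomologicalComplexAbelian

/-!
Punctual local cohomology by elements of a resolution over the ring, and the descent from a
specialization stable subset to the subset of its non minimal points.
-/

set_option autoImplicit false
set_option linter.unusedSectionVars false

universe u

open CategoryTheory CategoryTheory.Limits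

namespace Groth.LocCohTransform.SupportExt

variable {A : Type u} [CommRing A] [IsNoetherianRing A]

section Local

variable (p : PrimeSpectrum A)

/-- Localization at `p`. -/
noncomputable def loc : ModuleCat.{u} A ⥤ ModuleCat.{u} (Localization.AtPrime p.asIdeal) where
  obj M := ModuleCat.of _ (LocalizedModule p.asIdeal.primeCompl M)
  map f := ModuleCat.ofHom (LocalizedModule.map p.asIdeal.primeCompl f.hom)
  map_id M := by
    ext x
    induction x using LocalizedModule.induction_on with
    | h m s => exact LocalizedModule.map_mk ..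
  map_comp f g := by
    ext x
    induction x using LocalizedModule.induction_on with
    | h m s =>
      simp only [ModuleCat.hom_comp, ModuleCat.hom_ofHom, LinearMap.comp_apply, LocalizedModule.map_mk]

instance : (loc p).Additive where
  map_add {M N f g} := by
    ext1
    show LocalizedModule.map p.asIdeal.primeCompl (f.hom + g.hom) = _
    rw [map_add]
    rfl

instance : (loc p).PreservesHomology :=
  Functor.preservesHomology_of_map_exact _ fun S hS => by
    rw [ShortComplex.ShortExact.moduleCat_exact_iff_function_exact] at hS ⊢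
    exact LocalizedModule.map_exact p.asIdeal.primeCompl _ _ hS

/-- The localized resolution. -/
noncomputable def locRes {M : ModuleCat.{u} A} (E : InjectiveResolution M) :
    InjectiveResolution ((loc p).obj M) where
  cocomplex := ((loc p).mapHomologicalComplex _).obj E.cocomplex
  injective n := by
    have : Module.Injective A (E.cocomplex.X n) :=
      Module.injective_module_of_injective_object (inj := E.injective n) A _
    have := Module.injective_of_isLocalizedModule p.asIdeal.primeCompl
      (Rₛ := Localization.AtPrime p.asIdeal) (LocalizedModule.mkLinearMap p.asIdeal.primeCompl (E.cocomplex.X n))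
    exact Module.injective_object_of_injective_module (Localization.AtPrime p.asIdeal)
      (LocalizedModule p.asIdeal.primeCompl (E.cocomplex.X n))
  ι := (HomologicalComplex.singleMapHomologicalComplex (loc p) (ComplexShape.up ℕ) 0).inv.app M ≫
    ((loc p).mapHomologicalComplex _).map E.ι
  quasiIso := inferInstance

/-- A lift localizes. -/
noncomputable def locHom {M N : ModuleCat.{u} A} {E : InjectiveResolution M} {E' : InjectiveResolution N}
    {g : M ⟶ N} (φ : InjectiveResolution.Hom E E' g) :
    InjectiveResolution.Hom (locRes p E) (locRes p E') ((loc p).map g) where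
  hom := ((loc p).mapHomologicalComplex _).map φ.hom
  ι_f_zero_comp_hom_f_zero := by
    have h := HomologicalComplex.congr_hom
      ((HomologicalComplex.singleMapHomologicalComplex (loc p) (ComplexShape.up ℕ) 0).inv.naturality g) 0
    simp only [HomologicalComplex.comp_f, Functor.comp_map, Functor.mapHomologicalComplex_map_f] at h
    simp only [locRes, HomologicalComplex.comp_f, Functor.mapHomologicalComplex_map_f, Category.assoc]
    have h2 := ((loc p).map_comp _ _).symm.trans ((congrArg (loc p).map φ.ι_f_zero_comp_hom_f_zero).trans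
      ((loc p).map_comp _ _))
    refine (congrArg (_ ≫ ·) h2).trans ?_
    refine (Category.assoc _ _ _).symm.trans ?_
    refine Eq.trans ?_ (Category.assoc _ _ _)
    exact congrArg (· ≫ _) h.symm

/-- Torsion at `p`. -/
def LocTor {X : Type u} [AddCommGroup X] [Module A X] (y : X) : Prop :=
  ∃ t ∉ p.asIdeal, ∃ k : ℕ, ∀ a ∈ p.asIdeal ^ k, a • t • y = 0

variable {M : ModuleCat.{u} A}

/-- A boundary at `p` of an element torsion at `p`. -/
def LocBd (E : InjectiveResolution M) (i : ℕ) (y : E.cocomplex.X i) : Prop :=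
  ∃ e : E.cocomplex.X (i - 1), (∃ k : ℕ, ∀ a ∈ p.asIdeal ^ k, a • e = 0) ∧
    ∃ s ∉ p.asIdeal, s • (y - (E.cocomplex.d (i - 1) i).hom e) = 0

theorem pow_smul_mk {X : Type u} [AddCommGroup X] [Module A X] {y : X} {k : ℕ}
    (s : p.asIdeal.primeCompl) (hy : ∀ a ∈ p.asIdeal ^ k, ∃ t ∉ p.asIdeal, t • a • y = 0) :
    ∀ b ∈ IsLocalRing.maximalIdeal (Localization.AtPrime p.asIdeal) ^ k,
      b • LocalizedModule.mk y s = 0 := by
  intro b hb
  rw [← Localization.AtPrime.map_eq_maximalIdeal, ← Ideal.map_pow] at hb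
  refine Submodule.span_induction (p := fun b _ => b • LocalizedModule.mk y s = 0) ?_ ?_ ?_ ?_ hb
  · rintro _ ⟨a, ha, rfl⟩
    obtain ⟨t, ht, h⟩ := hy a ha
    rw [algebraMap_smul, LocalizedModule.smul'_mk, Groth.LocCohBase.localizedModule_mk_eq_zero_iff]
    exact ⟨t, ht, h⟩
  · exact zero_smul _ _
  · intro a b _ _ ha hb; rw [add_smul, ha, hb, add_zero]
  · intro r a _ ha; rw [smul_eq_mul, mul_smul, ha, smul_zero]

theorem exists_torsion_lift' {X : ModuleCat.{u} A} [Injective X]
    (w : LocalizedModule p.asIdeal.primeCompl X) {k : ℕ}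
    (hw : ∀ b ∈ IsLocalRing.maximalIdeal (Localization.AtPrime p.asIdeal) ^ k, b • w = 0) :
    ∃ e : X, (∀ a ∈ p.asIdeal ^ k, a • e = 0) ∧ LocalizedModule.mk e 1 = w := by
  have : Module.Injective A X :=
    Module.injective_module_of_injective_object (inj := inferInstanceAs (Injective X)) A X
  refine Groth.LocCohBase.exists_torsion_lift X p.asIdeal.primeCompl _ w fun a ha => ?_
  have h := hw (algebraMap A _ a) (by
    rw [← Localization.AtPrime.map_eq_maximalIdeal, ← Ideal.map_pow]
    exact Ideal.mem_map_of_mem _ ha)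
  exact (algebraMap_smul _ a w).symm.trans h

theorem loc_map_mk {X Y : ModuleCat.{u} A} (f : X ⟶ Y) (x : X) (s : p.asIdeal.primeCompl) :
    ((loc p).map f).hom (LocalizedModule.mk x s) = LocalizedModule.mk (f.hom x) s :=
  LocalizedModule.map_mk ..

open Groth.LocCohBase (ι exists_rep ι_eq_zero_iff ι_naturality) in
/-- A class at level `k` is killed iff the image of its cocycle is a boundary at `p`. -/
theorem map_ι_lcl_eq_zero_iff {N : ModuleCat.{u} A} {E : InjectiveResolution M}
    {E' : InjectiveResolution N} {g : M ⟶ N} (φ : InjectiveResolution.Hom E E' g) (i k : ℕ)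
    (y : E.cocomplex.X i)
    (hJ : ∀ b ∈ IsLocalRing.maximalIdeal (Localization.AtPrime p.asIdeal) ^ k,
      b • (show (locRes p E).cocomplex.X i from LocalizedModule.mk y 1) = 0)
    (hy : ((locRes p E).cocomplex.d i (i + 1)).hom (LocalizedModule.mk y 1) = 0) :
    ((localCohomology (IsLocalRing.maximalIdeal (Localization.AtPrime p.asIdeal)) i).map ((loc p).map g)).hom
        (ι _ i ((loc p).obj M) k (lcl _ (locRes p E) i (LocalizedModule.mk y 1) hJ hy)) = 0 ↔
      LocBd p E' i ((φ.hom.f i).hom y) := by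
  obtain ⟨hJ', hy', e⟩ := lcl_map _ (locRes p E) i (locHom p φ) (LocalizedModule.mk y 1) hJ hy
  erw [ι_naturality, e, ι_eq_zero_iff]
  constructor
  · rintro ⟨l, hl, h0⟩
    rw [lcl_trans _ (locRes p E') i (Ideal.pow_le_pow_right hl) _ hJ' hy' _ rfl, lcl_eq_zero_iff] at h0
    obtain ⟨w, hw, hdw⟩ := h0
    obtain ⟨e, he, rfl⟩ := exists_torsion_lift' p w hw
    refine ⟨e, ⟨l, he⟩, ?_⟩
    have h1 : LocalizedModule.mk ((E'.cocomplex.d (i - 1) i).hom e) (1 : p.asIdeal.primeCompl) =
        LocalizedModule.mk ((φ.hom.f i).hom y) 1 :=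
      (loc_map_mk p _ e 1).symm.trans (hdw.trans (loc_map_mk p _ y 1))
    rw [LocalizedModule.mk_eq] at h1
    obtain ⟨⟨s, hs⟩, h2⟩ := h1
    simp only [one_smul, Submonoid.smul_def] at h2
    exact ⟨s, hs, by rw [smul_sub, sub_eq_zero]; exact h2.symm⟩
  · rintro ⟨e, ⟨l, he⟩, s, hs, hse⟩
    refine ⟨max k l, le_max_left _ _, ?_⟩
    rw [lcl_trans _ (locRes p E') i (Ideal.pow_le_pow_right (le_max_left k l)) _ hJ' hy' _ rfl, lcl_eq_zero_iff]
    refine ⟨LocalizedModule.mk e 1, fun b hb => pow_smul_mk p 1
      (fun a ha => ⟨1, p.asIdeal.primeCompl.one_mem, by rw [he a ha, smul_zero]⟩) b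
      (Ideal.pow_le_pow_right (le_max_right k l) hb), ?_⟩
    refine (loc_map_mk p _ e 1).trans (Eq.trans ?_ (loc_map_mk p _ y 1).symm)
    refine LocalizedModule.mk_eq.2 ⟨⟨s, hs⟩, ?_⟩
    simp only [one_smul, Submonoid.smul_def]
    exact (sub_eq_zero.1 ((smul_sub _ _ _).symm.trans hse)).symm

open Groth.LocCohBase (ι) in
/-- The class at `p` of a local cocycle, and the test for its images. -/
theorem exists_locClass (E : InjectiveResolution M) {i : ℕ} {y : E.cocomplex.X i}
    (hc : ∃ s ∉ p.asIdeal, s • (E.cocomplex.d i (i + 1)).hom y = 0) (ht : LocTor p y) :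
    ∃ x : (localCohomology (IsLocalRing.maximalIdeal (Localization.AtPrime p.asIdeal)) i).obj ((loc p).obj M),
      ∀ {N : ModuleCat.{u} A} (E' : InjectiveResolution N) (g : M ⟶ N)
        (φ : InjectiveResolution.Hom E E' g),
        ((localCohomology (IsLocalRing.maximalIdeal (Localization.AtPrime p.asIdeal)) i).map ((loc p).map g)).hom x = 0 ↔
          LocBd p E' i ((φ.hom.f i).hom y) := by
  obtain ⟨t, ht, k, hk⟩ := ht
  have hJ := pow_smul_mk p (y := y) (k := k) 1 fun a ha => ⟨t, ht, by rw [smul_comm]; exact hk a ha⟩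
  have hy : ((locRes p E).cocomplex.d i (i + 1)).hom (LocalizedModule.mk y 1) = 0 := by
    refine (loc_map_mk p _ y 1).trans ?_
    obtain ⟨s, hs, h⟩ := hc
    exact Groth.LocCohBase.localizedModule_mk_eq_zero_iff.2 ⟨s, hs, h⟩
  exact ⟨ι _ i _ k (lcl _ (locRes p E) i (LocalizedModule.mk y 1) hJ hy),
    fun E' g φ => map_ι_lcl_eq_zero_iff p φ i k y hJ hy⟩

end Local

/-- The non minimal points. -/
def next (T : Set (PrimeSpectrum A)) : Set (PrimeSpectrum A) := {p | p ∈ T ∧ ∃ q ∈ T, q < p}

theorem next_subset (T : Set (PrimeSpectrum A)) : next T ⊆ T := fun _ h => h.1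

theorem next_stable {T : Set (PrimeSpectrum A)} (hT : StableUnderSpecialization T) :
    StableUnderSpecialization (next T) := fun p q hpq hp => by
  obtain ⟨hpT, r, hr, hrp⟩ := hp
  have hle : p ≤ q := (PrimeSpectrum.le_iff_specializes p q).2 hpq
  exact ⟨hT hpq hpT, r, hr, hrp.trans_le hle⟩

theorem chain_next {T : Set (PrimeSpectrum A)} {n : ℕ} (h : ∀ s : LTSeries ↥T, s.length < n + 1)
    (s : LTSeries ↥(next T)) : s.length < n := by
  obtain ⟨-, q, hq, hqs⟩ := s.head.2
  let s' : LTSeries ↥T := s.map (Set.inclusion (next_subset T)) fun a b hab => hab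
  have h1 := h (s'.cons ⟨q, hq⟩ (by
    show (⟨q, hq⟩ : ↥T) < s'.head
    rw [LTSeries.head_map]
    exact hqs))
  simp only [RelSeries.cons_length] at h1
  have : s'.length = s.length := rfl
  omega

theorem eq_empty_of_chain {T : Set (PrimeSpectrum A)} (h : ∀ s : LTSeries ↥T, s.length < 0) : T = ∅ :=
  Set.eq_empty_iff_forall_notMem.2 fun p hp => absurd (h (RelSeries.singleton _ ⟨p, hp⟩)) (Nat.not_lt_zero _)

/-- Correct by a boundary supported in `T` so as to be supported in the non minimal points. -/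
theorem exists_correction {T : Set (PrimeSpectrum A)} (hT : StableUnderSpecialization T)
    {N : ModuleCat.{u} A} (E : InjectiveResolution N) (i : ℕ) {y : E.cocomplex.X i}
    (hy : y ∈ Gam T (E.cocomplex.X i))
    (hloc : ∀ p ∈ T, p ∉ next T → LocTor p y → LocBd p E i y) :
    ∃ w ∈ Gam T (E.cocomplex.X (i - 1)),
      y - (E.cocomplex.d (i - 1) i).hom w ∈ Gam (next T) (E.cocomplex.X i) := by
  classical
  set ann : Ideal A := LinearMap.ker (LinearMap.toSpanSingleton A (E.cocomplex.X i) y) with hann
  have hmem : ∀ a : A, a ∈ ann ↔ a • y = 0 := fun a => Iff.rfl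
  have hsupp : ∀ p : PrimeSpectrum A, ann ≤ p.asIdeal → p ∈ T := fun p hp => zeroLocus_ann_subset hy hp
  -- the minimal points of `T` in the support
  let F : Set (PrimeSpectrum A) := {p | p ∈ T ∧ p ∉ next T ∧ ann ≤ p.asIdeal}
  have hmin : ∀ p ∈ F, p.asIdeal ∈ ann.minimalPrimes := by
    rintro p ⟨hpT, hpn, hp⟩
    refine ⟨⟨p.2, hp⟩, fun q hq hqp => ?_⟩
    by_contra hne
    exact hpn ⟨hpT, ⟨q, hq.1⟩, hsupp ⟨q, hq.1⟩ hq.2, lt_of_le_not_ge hqp hne⟩
  have hF : F.Finite := by
    refine Set.Finite.of_injOn (f := PrimeSpectrum.asIdeal) (fun p hp => hmin p hp)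
      (fun a _ b _ h => PrimeSpectrum.ext h) ann.finite_minimalPrimes_of_isNoetherianRing
  have htor : ∀ p ∈ F, LocTor p y := by
    intro p hp
    have hrad : IsLocalRing.maximalIdeal (Localization.AtPrime p.asIdeal) ≤
        (ann.map (algebraMap A (Localization.AtPrime p.asIdeal))).radical := by
      rw [Ideal.radical_eq_sInf]
      refine le_sInf fun Q hQ => ?_
      have hQp : Q.comap (algebraMap A _) ≤ p.asIdeal :=
        ((IsLocalization.AtPrime.orderIsoOfPrime (Localization.AtPrime p.asIdeal) p.asIdeal) ⟨Q, hQ.2⟩).2.2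
      have h1 : ann ≤ Q.comap (algebraMap A _) := fun a ha => hQ.1 (Ideal.mem_map_of_mem _ ha)
      have := hQ.2
      have h2 : p.asIdeal ≤ Q.comap (algebraMap A _) := (hmin p hp).2 ⟨Ideal.IsPrime.comap _, h1⟩ hQp
      rw [← Localization.AtPrime.map_eq_maximalIdeal]
      exact Ideal.map_le_iff_le_comap.2 h2
    obtain ⟨k, hk⟩ := Ideal.exists_pow_le_of_le_radical_of_fg hrad (IsNoetherian.noetherian _)
    have key : ∀ a ∈ p.asIdeal ^ k, ∃ t ∉ p.asIdeal, t • a • y = 0 := by
      intro a ha
      have : algebraMap A (Localization.AtPrime p.asIdeal) a ∈ ann.map (algebraMap A _) := hk (by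
        rw [← Localization.AtPrime.map_eq_maximalIdeal, ← Ideal.map_pow]
        exact Ideal.mem_map_of_mem _ ha)
      obtain ⟨t, ht, h⟩ := (IsLocalization.algebraMap_mem_map_algebraMap_iff p.asIdeal.primeCompl _ ann a).1 this
      exact ⟨t, ht, by rw [← mul_smul]; exact (hmem _).1 h⟩
    obtain ⟨S, hS⟩ := IsNoetherian.noetherian (p.asIdeal ^ k)
    choose t ht hty using fun a : S => key a.1 (hS ▸ Submodule.subset_span a.2)
    refine ⟨∏ a ∈ S.attach, t a, fun h => ?_, k, fun a ha => ?_⟩
    · obtain ⟨a, -, h'⟩ := Ideal.IsPrime.prod_mem_iff.1 h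
      exact ht a h'
    · rw [← hS] at ha
      induction ha using Submodule.span_induction with
      | mem a ha =>
        obtain ⟨c, hc⟩ := Finset.dvd_prod_of_mem t (Finset.mem_attach S ⟨a, ha⟩)
        rw [hc, smul_comm, mul_comm, mul_smul, hty ⟨a, ha⟩, smul_zero]
      | zero => exact zero_smul _ _
      | add x z _ _ hx hz => rw [add_smul, hx, hz, add_zero]
      | smul r x _ hx => rw [smul_eq_mul, mul_smul, hx, smul_zero]
  choose e he s hs hse using fun p : F => hloc p.1 p.2.1 p.2.2.1 (htor p.1 p.2)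
  choose k hk using he
  have := hF.fintype
  have heT : ∀ p : F, e p ∈ Gam T (E.cocomplex.X (i - 1)) := fun p =>
    mem_gam_of_killed (J := p.1.asIdeal ^ k p) (fun q hq => hT
      ((PrimeSpectrum.le_iff_specializes p.1 q).1 (Ideal.IsPrime.le_of_pow_le hq)) p.2.1) (hk p)
  refine ⟨∑ p, e p, Submodule.sum_mem _ fun p _ => heT p, fun q hq => ?_⟩
  by_cases hqT : q ∈ T
  · have hother : ∀ p : F, p.1 ≠ q → ∃ a ∉ q.asIdeal, a • e p = 0 := by
      intro p hne
      obtain ⟨a, ha, haq⟩ := SetLike.not_le_iff_exists.1 (show ¬ p.1.asIdeal ^ k p ≤ q.asIdeal from fun h =>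
        hq ⟨hqT, p.1, p.2.1, lt_of_le_of_ne (Ideal.IsPrime.le_of_pow_le h) hne⟩)
      exact ⟨a, haq, hk p a ha⟩
    choose a haq hae using hother
    let P : A := ∏ p : F, if h : p.1 = q then 1 else a p h
    have hP : P ∉ q.asIdeal := fun h => by
      obtain ⟨p, -, hp⟩ := Ideal.IsPrime.prod_mem_iff.1 h
      split_ifs at hp with h'
      · exact q.asIdeal.primeCompl.one_mem hp
      · exact haq p h' hp
    have hPe : ∀ p : F, p.1 ≠ q → P • e p = 0 := fun p hne => by
      obtain ⟨c, hc⟩ := Finset.dvd_prod_of_mem (fun p : F => if h : p.1 = q then (1 : A) else a p h)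
        (Finset.mem_univ p)
      rw [dif_neg hne] at hc
      show (∏ p : F, if h : p.1 = q then (1 : A) else a p h) • e p = 0
      rw [hc, mul_comm, mul_smul, hae p hne, smul_zero]
    by_cases hann' : ann ≤ q.asIdeal
    · let q' : F := ⟨q, hqT, hq, hann'⟩
      refine ⟨s q' * P, q.asIdeal.primeCompl.mul_mem (hs q') hP, ?_⟩
      have hsum : P • (∑ p, e p) = P • e q' := by
        rw [Finset.smul_sum, Finset.sum_eq_single q' (fun p _ hne => hPe p fun h => hne (Subtype.ext h))
          (fun h => absurd (Finset.mem_univ _) h)]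
      rw [smul_sub, ← map_smul, mul_smul (s q'), mul_smul (s q') P (∑ p, e p), hsum, map_smul, map_smul,
        ← smul_sub, ← smul_sub, smul_comm, hse q', smul_zero]
    · obtain ⟨t, ht, htq⟩ := SetLike.not_le_iff_exists.1 hann'
      refine ⟨t * P, q.asIdeal.primeCompl.mul_mem htq hP, ?_⟩
      have hsum : P • (∑ p, e p) = 0 := by
        rw [Finset.smul_sum]
        exact Finset.sum_eq_zero fun p _ => hPe p fun h => hann' (h ▸ p.2.2.2)
      rw [smul_sub, ← map_smul, mul_smul t P (∑ p, e p), hsum, smul_zero, map_zero, sub_zero, mul_comm,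
        mul_smul, (hmem t).1 ht, smul_zero]
  · obtain ⟨t, ht, h⟩ := Submodule.sub_mem _ hy
      (map_mem_gam (E.cocomplex.d (i - 1) i).hom (Submodule.sum_mem _ fun p _ => heT p)) q hqT
    exact ⟨t, ht, h⟩

end Groth.LocCohTransform.SupportExt
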