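import Groth.Agent.LocCohTransform.SupportLocal
import Mathlib.Order.KrullDimension

/-!
Inverse systems with punctually vanishing or punctually stable local cohomology.
-/

set_option autoImplicit false
set_option linter.unusedSectionVars false

universe u

open CategoryTheory CategoryTheory.Limits

namespace Groth.LocCohTransform.SupportExt

variable {A : Type u} [CommRing A] [IsNoetherianRing A]

/-- A chosen lift of a map to resolutions. -/
noncomputable def lift {M N : ModuleCat.{u} A} (E : InjectiveResolution M) (E' : InjectiveResolution N)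
    (g : M ⟶ N) : InjectiveResolution.Hom E E' g :=
  ⟨InjectiveResolution.desc g _ _, InjectiveResolution.desc_commutes_zero g _ _⟩

/-- Composition of lifts. -/
noncomputable def compHom {M N P : ModuleCat.{u} A} {E : InjectiveResolution M} {E' : InjectiveResolution N}
    {E'' : InjectiveResolution P} {g : M ⟶ N} {g' : N ⟶ P} (φ : InjectiveResolution.Hom E E' g)
    (ψ : InjectiveResolution.Hom E' E'' g') : InjectiveResolution.Hom E E'' (g ≫ g') where
  hom := φ.hom ≫ ψ.hom
  ι_f_zero_comp_hom_f_zero := by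
    rw [HomologicalComplex.comp_f, Functor.map_comp, HomologicalComplex.comp_f,
      φ.ι_f_zero_comp_hom_f_zero_assoc, ψ.ι_f_zero_comp_hom_f_zero, Category.assoc]

theorem compHom_apply {M N P : ModuleCat.{u} A} {E : InjectiveResolution M} {E' : InjectiveResolution N}
    {E'' : InjectiveResolution P} {g : M ⟶ N} {g' : N ⟶ P} (φ : InjectiveResolution.Hom E E' g)
    (ψ : InjectiveResolution.Hom E' E'' g') (i : ℕ) (z : E.cocomplex.X i) :
    ((compHom φ ψ).hom.f i).hom z = (ψ.hom.f i).hom ((φ.hom.f i).hom z) := by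
  simp [compHom]

theorem hom_d {M N : ModuleCat.{u} A} {E : InjectiveResolution M} {E' : InjectiveResolution N}
    {g : M ⟶ N} (φ : InjectiveResolution.Hom E E' g) (i j : ℕ) (z : E.cocomplex.X i) :
    (E'.cocomplex.d i j).hom ((φ.hom.f i).hom z) = (φ.hom.f j).hom ((E.cocomplex.d i j).hom z) :=
  congr(($(φ.hom.comm i j)).hom z)

theorem d_d {M : ModuleCat.{u} A} (E : InjectiveResolution M) (i j k : ℕ) (z : E.cocomplex.X i) :
    (E.cocomplex.d j k).hom ((E.cocomplex.d i j).hom z) = 0 :=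
  congr(($(E.cocomplex.d_comp_d i j k)).hom z)

theorem locTor_of_le {M N : Type u} [AddCommGroup M] [Module A M] [AddCommGroup N] [Module A N]
    {p : PrimeSpectrum A} {y : M} {z : N} (h : ∀ a : A, a • y = 0 → a • z = 0) (hy : LocTor p y) :
    LocTor p z := by
  obtain ⟨t, ht, k, hk⟩ := hy
  exact ⟨t, ht, k, fun a ha => by rw [← mul_smul]; exact h _ (by rw [mul_smul]; exact hk a ha)⟩

theorem locTor_of_mem_gam {M : Type u} [AddCommGroup M] [Module A M] {T : Set (PrimeSpectrum A)}
    {y : M} (hy : y ∈ Gam T M) {p : PrimeSpectrum A} (hpT : p ∈ T) (hpn : p ∉ next T) : LocTor p y := by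
  classical
  set ann : Ideal A := LinearMap.ker (LinearMap.toSpanSingleton A M y) with hann
  have hmem : ∀ a : A, a ∈ ann ↔ a • y = 0 := fun a => Iff.rfl
  by_cases hp : ann ≤ p.asIdeal
  · have hrad : IsLocalRing.maximalIdeal (Localization.AtPrime p.asIdeal) ≤
        (ann.map (algebraMap A (Localization.AtPrime p.asIdeal))).radical := by
      rw [Ideal.radical_eq_sInf]
      refine le_sInf fun Q hQ => ?_
      have hQp : Q.comap (algebraMap A _) ≤ p.asIdeal :=
        ((IsLocalization.AtPrime.orderIsoOfPrime (Localization.AtPrime p.asIdeal) p.asIdeal) ⟨Q, hQ.2⟩).2.2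
      have h1 : ann ≤ Q.comap (algebraMap A _) := fun a ha => hQ.1 (Ideal.mem_map_of_mem _ ha)
      have := hQ.2
      rw [← Localization.AtPrime.map_eq_maximalIdeal]
      refine Ideal.map_le_iff_le_comap.2 ?_
      by_contra hne
      exact hpn ⟨hpT, ⟨_, Ideal.IsPrime.comap (algebraMap A _)⟩, zeroLocus_ann_subset hy h1,
        lt_of_le_not_ge hQp hne⟩
    obtain ⟨k, hk⟩ := Ideal.exists_pow_le_of_le_radical_of_fg hrad (IsNoetherian.noetherian _)
    have key : ∀ a ∈ p.asIdeal ^ k, ∃ t ∉ p.asIdeal, t • a • y = 0 := by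
      intro a ha
      have : algebraMap A (Localization.AtPrime p.asIdeal) a ∈ ann.map (algebraMap A _) := hk (by
        rw [← Localization.AtPrime.map_eq_maximalIdeal, ← Ideal.map_pow]
        exact Ideal.mem_map_of_mem _ ha)
      obtain ⟨t, ht, h⟩ := (IsLocalization.algebraMap_mem_map_algebraMap_iff p.asIdeal.primeCompl _ ann a).1 this
      exact ⟨t, ht, by rw [← mul_smul]; exact (hmem _).1 h⟩
    obtain ⟨S, hS⟩ := IsNoetherian.noetherian (p.asIdeal ^ k)
    choose t ht hty using fun a : S => key a.1 (hS ▸ Submodule.subset_span a.2)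
    refine ⟨∏ a ∈ S.attach, t a, fun h => ?_, k, fun a ha => ?_⟩
    · obtain ⟨a, -, h'⟩ := Ideal.IsPrime.prod_mem_iff.1 h
      exact ht a h'
    · rw [← hS] at ha
      induction ha using Submodule.span_induction with
      | mem a ha =>
        obtain ⟨c, hc⟩ := Finset.dvd_prod_of_mem t (Finset.mem_attach S ⟨a, ha⟩)
        rw [hc, smul_comm, mul_comm, mul_smul, hty ⟨a, ha⟩, smul_zero]
      | zero => exact zero_smul _ _
      | add x z _ _ hx hz => rw [add_smul, hx, hz, add_zero]
      | smul r x _ hx => rw [smul_eq_mul, mul_smul, hx, smul_zero]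
  · obtain ⟨t, ht, htp⟩ := SetLike.not_le_iff_exists.1 hp
    exact ⟨t, htp, 0, fun a _ => by rw [(hmem t).1 ht, smul_zero]⟩

variable (M : ℕ → ModuleCat.{u} A) (g : ∀ {k m : ℕ}, m ≤ k → (M k ⟶ M m))
  (hg : ∀ {k l m : ℕ} (h₁ : m ≤ l) (h₂ : l ≤ k), g (h₁.trans h₂) = g h₂ ≫ g h₁)

theorem iterate_mono_left {m' : ℕ → ℕ} (hm' : ∀ m, m ≤ m' m) (m : ℕ) {a b : ℕ} (h : a ≤ b) :
    m'^[a] m ≤ m'^[b] m := by
  refine monotone_nat_of_le_succ (f := fun n => m'^[n] m) (fun n => ?_) h
  simp only [Function.iterate_succ_apply']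
  exact hm' _

include hg in
/-- Punctual vanishing along a tower gives vanishing with supports in `T`. -/
theorem map_eq_zero_of_local (i : ℕ) (m' : ℕ → ℕ) (hm' : ∀ m, m ≤ m' m) :
    ∀ (n : ℕ) (T : Set (PrimeSpectrum A)), StableUnderSpecialization T →
      (∀ s : LTSeries ↥T, s.length < n) →
      (∀ p ∈ T, ∀ (m k : ℕ) (h : m ≤ k), m' m ≤ k →
        (localCohomology (IsLocalRing.maximalIdeal (Localization.AtPrime p.asIdeal)) i).map
          ((loc p).map (g h)) = 0) →
      ∀ (E : ∀ j, InjectiveResolution (M j)) (m k : ℕ) (h : m ≤ k), m'^[n] m ≤ k →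
      ∀ (φ : InjectiveResolution.Hom (E k) (E m) (g h)) (z : (E k).cocomplex.X i),
        z ∈ Gam T ((E k).cocomplex.X i) → ((E k).cocomplex.d i (i + 1)).hom z = 0 →
        ∃ w ∈ Gam T ((E m).cocomplex.X (i - 1)), ((E m).cocomplex.d (i - 1) i).hom w = (φ.hom.f i).hom z := by
  intro n
  induction n with
  | zero =>
    intro T _ hs _ E m k h _ φ z hz _
    rw [eq_empty_of_chain hs] at hz
    refine ⟨0, Submodule.zero_mem _, ?_⟩
    rw [map_zero, eq_zero_of_mem_gam_empty hz, map_zero]
  | succ n ih =>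
    intro T hT hs hloc E m k h hk φ z hz hdz
    -- first step down to `l`
    set l := m'^[n] m with hl
    have hml : m ≤ l := iterate_mono_left hm' m (Nat.zero_le n)
    have hlk : m' l ≤ k := by rwa [Function.iterate_succ_apply', ← hl] at hk
    have hlk' : l ≤ k := (hm' l).trans hlk
    let φ₁ := lift (E k) (E l) (g hlk')
    obtain ⟨w, hw, hz''⟩ := exists_correction hT (E l) i (map_mem_gam (φ₁.hom.f i).hom hz)
      (fun p hpT hpn _ => by
        obtain ⟨x, hx⟩ := exists_locClass p (E k) (y := z) ⟨1, p.asIdeal.primeCompl.one_mem, by rw [hdz, smul_zero]⟩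
          (locTor_of_mem_gam hz hpT hpn)
        refine (hx (E l) (g hlk') φ₁).1 ?_
        rw [hloc p hpT l k hlk' hlk]
        rfl)
    obtain ⟨v, hv, hdv⟩ := ih (next T) (next_stable hT) (chain_next hs)
      (fun p hp => hloc p (next_subset T hp)) E m l hml le_rfl (lift (E l) (E m) (g hml)) _ hz''
      (by rw [map_sub, hom_d, hdz, map_zero, d_d, sub_zero])
    -- compare with the given lift
    obtain ⟨J₀, hJ₀⟩ : ∃ x : (localCohomology.ofDiagram (Dual2.idealsInDiagram T) i).obj (M k),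
        ∀ {N : ModuleCat.{u} A} (E' : InjectiveResolution N) (g' : M k ⟶ N)
          (φ' : InjectiveResolution.Hom (E k) E' g'),
          ((localCohomology.ofDiagram (Dual2.idealsInDiagram T) i).map g').hom x = 0 ↔
            ∃ w : E'.cocomplex.X (i - 1), w ∈ Gam T (E'.cocomplex.X (i - 1)) ∧
              (E'.cocomplex.d (i - 1) i).hom w = (φ'.hom.f i).hom z :=
      exists_classOf (E k) z hz hdz
    refine (hJ₀ (E m) (g h) φ).1 ?_
    rw [show g h = g hlk' ≫ g hml from hg hml hlk']
    refine (hJ₀ (E m) _ (compHom φ₁ (lift (E l) (E m) (g hml)))).2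
      ⟨v + ((lift (E l) (E m) (g hml)).hom.f (i - 1)).hom w,
        Submodule.add_mem _ (gam_mono (next_subset T) hv) (map_mem_gam _ hw), ?_⟩
    rw [map_add, hdv, hom_d, compHom_apply, ← map_add, sub_add_cancel]

/-- Being a boundary does not depend on the lift. -/
theorem bd_transfer {i : ℕ} {T : Set (PrimeSpectrum A)} {X Y : ModuleCat.{u} A} {EX : InjectiveResolution X}
    {EY : InjectiveResolution Y} {f f' : X ⟶ Y} (hff : f = f') (φ : InjectiveResolution.Hom EX EY f)
    (φ' : InjectiveResolution.Hom EX EY f') {z : EX.cocomplex.X i} (hz : z ∈ Gam T (EX.cocomplex.X i))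
    (hdz : (EX.cocomplex.d i (i + 1)).hom z = 0)
    (h : ∃ w : EY.cocomplex.X (i - 1), w ∈ Gam T (EY.cocomplex.X (i - 1)) ∧
      (EY.cocomplex.d (i - 1) i).hom w = (φ.hom.f i).hom z) :
    ∃ w : EY.cocomplex.X (i - 1), w ∈ Gam T (EY.cocomplex.X (i - 1)) ∧
      (EY.cocomplex.d (i - 1) i).hom w = (φ'.hom.f i).hom z := by
  subst hff
  obtain ⟨x, hx⟩ := exists_classOf EX z hz hdz
  exact (hx EY f φ').1 ((hx EY f φ).2 h)

/-- A boundary of a section torsion at `p` is a boundary at `p`. -/
theorem locBd_of_eq {X : ModuleCat.{u} A} (E : InjectiveResolution X) (p : PrimeSpectrum A) (i : ℕ)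
    {w : E.cocomplex.X (i - 1)} (hw : LocTor p w) : LocBd p E i ((E.cocomplex.d (i - 1) i).hom w) := by
  obtain ⟨t, ht, k, hk⟩ := hw
  obtain ⟨e, he, hew⟩ := exists_torsion_lift' p (LocalizedModule.mk w 1)
    (pow_smul_mk p (k := k) 1 fun a ha => ⟨t, ht, by rw [smul_comm]; exact hk a ha⟩)
  rw [LocalizedModule.mk_eq] at hew
  obtain ⟨⟨s, hs⟩, h⟩ := hew
  simp only [one_smul, Submonoid.smul_def] at h
  exact ⟨e, ⟨k, he⟩, s, hs, by rw [smul_sub, ← map_smul, ← map_smul, ← h, sub_self]⟩

include hg in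
/-- Punctual stability along a tower gives injectivity with supports in `T`. -/
theorem exists_injective_of_local (i : ℕ) (m' : ℕ → ℕ) (hm' : ∀ m, m ≤ m' m) :
    ∀ (n : ℕ) (T : Set (PrimeSpectrum A)), StableUnderSpecialization T →
      (∀ s : LTSeries ↥T, s.length < n) →
      (0 < i → ∀ p ∈ T, ∀ (m k : ℕ) (h : m ≤ k), m' m ≤ k →
        (localCohomology (IsLocalRing.maximalIdeal (Localization.AtPrime p.asIdeal)) (i - 1)).map
          ((loc p).map (g h)) = 0) →
      (∀ p ∈ T, ∀ (m k : ℕ) (h : m ≤ k), m' m ≤ k →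
        ∀ x : (localCohomology (IsLocalRing.maximalIdeal (Localization.AtPrime p.asIdeal)) i).obj ((loc p).obj (M k)),
          ((localCohomology (IsLocalRing.maximalIdeal (Localization.AtPrime p.asIdeal)) i).map
            ((loc p).map (g (Nat.zero_le k)))).hom x = 0 →
          ((localCohomology (IsLocalRing.maximalIdeal (Localization.AtPrime p.asIdeal)) i).map
            ((loc p).map (g h))).hom x = 0) →
      ∀ (E : ∀ j, InjectiveResolution (M j)), ∃ (m₀ : ℕ) (F : ℕ → ℕ), (∀ m, m ≤ F m) ∧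
        ∀ (m k : ℕ) (hm : m₀ ≤ m) (h : m ≤ k), F m ≤ k →
        ∀ (φ₀ : InjectiveResolution.Hom (E k) (E m₀) (g (hm.trans h)))
          (φ : InjectiveResolution.Hom (E k) (E m) (g h)) (z : (E k).cocomplex.X i),
          z ∈ Gam T ((E k).cocomplex.X i) → ((E k).cocomplex.d i (i + 1)).hom z = 0 →
          (∃ w : (E m₀).cocomplex.X (i - 1), w ∈ Gam T ((E m₀).cocomplex.X (i - 1)) ∧
            ((E m₀).cocomplex.d (i - 1) i).hom w = (φ₀.hom.f i).hom z) →
          ∃ w : (E m).cocomplex.X (i - 1), w ∈ Gam T ((E m).cocomplex.X (i - 1)) ∧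
            ((E m).cocomplex.d (i - 1) i).hom w = (φ.hom.f i).hom z := by
  intro n
  induction n with
  | zero =>
    intro T _ hs _ _ E
    refine ⟨0, id, fun m => le_rfl, fun m k _ h _ _ φ z hz _ _ => ⟨0, Submodule.zero_mem _, ?_⟩⟩
    rw [eq_empty_of_chain hs] at hz
    rw [map_zero, eq_zero_of_mem_gam_empty hz, map_zero]
  | succ n ih =>
    intro T hT hs h1 h23 E
    obtain ⟨a, F, hF, hIH⟩ := ih (next T) (next_stable hT) (chain_next hs)
      (fun hi p hp => h1 hi p (next_subset T hp)) (fun p hp => h23 p (next_subset T hp)) E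
    refine ⟨m' a, fun m => m' (F m), fun m => (hF m).trans (hm' _), fun m k hm h hk φ₀ φ z hz hdz hbd => ?_⟩
    set l := F m with hl
    have hml : m ≤ l := hF m
    have hlk' : l ≤ k := (hm' l).trans hk
    let φ₁ := lift (E k) (E l) (g hlk')
    let ψ := lift (E l) (E (m' a)) (g (hm.trans hml))
    obtain ⟨v, hv, hdv⟩ := bd_transfer (hg (hm.trans hml) hlk') φ₀ (compHom φ₁ ψ) hz hdz hbd
    rw [compHom_apply] at hdv
    obtain ⟨w₁, hw₁, hz''⟩ := exists_correction hT (E l) i (map_mem_gam (φ₁.hom.f i).hom hz)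
      (fun p hpT hpn _ => by
        obtain ⟨x, hx⟩ := exists_locClass p (E k) (y := z) ⟨1, p.asIdeal.primeCompl.one_mem, by rw [hdz, smul_zero]⟩
          (locTor_of_mem_gam hz hpT hpn)
        refine (hx (E l) (g hlk') φ₁).1 (h23 p hpT l k hlk' hk x ?_)
        let χ₀ := lift (E (m' a)) (E 0) (g (Nat.zero_le _))
        have e : g (Nat.zero_le k) = (g hlk' ≫ g (hm.trans hml)) ≫ g (Nat.zero_le (m' a)) := by
          rw [← hg, ← hg]
        rw [e]
        refine (hx (E 0) _ (compHom (compHom φ₁ ψ) χ₀)).2 ?_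
        rw [compHom_apply, compHom_apply, ← hdv, ← hom_d]
        exact locBd_of_eq (E 0) p i (locTor_of_mem_gam (map_mem_gam (χ₀.hom.f (i - 1)).hom hv) hpT hpn))
    set z'' := (φ₁.hom.f i).hom z - ((E l).cocomplex.d (i - 1) i).hom w₁ with hz''def
    have hdz'' : ((E l).cocomplex.d i (i + 1)).hom z'' = 0 := by
      rw [hz''def, map_sub, hom_d, hdz, map_zero, d_d, sub_zero]
    let c := v - (ψ.hom.f (i - 1)).hom w₁
    have hc : c ∈ Gam T ((E (m' a)).cocomplex.X (i - 1)) := Submodule.sub_mem _ hv (map_mem_gam _ hw₁)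
    have hdc : ((E (m' a)).cocomplex.d (i - 1) i).hom c = (ψ.hom.f i).hom z'' := by
      rw [map_sub, hdv, hom_d, ← map_sub]
    let χ := lift (E (m' a)) (E a) (g (hm' a))
    have hz''a : ∃ w : (E a).cocomplex.X (i - 1), w ∈ Gam (next T) ((E a).cocomplex.X (i - 1)) ∧
        ((E a).cocomplex.d (i - 1) i).hom w = ((compHom ψ χ).hom.f i).hom z'' := by
      rcases i with _ | j
      · refine ⟨0, Submodule.zero_mem _, ?_⟩
        rw [map_zero, compHom_apply, ← hdc, HomologicalComplex.shape _ _ _ (by simp)]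
        exact (map_zero _).symm
      · obtain ⟨u, hu, hu'⟩ := exists_correction hT (E a) j (map_mem_gam (χ.hom.f j).hom hc)
          (fun p hpT hpn _ => by
            have hcyc : ∃ s ∉ p.asIdeal, s • ((E (m' a)).cocomplex.d j (j + 1)).hom c = 0 := by
              obtain ⟨s, hs, h⟩ := map_mem_gam (ψ.hom.f (j + 1)).hom hz'' p hpn
              exact ⟨s, hs, (congrArg (s • ·) hdc).trans h⟩
            obtain ⟨x, hx⟩ := exists_locClass p (E (m' a)) (y := c) hcyc (locTor_of_mem_gam hc hpT hpn)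
            refine (hx (E a) (g (hm' a)) χ).1 ?_
            exact LinearMap.congr_fun (congrArg ModuleCat.Hom.hom
              (h1 (Nat.succ_pos j) p hpT a (m' a) (hm' a) le_rfl)) x)
        refine ⟨_, hu', ?_⟩
        show ((E a).cocomplex.d j (j + 1)).hom _ = _
        rw [map_sub, d_d, sub_zero, hom_d, compHom_apply]
        exact congrArg _ hdc
    have hsum : a ≤ l := ((hm' a).trans hm).trans hml
    obtain ⟨w₂, hw₂, hdw₂⟩ := hIH m l ((hm' a).trans hm) hml le_rfl (lift (E l) (E a) (g hsum))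
      (lift (E l) (E m) (g hml)) z'' hz'' hdz''
      (bd_transfer (hg (hm' a) (hm.trans hml)).symm (compHom ψ χ) _ hz'' hdz'' hz''a)
    refine bd_transfer (hg hml hlk').symm (compHom φ₁ (lift (E l) (E m) (g hml))) φ hz hdz
      ⟨w₂ + ((lift (E l) (E m) (g hml)).hom.f (i - 1)).hom w₁,
        Submodule.add_mem _ (gam_mono (next_subset T) hw₂) (map_mem_gam _ hw₁), ?_⟩
    rw [map_add, hdw₂, hom_d, compHom_apply, ← map_add, sub_add_cancel]

end Groth.LocCohTransform.SupportExt
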