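import Groth.Agent.Gorenstein.ExtTop
import Groth.Agent.LocCohBase.Nonvanishing
import Groth.Agent.LocCohTransform.GradedMap
import Mathlib.RingTheory.AdicCompletion.Noetherian

/-!
Chevalley's lemma, symbolic powers of a prime of dimension one in a complete local domain, and the
vanishing of top local cohomology over complete Gorenstein local domains.
-/

set_option autoImplicit false
universe u

open CategoryTheory IsLocalRing GrothGoren Groth.LocCohBase

namespace Groth.LocCohTransform.HLVT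

variable {A : Type u} [CommRing A] [IsLocalRing A] [IsNoetherianRing A]

/-- Chevalley's lemma. -/
theorem chevalley [IsAdicComplete (maximalIdeal A) A] (F : ℕ → Ideal A) (hF : Antitone F)
    (h : ⨅ n, F n = ⊥) (k : ℕ) : ∃ n, F n ≤ maximalIdeal A ^ k := by
  set m := maximalIdeal A with hm
  have stab : ∀ l : ℕ, ∃ N, ∀ n, N ≤ n → F n ⊔ m ^ l = F N ⊔ m ^ l := by
    intro l
    haveI : IsArtinian A (A ⧸ m ^ l) :=
      (isFiniteLength_iff_isNoetherian_isArtinian.1 (GrothMatlis.isFiniteLength_quotient_pow l)).2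
    let g : ℕ →o (Submodule A (A ⧸ m ^ l))ᵒᵈ :=
      ⟨fun n => OrderDual.toDual (Submodule.map (m ^ l).mkQ (F n)), fun a b hab => Submodule.map_mono (hF hab)⟩
    obtain ⟨N, hN⟩ := IsArtinian.monotone_stabilizes g
    refine ⟨N, fun n hn => ?_⟩
    have e : Submodule.map (m ^ l).mkQ (F N) = Submodule.map (m ^ l).mkQ (F n) := congrArg OrderDual.ofDual (hN n hn)
    have e' := congrArg (Submodule.comap (m ^ l).mkQ) e
    rw [Submodule.comap_map_mkQ, Submodule.comap_map_mkQ] at e'
    rw [sup_comm, ← e', sup_comm]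
  choose N hN using stab
  refine ⟨N k, fun x hx => ?_⟩
  let G : ℕ → Ideal A := fun l => F (N l) ⊔ m ^ l
  have step : ∀ l, ∀ y ∈ G l, ∃ z ∈ G (l + 1), z - y ∈ m ^ l := by
    intro l y hy
    have hy' : y ∈ F (max (N l) (N (l + 1))) ⊔ m ^ l := by rw [hN l _ (le_max_left _ _)]; exact hy
    obtain ⟨f, hf, e, he, rfl⟩ := Submodule.mem_sup.1 hy'
    refine ⟨f, ?_, by simpa using neg_mem he⟩
    have : f ∈ F (max (N l) (N (l + 1))) ⊔ m ^ (l + 1) := Submodule.mem_sup_left hf
    rwa [hN (l + 1) _ (le_max_right _ _)] at this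
  choose next hnext hdiff using step
  let s : ∀ j, G (k + j) := fun j => Nat.rec ⟨x, Submodule.mem_sup_left hx⟩
    (fun j y => ⟨next (k + j) y.1 y.2, hnext _ _ y.2⟩) j
  have hs : ∀ j, (s (j + 1)).1 - (s j).1 ∈ m ^ (k + j) := fun j => hdiff (k + j) (s j).1 (s j).2
  have hcau : ∀ a b, a ≤ b → (s b).1 - (s a).1 ∈ m ^ (k + a) := by
    intro a b hab
    induction b, hab using Nat.le_induction with
    | base => simp
    | succ b hab ih =>
      have := add_mem (Ideal.pow_le_pow_right (by omega) (hs b) : _ ∈ m ^ (k + a)) ih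
      simpa using this
  obtain ⟨L, hL⟩ := IsPrecomplete.prec' (I := m) (M := A) (fun j => (s j).1) (fun {a b} hab => by
    rw [SModEq.sub_mem, smul_eq_mul, Ideal.mul_top]
    have := Ideal.pow_le_pow_right (Nat.le_add_left a k) (hcau a b hab)
    simpa using neg_mem this)
  have hL' : ∀ j, (s j).1 - L ∈ m ^ j := fun j => by
    have := hL j
    rwa [SModEq.sub_mem, smul_eq_mul, Ideal.mul_top] at this
  have hLF : ∀ n, L ∈ F n := by
    intro n
    have hmem : ∀ j, L ∈ F n ⊔ m ^ j := by
      intro j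
      have h1 : (s j).1 ∈ F (max n (N (k + j))) ⊔ m ^ (k + j) := by
        rw [hN (k + j) _ (le_max_right _ _)]; exact (s j).2
      have h2 : (s j).1 ∈ F n ⊔ m ^ j :=
        sup_le_sup (hF (le_max_left _ _)) (Ideal.pow_le_pow_right (Nat.le_add_left j k)) h1
      have := sub_mem h2 (Submodule.mem_sup_right (hL' j))
      simpa using this
    haveI : IsHausdorff m (A ⧸ F n) :=
      IsHausdorff.of_le_jacobson m _ (by rw [hm, jacobson_eq_maximalIdeal ⊥ bot_ne_top])
    rw [← Submodule.Quotient.mk_eq_zero]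
    refine IsHausdorff.haus' (I := m) _ fun j => ?_
    rw [SModEq.zero]
    obtain ⟨f, hf, e, he, hfe⟩ := Submodule.mem_sup.1 (hmem j)
    have e1 : (Submodule.Quotient.mk L : A ⧸ F n) = e • Submodule.Quotient.mk (1 : A) := by
      rw [← Submodule.Quotient.mk_smul, smul_eq_mul, mul_one, Submodule.Quotient.eq, ← hfe,
        add_sub_cancel_right]
      exact hf
    rw [e1]
    exact Submodule.smul_mem_smul he Submodule.mem_top
  have hL0 : L = 0 := by
    rw [← Submodule.mem_bot A, ← h, Submodule.mem_iInf]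
    exact hLF
  have h3 : (s k).1 - x ∈ m ^ k := (hcau 0 k (Nat.zero_le k) : (s k).1 - x ∈ m ^ (k + 0))
  have h4 := sub_mem (hL' k) h3
  rw [hL0, sub_zero] at h4
  simpa using h4

/-- The symbolic power. -/
noncomputable abbrev symb (p : Ideal A) [p.IsPrime] (n : ℕ) : Ideal A :=
  ((Ideal.map (algebraMap A (Localization.AtPrime p)) p) ^ n).comap
    (algebraMap A (Localization.AtPrime p))

omit [IsLocalRing A] [IsNoetherianRing A] in
theorem mem_symb_iff (p : Ideal A) [p.IsPrime] (n : ℕ) (x : A) :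
    x ∈ symb p n ↔ ∃ s ∉ p, s * x ∈ p ^ n := by
  rw [Ideal.mem_comap, ← Ideal.map_pow, IsLocalization.algebraMap_mem_map_algebraMap_iff p.primeCompl]
  rfl

omit [IsLocalRing A] in
theorem iInf_symb [IsDomain A] (p : Ideal A) [p.IsPrime] : ⨅ n, symb p n = ⊥ := by
  refine eq_bot_iff.2 fun x hx => ?_
  rw [Submodule.mem_iInf] at hx
  have hne : Ideal.map (algebraMap A (Localization.AtPrime p)) p ≠ ⊤ := by
    rw [IsLocalization.AtPrime.map_eq_maximalIdeal p (Localization.AtPrime p)]
    exact (maximalIdeal.isMaximal _).ne_top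
  have h0 : algebraMap A (Localization.AtPrime p) x ∈
      ⨅ n, (Ideal.map (algebraMap A (Localization.AtPrime p)) p) ^ n :=
    Submodule.mem_iInf _ |>.2 hx
  rw [Ideal.iInf_pow_eq_bot_of_isLocalRing _ hne, Submodule.mem_bot] at h0
  exact (Submodule.mem_bot A).2 ((map_eq_zero_iff _
    (IsLocalization.injective (Localization.AtPrime p) p.primeCompl_le_nonZeroDivisors)).1 h0)

omit [IsNoetherianRing A] in
/-- A prime of dimension one is covered by the maximal ideal. -/
theorem eq_maximalIdeal_of_lt {p Q : Ideal A} [p.IsPrime] [Q.IsPrime]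
    (hp : ringKrullDim (A ⧸ p) ≤ 1) (hlt : p < Q) : Q = maximalIdeal A := by
  by_contra hQ
  have hlt3 : Q < maximalIdeal A := lt_of_le_of_ne (le_maximalIdeal Ideal.IsPrime.ne_top') hQ
  have h3 : ∀ I : Ideal A, p ≤ I → I.IsPrime → (I.map (Ideal.Quotient.mk p)).IsPrime :=
    fun I hI hIp => Ideal.map_isPrime_of_surjective Ideal.Quotient.mk_surjective
      (by rwa [Ideal.mk_ker])
  have hmono : ∀ I J : Ideal A, p ≤ I → p ≤ J → I < J →
      I.map (Ideal.Quotient.mk p) < J.map (Ideal.Quotient.mk p) := by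
    intro I J hI hJ hIJ
    refine lt_of_le_of_ne (Ideal.map_mono hIJ.le) fun h => hIJ.ne ?_
    have := congrArg (Ideal.comap (Ideal.Quotient.mk p)) h
    rwa [Ideal.comap_map_of_surjective _ Ideal.Quotient.mk_surjective,
      Ideal.comap_map_of_surjective _ Ideal.Quotient.mk_surjective, ← RingHom.ker_eq_comap_bot,
      Ideal.mk_ker, sup_eq_left.2 hI, sup_eq_left.2 hJ] at this
  let c : LTSeries (PrimeSpectrum (A ⧸ p)) :=
    ((RelSeries.singleton _ ⟨_, h3 p le_rfl inferInstance⟩).snoc ⟨_, h3 Q hlt.le inferInstance⟩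
      (hmono p Q le_rfl hlt.le hlt)).snoc ⟨_, h3 _ (hlt.le.trans hlt3.le)
        (maximalIdeal.isMaximal A).isPrime⟩
      (by rw [RelSeries.last_snoc]; exact hmono Q _ hlt.le (hlt.le.trans hlt3.le) hlt3)
  have h4 : ((c.length : ℕ) : WithBot ℕ∞) ≤ 1 :=
    (Order.LTSeries.length_le_krullDim c).trans hp
  have h5 : c.length ≤ 1 := by exact_mod_cast h4
  simp [c] at h5

/-- Symbolic powers of a one-dimensional prime of a complete domain are cofinal with the powers. -/
theorem exists_symb_le [IsDomain A] [IsAdicComplete (maximalIdeal A) A] (p : Ideal A) [p.IsPrime]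
    (hp : ringKrullDim (A ⧸ p) = 1) (n : ℕ) : ∃ n', n ≤ n' ∧ symb p n' ≤ p ^ n := by
  set m := maximalIdeal A with hm
  obtain ⟨a, ha⟩ := GradedMap.exists_pow_inf_torsion (A ⧸ p ^ n) m
  have hanti : Antitone (symb p) := fun i j hij =>
    Ideal.comap_mono (Ideal.pow_le_pow_right hij)
  obtain ⟨k, hk⟩ := chevalley (symb p) hanti (iInf_symb p) a
  refine ⟨max n k, le_max_left _ _, fun x hx => ?_⟩
  have hxm : x ∈ m ^ a := hk (hanti (le_max_right _ _) hx)
  obtain ⟨s, hs, hsx⟩ := (mem_symb_iff p n x).1 (hanti (le_max_left _ _) hx)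
  let J : Ideal A := LinearMap.ker (LinearMap.toSpanSingleton A (A ⧸ p ^ n) (Submodule.Quotient.mk x))
  have hJ : ∀ c, c * x ∈ p ^ n → c ∈ J := fun c hc => by
    change c • (Submodule.Quotient.mk x : A ⧸ p ^ n) = 0
    rw [← Submodule.Quotient.mk_smul]
    exact (Submodule.Quotient.mk_eq_zero _).2 hc
  have hmJ : m ≤ J.radical := by
    rw [Ideal.radical_eq_sInf]
    refine le_sInf fun Q ⟨hJQ, hQ⟩ => ?_
    have hpQ : p ≤ Q := fun c hc => hQ.mem_of_pow_mem n (hJQ (hJ _ (Ideal.mul_mem_right x _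
      (Ideal.pow_mem_pow hc n))))
    have hlt : p < Q := lt_of_le_of_ne hpQ fun h => hs (h ▸ hJQ (hJ s hsx))
    rw [eq_maximalIdeal_of_lt hp.le hlt]
  obtain ⟨e, he⟩ := Ideal.exists_pow_le_of_le_radical_of_fg hmJ (IsNoetherian.noetherian m)
  refine (Submodule.Quotient.mk_eq_zero _).1 (ha e _ ?_ fun b hb => he hb)
  have : (Submodule.Quotient.mk x : A ⧸ p ^ n) = x • Submodule.Quotient.mk (1 : A) := by
    rw [← Submodule.Quotient.mk_smul, smul_eq_mul, mul_one]
  rw [this]
  exact Submodule.smul_mem_smul hxm Submodule.mem_top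

/-- Restriction to the `m`-torsion is injective on the top `Ext` against a Gorenstein local ring. -/
theorem ext_torsion_injective {d : ℕ} (hd : InjLT A A (d + 1)) (hd0 : ¬ InjLT A A d)
    (M : Type u) [AddCommGroup M] [Module A M] [Module.Finite A M]
    (α : Abelian.Ext (ModuleCat.of A M) (ModuleCat.of A A) d)
    (h : (Abelian.Ext.mk₀ (ModuleCat.ofHom (DRing.torsionSub (maximalIdeal A) M).subtype)).comp α
      (zero_add d) = 0) : α = 0 := by
  set H := DRing.torsionSub (maximalIdeal A) M with hH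
  have hS := seqCx_shortExact H.subtype H.mkQ (LinearMap.exact_subtype_mkQ H) H.subtype_injective
    H.mkQ_surjective
  have hQ : ExtZ A (M ⧸ H) A d := by
    rcases subsingleton_or_nontrivial (M ⧸ H) with hsub | hnt
    · refine subsingleton_of_forall_eq 0 fun β => ?_
      have h1 : (𝟙 (ModuleCat.of A (M ⧸ H))) = 0 := by
        ext z
        exact Subsingleton.elim (α := M ⧸ H) _ _
      rw [← Abelian.Ext.mk₀_id_comp β, h1, Abelian.Ext.mk₀_zero, Abelian.Ext.zero_comp]
    · refine (exists_regular_iff_extZ_top hd hd0).1 ?_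
      by_contra hcon
      push Not at hcon
      obtain ⟨ι, hι⟩ := exists_residueField_embedding_module hcon
      obtain ⟨y, hy⟩ := H.mkQ_surjective (ι 1)
      have hy1 : ∀ c ∈ maximalIdeal A, c • y ∈ H := fun c hc => by
        rw [← Submodule.Quotient.mk_eq_zero, Submodule.Quotient.mk_smul,
          show (Submodule.Quotient.mk y : M ⧸ H) = ι 1 from hy, ← map_smul, Algebra.smul_def,
          show algebraMap A (ResidueField A) c = 0 from (IsLocalRing.residue_eq_zero_iff c).2 hc,
          zero_mul, map_zero]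
      let J : Ideal A := LinearMap.ker (LinearMap.toSpanSingleton A M y)
      have hmJ : maximalIdeal A ≤ J.radical := fun c hc => by
        obtain ⟨e, he⟩ := hy1 c hc
        refine ⟨e + 1, ?_⟩
        change c ^ (e + 1) • y = 0
        rw [pow_succ, mul_smul]
        exact he _ (Ideal.pow_mem_pow hc e)
      obtain ⟨e, he⟩ := Ideal.exists_pow_le_of_le_radical_of_fg hmJ (IsNoetherian.noetherian _)
      have hyH : y ∈ H := ⟨e, fun c hc => he hc⟩
      refine one_ne_zero (α := ResidueField A) (hι ?_)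
      rw [map_zero, ← hy]
      exact (Submodule.Quotient.mk_eq_zero _).2 hyH
  obtain ⟨γ, rfl⟩ := Abelian.Ext.contravariant_sequence_exact₂ hS (ModuleCat.of A A) α h
  rw [Subsingleton.elim (h := hQ) γ 0, Abelian.Ext.comp_zero]

/-- Top local cohomology of a complete Gorenstein local domain at a prime of dimension one. -/
theorem subsingleton_H_gorenstein [IsDomain A] [IsAdicComplete (maximalIdeal A) A]
    (hA : ∃ n, InjLT A A n) {d : ℕ} (hd : ringKrullDim A = d) (p : Ideal A) [p.IsPrime]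
    (hp : ringKrullDim (A ⧸ p) = 1) : Subsingleton (LocCoh.H p d A) := by
  obtain ⟨d', hd', hd1, hd0, -⟩ := exists_dim A hA
  obtain rfl : d' = d := by rw [hd] at hd'; exact_mod_cast hd'.symm
  refine subsingleton_of_forall_eq 0 fun x => ?_
  obtain ⟨n, α, rfl⟩ := exists_rep (I := p) d' (ModuleCat.of A A) x
  obtain ⟨n', hn', hle⟩ := exists_symb_le p hp n
  refine (ι_eq_zero_iff (I := p) d' (ModuleCat.of A A) α).2 ⟨n', hn', ?_⟩
  refine ext_torsion_injective hd1 hd0 (A ⧸ p ^ n') _ ?_
  rw [Abelian.Ext.mk₀_comp_mk₀_assoc]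
  suffices h0 : ModuleCat.ofHom (DRing.torsionSub (maximalIdeal A) (A ⧸ p ^ n')).subtype ≫
      trans p hn' = 0 by rw [h0, Abelian.Ext.mk₀_zero, Abelian.Ext.zero_comp]
  refine ModuleCat.hom_ext (LinearMap.ext fun y => ?_)
  obtain ⟨r, hr⟩ := Ideal.Quotient.mk_surjective y.1
  obtain ⟨e, he⟩ := y.2
  change (trans p hn').hom y.1 = 0
  rw [← hr, trans_apply_mk]
  refine Ideal.Quotient.eq_zero_iff_mem.2 (hle ((mem_symb_iff p n' r).2 ?_))
  have hpm : ¬ maximalIdeal A ≤ p := fun h => by
    have hle' : ringKrullDim (A ⧸ p) ≤ 0 := by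
      have heq : p = maximalIdeal A := le_antisymm (le_maximalIdeal Ideal.IsPrime.ne_top') h
      haveI : p.IsMaximal := heq ▸ maximalIdeal.isMaximal A
      letI := Ideal.Quotient.field p
      exact (ringKrullDim_eq_zero_of_field _).le
    rw [hp] at hle'
    exact absurd hle' (by decide)
  obtain ⟨c, hcm, hcp⟩ := SetLike.not_le_iff_exists.1 hpm
  refine ⟨c ^ e, fun h => hcp (Ideal.IsPrime.mem_of_pow_mem inferInstance e h), ?_⟩
  have h1 := he _ (Ideal.pow_mem_pow hcm e)
  rw [← hr] at h1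
  exact Ideal.Quotient.eq_zero_iff_mem.1 h1

end Groth.LocCohTransform.HLVT
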