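import Groth.Agent.LocCohTransform.CompletionHLVT
import Groth.Agent.LocCohBase.CdLocal
import Groth.Agent.Ega4Algebra2.CplQuot
import Mathlib.RingTheory.TensorProduct.Quotient
import Mathlib.RingTheory.Ideal.MinimalPrime.Localization

/-!
Vanishing of the top local cohomology of one module of full support forces vanishing for the ring.
-/

set_option autoImplicit false
universe u

open CategoryTheory IsLocalRing Groth.LocCohBase TensorProduct

namespace Groth.LocCohTransform.TopGeneral

section Global

variable {R : Type u} [CommRing R] [IsNoetherianRing R] (I : Ideal R) {d : ℕ}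

theorem subsingleton_H_of_subsingleton (hcd : LocCoh.CdLE R I d) (M : Type u) [AddCommGroup M]
    [Module R M] [Subsingleton M] : Subsingleton (LocCoh.H I d M) :=
  (tensorToH_bijective I d hcd M).2.subsingleton

theorem H_map_surjective (hcd : LocCoh.CdLE R I d) {M N : Type u} [AddCommGroup M] [Module R M]
    [AddCommGroup N] [Module R N] (g : M →ₗ[R] N) (hg : Function.Surjective g)
    (hM : Subsingleton (LocCoh.H I d M)) : Subsingleton (LocCoh.H I d N) := by
  have hS := GrothGoren.seqCx_shortExact (LinearMap.ker g).subtype g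
    (LinearMap.exact_subtype_ker_map g) (Submodule.injective_subtype _) hg
  refine subsingleton_of_forall_eq 0 fun y => ?_
  obtain ⟨x, hx⟩ := (exact₃ (I := I) hS d y).1
    ((hcd (LinearMap.ker g) (d + 1) (Nat.lt_succ_self d)).elim _ _)
  rw [← hx]
  exact (congrArg _ (hM.elim x 0)).trans (map_zero _)

/-- Vanishing at a cyclic module of small dimension. -/
theorem subsingleton_H_quotient_of_dim_lt (hcd : LocCoh.CdLE R I d) (K : Ideal R)
    (hK : ringKrullDim (R ⧸ K) < (d : ℕ)) : Subsingleton (LocCoh.H I d (R ⧸ K)) := by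
  by_cases hKtop : K = ⊤
  · subst hKtop
    exact subsingleton_H_of_subsingleton I hcd _
  haveI : Nontrivial (R ⧸ K) := Ideal.Quotient.nontrivial_iff.2 hKtop
  obtain ⟨e, rfl⟩ : ∃ e, d = e + 1 := by
    refine ⟨d - 1, ?_⟩
    have h0 : (0 : WithBot ℕ∞) < ((d : ℕ) : WithBot ℕ∞) :=
      lt_of_le_of_lt ringKrullDim_nonneg_of_nontrivial hK
    have : 0 < d := by exact_mod_cast h0
    omega
  have hle : ringKrullDim (R ⧸ K) ≤ (e : ℕ) := by
    cases h : ringKrullDim (R ⧸ K) with
    | bot => exact bot_le
    | coe x =>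
      rw [h] at hK
      cases x with
      | top => exact absurd (lt_of_lt_of_le hK le_top) (lt_irrefl _)
      | coe n =>
        have : n < e + 1 := by exact_mod_cast hK
        exact_mod_cast (show n ≤ e by omega)
  have h1 := cdLE_of_dim_le (I.map (algebraMap R (R ⧸ K))) e hle (R ⧸ K) (e + 1) (Nat.lt_succ_self e)
  obtain ⟨ψ, -⟩ := exists_restrict_addEquiv (R := R) (R' := R ⧸ K) I (R ⧸ K) (e + 1)
  exact ψ.symm.toEquiv.subsingleton

/-- From a module to the quotient by a prime of its support of maximal coheight. -/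
theorem subsingleton_H_quotient_of_support (hd : ringKrullDim R = (d : ℕ)) (M : Type u)
    [AddCommGroup M] [Module R M] [Module.Finite R M] (hvan : Subsingleton (LocCoh.H I d M))
    (p : PrimeSpectrum R) (hp : p ∈ Module.support R M)
    (hpd : ringKrullDim (R ⧸ p.asIdeal) = (d : ℕ)) :
    Subsingleton (LocCoh.H I d (R ⧸ p.asIdeal)) := by
  have hcd := cdLE_of_dim_le I d hd.le
  obtain ⟨φ, hφ⟩ := exists_map_quotient M p hp
  have hrange := H_map_surjective I hcd φ.rangeRestrict φ.surjective_rangeRestrict hvan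
  let K : Ideal R := Submodule.comap (Submodule.mkQ p.asIdeal) (LinearMap.range φ)
  have hpK : p.asIdeal ≤ K := fun x hx => by
    change Submodule.mkQ p.asIdeal x ∈ LinearMap.range φ
    rw [Submodule.mkQ_apply, (Submodule.Quotient.mk_eq_zero _).2 hx]
    exact zero_mem _
  obtain ⟨y, hyK, hyp⟩ : ∃ y ∈ K, y ∉ p.asIdeal := by
    by_contra hcon
    push Not at hcon
    refine hφ (LinearMap.ext fun m => ?_)
    obtain ⟨y, hy⟩ := Submodule.mkQ_surjective p.asIdeal (φ m)
    rw [← hy, LinearMap.zero_apply, Submodule.mkQ_apply, Submodule.Quotient.mk_eq_zero]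
    exact hcon y ⟨m, hy.symm⟩
  have hKd : ringKrullDim (R ⧸ K) < (d : ℕ) := by
    have h1 := ringKrullDim_quotient_succ_le_of_nonZeroDivisor
      (mem_nonZeroDivisors_of_ne_zero (M₀ := R ⧸ p.asIdeal) (x := Ideal.Quotient.mk p.asIdeal y)
        fun h => hyp (Ideal.Quotient.eq_zero_iff_mem.1 h))
    rw [← Set.image_singleton, ← Ideal.map_span,
      ringKrullDim_eq_of_ringEquiv (DoubleQuot.quotQuotEquivQuotSup p.asIdeal (Ideal.span {y})), hpd] at h1
    have h2 : ringKrullDim (R ⧸ K) + 1 ≤ (d : ℕ) := (add_le_add (ringKrullDim_le_of_surjective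
      (Ideal.Quotient.factor (sup_le hpK ((Ideal.span_singleton_le_iff_mem _).2 hyK)))
      (Ideal.Quotient.factor_surjective _)) le_rfl).trans h1
    cases h : ringKrullDim (R ⧸ K) with
    | bot => exact WithBot.bot_lt_coe _
    | coe x =>
      rw [h] at h2
      cases x with
      | top => exact absurd (top_le_iff.1 (WithBot.coe_le_coe.1 h2 : (⊤ : ℕ∞) + 1 ≤ (d : ℕ∞)) ) (by simp)
      | coe n =>
        have : n + 1 ≤ d := by exact_mod_cast h2
        exact Nat.cast_lt.2 (by omega)
  have hKz := subsingleton_H_quotient_of_dim_lt I hcd K hKd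
  let g : (R ⧸ p.asIdeal) →ₗ[R] R ⧸ K := Submodule.factor hpK
  have hex : Function.Exact (LinearMap.range φ).subtype g := by
    intro z
    obtain ⟨y, rfl⟩ := Submodule.mkQ_surjective p.asIdeal z
    change Submodule.Quotient.mk y = 0 ↔ _
    rw [Submodule.Quotient.mk_eq_zero]
    exact ⟨fun h => ⟨⟨_, h⟩, rfl⟩, fun ⟨w, hw⟩ => (hw ▸ w.2 : Submodule.mkQ p.asIdeal y ∈ LinearMap.range φ)⟩
  exact subsingleton_X₂ (I := I) (GrothGoren.seqCx_shortExact (LinearMap.range φ).subtype g hex
    (Submodule.injective_subtype _) (Submodule.factor_surjective hpK)) d hrange hKz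

end Global

section Local

variable {A : Type u} [CommRing A] [IsLocalRing A] [IsNoetherianRing A] (I : Ideal A) {d : ℕ}

local notation "C" => AdicCompletion (maximalIdeal A) A

/-- Vanishing at the quotients by the primes of coheight `d` gives vanishing at the local ring. -/
theorem subsingleton_H_of_quotients (hd : ringKrullDim A = (d : ℕ))
    (h : ∀ P : Ideal A, P.IsPrime → ringKrullDim (A ⧸ P) = (d : ℕ) →
      Subsingleton (LocCoh.H I d (A ⧸ P))) : Subsingleton (LocCoh.H I d A) := by
  haveI := HLVT.isNoetherianRing_completion A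
  have hdC : ringKrullDim C = (d : ℕ) := by rw [Groth.Calg1.ringKrullDim_adicCompletion, hd]
  by_cases hI : I = ⊤
  · subst hI
    exact Groth.LocCohBase.subsingleton_H_top d A
  refine HLVT.subsingleton_H_of_completion A I d hd fun Q hQ hQd => ?_
  haveI := hQ.1.1
  let P := Q.comap (algebraMap A C)
  haveI : P.IsPrime := Ideal.IsPrime.comap _
  haveI : Nontrivial (A ⧸ P) := Ideal.Quotient.nontrivial_iff.2 Ideal.IsPrime.ne_top'
  haveI : IsLocalRing (A ⧸ P) := .of_surjective' (Ideal.Quotient.mk P) Ideal.Quotient.mk_surjective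
  have hPC : P.map (algebraMap A C) ≤ Q := Ideal.map_comap_le
  have hdimP : ringKrullDim (A ⧸ P) = (d : ℕ) := by
    refine le_antisymm ((ringKrullDim_quotient_le P).trans hd.le) ?_
    rw [← hQd, ← Groth.Calg1.ringKrullDim_adicCompletion (A ⧸ P)]
    refine (ringKrullDim_le_of_surjective (Ideal.Quotient.factor hPC)
      (Ideal.Quotient.factor_surjective hPC)).trans (le_of_eq ?_)
    exact ringKrullDim_eq_of_ringEquiv ((Ideal.quotEquivOfEq
      (Groth.Ega4b.ker_cplQuot A P).symm).trans
      (RingHom.quotientKerEquivOfSurjective (Groth.Ega4b.cplQuot_surjective A P)))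
  have hP := h P inferInstance hdimP
  haveI : Module.Flat A C := AdicCompletion.flat_of_isNoetherian (maximalIdeal A)
  obtain ⟨e⟩ := nonempty_baseChange_equiv C I (A ⧸ P) d
  have h1 : Subsingleton (LocCoh.H (I.map (algebraMap A C)) d (C ⊗[A] (A ⧸ P))) :=
    e.symm.toEquiv.subsingleton
  have h2 := (subsingleton_H_congr (I.map (algebraMap A C)) d
    (Algebra.TensorProduct.quotIdealMapEquivTensorQuot C P).toLinearEquiv).2 h1
  have hcd := cdLE_of_dim_le (I.map (algebraMap A C)) d hdC.le
  have h3 := H_map_surjective (I.map (algebraMap A C)) hcd (Submodule.factor hPC)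
    (Submodule.factor_surjective hPC) h2
  exact HLVT.one_le_dim_of_quotient hdC (I.map (algebraMap A C)) (by
    refine ne_top_of_le_ne_top (maximalIdeal.isMaximal C).ne_top
      ((Ideal.map_mono (le_maximalIdeal hI)).trans (le_of_eq ?_))
    rw [← AdicCompletion.maximalIdeal_eq_map]) Q hQd h3

end Local

end Groth.LocCohTransform.TopGeneral
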