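import Groth.Agent.SGA7.TorSeq
import Groth.Prelude.Def_DRing2

/-!
Annihilators of `Tor` along short exact sequences in the first variable.
-/

set_option autoImplicit false
set_option linter.unusedSectionVars false

universe u

open CategoryTheory CategoryTheory.Limits MonoidalCategory

namespace Groth.LocCohTransform.TorAnn

open Groth.SGA7.TorSeq (tc tsc shortExact_tsc)

variable {A : Type u} [CommRing A]

/-- `r` kills `Tor_i(M, -)`. -/
def Killed (r : A) (i : ℕ) (M : Type u) [AddCommGroup M] [Module A M] : Prop :=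
  ∀ (Y : ModuleCat.{u} A) (P : ProjectiveResolution Y) (z : (tc (ModuleCat.of A M) P).homology i), r • z = 0

theorem killed_tor {r : A} {i : ℕ} {M : Type u} [AddCommGroup M] [Module A M] (h : Killed r i M)
    (N : Type u) [AddCommGroup N] [Module A N] (y : DRing.Tor A i M N) : r • y = 0 := by
  obtain ⟨P⟩ := (inferInstance : HasProjectiveResolution (ModuleCat.of A N)).out
  let e := (P.isoLeftDerivedObj ((tensoringLeft (ModuleCat.{u} A)).obj (ModuleCat.of A M)) i).toLinearEquiv
  exact e.injective ((map_smul e r y).trans ((h _ P (e y)).trans (map_zero e).symm))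

theorem killed_of_smul_eq_zero {r : A} {M : Type u} [AddCommGroup M] [Module A M]
    (h : ∀ m : M, r • m = 0) (i : ℕ) : Killed r i M := by
  intro Y P z
  have hterm : ∀ x : (tc (ModuleCat.of A M) P).X i, r • x = 0 := by
    show ∀ x : TensorProduct A M (P.complex.X i), r • x = 0
    intro x
    induction x using TensorProduct.induction_on with
    | zero => exact smul_zero _
    | add a b ha hb => rw [smul_add, ha, hb, add_zero]
    | tmul m p => rw [TensorProduct.smul_tmul', h m, TensorProduct.zero_tmul]
  have hsurj : Function.Surjective ((tc (ModuleCat.of A M) P).homologyπ i).hom :=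
    (ModuleCat.epi_iff_surjective _).1 inferInstance
  obtain ⟨w, rfl⟩ := hsurj z
  have hw : r • w = 0 := by
    apply (ModuleCat.mono_iff_injective ((tc (ModuleCat.of A M) P).iCycles i)).1 inferInstance
    exact (map_smul _ _ _).trans ((hterm _).trans (map_zero _).symm)
  rw [← map_smul, hw, map_zero]

theorem killed_of_flat (r : A) (M : Type u) [AddCommGroup M] [Module A M] [Module.Flat A M] {i : ℕ}
    (hi : 0 < i) : Killed r i M := by
  intro Y P z
  have h := (Groth.SGA7.TorSeq.isZero_tor_iff (ModuleCat.of A M) Y P i).1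
    (Groth.SGA7.TorSeq.isZero_tor_of_flat _ _ i hi)
  exact @Subsingleton.elim _ (ModuleCat.subsingleton_of_isZero h) _ _

variable {M₁ M₂ M₃ : Type u} [AddCommGroup M₁] [Module A M₁] [AddCommGroup M₂] [Module A M₂]
  [AddCommGroup M₃] [Module A M₃] (f : M₁ →ₗ[A] M₂) (g : M₂ →ₗ[A] M₃)

/-- The short complex. -/
noncomputable abbrev sc (h : Function.Exact f g) : ShortComplex (ModuleCat.{u} A) :=
  ShortComplex.mk (ModuleCat.ofHom f) (ModuleCat.ofHom g) (ModuleCat.hom_ext (LinearMap.ext h.apply_apply_eq_zero))

theorem sc_shortExact (h : Function.Exact f g) (hf : Function.Injective f) (hg : Function.Surjective g) :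
    (sc f g h).ShortExact where
  exact := (ShortComplex.ShortExact.moduleCat_exact_iff_function_exact _).2 h
  mono_f := (ModuleCat.mono_iff_injective _).2 hf
  epi_g := (ModuleCat.epi_iff_surjective _).2 hg

theorem killed_mid (h : Function.Exact f g) (hf : Function.Injective f) (hg : Function.Surjective g)
    {i : ℕ} {r s : A} (h₁ : Killed r i M₁) (h₃ : Killed s i M₃) : Killed (r * s) i M₂ := by
  intro Y P z
  have hE := (shortExact_tsc (sc_shortExact f g h hf hg) P).homology_exact₂ i
  rw [ShortComplex.ShortExact.moduleCat_exact_iff_function_exact] at hE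
  obtain ⟨w, hw⟩ := (hE (s • z)).1 ((map_smul _ _ _).trans (h₃ Y P _))
  rw [mul_smul, ← hw]
  exact (map_smul _ _ _).symm.trans ((congrArg _ (h₁ Y P w)).trans (map_zero _))

theorem killed_right (h : Function.Exact f g) (hf : Function.Injective f) (hg : Function.Surjective g)
    {i : ℕ} {r s : A} (h₁ : Killed r i M₁) (h₂ : Killed s (i + 1) M₂) : Killed (s * r) (i + 1) M₃ := by
  intro Y P z
  have hS := shortExact_tsc (sc_shortExact f g h hf hg) P
  have hE := hS.homology_exact₃ (i + 1) i rfl
  rw [ShortComplex.ShortExact.moduleCat_exact_iff_function_exact] at hE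
  obtain ⟨w, hw⟩ := (hE (r • z)).1 ((map_smul _ _ _).trans (h₁ Y P _))
  rw [mul_smul, ← hw]
  exact (map_smul _ _ _).symm.trans ((congrArg _ (h₂ Y P w)).trans (map_zero _))

theorem killed_left (h : Function.Exact f g) (hf : Function.Injective f) (hg : Function.Surjective g)
    {i : ℕ} {r s : A} (h₃ : Killed r (i + 1) M₃) (h₂ : Killed s i M₂) : Killed (r * s) i M₁ := by
  intro Y P z
  have hS := shortExact_tsc (sc_shortExact f g h hf hg) P
  have hE := hS.homology_exact₁ (i + 1) i rfl
  rw [ShortComplex.ShortExact.moduleCat_exact_iff_function_exact] at hE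
  obtain ⟨w, hw⟩ := (hE (s • z)).1 ((map_smul _ _ _).trans (h₂ Y P _))
  rw [mul_smul, ← hw]
  exact (map_smul _ _ _).symm.trans ((congrArg _ (h₃ Y P w)).trans (map_zero _))

/-- An endomorphism with killed kernel: the cokernel in degree `i + 2`. -/
theorem killed_coker {N N' : Type u} [AddCommGroup N] [Module A N] [AddCommGroup N'] [Module A N']
    (φ : N →ₗ[A] N) (π : N →ₗ[A] N') (h : Function.Exact φ π) (hπ : Function.Surjective π)
    {i : ℕ} {c r s : A} (hker : ∀ x, φ x = 0 → c • x = 0)
    (h₁ : Killed r (i + 1) N) (h₂ : Killed s (i + 2) N) : Killed (s * (r * c)) (i + 2) N' := by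
  have hK : Killed c i (LinearMap.ker φ) := killed_of_smul_eq_zero (fun m => Subtype.ext (hker m.1 m.2)) i
  have hR : Killed (r * c) (i + 1) (LinearMap.range φ) :=
    killed_right (LinearMap.ker φ).subtype φ.rangeRestrict
      (fun x => ⟨fun hx => ⟨⟨x, congrArg Subtype.val hx⟩, rfl⟩, fun ⟨k, hk⟩ => hk ▸ Subtype.ext k.2⟩)
      Subtype.val_injective φ.surjective_rangeRestrict hK h₁
  exact killed_right (LinearMap.range φ).subtype π
    (fun x => (h x).trans ⟨fun ⟨y, hy⟩ => ⟨⟨φ y, y, rfl⟩, hy⟩, fun ⟨⟨_, y, rfl⟩, hy⟩ => ⟨y, hy⟩⟩)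
    Subtype.val_injective hπ hR h₂

end Groth.LocCohTransform.TorAnn
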