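import Groth.Agent.LocCohTransform.Comparison
import Groth.Agent.LocCohTransform.Universal
import Groth.Agent.LocCohTransform.GammaI
import Groth.Agent.Matlis.Hull
import Mathlib.CategoryTheory.Abelian.Injective.Resolution

set_option autoImplicit false
universe u
open CategoryTheory CategoryTheory.Limits

namespace Groth.LocCohTransform

variable {R : Type u} [CommRing R] (I : Ideal R)

/-- The torsion part of an injective module containing `M`. -/
noncomputable def torUnder (M : ModuleCat.{u} R) : ModuleCat.{u} R :=
  ModuleCat.of R (DRing.torsionSub I (Injective.under M : ModuleCat.{u} R))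

lemma isPowerTorsion_torUnder (M : ModuleCat.{u} R) : LocCoh.IsPowerTorsion I (torUnder I M) := by
  rintro ⟨x, n, hn⟩
  exact ⟨n, fun a ha => Subtype.ext (hn a ha)⟩

theorem injective_torsionSub [IsNoetherianRing R] (E : Type u) [AddCommGroup E] [Module R E]
    [Module.Injective R E] : Module.Injective R (DRing.torsionSub I E) :=
  GrothMatlis.powerTorsion_injective inferInstance I _ fun _ => Iff.rfl

instance [IsNoetherianRing R] (M : ModuleCat.{u} R) : Injective (torUnder I M) := by
  have : Module.Injective R (Injective.under M : ModuleCat.{u} R) :=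
    @Module.injective_module_of_injective_object R (Injective.under M : ModuleCat.{u} R) _ _ _
      (Injective.injective_under M)
  have := injective_torsionSub I (Injective.under M : ModuleCat.{u} R)
  exact Module.injective_object_of_injective_module (inj := this)

/-- The embedding of a torsion module. -/
noncomputable def torι (M : ModuleCat.{u} R) (hM : LocCoh.IsPowerTorsion I M) : M ⟶ torUnder I M :=
  ModuleCat.ofHom ((Injective.ι M).hom.codRestrict _ fun x => by
    obtain ⟨n, hn⟩ := hM x
    exact ⟨n, fun a ha => by rw [← map_smul, hn a ha, map_zero]⟩)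

lemma torι_injective (M : ModuleCat.{u} R) (hM : LocCoh.IsPowerTorsion I M) :
    Function.Injective (torι I M hM).hom := fun x y h =>
  (ModuleCat.mono_iff_injective (Injective.ι M)).1 inferInstance (congrArg Subtype.val h)

/-- The next syzygy. -/
noncomputable def torNext (Z : {M : ModuleCat.{u} R // LocCoh.IsPowerTorsion I M}) :
    {M : ModuleCat.{u} R // LocCoh.IsPowerTorsion I M} :=
  ⟨ModuleCat.of R (torUnder I Z.1 ⧸ LinearMap.range (torι I Z.1 Z.2).hom), fun x => by
    obtain ⟨x, rfl⟩ := Submodule.Quotient.mk_surjective _ x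
    obtain ⟨n, hn⟩ := isPowerTorsion_torUnder I Z.1 x
    exact ⟨n, fun a ha => by rw [← Submodule.Quotient.mk_smul, hn a ha, Submodule.Quotient.mk_zero]⟩⟩

variable (M : ModuleCat.{u} R) (hM : LocCoh.IsPowerTorsion I M)

/-- The iterated syzygies. -/
noncomputable def torSyz : ℕ → {M : ModuleCat.{u} R // LocCoh.IsPowerTorsion I M}
  | 0 => ⟨M, hM⟩
  | n + 1 => torNext I (torSyz n)

/-- The differential. -/
noncomputable def torD (n : ℕ) :
    torUnder I (torSyz I M hM n).1 ⟶ torUnder I (torSyz I M hM (n + 1)).1 :=
  ModuleCat.ofHom (Y := torUnder I (torSyz I M hM (n + 1)).1)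
    ((torι I (torSyz I M hM (n + 1)).1 (torSyz I M hM (n + 1)).2).hom ∘ₗ
      (LinearMap.range (torι I (torSyz I M hM n).1 (torSyz I M hM n).2).hom).mkQ)

lemma torD_eq_zero_iff (n : ℕ) (x : torUnder I (torSyz I M hM n).1) :
    (torD I M hM n).hom x = 0 ↔
      x ∈ LinearMap.range (torι I (torSyz I M hM n).1 (torSyz I M hM n).2).hom := by
  rw [← Submodule.Quotient.mk_eq_zero]
  exact map_eq_zero_iff _ (torι_injective I (torSyz I M hM (n + 1)).1 (torSyz I M hM (n + 1)).2)

lemma range_torD (n : ℕ) : LinearMap.range (torD I M hM n).hom =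
    LinearMap.range (torι I (torSyz I M hM (n + 1)).1 (torSyz I M hM (n + 1)).2).hom := by
  refine le_antisymm ?_ ?_
  · rintro _ ⟨x, rfl⟩; exact ⟨_, rfl⟩
  · rintro _ ⟨y, rfl⟩
    obtain ⟨x, hx⟩ := Submodule.Quotient.mk_surjective _ y
    exact ⟨x, congrArg (torι I (torSyz I M hM (n + 1)).1 (torSyz I M hM (n + 1)).2).hom hx⟩

lemma torD_comp (n : ℕ) : torD I M hM n ≫ torD I M hM (n + 1) = 0 := by
  ext x
  exact (torD_eq_zero_iff I M hM (n + 1) _).2
    ((range_torD I M hM n).le ⟨x, rfl⟩)

/-- The torsion complex. -/
noncomputable def torComplex : CochainComplex (ModuleCat.{u} R) ℕ :=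
  CochainComplex.of (fun n => torUnder I (torSyz I M hM n).1) (torD I M hM) (torD_comp I M hM)

lemma torComplex_d (n : ℕ) : (torComplex I M hM).d n (n + 1) = torD I M hM n :=
  CochainComplex.of_d (fun n => torUnder I (torSyz I M hM n).1) (torD I M hM) n

lemma torComplex_exactAt_succ (n : ℕ) : (torComplex I M hM).ExactAt (n + 1) := by
  rw [HomologicalComplex.exactAt_iff' _ n (n + 1) (n + 1 + 1) (by simp) (by simp),
    ShortComplex.moduleCat_exact_iff]
  intro x hx
  have hx' : (torD I M hM (n + 1)).hom x = 0 := by rw [← torComplex_d]; exact hx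
  obtain ⟨w, hw⟩ := (range_torD I M hM n).ge ((torD_eq_zero_iff I M hM (n + 1) x).1 hx')
  exact ⟨w, by
    change ((torComplex I M hM).d n (n + 1)).hom w = x
    rw [torComplex_d]; exact hw⟩

/-- An injective resolution by torsion modules. -/
noncomputable def torsionResolution [IsNoetherianRing R] : InjectiveResolution M where
  cocomplex := torComplex I M hM
  injective n := inferInstanceAs (Injective (torUnder I (torSyz I M hM n).1))
  ι := ((torComplex I M hM).fromSingle₀Equiv M).symm ⟨torι I M hM, by
    rw [torComplex_d]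
    ext x
    exact (torD_eq_zero_iff I M hM 0 _).2 ⟨x, rfl⟩⟩
  quasiIso := ⟨fun n => by
    cases n with
    | zero =>
      rw [CochainComplex.quasiIsoAt₀_iff, ShortComplex.quasiIso_iff_of_zeros]
      · let S := ShortComplex.mk (torι I M hM) (torD I M hM 0) (by
          ext x; exact (torD_eq_zero_iff I M hM 0 _).2 ⟨x, rfl⟩)
        refine (ShortComplex.exact_and_mono_f_iff_of_iso ?_).2
          (show S.Exact ∧ Mono S.f from ⟨(ShortComplex.moduleCat_exact_iff _).2 fun x hx =>
            (torD_eq_zero_iff I M hM 0 x).1 hx,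
            (ModuleCat.mono_iff_injective _).2 (torι_injective I M hM)⟩)
        exact ShortComplex.isoMk (Iso.refl _) (Iso.refl _) (Iso.refl _) (by simp [S]; rfl)
          (by simp [S, torComplex_d]; rfl)
      all_goals rfl
    | succ n =>
      rw [quasiIsoAt_iff_exactAt]
      · exact torComplex_exactAt_succ I M hM n
      · exact CochainComplex.exactAt_succ_single_obj _ _⟩

lemma isPowerTorsion_torsionResolution [IsNoetherianRing R] (n : ℕ) :
    LocCoh.IsPowerTorsion I ((torsionResolution I M hM).cocomplex.X n) :=
  isPowerTorsion_torUnder I _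

end Groth.LocCohTransform
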