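import Groth.Agent.LocCohTransform.LocSeqApp

set_option autoImplicit false
universe u
open CategoryTheory CategoryTheory.Limits

namespace Groth.LocCohTransform

variable {R : Type u} [CommRing R] [IsNoetherianRing R]

theorem subsingleton_H_bot (M : Type u) [AddCommGroup M] [Module R M] {i : ℕ} (hi : 0 < i) :
    Subsingleton (LocCoh.H (⊥ : Ideal R) i M) :=
  subsingleton_H_of_isPowerTorsion ⊥ M (fun m => ⟨1, fun a ha => by
    rw [pow_one, Ideal.mem_bot] at ha; rw [ha, zero_smul]⟩) hi

omit [IsNoetherianRing R] in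
/-- Induction on generators. -/
theorem span_induction' (p : Ideal R → Prop) (B : Set R) (h0 : p ⊥)
    (hstep : ∀ (a : Ideal R) (b : R), b ∈ B → p a → p (a ⊔ Ideal.span {b})) (s : Finset R)
    (hs : ∀ x ∈ s, x ∈ B) : p (Ideal.span (s : Set R)) := by
  classical
  induction s using Finset.induction with
  | empty => simpa using h0
  | insert x s _ ih =>
    rw [Finset.coe_insert, Set.insert_eq, Ideal.span_union, sup_comm]
    exact hstep _ x (hs x (by simp)) (ih fun y hy => hs y (by simp [hy]))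

omit [IsNoetherianRing R] in
lemma eq_zero_of_ker_trivial (a : Ideal R) (b : R) (M : Type u) [AddCommGroup M] [Module R M]
    (i : ℕ) (h : Subsingleton (LocCoh.H a (i + 1) M))
    (hk : Subsingleton (LinearMap.ker
      (hmap (le_sup_left : a ≤ a ⊔ Ideal.span {b}) (i + 1) (ModuleCat.of R M)))) :
    Subsingleton (LocCoh.H (a ⊔ Ideal.span {b}) (i + 1) M) := by
  refine subsingleton_of_forall_eq 0 fun x => ?_
  have hx : x ∈ LinearMap.ker
      (hmap (le_sup_left : a ≤ a ⊔ Ideal.span {b}) (i + 1) (ModuleCat.of R M)) := h.elim _ _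
  exact congrArg Subtype.val (hk.elim ⟨x, hx⟩ 0)

lemma subsingleton_H_one_of_subsingleton (b : R) (N : Type u) [AddCommGroup N] [Module R N]
    [Subsingleton N] : Subsingleton (LocCoh.H (Ideal.span {b}) 1 N) :=
  subsingleton_H_of_isPowerTorsion _ N
    (fun _ => ⟨0, fun _ _ => Subsingleton.elim _ _⟩) Nat.one_pos

/-- If the first local cohomology vanishes on a family of ideals, all higher ones do. -/
theorem acyclic_of_H_one (M : Type u) [AddCommGroup M] [Module R M] (C : Set (Ideal R))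
    (hsum : ∀ a ∈ C, ∀ b ∈ C, a ⊔ b ∈ C) (hzero : (⊥ : Ideal R) ∈ C)
    (hgen : ∀ c ∈ C, ∃ s : Finset R, (∀ x ∈ s, Ideal.span {x} ∈ C) ∧ Ideal.span (s : Set R) = c)
    (hone : ∀ c ∈ C, Subsingleton (LocCoh.H c 1 M)) (c : Ideal R) (hc : c ∈ C) (i : ℕ) (hi : 0 < i) :
    Subsingleton (LocCoh.H c i M) := by
  obtain ⟨s, hs, rfl⟩ := hgen c hc
  refine (span_induction' (fun a => a ∈ C ∧ ∀ i, 0 < i → Subsingleton (LocCoh.H a i M))
    {x | Ideal.span {x} ∈ C} ⟨hzero, fun i hi => subsingleton_H_bot M hi⟩ ?_ s hs).2 i hi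
  rintro a b hb ⟨ha, h⟩
  refine ⟨hsum a ha _ hb, fun i hi => ?_⟩
  obtain ⟨k, rfl⟩ : ∃ k, i = k + 1 := ⟨i - 1, by omega⟩
  rcases k with _ | k
  · exact hone _ (hsum a ha _ hb)
  · obtain ⟨e⟩ := ker_hmap_equiv a b M (k + 1)
    have := h (k + 1) (by omega)
    exact eq_zero_of_ker_trivial a b M (k + 1) (h _ (by omega))
      (@Equiv.subsingleton _ _ e.toEquiv (subsingleton_H_one_of_subsingleton b _))

omit [IsNoetherianRing R] in
lemma surjective_of_divisible (b : R) (M : Type u) [AddCommGroup M] [Module R M]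
    (h : ∀ (m : M) (n : ℕ), ∃ m', m - b ^ n • m' ∈ DRing.torsionSub (Ideal.span {b}) M) :
    Function.Surjective (LocalizedModule.mkLinearMap (Submonoid.powers b) M) := by
  intro y
  obtain ⟨⟨m, ⟨_, n, rfl⟩⟩, hy⟩ := IsLocalizedModule.surj (Submonoid.powers b)
    (LocalizedModule.mkLinearMap _ M) y
  obtain ⟨m', k, hk⟩ := h m n
  refine ⟨m', IsLocalizedModule.smul_injective (LocalizedModule.mkLinearMap (Submonoid.powers b) M)
    (⟨b ^ n, n, rfl⟩ : Submonoid.powers b) ?_⟩
  show b ^ n • LocalizedModule.mkLinearMap (Submonoid.powers b) M m' = b ^ n • y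
  rw [← map_smul]
  refine Eq.trans ?_ hy.symm
  refine (IsLocalizedModule.eq_iff_exists (Submonoid.powers b)
    (LocalizedModule.mkLinearMap _ M)).2 ⟨⟨b ^ k, k, rfl⟩, ?_⟩
  have := hk _ (Ideal.pow_mem_pow (Ideal.mem_span_singleton_self b) k)
  show b ^ k • b ^ n • m' = b ^ k • m
  rw [smul_sub, sub_eq_zero] at this
  exact this.symm

/-- Vanishing on a class of modules closed under torsion parts and torsion-free quotients. -/
theorem acyclic_of_class (B : Set R)
    (P : ∀ (M : Type u) [AddCommGroup M] [Module R M], Prop)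
    (hdiv : ∀ b ∈ B, ∀ (M : Type u) [AddCommGroup M] [Module R M], P M →
      ∀ (m : M) (n : ℕ), ∃ m', m - b ^ n • m' ∈ DRing.torsionSub (Ideal.span {b}) M)
    (htor : ∀ b ∈ B, ∀ (M : Type u) [AddCommGroup M] [Module R M], P M →
      P (DRing.torsionSub (Ideal.span {b}) M))
    (hquot : ∀ b ∈ B, ∀ (M : Type u) [AddCommGroup M] [Module R M], P M →
      P (M ⧸ DRing.torsionSub (Ideal.span {b}) M))
    (s : Finset R) (hs : ∀ x ∈ s, x ∈ B) (i : ℕ) (M : Type u) [AddCommGroup M] [Module R M]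
    (hM : P M) : Subsingleton (LocCoh.H (Ideal.span (s : Set R)) (i + 1) M) := by
  refine span_induction' (fun a => ∀ (i : ℕ) (M : Type u) [AddCommGroup M] [Module R M], P M →
    Subsingleton (LocCoh.H a (i + 1) M)) B (fun i M _ _ _ => subsingleton_H_bot M (by omega)) ?_
    s hs i M hM
  intro a b hb h i M _ _ hM
  refine eq_zero_of_ker_trivial a b M i (h i M hM) ?_
  let Mb := LocalizedModule (Submonoid.powers b) M
  let f := LocalizedModule.mkLinearMap (Submonoid.powers b) M
  have hsurj : Function.Surjective f := surjective_of_divisible b M (hdiv b hb M hM)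
  let K := DRing.torsionSub (Ideal.span {b}) M
  have hker : LinearMap.ker f = K := by
    refine le_antisymm (fun m hm => pow_smul_of_loc_eq_zero b M hm) ?_
    rintro m ⟨n, hn⟩
    exact (IsLocalizedModule.eq_zero_iff (Submonoid.powers b) f).2
      ⟨⟨b ^ n, n, rfl⟩, hn _ (Ideal.pow_mem_pow (Ideal.mem_span_singleton_self b) n)⟩
  let e : (M ⧸ K) ≃ₗ[R] Mb := (Submodule.quotEquivOfEq _ _ hker.symm).trans
    (f.quotKerEquivOfSurjective hsurj)
  obtain ⟨-, ⟨ε⟩⟩ := loc_sequence a b M i
  refine @Equiv.subsingleton _ _ ε.symm.toEquiv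
    (Submodule.Quotient.subsingleton_iff.2 (LinearMap.range_eq_top.2 ?_))
  rcases i with _ | k
  · let S := ShortComplex.mk (ModuleCat.ofHom K.subtype) (ModuleCat.ofHom f)
      (by ext x; exact (hker.ge x.2 : f x = 0))
    have hS : S.ShortExact :=
      { exact := (ShortComplex.moduleCat_exact_iff _).2 fun x hx => ⟨⟨x, hker.le hx⟩, rfl⟩
        mono_f := (ModuleCat.mono_iff_injective _).2 Subtype.val_injective
        epi_g := (ModuleCat.epi_iff_surjective _).2 hsurj }
    exact fun y => (Groth.LocCohBase.exact₃ (I := a) hS 0 y).1 ((h 0 K (htor b hb M hM)).elim _ _)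
  · have := h k (M ⧸ K) (hquot b hb M hM)
    have : Subsingleton (LocCoh.H a (k + 1) Mb) :=
      ((localCohomology a (k + 1)).mapIso e.toModuleIso).toLinearEquiv.symm.injective.subsingleton
    exact fun y => ⟨0, Subsingleton.elim _ _⟩

end Groth.LocCohTransform
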